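import Cfsg.Agent.BlockBasic.Basic
import Cfsg.Agent.CharInduce.Ops
import Cfsg.Agent.Coprime.Centralize
import Cfsg.Agent.PGroups.Basic

/-!
# Blocks and normal p-subgroups
-/

open scoped ComplexConjugate

namespace Cfsg.Agent.H86

open CharBasic BlockBasic

variable {G : Type*} [Group G] [Finite G] {p : ℕ} {M : Ideal AlgInt}

/-- An irreducible character with nonzero sum over a normal subgroup is trivial on it. -/
theorem trivial_of_sum_ne_zero (D : Subgroup G) [D.Normal] [Fintype D] {χ : G → ℂ}
    (hχ : IsIrrCharacter G χ) (h : ∑ d : D, χ d ≠ 0) : ∀ d ∈ D, χ d = χ 1 := by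
  obtain ⟨n, ρ, hρ, rfl⟩ := hχ
  set T : Module.End ℂ (Fin n → ℂ) := ∑ d : D, ρ (d : G) with hT
  have hcomm : ∀ g : G, T * ρ g = ρ g * T := by
    intro g
    simp only [hT, Finset.sum_mul, Finset.mul_sum, ← map_mul]
    refine Fintype.sum_equiv (MulAut.conjNormal g⁻¹ : MulAut D).toEquiv _ _ fun d => ?_
    show ρ ((d : G) * g) = ρ (g * ((MulAut.conjNormal g⁻¹ d : D) : G))
    rw [MulAut.conjNormal_apply]
    congr 1
    group
  obtain ⟨c, hc⟩ := schur_scalar ρ T hcomm
  have htr : LinearMap.trace ℂ _ T = ∑ d : D, ρ.character (d : G) := by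
    simp [hT, map_sum, Representation.character]
  intro d hd
  have hc0 : c ≠ 0 := by
    rintro rfl
    rw [hc, zero_smul, map_zero] at htr
    exact h htr.symm
  have hdT : ρ d * T = T := by
    simp only [hT, Finset.mul_sum, ← map_mul]
    exact Fintype.sum_equiv (Equiv.mulLeft (⟨d, hd⟩ : D)) _ _ fun _ => rfl
  rw [hc, mul_smul_comm] at hdT
  have h1 : ρ d = ρ 1 := by
    rw [map_one]
    exact smul_right_injective (Module.End ℂ (Fin n → ℂ)) hc0 (by exact hdT)
  simp [Representation.character, h1]

theorem pPow_orderOf [Fact p.Prime] {D : Subgroup G} (hD : IsPGroup p D) {d : G} (hd : d ∈ D) :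
    ∃ k, orderOf d = p ^ k := by
  obtain ⟨k, hk⟩ := IsPGroup.iff_orderOf.1 hD ⟨d, hd⟩
  exact ⟨k, (Subgroup.orderOf_mk d hd ▸ hk :)⟩

variable [Fact p.Prime]

theorem eq_one_of_pPow {g : G} (h1 : ∃ k, orderOf g = p ^ k) (h2 : ¬ p ∣ orderOf g) : g = 1 := by
  obtain ⟨k, hk⟩ := h1
  rcases k with _ | k
  · simpa using hk
  · exact absurd (hk ▸ dvd_pow_self p k.succ_ne_zero) h2

/-- Every block contains a character trivial on a given normal `p`-subgroup. -/
theorem exists_trivial_on (hM : IsPModular p M) {B : Set (IrrCharacter G)} (hB : IsPBlock M B)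
    (D : Subgroup G) [D.Normal] (hD : IsPGroup p D) :
    ∃ χ ∈ B, ∀ d ∈ D, (χ : G → ℂ) d = (χ : G → ℂ) 1 := by
  classical
  cases nonempty_fintype G
  haveI := Fintype.ofFinite D
  have hsum : ∑ d : D, blockCoeff B (d : G) = blockCoeff B 1 := by
    rw [Finset.sum_eq_single (1 : D)]
    · simp
    · intro d _ hd
      refine blockCoeff_eq_zero_of_singular hM hB ?_
      by_contra hn
      exact hd (Subtype.ext (eq_one_of_pPow (pPow_orderOf hD d.2) hn))
    · simp
  obtain ⟨χ₀, hχ₀⟩ := isPBlock_nonempty hM hB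
  have hpos : blockCoeff B (1 : G) ≠ 0 := by
    rw [blockCoeff, finsum_mem_eq_sum_ite]
    refine mul_ne_zero (inv_ne_zero (Nat.cast_ne_zero.2 Nat.card_pos.ne')) ?_
    have e : (∑ χ : IrrCharacter G, if χ ∈ B then
        (χ : G → ℂ) 1 * conj ((χ : G → ℂ) 1) else 0) =
        ((∑ χ : IrrCharacter G, if χ ∈ B then charDegree (χ : G → ℂ) ^ 2 else 0 : ℕ) : ℂ) := by
      push_cast
      refine Finset.sum_congr rfl fun χ _ => ?_
      split_ifs
      · rw [apply_one_eq_charDegree]; simp [sq]
      · simp
    rw [e, Nat.cast_ne_zero]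
    refine (Finset.sum_pos' (fun _ _ => Nat.zero_le _) ⟨χ₀, Finset.mem_univ _, ?_⟩).ne'
    rw [if_pos hχ₀]
    exact pow_pos (charDegree_pos χ₀) 2
  rw [← hsum] at hpos
  simp only [blockCoeff, finsum_mem_eq_sum_ite] at hpos
  rw [← Finset.mul_sum, Finset.sum_comm] at hpos
  obtain ⟨χ, -, hχ⟩ := Finset.exists_ne_zero_of_sum_ne_zero (right_ne_zero_of_mul hpos)
  by_cases hmem : χ ∈ B
  · refine ⟨χ, hmem, trivial_of_sum_ne_zero D χ.2 fun h0 => hχ ?_⟩
    simp only [if_pos hmem]
    rw [← Finset.mul_sum, ← map_sum, h0, map_zero, mul_zero]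
  · exact absurd (by simp [hmem]) hχ

/-- Blocks are determined by the central characters at `p`-regular elements. -/
theorem sameBlock_of_regular (hM : IsPModular p M) (χ ψ : IrrCharacter G)
    (h : ∀ g : G, ¬ p ∣ orderOf g →
      MemLocalIdeal M (centralChar (χ : G → ℂ) g - centralChar (ψ : G → ℂ) g)) :
    SameBlock M (χ : G → ℂ) (ψ : G → ℂ) := by
  classical
  cases nonempty_fintype G
  haveI : Finite (ConjClasses G) := Finite.of_surjective _ ConjClasses.mk_surjective
  haveI := Fintype.ofFinite (ConjClasses G)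
  set B := blockOf M (χ : G → ℂ)
  have hB : IsPBlock M B := isPBlock_blockOf M χ
  by_contra hne
  have e1 := omega_blockElem B χ
  have e2 := omega_blockElem B ψ
  rw [if_pos (self_mem_blockOf hM χ),
    omega_eq_sum_classes (IsIrr.isClassFunction χ.2) (isCentralElt_blockElem B)] at e1
  rw [if_neg (fun hm : ψ ∈ B => hne hm),
    omega_eq_sum_classes (IsIrr.isClassFunction ψ.2) (isCentralElt_blockElem B)] at e2
  refine not_memLocalIdeal_one hM ?_
  have e3 : (1 : ℂ) = ∑ C : ConjClasses G, (blockElem B).coeff C.out *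
      (centralChar (χ : G → ℂ) C.out - centralChar (ψ : G → ℂ) C.out) := by
    simp only [mul_sub, Finset.sum_sub_distrib, e1, e2, sub_zero]
  rw [e3]
  refine memLocalIdeal_sum hM _ _ fun C _ => ?_
  rw [coeff_blockElem]
  by_cases hC : p ∣ orderOf C.out
  · rw [blockCoeff_eq_zero_of_singular hM hB hC, zero_mul]
    exact memLocalIdeal_zero hM
  · exact memLocalIdeal_mul hM (memLocalRing_blockCoeff hM hB _) (h _ hC)

/-- The index comparison for inflation. -/
theorem centralChar_inflate (N : Subgroup G) [N.Normal] (χ : G ⧸ N → ℂ) (g : G) :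
    ∃ n : ℕ, centralChar (χ ∘ QuotientGroup.mk) g = n * centralChar χ (g : G ⧸ N) ∧
      (Subgroup.centralizer ({g} : Set G)).index =
        n * (Subgroup.centralizer ({(g : G ⧸ N)} : Set (G ⧸ N))).index := by
  have hle : (Subgroup.centralizer ({g} : Set G)).map (QuotientGroup.mk' N) ≤
      Subgroup.centralizer ({(g : G ⧸ N)} : Set (G ⧸ N)) := by
    rintro _ ⟨x, hx, rfl⟩
    rw [SetLike.mem_coe, Subgroup.mem_centralizer_singleton_iff] at hx
    rw [Subgroup.mem_centralizer_singleton_iff]
    exact congrArg (QuotientGroup.mk' N) hx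
  obtain ⟨n, hn⟩ := (Subgroup.index_dvd_of_le hle).trans
    (Subgroup.index_map_dvd (Subgroup.centralizer ({g} : Set G)) (QuotientGroup.mk'_surjective N))
  refine ⟨n, ?_, by rw [hn, mul_comm]⟩
  simp only [centralChar, Function.comp_apply, hn, Nat.cast_mul, QuotientGroup.mk_one]
  ring

/-- The central character vanishes mod `M` off the centralizer of a normal `p`-subgroup. -/
theorem centralChar_mem_of_not_centralize (hM : IsPModular p M) (χ : IrrCharacter G)
    (D : Subgroup G) [D.Normal] (hD : IsPGroup p D) {g : G}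
    (hg : g ∉ Subgroup.centralizer (D : Set G)) : MemLocalIdeal M (centralChar (χ : G → ℂ) g) := by
  classical
  obtain ⟨χ₀, hmem, htriv⟩ := exists_trivial_on hM (isPBlock_blockOf M χ) D hD
  obtain ⟨ψ, -, hψ, hψirr⟩ := CharInduce.IsChar.exists_deflate (IsIrr.isCharacter χ₀.2) D htriv
  have e0 : (χ₀ : G → ℂ) = ψ ∘ QuotientGroup.mk := funext hψ
  set C := Subgroup.centralizer ({g} : Set G) with hC
  set Cb := Subgroup.centralizer ({(g : G ⧸ D)} : Set (G ⧸ D))
  -- the extra p-factor
  obtain ⟨n, hn1, hn2⟩ := centralChar_inflate D ψ g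
  have hpn : p ∣ n := by
    have hCD : Nat.card C = Nat.card (C.map (QuotientGroup.mk' D)) * Nat.card ↥(C ⊓ D) := by
      let f : C →* G ⧸ D := (QuotientGroup.mk' D).comp C.subtype
      have h := f.ker.card_mul_index
      rw [Subgroup.index_ker, MonoidHom.range_comp, Subgroup.range_subtype] at h
      rw [← h, mul_comm]
      congr 1
      refine Nat.card_congr
        { toFun := fun x => ⟨x.1.1, x.1.2, (QuotientGroup.eq_one_iff _).1 x.2⟩
          invFun := fun x => ⟨⟨x.1, x.2.1⟩, (QuotientGroup.eq_one_iff _).2 x.2.2⟩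
          left_inv := fun _ => rfl
          right_inv := fun _ => rfl }
    have h1 : C.index * Nat.card ↥(C ⊓ D) = (C.map (QuotientGroup.mk' D)).index * Nat.card D := by
      apply Nat.eq_of_mul_eq_mul_left (Nat.card_pos (α := C.map (QuotientGroup.mk' D)))
      rw [← mul_assoc, mul_comm _ C.index, mul_assoc, ← hCD, mul_comm C.index,
        Subgroup.card_mul_index, ← mul_assoc, Subgroup.card_mul_index,
        ← D.card_eq_card_quotient_mul_card_subgroup]
    obtain ⟨a, ha⟩ := IsPGroup.iff_card.1 hD
    obtain ⟨b, hb⟩ := IsPGroup.iff_card.1 (hD.to_le (inf_le_right : C ⊓ D ≤ D))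
    have hlt : b < a := by
      refine (Nat.pow_lt_pow_iff_right (Fact.out : p.Prime).one_lt).1 ?_
      rw [← ha, ← hb]
      refine lt_of_le_of_ne (Subgroup.card_le_of_le inf_le_right) fun he => hg ?_
      have he' : C ⊓ D = D := Subgroup.eq_of_le_of_card_ge inf_le_right he.ge
      rw [Subgroup.mem_centralizer_iff]
      intro d hd
      exact Subgroup.mem_centralizer_singleton_iff.1 ((he'.ge hd).1)
    obtain ⟨j, hj⟩ := Subgroup.index_dvd_of_le
      (show C.map (QuotientGroup.mk' D) ≤ Cb from by
        rintro _ ⟨x, hx, rfl⟩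
        rw [SetLike.mem_coe, hC, Subgroup.mem_centralizer_singleton_iff] at hx
        rw [Subgroup.mem_centralizer_singleton_iff]
        exact congrArg (QuotientGroup.mk' D) hx)
    rw [hn2, hj, ha, hb] at h1
    have h3 : n * p ^ b = j * p ^ a := by
      have hpos : 0 < Cb.index := Nat.pos_of_ne_zero Subgroup.index_ne_zero_of_finite
      apply Nat.eq_of_mul_eq_mul_left hpos
      rw [← mul_assoc, ← mul_assoc, mul_comm Cb.index n]
      exact h1
    refine ⟨j * p ^ (a - b - 1), Nat.eq_of_mul_eq_mul_right (pow_pos (Fact.out : p.Prime).pos b) ?_⟩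
    rw [h3, show a = (a - b - 1) + 1 + b by omega]
    simp only [pow_add, pow_one, Nat.add_sub_cancel]
    ring
  have h4 : MemLocalIdeal M (centralChar (χ₀ : G → ℂ) g) := by
    cases nonempty_fintype (G ⧸ D)
    rw [e0, hn1, mul_comm]
    exact memLocalIdeal_mul hM (memLocalRing_centralChar hM (hψirr χ₀.2) _)
      ((memLocalIdeal_natCast_iff hM n).2 hpn)
  have := memLocalIdeal_add hM (mem_blockOf.1 hmem g) h4
  simpa using this

/-- Inflation from `G/D'` preserves and reflects blocks. -/
theorem sameBlock_inflate_iff (hM : IsPModular p M) (D N : Subgroup G) [D.Normal] [N.Normal]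
    (hD : IsPGroup p D) (hN : N = ⁅D, D⁆) (χ ψ : IrrCharacter (G ⧸ N)) :
    SameBlock M (χ : G ⧸ N → ℂ) (ψ : G ⧸ N → ℂ) ↔
      SameBlock M ((χ : G ⧸ N → ℂ) ∘ QuotientGroup.mk) ((ψ : G ⧸ N → ℂ) ∘ QuotientGroup.mk) := by
  have hND : N ≤ D := hN ▸ Subgroup.commutator_le_left _ _
  have hNp : IsPGroup p N := hD.to_le hND
  constructor
  · intro h g
    obtain ⟨n, h1, h2⟩ := centralChar_inflate N (χ : G ⧸ N → ℂ) g
    obtain ⟨n', h1', h2'⟩ := centralChar_inflate N (ψ : G ⧸ N → ℂ) g
    have hnn : n = n' := by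
      rw [h2'] at h2
      exact (Nat.eq_of_mul_eq_mul_right (Nat.pos_of_ne_zero Subgroup.index_ne_zero_of_finite) h2).symm
    subst hnn
    rw [h1, h1', ← mul_sub]
    exact memLocalIdeal_mul hM (memLocalRing_natCast hM n) (h _)
  · intro h
    refine sameBlock_of_regular hM χ ψ fun y hy => ?_
    -- a p-regular lift
    obtain ⟨g, rfl, hg⟩ : ∃ g : G, (g : G ⧸ N) = y ∧ ¬ p ∣ orderOf g := by
      obtain ⟨g₀, rfl⟩ := QuotientGroup.mk_surjective y
      refine ⟨pReg (p := p) g₀, ?_, not_dvd_orderOf_pReg g₀⟩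
      have hx : (QuotientGroup.mk' N (pPart (p := p) g₀)) = 1 := by
        have hxy := congrArg (QuotientGroup.mk' N) (pPart_mul_pReg (p := p) g₀)
        rw [map_mul] at hxy
        obtain ⟨k, hk⟩ := exists_orderOf_pPart (p := p) g₀
        have hkx : ∃ i, orderOf (QuotientGroup.mk' N (pPart (p := p) g₀)) = p ^ i := by
          have hd := orderOf_map_dvd (QuotientGroup.mk' N) (pPart (p := p) g₀)
          rw [hk] at hd
          obtain ⟨i, -, hi⟩ := (Nat.dvd_prime_pow (Fact.out : p.Prime)).1 hd
          exact ⟨i, hi⟩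
        have hky : ¬ p ∣ orderOf (QuotientGroup.mk' N (pReg (p := p) g₀)) := fun hd =>
          not_dvd_orderOf_pReg (p := p) g₀
            (hd.trans (orderOf_map_dvd (QuotientGroup.mk' N) (pReg (p := p) g₀)))
        have e := pPart_mul_of (p := p) ((commute_pPart_pReg (p := p) g₀).map (QuotientGroup.mk' N))
          hkx hky
        rw [hxy] at e
        exact e.symm.trans ((pPart_eq_one_iff _).2 hy)
      calc QuotientGroup.mk' N (pReg (p := p) g₀) =
          QuotientGroup.mk' N (pPart (p := p) g₀) * QuotientGroup.mk' N (pReg (p := p) g₀) := by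
            rw [hx, one_mul]
        _ = _ := by rw [← map_mul, pPart_mul_pReg]; rfl
    haveI : (D.map (QuotientGroup.mk' N)).Normal :=
      Subgroup.Normal.map inferInstance _ (QuotientGroup.mk'_surjective N)
    by_cases hcent : (g : G ⧸ N) ∈
        Subgroup.centralizer ((D.map (QuotientGroup.mk' N) : Subgroup (G ⧸ N)) : Set (G ⧸ N))
    swap
    · exact memLocalIdeal_sub hM
        (centralChar_mem_of_not_centralize hM χ _ (hD.map _) hcent)
        (centralChar_mem_of_not_centralize hM ψ _ (hD.map _) hcent)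
    have hcop : ∀ H : Subgroup G, IsPGroup p H →
        (Nat.card (Subgroup.zpowers g)).Coprime (Nat.card H) := by
      intro H hH
      obtain ⟨a, ha⟩ := IsPGroup.iff_card.1 hH
      rw [Nat.card_zpowers, ha]
      exact (((Fact.out : p.Prime).coprime_iff_not_dvd.2 hg).pow_left a).symm
    have hgD : g ∈ Subgroup.centralizer (D : Set G) := by
      have hle : Subgroup.zpowers g ≤ Subgroup.centralizer (D : Set G) := by
        refine Coprime.le_centralizer_of_frattini
          (Subgroup.zpowers_le.2 ?_) ?_ ?_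
        · rw [Subgroup.normalizer_eq_top]; trivial
        · rw [← Nat.card_congr (Subgroup.equivMapOfInjective (frattini D) D.subtype
            D.subtype_injective).toEquiv.symm]
          exact hcop _ (hD.to_le (Subgroup.map_subtype_le _))
        · intro a ha k hk
          have hm : a * k * a⁻¹ * k⁻¹ ∈ N := by
            rw [← QuotientGroup.eq_one_iff]
            obtain ⟨i, rfl⟩ := Subgroup.mem_zpowers_iff.1 ha
            have hci : ((g ^ i : G) : G ⧸ N) ∈
                Subgroup.centralizer ((D.map (QuotientGroup.mk' N) : Subgroup (G ⧸ N)) : Set (G ⧸ N)) := by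
              rw [QuotientGroup.mk_zpow]; exact Subgroup.zpow_mem _ hcent i
            have hc : (k : G ⧸ N) * ((g ^ i : G) : G ⧸ N) = ((g ^ i : G) : G ⧸ N) * k :=
              Subgroup.mem_centralizer_iff.1 hci _ (Subgroup.mem_map_of_mem (QuotientGroup.mk' N) hk)
            simp only [QuotientGroup.mk_mul, QuotientGroup.mk_inv]
            rw [← hc]
            group
          have h2 : N ≤ (frattini D).map D.subtype := by
            rw [hN]
            calc ⁅D, D⁆ = (commutator D).map D.subtype := (Subgroup.map_subtype_commutator D).symm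
              _ ≤ _ := Subgroup.map_mono (PGroups.commutator_le_frattini hD)
          exact h2 hm
      exact hle (Subgroup.mem_zpowers g)
    -- the fibre over the class is trivial
    have hCeq : (Subgroup.centralizer ({(g : G ⧸ N)} : Set (G ⧸ N))).comap (QuotientGroup.mk' N) =
        Subgroup.centralizer ({g} : Set G) := by
      ext x
      rw [Subgroup.mem_comap, Subgroup.mem_centralizer_singleton_iff,
        Subgroup.mem_centralizer_singleton_iff]
      refine ⟨fun hx => ?_, fun hx => congrArg (QuotientGroup.mk' N) hx⟩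
      set d := g⁻¹ * (x * g * x⁻¹) with hd
      have hdN : d ∈ N := by
        rw [← QuotientGroup.eq_one_iff, hd]
        simp only [QuotientGroup.mk_mul, QuotientGroup.mk_inv]
        have hx' : (x : G ⧸ N) * g = g * x := hx
        rw [hx']
        group
      have hcd : Commute g d := (Subgroup.mem_centralizer_iff.1 hgD d (hND hdN)).symm
      have hord : ¬ p ∣ orderOf d := by
        have h1 : d = g⁻¹ * (x * g * x⁻¹) := hd
        intro hdiv
        have hcomm : Commute g⁻¹ (x * g * x⁻¹) := by
          have : x * g * x⁻¹ = g * d := by rw [h1]; group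
          rw [this]
          exact ((Commute.refl g).inv_left).mul_right hcd.inv_left
        have hdvd := hcomm.orderOf_mul_dvd_lcm
        rw [← h1, orderOf_inv, show x * g * x⁻¹ = MulAut.conj x g from rfl,
          MulEquiv.orderOf_eq, Nat.lcm_self] at hdvd
        exact hg (hdiv.trans hdvd)
      have hd1 : d = 1 := eq_one_of_pPow (pPow_orderOf hNp hdN) hord
      rw [hd, inv_mul_eq_one] at hd1
      exact (mul_inv_eq_iff_eq_mul.1 hd1.symm)
    have hidx := Subgroup.index_comap_of_surjective
      (Subgroup.centralizer ({(g : G ⧸ N)} : Set (G ⧸ N))) (QuotientGroup.mk'_surjective N)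
    rw [hCeq] at hidx
    obtain ⟨n, h1, h2⟩ := centralChar_inflate N (χ : G ⧸ N → ℂ) g
    obtain ⟨n', h1', h2'⟩ := centralChar_inflate N (ψ : G ⧸ N → ℂ) g
    have hone : ∀ m : ℕ, (Subgroup.centralizer ({g} : Set G)).index =
        m * (Subgroup.centralizer ({(g : G ⧸ N)} : Set (G ⧸ N))).index → m = 1 := fun m hm =>
      (mul_eq_right₀ Subgroup.index_ne_zero_of_finite).1 (hm.symm.trans hidx)
    have := h g
    rw [h1, h1', hone n h2, hone n' h2', Nat.cast_one, one_mul, one_mul] at this
    exact this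

end Cfsg.Agent.H86
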