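import Cfsg.Agent.CharBasic.Complete
import Mathlib.RepresentationTheory.Basic

/-!
# Norm-one characters are irreducible; transport by automorphisms and complex conjugation
-/

open scoped ComplexConjugate
open Cfsg.Agent.CharBasic

namespace Cfsg.Agent.H86

universe u v

variable {G : Type u} [Group G]

theorem isCharacter_comp {H : Type v} [Group H] {χ : G → ℂ} (h : Cfsg.IsCharacter G χ) (f : H →* G) :
    Cfsg.IsCharacter H (fun x => χ (f x)) := by
  obtain ⟨n, ρ, rfl⟩ := h
  exact ⟨n, MonoidHom.comp ρ f, rfl⟩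

theorem isCharacter_inv {χ : G → ℂ} (h : Cfsg.IsCharacter G χ) :
    Cfsg.IsCharacter G (fun x => χ x⁻¹) := by
  obtain ⟨n, ρ, rfl⟩ := h
  have h1 : ρ.dual.character = fun x => ρ.character x⁻¹ := funext fun g => Representation.char_dual ρ g
  rw [← h1]
  exact isCharacter_character _

variable [Finite G]

open scoped Classical in
theorem classInner_multisetSum [Fintype G] (s : Multiset (Cfsg.IrrCharacter G)) (ψ : Cfsg.IrrCharacter G) :
    Cfsg.classInner (s.map Subtype.val).sum (ψ : G → ℂ) = (s.count ψ : ℂ) := by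
  induction s using Multiset.induction_on with
  | empty => simp
  | cons a t ih =>
    rw [Multiset.map_cons, Multiset.sum_cons, classInner_add_left, classInner_irrCharacter,
      Multiset.count_cons, ih]
    by_cases hb : ψ = a
    · subst hb; simp [add_comm]
    · rw [if_neg (fun e => hb e.symm), if_neg hb]; simp

/-- A character of norm one is irreducible. -/
theorem isIrr_of_norm_one [Fintype G] {χ : G → ℂ} (h : Cfsg.IsCharacter G χ)
    (hn : Cfsg.classInner χ χ = 1) : Cfsg.IsIrrCharacter G χ := by
  classical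
  obtain ⟨s, rfl⟩ := IsChar.eq_multiset_sum h
  rw [classInner_eq_sum (IsChar.isClassFunction h)] at hn
  simp only [classInner_multisetSum, Complex.conj_natCast] at hn
  have hn' : ∑ ψ : Cfsg.IrrCharacter G, s.count ψ * s.count ψ = 1 := by exact_mod_cast hn
  have hcard : Multiset.card s = 1 := by
    rw [← Multiset.sum_count_eq_card (s := Finset.univ) (m := s) (fun a _ => Finset.mem_univ a), ← hn']
    refine Finset.sum_congr rfl fun ψ hψ => ?_
    have hle : s.count ψ * s.count ψ ≤ 1 :=
      (Finset.single_le_sum (f := fun ψ => s.count ψ * s.count ψ) (fun _ _ => Nat.zero_le _) hψ).trans hn'.le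
    have : s.count ψ ≤ 1 := by nlinarith
    interval_cases (s.count ψ) <;> rfl
  obtain ⟨a, rfl⟩ := Multiset.card_eq_one.1 hcard
  simpa using a.2

theorem isIrr_comp_equiv {H : Type v} [Group H] {χ : G → ℂ} (h : Cfsg.IsIrrCharacter G χ)
    (e : H ≃* G) : Cfsg.IsIrrCharacter H (fun x => χ (e x)) := by
  haveI := Finite.of_equiv G e.symm.toEquiv
  haveI := Fintype.ofFinite G
  haveI := Fintype.ofFinite H
  refine isIrr_of_norm_one (isCharacter_comp (IsIrr.isCharacter h) e.toMonoidHom) ?_
  rw [← classInner_irr_self h, classInner_def, classInner_def, Nat.card_congr e.toEquiv]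
  congr 1
  exact Fintype.sum_equiv e.toEquiv _ _ fun _ => rfl

theorem isIrr_conj {χ : G → ℂ} (h : Cfsg.IsIrrCharacter G χ) :
    Cfsg.IsIrrCharacter G (fun x => conj (χ x)) := by
  haveI := Fintype.ofFinite G
  have hc : (fun x => conj (χ x)) = fun x => χ x⁻¹ :=
    funext fun x => (IsChar.inv_apply (IsIrr.isCharacter h) x).symm
  rw [hc]
  refine isIrr_of_norm_one (isCharacter_inv (IsIrr.isCharacter h)) ?_
  rw [← classInner_irr_self h, classInner_def, classInner_def]
  congr 1
  exact Fintype.sum_equiv (Equiv.inv G) _ _ fun _ => rfl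

end Cfsg.Agent.H86

namespace Cfsg.Agent.H86

variable {G : Type*} [Group G] [Finite G]

/-- Inflation of an irreducible character along a surjection. -/
theorem isIrr_comp_surjective {H : Type*} [Group H] [Finite H] {χ : H → ℂ}
    (h : Cfsg.IsIrrCharacter H χ) (f : G →* H) (hf : Function.Surjective f) :
    Cfsg.IsIrrCharacter G (fun x => χ (f x)) := by
  classical
  haveI := Fintype.ofFinite G
  haveI := Fintype.ofFinite H
  refine isIrr_of_norm_one (isCharacter_comp (IsIrr.isCharacter h) f) ?_
  rw [← classInner_irr_self h, classInner_def, classInner_def]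
  have hfib : ∀ y : H, (Finset.univ.filter (fun x => f x = y)).card = Nat.card f.ker := by
    intro y
    obtain ⟨x₀, rfl⟩ := hf y
    rw [← Fintype.card_subtype, ← Nat.card_eq_fintype_card]
    refine Nat.card_congr (Equiv.subtypeEquiv (Equiv.mulLeft x₀⁻¹) fun x => ?_)
    rw [Equiv.coe_mulLeft, MonoidHom.mem_ker, map_mul, map_inv, inv_mul_eq_one, eq_comm]
  have hsum : ∑ x : G, χ (f x) * conj (χ (f x)) =
      (Nat.card f.ker : ℂ) * ∑ y : H, χ y * conj (χ y) := by
    rw [← Finset.sum_fiberwise_of_maps_to (t := Finset.univ) (g := f) (fun x _ => Finset.mem_univ _),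
      Finset.mul_sum]
    refine Finset.sum_congr rfl fun y _ => ?_
    rw [Finset.sum_congr rfl (g := fun _ => χ y * conj (χ y))
      (fun x hx => by rw [(Finset.mem_filter.1 hx).2]), Finset.sum_const, hfib, nsmul_eq_mul]
  have hcard : Nat.card G = Nat.card f.ker * Nat.card H := by
    rw [← f.ker.card_mul_index, Subgroup.index_ker, MonoidHom.range_eq_top.2 hf, Subgroup.card_top]
  rw [hsum, hcard, Nat.cast_mul, mul_inv, mul_assoc, ← mul_assoc (Nat.card H : ℂ)⁻¹,
    mul_comm (Nat.card H : ℂ)⁻¹ (Nat.card f.ker : ℂ), ← mul_assoc, ← mul_assoc,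
    inv_mul_cancel₀ (by exact_mod_cast Nat.card_pos.ne'), one_mul]

end Cfsg.Agent.H86
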