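import Mathlib.Algebra.BigOperators.Ring.Finset
import Mathlib.Algebra.Order.BigOperators.Group.Finset
import Mathlib.Data.Finset.Card
import Mathlib.Data.Fintype.Basic
import Mathlib.Tactic.Linarith
import Mathlib.Tactic.Ring

/-!
# Integer vectors of norm `m + 1` with all inner products `m`

They are a common vector plus signed unit vectors on distinct coordinates.
-/

namespace Cfsg.Agent.H86

theorem unit_of_sq_le_two {n : ℤ} (h : n ≠ 0) (h2 : n ^ 2 ≤ 2) : n = 1 ∨ n = -1 := by
  have h1 : -1 ≤ n := by nlinarith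
  have h1' : n ≤ 1 := by nlinarith
  omega

variable {X : Type*} [Fintype X] [DecidableEq X]

/-- A vector of norm two is a sum of two signed unit vectors. -/
theorem norm_two_spec {d : X → ℤ} (h : ∑ x, d x ^ 2 = 2) :
    ∃ a b : X, a ≠ b ∧ (d a = 1 ∨ d a = -1) ∧ (d b = 1 ∨ d b = -1) ∧
      ∀ x, x ≠ a → x ≠ b → d x = 0 := by
  classical
  set S := Finset.univ.filter fun x => d x ≠ 0 with hS
  have hs : ∑ x ∈ S, d x ^ 2 = 2 := by
    rw [← h]
    refine Finset.sum_subset (Finset.subset_univ _) fun x _ hx => ?_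
    have : d x = 0 := by simpa [hS] using hx
    rw [this]; rfl
  have hu : ∀ x ∈ S, d x = 1 ∨ d x = -1 := fun x hx =>
    unit_of_sq_le_two (Finset.mem_filter.1 hx).2
      (hs ▸ Finset.single_le_sum (f := fun x => d x ^ 2) (fun _ _ => sq_nonneg _) hx)
  have hc : S.card = 2 := by
    have : ∑ x ∈ S, d x ^ 2 = ∑ x ∈ S, 1 :=
      Finset.sum_congr rfl fun x hx => by rcases hu x hx with h | h <;> rw [h] <;> norm_num
    rw [this, Finset.sum_const, nsmul_one] at hs
    exact_mod_cast hs
  obtain ⟨a, b, hab, hS'⟩ := Finset.card_eq_two.1 hc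
  refine ⟨a, b, hab, hu a (by rw [hS']; simp), hu b (by rw [hS']; simp), fun x hxa hxb => ?_⟩
  by_contra hne
  have : x ∈ S := Finset.mem_filter.2 ⟨Finset.mem_univ x, hne⟩
  rw [hS'] at this
  simp [hxa, hxb] at this

theorem sum_mul_two {d v : X → ℤ} {a b : X} (hab : a ≠ b)
    (h : ∀ x, x ≠ a → x ≠ b → d x = 0) : ∑ x, v x * d x = v a * d a + v b * d b := by
  rw [← Finset.sum_pair (f := fun x => v x * d x) hab]
  refine (Finset.sum_subset (Finset.subset_univ _) fun x _ hx => ?_).symm
  simp only [Finset.mem_insert, Finset.mem_singleton, not_or] at hx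
  rw [h x hx.1 hx.2, mul_zero]

/-- The star. -/
theorem star (V : Finset (X → ℤ)) (m : ℤ) (h2 : 2 ≤ V.card)
    (hn : ∀ v ∈ V, ∑ x, v x * v x = m + 1)
    (hc : ∀ v ∈ V, ∀ w ∈ V, v ≠ w → ∑ x, v x * w x = m) :
    ∃ (φ : (X → ℤ) → X) (τ : (X → ℤ) → ℤ) (c : ℤ),
      Set.InjOn φ V ∧ (∀ v ∈ V, τ v = 1 ∨ τ v = -1) ∧
      (∀ u ∈ V, ∀ v ∈ V, v (φ u) = if v = u then τ u * (c + 1) else τ u * c) ∧
      ∀ x, x ∉ V.image φ → ∀ u ∈ V, ∀ v ∈ V, u x = v x := by
  classical
  obtain ⟨v0, hv0⟩ := Finset.card_pos.1 (show 0 < V.card by omega)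
  let D : (X → ℤ) → X → ℤ := fun v x => v x - v0 x
  have hD2 : ∀ v ∈ V, v ≠ v0 → ∑ x, D v x ^ 2 = 2 := by
    intro v hv hne
    have h1 := hn v hv; have h3 := hn v0 hv0; have h4 := hc v hv v0 hv0 hne
    rw [Finset.sum_congr rfl (g := fun x => v x * v x + v0 x * v0 x - 2 * (v x * v0 x))
      (fun x _ => by simp only [D]; ring), Finset.sum_sub_distrib, Finset.sum_add_distrib,
      ← Finset.mul_sum, h1, h3, h4]
    ring
  have hD1 : ∀ v ∈ V, v ≠ v0 → ∑ x, v0 x * D v x = -1 := by
    intro v hv hne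
    have h3 := hn v0 hv0; have h4 := hc v0 hv0 v hv hne.symm
    simp only [D, mul_sub, Finset.sum_sub_distrib, h3, h4]
    ring
  have hDD : ∀ v ∈ V, ∀ w ∈ V, v ≠ v0 → w ≠ v0 → v ≠ w → ∑ x, D v x * D w x = 1 := by
    intro v hv w hw h1 h2' h3
    have e1 := hc v hv w hw h3; have e2 := hc v hv v0 hv0 h1
    have e3 := hc v0 hv0 w hw h2'.symm; have e4 := hn v0 hv0
    simp only [D, mul_sub, sub_mul, Finset.sum_sub_distrib, e1, e2, e3, e4]
    ring
  -- the two positions
  have hspec := fun v (hv : v ∈ V) (hne : v ≠ v0) => norm_two_spec (hD2 v hv hne)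
  obtain ⟨v1, hv1, hv10⟩ : ∃ v ∈ V, v ≠ v0 := by
    by_contra h
    push Not at h
    have : V ⊆ {v0} := fun v hv => Finset.mem_singleton.2 (h v hv)
    have := Finset.card_le_card this
    simp at this
    omega
  -- two edges share exactly one signed position
  have hmeet : ∀ v ∈ V, ∀ w ∈ V, v ≠ v0 → w ≠ v0 → v ≠ w →
      ∃ a b b', a ≠ b ∧ a ≠ b' ∧ b ≠ b' ∧ D v a = D w a ∧ (D v a = 1 ∨ D v a = -1) ∧
        (D v b = 1 ∨ D v b = -1) ∧ (D w b' = 1 ∨ D w b' = -1) ∧
        (∀ x, x ≠ a → x ≠ b → D v x = 0) ∧ (∀ x, x ≠ a → x ≠ b' → D w x = 0) := by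
    intro v hv w hw hv' hw' hvw
    obtain ⟨a, b, hab, hua, hub, hz⟩ := hspec v hv hv'
    obtain ⟨a', b', hab', hua', hub', hz'⟩ := hspec w hw hw'
    have h1 := hDD v hv w hw hv' hw' hvw
    rw [Finset.sum_congr rfl fun x _ => mul_comm (D v x) (D w x), sum_mul_two hab hz] at h1
    have key : ∀ (p q : X), p ≠ q → (D v p = 1 ∨ D v p = -1) → (D v q = 1 ∨ D v q = -1) →
        (∀ x, x ≠ p → x ≠ q → D v x = 0) → D w p * D v p = 1 → D w q = 0 →
        ∃ a b b', a ≠ b ∧ a ≠ b' ∧ b ≠ b' ∧ D v a = D w a ∧ (D v a = 1 ∨ D v a = -1) ∧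
          (D v b = 1 ∨ D v b = -1) ∧ (D w b' = 1 ∨ D w b' = -1) ∧
          (∀ x, x ≠ a → x ≠ b → D v x = 0) ∧ (∀ x, x ≠ a → x ≠ b' → D w x = 0) := by
      intro p q hpq hp hq hzv hw1 hw0
      have hpm : D v p = D w p := by rcases hp with h | h <;> rw [h] at hw1 ⊢ <;> omega
      have hpw : p = a' ∨ p = b' := by
        by_contra hno
        push Not at hno
        rw [hz' p hno.1 hno.2, zero_mul] at hw1
        exact zero_ne_one hw1
      rcases hpw with h | h <;> subst h
      · refine ⟨p, q, b', hpq, hab', fun e => ?_, hpm, hp, hq, hub', hzv, hz'⟩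
        subst e; rcases hub' with h | h <;> omega
      · refine ⟨p, q, a', hpq, hab'.symm, fun e => ?_, hpm, hp, hq, hua', hzv,
          fun x h1 h2 => hz' x h2 h1⟩
        subst e; rcases hua' with h | h <;> omega
    have hwa : D w a = 0 ∨ D w a = 1 ∨ D w a = -1 := by
      by_cases h : a = a'
      · subst h; exact Or.inr hua'
      by_cases h' : a = b'
      · subst h'; exact Or.inr hub'
      exact Or.inl (hz' a h h')
    have hwb : D w b = 0 ∨ D w b = 1 ∨ D w b = -1 := by
      by_cases h : b = a'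
      · subst h; exact Or.inr hua'
      by_cases h' : b = b'
      · subst h'; exact Or.inr hub'
      exact Or.inl (hz' b h h')
    rcases hua with hA | hA <;> rcases hub with hB | hB <;> rcases hwa with hwA | hwA | hwA <;>
      rcases hwb with hwB | hwB | hwB <;> rw [hA, hB, hwA, hwB] at h1 <;>
      first
      | (exfalso; omega)
      | exact key a b hab (by omega) (by omega) hz (by rw [hA, hwA]; norm_num) hwB
      | exact key b a hab.symm (by omega) (by omega) (fun x h h' => hz x h' h)
          (by rw [hB, hwB]; norm_num) hwA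
  -- the common position
  obtain ⟨a, s, hs, hcenter⟩ : ∃ (a : X) (s : ℤ), (s = 1 ∨ s = -1) ∧
      ∀ v ∈ V, v ≠ v0 → D v a = s ∧ ∃ b, b ≠ a ∧ (D v b = 1 ∨ D v b = -1) ∧
        ∀ x, x ≠ a → x ≠ b → D v x = 0 := by
    by_cases hex : ∃ v ∈ V, v ≠ v0 ∧ v ≠ v1
    · obtain ⟨v2, hv2, hv20, hv21⟩ := hex
      obtain ⟨a, b1, b2, hab1, hab2, hb12, he, hua, hub1, hub2, hz1, hz2⟩ :=
        hmeet v1 hv1 v2 hv2 hv10 hv20 hv21.symm
      refine ⟨a, D v1 a, hua, fun v hv hv' => ?_⟩
      by_cases h1 : v = v1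
      · subst h1; exact ⟨rfl, b1, hab1.symm, hub1, hz1⟩
      by_cases h2' : v = v2
      · subst h2'; exact ⟨he.symm, b2, hab2.symm, hub2, hz2⟩
      obtain ⟨p, q, hpq, hup, huq, hz⟩ := hspec v hv hv'
      have i1 := hDD v hv v1 hv1 hv' hv10 h1
      have i2 := hDD v hv v2 hv2 hv' hv20 h2'
      rw [sum_mul_two hab1 hz1] at i1
      rw [sum_mul_two hab2 hz2, ← he] at i2
      by_cases hva : D v a = 0
      · exfalso
        rw [hva, zero_mul, zero_add] at i1 i2
        have e1 : D v b1 = D v1 b1 := by rcases hub1 with h | h <;> rw [h] at i1 ⊢ <;> omega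
        have e2 : D v b2 = D v2 b2 := by rcases hub2 with h | h <;> rw [h] at i2 ⊢ <;> omega
        have hb1 : b1 = p ∨ b1 = q := by
          by_contra hno; push Not at hno
          rw [hz b1 hno.1 hno.2, zero_mul] at i1; omega
        have hb2 : b2 = p ∨ b2 = q := by
          by_contra hno; push Not at hno
          rw [hz b2 hno.1 hno.2, zero_mul] at i2; omega
        have hzb : ∀ x, x ≠ b1 → x ≠ b2 → D v x = 0 := fun x h h' => by
          rcases hb1 with rfl | rfl <;> rcases hb2 with rfl | rfl <;>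
            first
            | exact absurd rfl hb12
            | exact hz x h h'
            | exact hz x h' h
        have j := hD1 v hv hv'
        have j1 := hD1 v1 hv1 hv10
        have j2 := hD1 v2 hv2 hv20
        rw [sum_mul_two hb12 hzb, e1, e2] at j
        rw [sum_mul_two hab1 hz1] at j1
        rw [sum_mul_two hab2 hz2, ← he] at j2
        omega
      · have hpa : a = p ∨ a = q := by
          by_contra hno; push Not at hno
          exact hva (hz a hno.1 hno.2)
        have hva' : D v a = 1 ∨ D v a = -1 := by rcases hpa with rfl | rfl <;> assumption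
        have hsa : D v a = D v1 a := by
          by_contra hne
          have hm : D v a * D v1 a = -1 := by
            rcases hva' with h | h <;> rcases hua with h' | h' <;> rw [h, h'] at hne ⊢ <;>
              first
              | exact absurd rfl hne
              | norm_num
          rw [hm] at i1 i2
          have k1 : D v b1 ≠ 0 := fun h => by rw [h, zero_mul] at i1; omega
          have k2 : D v b2 ≠ 0 := fun h => by rw [h, zero_mul] at i2; omega
          have m1 : b1 = p ∨ b1 = q := by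
            by_contra hno; push Not at hno; exact k1 (hz b1 hno.1 hno.2)
          have m2 : b2 = p ∨ b2 = q := by
            by_contra hno; push Not at hno; exact k2 (hz b2 hno.1 hno.2)
          rcases hpa with rfl | rfl <;> rcases m1 with rfl | rfl <;> rcases m2 with rfl | rfl <;>
            first
            | exact hab1 rfl
            | exact hab2 rfl
            | exact hb12 rfl
        refine ⟨hsa, ?_⟩
        rcases hpa with rfl | rfl
        · exact ⟨q, hpq.symm, huq, hz⟩
        · exact ⟨p, hpq, hup, fun x h h' => hz x h' h⟩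
    · push Not at hex
      obtain ⟨a, b, hab, hua, hub, hz⟩ := hspec v1 hv1 hv10
      refine ⟨a, D v1 a, hua, fun v hv hv' => ?_⟩
      obtain rfl := hex v hv hv'
      exact ⟨rfl, b, hab.symm, hub, hz⟩
  haveI : Nonempty X := ⟨a⟩
  choose! β hβne hβu hβz using fun v hv hv' => (hcenter v hv hv').2
  have hsa : ∀ v ∈ V, v ≠ v0 → D v a = s := fun v hv hv' => (hcenter v hv hv').1
  have hinj : ∀ v ∈ V, ∀ w ∈ V, v ≠ v0 → w ≠ v0 → v ≠ w → β v ≠ β w := by
    intro v hv w hw hv' hw' hvw he
    have h1 := hDD v hv w hw hv' hw' hvw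
    rw [sum_mul_two (hβne w hw hw').symm (hβz w hw hw'), hsa v hv hv', hsa w hw hw', ← he] at h1
    have hb := hβu v hv hv'
    have hb' := hβu w hw hw'
    rw [← he] at hb'
    rcases hs with h | h <;> rcases hb with g | g <;> rcases hb' with g' | g' <;>
      rw [h, g, g'] at h1 <;> norm_num at h1
  set c : ℤ := -s * v0 a - 1 with hcdef
  let φ : (X → ℤ) → X := fun v => if v = v0 then a else β v
  let τ : (X → ℤ) → ℤ := fun v => if v = v0 then -s else D v (β v)
  have hbase : ∀ v ∈ V, v ≠ v0 → v0 (β v) = D v (β v) * c := by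
    intro v hv hv'
    have h := hD1 v hv hv'
    rw [sum_mul_two (hβne v hv hv').symm (hβz v hv hv'), hsa v hv hv'] at h
    rcases hβu v hv hv' with g | g <;> rw [g] at h ⊢ <;> rcases hs with rfl | rfl <;> omega
  refine ⟨φ, τ, c, ?_, ?_, ?_, ?_⟩
  · intro v hv w hw h
    simp only [φ] at h
    by_contra hne
    split_ifs at h with h1 h2' h2'
    · exact hne (h1.trans h2'.symm)
    · exact hβne w hw h2' h.symm
    · exact hβne v hv h1 h
    · exact hinj v hv w hw h1 h2' hne h
  · intro v hv
    simp only [τ]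
    split_ifs with h
    · rcases hs with rfl | rfl <;> simp
    · exact hβu v hv h
  · intro u hu v hv
    simp only [φ, τ]
    by_cases hu0 : u = v0
    · subst hu0
      simp only [if_pos rfl, if_true]
      by_cases hv' : v = u
      · subst hv'; rw [if_pos rfl]
        rcases hs with rfl | rfl <;> omega
      · rw [if_neg hv']
        have := hsa v hv hv'
        simp only [D] at this
        rcases hs with rfl | rfl <;> omega
    · simp only [if_neg hu0]
      by_cases hv' : v = v0
      · subst hv'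
        rw [if_neg (Ne.symm hu0)]
        exact hbase u hu hu0
      by_cases hvu : v = u
      · subst hvu
        rw [if_pos rfl, mul_add, mul_one, ← hbase v hv hv']
        simp only [D]; ring
      · rw [if_neg hvu, ← hbase u hu hu0]
        have := hβz v hv hv' (β u) (hβne u hu hu0) (hinj u hu v hv hu0 hv' (Ne.symm hvu))
        simp only [D] at this
        linarith
  · intro x hx u hu v hv
    have key : ∀ v ∈ V, v x = v0 x := by
      intro v hv
      by_cases hv' : v = v0
      · rw [hv']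
      have hxa : x ≠ a := fun e => hx (Finset.mem_image.2 ⟨v0, hv0, by simp [φ, e]⟩)
      have hxb : x ≠ β v := fun e => hx (Finset.mem_image.2 ⟨v, hv, by simp [φ, hv', e]⟩)
      have := hβz v hv hv' x hxa hxb
      simp only [D] at this
      linarith
    rw [key u hu, key v hv]

end Cfsg.Agent.H86
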