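import Cfsg.Agent.H86.AbelianColumns
import Cfsg.Agent.H86.StarVectors

/-!
# The exceptional characters of the principal block

In the setting of `H86.AbelianColumns`, with at least two orbits of nontrivial linear characters.
-/

set_option linter.unusedSectionVars false
set_option maxHeartbeats 1000000

open scoped ComplexConjugate

namespace Cfsg.Agent.H86.Abelian

open CharBasic BlockBasic Subgroup

universe u

variable {G : Type u} [Group G] [Finite G] {p : ℕ} [hp : Fact p.Prime]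
variable (P : Sylow p G) [hab : IsMulCommutative (P : Subgroup G)]
  [Fintype (P : Subgroup G)] [Fintype (normalizer (P : Set G))] {M : Ideal AlgInt}

/-- A principal character vanishing at every nontrivial element of `P` does not exist. -/
theorem exists_apply_ne_zero [Fintype G] (hM : IsPModular p M) (hfix : FreeFusion P)
    (hP : Nat.card (P : Subgroup G) ≠ 1)
    {χ : IrrCharacter G} (hχ : χ ∈ principalBlock M G) :
    ∃ y : (P : Subgroup G), y ≠ 1 ∧ (χ : G → ℂ) y ≠ 0 := by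
  classical
  by_contra h
  push Not at h
  have hsing : ∀ g : G, p ∣ orderOf g → (χ : G → ℂ) g = 0 := by
    intro g hg
    obtain ⟨k, hk⟩ := exists_orderOf_pPart (p := p) g
    obtain ⟨Q, hQ⟩ := (IsPGroup.of_card (G := zpowers (pPart (p := p) g)) (n := k)
      (by rw [Nat.card_zpowers, hk])).exists_le_sylow
    obtain ⟨d, hd⟩ := MulAction.exists_smul_eq G Q P
    set u := d * pPart (p := p) g * d⁻¹ with hu
    have huP : u ∈ (P : Subgroup G) := by
      rw [← hd]
      exact (Fusion.mem_sylow_smul).2 (by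
        rw [show d⁻¹ * u * d = pPart (p := p) g by rw [hu]; group]; exact hQ (mem_zpowers _))
    have hu1 : u ≠ 1 := fun e => (pPart_eq_one_iff g).1 (conj_eq_one_iff.1 e) hg
    have hval := h ⟨u, huP⟩ fun e => hu1 (congrArg Subtype.val e)
    have hc : d * pReg (p := p) g * d⁻¹ ∈ centralizer ({u} : Set G) := by
      refine mem_centralizer_singleton_iff.2 ?_
      rw [hu]
      calc d * pReg (p := p) g * d⁻¹ * (d * pPart (p := p) g * d⁻¹)
          = d * (pReg (p := p) g * pPart (p := p) g) * d⁻¹ := by group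
        _ = d * (pPart (p := p) g * pReg (p := p) g) * d⁻¹ := by rw [(commute_pPart_pReg g).eq]
        _ = _ := by group
    have h1 := principal_apply_mul hM (exists_orderOf P ⟨u, huP⟩) (pNilAt_of_mem P hfix huP hu1) hχ
      (c := ⟨_, hc⟩) (by
        rw [Subgroup.orderOf_mk, ← MulAut.conj_apply, MulEquiv.orderOf_eq]
        exact not_dvd_orderOf_pReg g)
    rw [show u * (d * pReg (p := p) g * d⁻¹) = d * g * d⁻¹ by
      rw [hu]; conv_rhs => rw [← pPart_mul_pReg (p := p) g]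
      group, IsIrr.isClassFunction χ.2] at h1
    exact h1.trans hval
  have hne : χ ≠ trivialIrr := by
    rintro rfl
    obtain ⟨y, hy⟩ : ∃ y : (P : Subgroup G), y ≠ 1 := by
      by_contra hno
      push Not at hno
      exact hP (Nat.card_eq_one_iff_unique.2 ⟨⟨fun a b => (hno a).trans (hno b).symm⟩, ⟨1⟩⟩)
    simpa [trivialIrr] using h y hy
  apply sum_regular_ne_zero hM hχ
  have h0 := classInner_irr_of_ne χ.2 isIrrCharacter_one (fun e => hne (Subtype.ext e))
  rw [classInner_def, mul_eq_zero] at h0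
  have hs := h0.resolve_left (inv_ne_zero (Nat.cast_ne_zero.2 Nat.card_pos.ne'))
  simp only [map_one, mul_one] at hs
  rw [← hs, Finset.sum_filter]
  refine Finset.sum_congr rfl fun g _ => ?_
  by_cases hg : p ∣ orderOf g
  · rw [if_neg (not_not.2 hg), hsing g hg]
  · rw [if_pos hg]

open scoped Classical in
/-- The structure of the principal block on the singular elements. -/
theorem exists_exceptional [Fintype G] (hM : IsPModular p M) (hfix : FreeFusion P)
    (hm2 : (centralizer ((P : Subgroup G) : Set G)).relIndex (normalizer (P : Set G)) + 1 <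
      Nat.card (P : Subgroup G)) :
    ∃ (Y : Finset (IrrCharacter G)) (ζ : IrrCharacter (P : Subgroup G) → IrrCharacter G)
      (δ d : ℤ) (a : IrrCharacter G → ℤ),
      (δ = 1 ∨ δ = -1) ∧
      (∀ θ ∈ Y, θ ∈ principalBlock M G) ∧ trivialIrr ∉ Y ∧ a trivialIrr = 1 ∧
      (∀ b : IrrCharacter (P : Subgroup G), b ≠ triv P → ζ b ∈ Y) ∧
      (∀ θ ∈ Y, ∃ b : IrrCharacter (P : Subgroup G), b ≠ triv P ∧ ζ b = θ) ∧
      (∀ b b' : IrrCharacter (P : Subgroup G), b ≠ triv P → b' ≠ triv P →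
        (ζ b' = ζ b ↔ b' ∈ orb P b)) ∧
      Y.card * (centralizer ((P : Subgroup G) : Set G)).relIndex (normalizer (P : Set G)) + 1 =
        Nat.card (P : Subgroup G) ∧
      (∀ b : IrrCharacter (P : Subgroup G), b ≠ triv P → ∀ y : (P : Subgroup G), y ≠ 1 →
        (ζ b : G → ℂ) y = d + δ * ∑ b' ∈ orb P b, (b' : ↥(P : Subgroup G) → ℂ) y) ∧
      (∀ χ ∈ principalBlock M G, χ ∉ Y →
        a χ ≠ 0 ∧ ∀ y : (P : Subgroup G), y ≠ 1 → (χ : G → ℂ) y = a χ) ∧
      (d - δ) ^ 2 + ((Y.card : ℤ) - 1) * d ^ 2 +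
          (∑ χ : IrrCharacter G, if χ ∈ principalBlock M G ∧ χ ∉ Y then a χ ^ 2 else 0) =
        (centralizer ((P : Subgroup G) : Set G)).relIndex (normalizer (P : Set G)) + 1 ∧
      (∀ θ ∈ Y, ∀ θ' ∈ Y, ∀ g : G, ¬ p ∣ orderOf g → (θ : G → ℂ) g = (θ' : G → ℂ) g) ∧
      ∀ θ ∈ Y, ∀ g : G, ¬ p ∣ orderOf g →
        (((Y.card : ℤ) : ℂ) * d - δ) * (θ : G → ℂ) g +
          (∑ χ : IrrCharacter G, if χ ∈ principalBlock M G ∧ χ ∉ Y then
            (a χ : ℂ) * (χ : G → ℂ) g else 0) = 0 := by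
  set m := (centralizer ((P : Subgroup G) : Set G)).relIndex (normalizer (P : Set G)) with hmdef
  let X := {χ : IrrCharacter G // χ ∈ principalBlock M G}
  let x0 : X := ⟨trivialIrr, sameBlock_refl hM _⟩
  haveI : Nonempty X := ⟨x0⟩
  let V' : IrrCharacter (P : Subgroup G) → X → ℤ := fun b χ => vec P b χ.1
  let T := Finset.univ.filter fun b : IrrCharacter (P : Subgroup G) => b ≠ triv P
  let V := T.image V'
  have hT : ∀ {b}, b ∈ T ↔ b ≠ triv P := fun {b} => by simp [T]
  have hgr : ∀ {b b'}, b ∈ T → b' ∈ T → ∑ χ : X, V' b χ * V' b' χ =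
      (m : ℤ) + if b ∈ orb P b' then 1 else 0 := fun hb hb' => gram P hM hfix (hT.1 hb) (hT.1 hb')
  have hnorm : ∀ v ∈ V, ∑ χ, v χ * v χ = (m : ℤ) + 1 := by
    intro v hv
    obtain ⟨b, hb, rfl⟩ := Finset.mem_image.1 hv
    rw [hgr hb hb, if_pos (self_mem_orb P b)]
  have heq : ∀ {b b'}, b ∈ T → b' ∈ T → (V' b = V' b' ↔ b ∈ orb P b') := by
    intro b b' hb hb'
    constructor
    · intro h
      by_contra hne
      have h1 := hgr hb hb'
      rw [if_neg hne, h] at h1
      have h2 := hgr hb' hb'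
      rw [if_pos (self_mem_orb P b')] at h2
      omega
    · intro h
      have h1 := hgr hb hb'
      rw [if_pos h] at h1
      have h2 := hgr hb hb
      rw [if_pos (self_mem_orb P b)] at h2
      have h3 := hgr hb' hb'
      rw [if_pos (self_mem_orb P b')] at h3
      have h0 : ∑ χ : X, (V' b χ - V' b' χ) ^ 2 = 0 := by
        rw [Finset.sum_congr rfl (g := fun χ => V' b χ * V' b χ + V' b' χ * V' b' χ -
          2 * (V' b χ * V' b' χ)) (fun χ _ => by ring), Finset.sum_sub_distrib, Finset.sum_add_distrib,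
          ← Finset.mul_sum, h1, h2, h3]
        ring
      funext χ
      have h5 := (Finset.sum_eq_zero_iff_of_nonneg fun χ _ => sq_nonneg _).1 h0 χ (Finset.mem_univ χ)
      exact sub_eq_zero.1 (pow_eq_zero_iff (two_ne_zero) |>.1 h5)
  have hcross : ∀ v ∈ V, ∀ w ∈ V, v ≠ w → ∑ χ, v χ * w χ = (m : ℤ) := by
    intro v hv w hw hvw
    obtain ⟨b, hb, rfl⟩ := Finset.mem_image.1 hv
    obtain ⟨b', hb', rfl⟩ := Finset.mem_image.1 hw
    rw [hgr hb hb', if_neg fun h => hvw ((heq hb hb').2 h), add_zero]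
  have hx0 : ∀ v ∈ V, v x0 = -1 := by
    intro v hv
    obtain ⟨b, hb, rfl⟩ := Finset.mem_image.1 hv
    exact vec_trivialIrr P (hT.1 hb)
  have hfib : ∀ {b}, b ∈ T → T.filter (fun b' => V' b' = V' b) = orb P b := by
    intro b hb
    ext b'
    simp only [Finset.mem_filter]
    constructor
    · exact fun ⟨hb', h⟩ => (heq hb' hb).1 h
    · intro h
      obtain ⟨n, rfl⟩ := (mem_orb P).1 h
      exact ⟨hT.2 (actIrr_ne_triv P (hT.1 hb) n), (heq (hT.2 (actIrr_ne_triv P (hT.1 hb) n)) hb).2 h⟩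
  have hVm : V.card * m + 1 = Nat.card (P : Subgroup G) := by
    have h1 : T.card = V.card * m := by
      rw [Finset.card_eq_sum_card_image V' T, Finset.sum_congr rfl (g := fun _ => m) fun v hv => ?_,
        Finset.sum_const, smul_eq_mul]
      obtain ⟨b, hb, rfl⟩ := Finset.mem_image.1 hv
      rw [hfib hb, card_orb P hfix (hT.1 hb)]
    have h2 := sum_sq_degree (G := (P : Subgroup G))
    simp only [lin P, one_pow, Finset.sum_const, Finset.card_univ, nsmul_eq_mul, mul_one,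
      Nat.cast_inj] at h2
    have h3 : T.card + 1 = Fintype.card (IrrCharacter (P : Subgroup G)) := by
      rw [show T = Finset.univ.erase (triv P) by ext; simp [T],
        Finset.card_erase_of_mem (Finset.mem_univ _), Finset.card_univ]
      have := Fintype.card_pos_iff.2 ⟨triv P⟩
      omega
    omega
  have hV2 : 2 ≤ V.card := by
    by_contra hlt
    have := Nat.mul_le_mul_right m (show V.card ≤ 1 by omega)
    omega
  obtain ⟨φ, τ, c, hφi, hτ, hφv, hrest⟩ := star V (m : ℤ) hV2 hnorm hcross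
  obtain ⟨v0, hv0⟩ := Finset.card_pos.1 (show 0 < V.card by omega)
  -- sums over the block split along the exceptional coordinates
  have hsplit : ∀ (f : X → ℂ), ∑ χ, f χ =
      ∑ u ∈ V, f (φ u) + ∑ χ ∈ (V.image φ)ᶜ, f χ := fun f => by
    rw [← Finset.sum_add_sum_compl (V.image φ) f, Finset.sum_image hφi]
  have hreg : ∀ {g : G}, ¬ p ∣ orderOf g → ∀ v ∈ V,
      (∑ u ∈ V, ((φ u).1 : G → ℂ) g * ((τ u : ℂ) * c)) + ((φ v).1 : G → ℂ) g * (τ v : ℂ) +
        ∑ χ ∈ (V.image φ)ᶜ, (χ.1 : G → ℂ) g * (v0 χ : ℂ) = 0 := by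
    intro g hg v hv
    obtain ⟨b, hb, rfl⟩ := Finset.mem_image.1 hv
    have h := sum_regular_vec P hM hg b
    rw [hsplit (fun χ : X => (χ.1 : G → ℂ) g * (vec P b χ.1 : ℂ))] at h
    rw [← h]
    congr 1
    · rw [show ((φ (V' b)).1 : G → ℂ) g * (τ (V' b) : ℂ) =
          ∑ u ∈ V, if V' b = u then ((φ u).1 : G → ℂ) g * (τ u : ℂ) else 0 by
        rw [Finset.sum_ite_eq V (V' b), if_pos hv], ← Finset.sum_add_distrib]
      refine Finset.sum_congr rfl fun u hu => ?_
      have := hφv u hu _ hv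
      simp only [V'] at this ⊢
      rw [this]
      split_ifs <;> push_cast <;> ring
    · refine Finset.sum_congr rfl fun χ hχ => ?_
      rw [← hrest χ (Finset.mem_compl.1 hχ) _ hv _ hv0]
  have hconst : ∀ {g : G}, ¬ p ∣ orderOf g → ∀ u ∈ V, ∀ v ∈ V,
      ((φ u).1 : G → ℂ) g * (τ u : ℂ) = ((φ v).1 : G → ℂ) g * (τ v : ℂ) := by
    intro g hg u hu v hv
    linear_combination (hreg hg u hu) - (hreg hg v hv)
  set δ := τ v0 with hδdef
  have hone : ¬ p ∣ orderOf (1 : G) := by rw [orderOf_one, Nat.dvd_one]; exact hp.out.ne_one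
  have hτconst : ∀ u ∈ V, τ u = δ := by
    intro u hu
    have h := hconst hone u hu v0 hv0
    rw [apply_one_eq_charDegree, apply_one_eq_charDegree] at h
    have h1 := charDegree_pos (φ u).1
    have h2 := charDegree_pos (φ v0).1
    have h' : (charDegree ((φ u).1 : G → ℂ) : ℤ) * τ u = (charDegree ((φ v0).1 : G → ℂ) : ℤ) * δ := by
      exact_mod_cast h
    rcases hτ u hu with e | e <;> rcases hτ v0 hv0 with e' | e' <;> rw [← hδdef] at e' <;>
      rw [e, e'] at h' <;> rw [e, e'] <;> omega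
  have hδ : δ = 1 ∨ δ = -1 := hτ v0 hv0
  -- values
  have hval : ∀ (χ : X) {y : (P : Subgroup G)}, y ≠ 1 →
      (χ.1 : G → ℂ) y = ∑ b ∈ T, (V' b χ : ℂ) * (b : ↥(P : Subgroup G) → ℂ) y := by
    intro χ y hy
    rw [apply_eq_sum_vec P χ.1 hy]
    refine (Finset.sum_subset (Finset.subset_univ T) fun b _ hb => ?_).symm
    obtain rfl : b = triv P := by_contra fun h => hb (hT.2 h)
    simp [vec_triv]
  have hTsum : ∀ {y : (P : Subgroup G)}, y ≠ 1 →
      ∑ b ∈ T, (b : ↥(P : Subgroup G) → ℂ) y = -1 := by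
    intro y hy
    rw [show T = Finset.univ.erase (triv P) by ext; simp [T],
      Finset.sum_erase_eq_sub (Finset.mem_univ _), sum_irr_apply P hy, triv_apply, zero_sub]
  have houtval : ∀ χ : X, χ ∉ V.image φ → ∀ {y : (P : Subgroup G)}, y ≠ 1 →
      (χ.1 : G → ℂ) y = -(v0 χ : ℂ) := by
    intro χ hχ y hy
    rw [hval χ hy, Finset.sum_congr rfl
      (g := fun b : IrrCharacter (P : Subgroup G) => (v0 χ : ℂ) * (b : ↥(P : Subgroup G) → ℂ) y)
      (fun b hb => by rw [hrest χ hχ _ (Finset.mem_image_of_mem V' hb) _ hv0]), ← Finset.mul_sum,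
      hTsum hy]
    ring
  have hexc : ∀ b ∈ T, ∀ {y : (P : Subgroup G)}, y ≠ 1 →
      ((φ (V' b)).1 : G → ℂ) y =
        -((δ : ℂ) * c) + (δ : ℂ) * ∑ b' ∈ orb P b, (b' : ↥(P : Subgroup G) → ℂ) y := by
    intro b hb y hy
    have hv := Finset.mem_image_of_mem V' hb
    rw [hval _ hy, Finset.sum_congr rfl (g := fun b' : IrrCharacter (P : Subgroup G) =>
      (δ : ℂ) * c * (b' : ↥(P : Subgroup G) → ℂ) y +
        if V' b' = V' b then (δ : ℂ) * (b' : ↥(P : Subgroup G) → ℂ) y else 0) (fun b' hb' => by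
      rw [hφv _ hv _ (Finset.mem_image_of_mem V' hb'), hτconst _ hv]
      split_ifs <;> push_cast <;> ring), Finset.sum_add_distrib, ← Finset.mul_sum, hTsum hy,
      ← Finset.sum_filter, hfib hb, ← Finset.mul_sum]
    ring
  -- the data
  let Y : Finset (IrrCharacter G) := (V.image φ).map (Function.Embedding.subtype _)
  have hmemY : ∀ {θ}, θ ∈ Y ↔ ∃ u ∈ V, (φ u).1 = θ := fun {θ} => by simp [Y]
  have hYc : Y.card = V.card := by
    rw [Finset.card_map, Finset.card_image_of_injOn hφi]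
  let a : IrrCharacter G → ℤ := fun χ => if h : χ ∈ principalBlock M G then -(v0 ⟨χ, h⟩) else 0
  have hYmem : ∀ χ : X, χ.1 ∈ Y ↔ χ ∈ V.image φ := fun χ =>
    Finset.mem_map' (Function.Embedding.subtype _)
  have hx0Y : x0 ∉ V.image φ := by
    intro h
    obtain ⟨u, hu, hux⟩ := Finset.mem_image.1 h
    obtain ⟨w, hw, hwu⟩ : ∃ w ∈ V, w ≠ u := by
      by_contra hno
      push Not at hno
      have := Finset.card_le_card (fun v hv => Finset.mem_singleton.2 (hno v hv) : V ⊆ {u})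
      simp at this
      omega
    have h1 := hφv u hu u hu
    have h2 := hφv u hu w hw
    rw [if_pos rfl, hux, hx0 u hu] at h1
    rw [if_neg hwu, hux, hx0 w hw] at h2
    rcases hτ u hu with e | e <;> rw [e] at h1 h2 <;> omega
  have hsumX : ∀ f : IrrCharacter G → ℂ,
      (∑ χ : IrrCharacter G, if χ ∈ principalBlock M G ∧ χ ∉ Y then f χ else 0) =
        ∑ χ ∈ (V.image φ)ᶜ, f χ.1 := by
    intro f
    rw [← Finset.sum_filter]
    refine Finset.sum_bij' (fun χ hχ => (⟨χ, (Finset.mem_filter.1 hχ).2.1⟩ : X)) (fun χ _ => χ.1)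
      ?_ ?_ ?_ ?_ ?_
    · intro χ hχ
      exact Finset.mem_compl.2 fun h => (Finset.mem_filter.1 hχ).2.2 ((hYmem _).2 h)
    · intro χ hχ
      exact Finset.mem_filter.2 ⟨Finset.mem_univ _, χ.2, fun h => Finset.mem_compl.1 hχ ((hYmem χ).1 h)⟩
    all_goals simp
  refine ⟨Y, fun b => (φ (V' b)).1, δ, -(δ * c), a, hδ, ?_, ?_, ?_, ?_, ?_, ?_, ?_, ?_, ?_, ?_, ?_, ?_⟩
  · intro θ hθ
    obtain ⟨u, -, rfl⟩ := hmemY.1 hθ
    exact (φ u).2
  · exact fun h => hx0Y ((hYmem x0).1 h)
  · have := hx0 v0 hv0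
    show (if h : trivialIrr ∈ principalBlock M G then -(v0 ⟨trivialIrr, h⟩) else 0) = 1
    rw [dif_pos x0.2, show v0 ⟨trivialIrr, x0.2⟩ = -1 from this, neg_neg]
  · exact fun b hb => hmemY.2 ⟨_, Finset.mem_image_of_mem V' (hT.2 hb), rfl⟩
  · intro θ hθ
    obtain ⟨u, hu, rfl⟩ := hmemY.1 hθ
    obtain ⟨b, hb, rfl⟩ := Finset.mem_image.1 hu
    exact ⟨b, hT.1 hb, rfl⟩
  · intro b b' hb hb'
    rw [← heq (hT.2 hb') (hT.2 hb)]
    exact ⟨fun h => hφi (Finset.mem_image_of_mem _ (hT.2 hb')) (Finset.mem_image_of_mem _ (hT.2 hb))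
      (Subtype.ext h), fun h => congrArg (fun u => (φ u).1) h⟩
  · rw [hYc, hVm]
  · intro b hb y hy
    rw [hexc b (hT.2 hb) hy]
    push_cast; ring
  · intro χ hχ hχY
    have hnot : (⟨χ, hχ⟩ : X) ∉ V.image φ := fun h => hχY ((hYmem ⟨χ, hχ⟩).2 h)
    have hy' : ∀ y : (P : Subgroup G), y ≠ 1 → (χ : G → ℂ) y = (a χ : ℂ) := fun y hy => by
      rw [houtval ⟨χ, hχ⟩ hnot hy]
      simp [a, hχ]
    refine ⟨fun h0 => ?_, hy'⟩
    obtain ⟨y, hy, hne⟩ := exists_apply_ne_zero P hM hfix (by omega) hχ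
    exact hne (by rw [hy' y hy, h0, Int.cast_zero])
  · apply Int.cast_injective (α := ℂ)
    have h := hnorm v0 hv0
    have h' : ∑ χ : X, ((v0 χ : ℂ) * (v0 χ : ℂ)) = ((m : ℤ) : ℂ) + 1 := by exact_mod_cast h
    rw [hsplit] at h'
    rw [Finset.sum_congr rfl (g := fun u => (c : ℂ) ^ 2 + if u = v0 then 2 * (c : ℂ) + 1 else 0)
      (fun u hu => by
        rw [hφv u hu v0 hv0, hτconst u hu]
        by_cases h : u = v0
        · rw [if_pos h.symm, if_pos h]
          rcases hδ with e | e <;> rw [e] <;> push_cast <;> ring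
        · rw [if_neg (Ne.symm h), if_neg h]
          rcases hδ with e | e <;> rw [e] <;> push_cast <;> ring),
      Finset.sum_add_distrib, Finset.sum_const, nsmul_eq_mul, Finset.sum_ite_eq' V v0, if_pos hv0] at h'
    simp only [Int.cast_add, Int.cast_mul, Int.cast_pow, Int.cast_sub, Int.cast_neg, Int.cast_sum,
      Int.cast_natCast, Int.cast_ite, Int.cast_zero, Int.cast_one]
    rw [hsumX (fun χ => (a χ : ℂ) ^ 2), Finset.sum_congr rfl (g := fun χ : X => (v0 χ : ℂ) * (v0 χ : ℂ))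
      (fun χ _ => by simp [a, χ.2, sq]), hYc]
    have hd2 : (δ : ℂ) ^ 2 = 1 := by rcases hδ with e | e <;> simp [e]
    push_cast at h'
    linear_combination h' + ((V.card : ℂ) * (c : ℂ) ^ 2 + 2 * c + 1) * hd2
  · intro θ hθ θ' hθ' g hg
    obtain ⟨u, hu, rfl⟩ := hmemY.1 hθ
    obtain ⟨v, hv, rfl⟩ := hmemY.1 hθ'
    have h := hconst hg u hu v hv
    rw [hτconst u hu, hτconst v hv] at h
    exact mul_right_cancel₀ (Int.cast_ne_zero.2 (by rcases hδ with e | e <;> omega)) h
  · intro θ hθ g hg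
    obtain ⟨v, hv, rfl⟩ := hmemY.1 hθ
    have h := hreg hg v hv
    rw [Finset.sum_congr rfl (g := fun _ => ((φ v).1 : G → ℂ) g * ((δ : ℂ) * c)) (fun u hu => by
      have := hconst hg u hu v hv
      rw [hτconst v hv] at this
      rw [← mul_assoc, this, mul_assoc]), Finset.sum_const, nsmul_eq_mul, hτconst v hv] at h
    rw [hsumX (fun χ => (a χ : ℂ) * (χ : G → ℂ) g), Finset.sum_congr rfl
      (g := fun χ : X => -((χ.1 : G → ℂ) g * (v0 χ : ℂ))) (fun χ _ => by simp [a, χ.2]; ring),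
      Finset.sum_neg_distrib, hYc]
    push_cast
    linear_combination -h

end Cfsg.Agent.H86.Abelian
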