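import Mathlib.RingTheory.SimpleModule.Basic
import Mathlib.Algebra.MonoidAlgebra.Module
import Mathlib.LinearAlgebra.FiniteDimensional.Lemmas
import Mathlib.FieldTheory.Finite.Basic
import Mathlib.GroupTheory.GroupAction.Quotient
import Mathlib.GroupTheory.OrderOfElement

/-!
# Fixed points modulo traces for a subgroup of prime order

`P` has order `p` and its normalizer `N` is `P H` with `H` of order prime to `p`.  For a
`k G`-module `V` and a representation `U` of `N` trivial on `P`, the predicate `HasQ` says that `U`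
maps equivariantly into `V`, not entirely into the traces `τ V`.  It is half exact, and a simple
module has this property for at most one simple `U`.
-/

set_option linter.unusedSectionVars false

namespace Cfsg.Agent.H86.TraceQ

open MonoidAlgebra Finset

/-- A subgroup of order `p`, its normalizer and a complement in it. -/
structure Frame (G : Type*) [Group G] (p : ℕ) where
  P : Subgroup G
  H : Subgroup G
  N : Subgroup G
  card_P : Nat.card P = p
  P_le : P ≤ N
  H_le : H ≤ N
  dec : ∀ n ∈ N, ∃ u ∈ P, ∃ h ∈ H, n = u * h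
  conj_mem : ∀ n ∈ N, ∀ u ∈ P, n * u * n⁻¹ ∈ P
  card_H : ¬ p ∣ Nat.card H
  free : ∀ g : G, g ∉ N → ∀ u ∈ P, u ≠ 1 → g⁻¹ * u * g ∉ N

variable {G : Type*} [Group G] [Fintype G] {p : ℕ} [hp : Fact p.Prime]
variable {k : Type*} [Field k] [CharP k p]
variable (L : Frame G p) [Fintype L.P] [Fintype L.H]

theorem exists_factor {U V W : Type*} [AddCommGroup U] [Module k U] [AddCommGroup V] [Module k V]
    [AddCommGroup W] [Module k W] (f : V →ₗ[k] W) (η : U →ₗ[k] W) (h : ∀ x, η x ∈ LinearMap.range f) :
    ∃ ω : U →ₗ[k] V, ∀ x, f (ω x) = η x := by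
  obtain ⟨g, hg⟩ := f.rangeRestrict.exists_rightInverse_of_surjective f.range_rangeRestrict
  exact ⟨g.comp (η.codRestrict _ h), fun x =>
    congrArg Subtype.val (LinearMap.congr_fun hg ⟨η x, h x⟩)⟩

theorem natCast_H_ne_zero : (Nat.card L.H : k) ≠ 0 := fun h =>
  L.card_H ((CharP.cast_eq_zero_iff k p _).1 h)

section Average

variable {A B C : Type*} [AddCommGroup A] [Module k A] [AddCommGroup B] [Module k B]
  [AddCommGroup C] [Module k C]

/-- An element of the complement inside `N`. -/
def inH (h : L.H) : L.N := ⟨h, L.H_le h.2⟩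

/-- Equivariance. -/
def Equi (a : L.N →* Module.End k A) (b : L.N →* Module.End k B) (f : A →ₗ[k] B) : Prop :=
  ∀ n x, b n (f x) = f (a n x)

/-- The average over the complement. -/
noncomputable def avg (a : L.N →* Module.End k A) (b : L.N →* Module.End k B) (f : A →ₗ[k] B) :
    A →ₗ[k] B :=
  (Nat.card L.H : k)⁻¹ • ∑ h : L.H, (b (inH L h)).comp (f.comp (a (inH L h)⁻¹))

theorem avg_apply (a : L.N →* Module.End k A) (b : L.N →* Module.End k B) (f : A →ₗ[k] B) (x : A) :
    avg L a b f x = (Nat.card L.H : k)⁻¹ • ∑ h : L.H, b (inH L h) (f (a (inH L h)⁻¹ x)) := by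
  simp [avg]

theorem avg_add (a : L.N →* Module.End k A) (b : L.N →* Module.End k B) (f g : A →ₗ[k] B) :
    avg L a b (f + g) = avg L a b f + avg L a b g := by
  ext x
  simp [avg_apply, sum_add_distrib, smul_add]

theorem avg_comp (a : L.N →* Module.End k A) (b : L.N →* Module.End k B)
    (c : L.N →* Module.End k C) (f : A →ₗ[k] B) {g : B →ₗ[k] C} (hg : Equi L b c g) :
    avg L a c (g.comp f) = g.comp (avg L a b f) := by
  ext x
  simp [avg_apply, map_sum, hg (inH L _)]

theorem avg_eq_self {a : L.N →* Module.End k A} {b : L.N →* Module.End k B} {f : A →ₗ[k] B}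
    (hf : Equi L a b f) : avg L a b f = f := by
  ext x
  have : ∀ h : L.H, b (inH L h) (f (a (inH L h)⁻¹ x)) = f x := fun h => by
    rw [hf, ← Module.End.mul_apply, ← map_mul, mul_inv_cancel, map_one, Module.End.one_apply]
  rw [avg_apply, sum_congr rfl fun h _ => this h, sum_const, card_univ, ← Nat.card_eq_fintype_card,
    ← Nat.cast_smul_eq_nsmul k, smul_smul, inv_mul_cancel₀ (natCast_H_ne_zero L), one_smul]

theorem equi_avg {a : L.N →* Module.End k A} {b : L.N →* Module.End k B} {f : A →ₗ[k] B}
    (hf : ∀ n : L.N, (n : G) ∈ L.P → ∀ x, b n (f x) = f (a n x)) : Equi L a b (avg L a b f) := by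
  intro n x
  obtain ⟨u, hu, h₀, hh₀, hn⟩ := L.dec n n.2
  have hn' : n = ⟨u, L.P_le hu⟩ * inH L ⟨h₀, hh₀⟩ := Subtype.ext hn
  rw [avg_apply, avg_apply, map_smul, map_sum]
  congr 1
  refine Fintype.sum_equiv (Equiv.mulLeft ⟨h₀, hh₀⟩) _ _ fun h => ?_
  set h' : L.H := ⟨h₀, hh₀⟩ * h
  have e1 : n * inH L h = (⟨u, L.P_le hu⟩ : L.N) * inH L h' := by
    rw [hn', mul_assoc]; rfl
  set v : L.N := (inH L h')⁻¹ * ⟨u, L.P_le hu⟩ * inH L h' with hv
  have hvP : (v : G) ∈ L.P := by
    have := L.conj_mem ((inH L h')⁻¹ : L.N) ((inH L h')⁻¹ : L.N).2 u hu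
    simpa [hv, mul_assoc] using this
  have e2 : n * inH L h = inH L h' * v := by
    rw [e1, hv, ← mul_assoc, ← mul_assoc, mul_inv_cancel, one_mul]
  have e3 : v * (inH L h)⁻¹ = (inH L h')⁻¹ * n := by
    rw [eq_inv_mul_iff_mul_eq, ← mul_assoc, ← e2, mul_inv_cancel_right]
  rw [← Module.End.mul_apply (b n), ← map_mul, e2, map_mul, Module.End.mul_apply, hf v hvP,
    ← Module.End.mul_apply (a v), ← map_mul, e3, map_mul, Module.End.mul_apply]
  rfl

end Average

variable {V : Type*} [AddCommGroup V] [Module k V] [Module (MonoidAlgebra k G) V]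
  [IsScalarTower k (MonoidAlgebra k G) V]
variable {W : Type*} [AddCommGroup W] [Module k W] [Module (MonoidAlgebra k G) W]
  [IsScalarTower k (MonoidAlgebra k G) W]

variable (k) in
/-- The action of the group on a module over the group algebra. -/
noncomputable def act (V : Type*) [AddCommGroup V] [Module k V] [Module (MonoidAlgebra k G) V]
    [IsScalarTower k (MonoidAlgebra k G) V] : G →* Module.End k V :=
  (Algebra.lsmul k k V : MonoidAlgebra k G →ₐ[k] Module.End k V).toMonoidHom.comp
    (MonoidAlgebra.of k G)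

theorem act_apply (g : G) (v : V) : act k V g v = single g (1 : k) • v := rfl

theorem act_mul_apply (g h : G) (v : V) : act k V (g * h) v = act k V g (act k V h v) := by
  rw [map_mul]; rfl

theorem act_map (f : V →ₗ[MonoidAlgebra k G] W) (g : G) (v : V) :
    f (act k V g v) = act k W g (f v) := map_smul f _ v

theorem map_smul_scalar (f : V →ₗ[MonoidAlgebra k G] W) (c : k) (v : V) : f (c • v) = c • f v :=
  LinearMap.map_smul_of_tower f c v

variable (k) in
/-- The action of the normalizer. -/
noncomputable def actN (V : Type*) [AddCommGroup V] [Module k V] [Module (MonoidAlgebra k G) V]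
    [IsScalarTower k (MonoidAlgebra k G) V] : L.N →* Module.End k V := (act k V).comp L.N.subtype

theorem actN_apply (n : L.N) (v : V) : actN k L V n v = act k V (n : G) v := rfl

variable (k) in
/-- The trace of `P`. -/
noncomputable def tau (V : Type*) [AddCommGroup V] [Module k V] [Module (MonoidAlgebra k G) V]
    [IsScalarTower k (MonoidAlgebra k G) V] : Module.End k V := ∑ u : L.P, act k V (u : G)

theorem tau_apply (v : V) : tau k L V v = ∑ u : L.P, act k V (u : G) v := by simp [tau]

theorem tau_map (f : V →ₗ[MonoidAlgebra k G] W) (v : V) : f (tau k L V v) = tau k L W (f v) := by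
  simp [tau_apply, act_map]

theorem act_tau {u : G} (hu : u ∈ L.P) (v : V) : act k V u (tau k L V v) = tau k L V v := by
  rw [tau_apply, map_sum]
  exact Fintype.sum_equiv (Equiv.mulLeft ⟨u, hu⟩) _ _ fun w => (act_mul_apply u w v).symm

theorem equi_tau : Equi L (actN k L V) (actN k L V) (tau k L V) := by
  intro n v
  simp only [actN_apply, tau_apply, map_sum]
  refine Fintype.sum_bijective (fun w : L.P => (⟨(n : G) * w * (n : G)⁻¹, L.conj_mem n n.2 w w.2⟩ : L.P))
    (Finite.injective_iff_bijective.1 fun a b h => ?_) _ _ fun w => ?_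
  · have := congrArg Subtype.val h
    exact Subtype.ext (by simpa using this)
  · rw [← act_mul_apply, ← act_mul_apply, inv_mul_cancel_right]

variable {U : Type*} [AddCommGroup U] [Module k U]
variable {U' : Type*} [AddCommGroup U'] [Module k U']

variable (V) in
/-- `U` maps equivariantly into `V` and not into the traces. -/
def HasQ (σ : L.N →* Module.End k U) : Prop :=
  ∃ η : U →ₗ[k] V, Equi L σ (actN k L V) η ∧ ∃ x, η x ∉ LinearMap.range (tau k L V)

theorem HasQ.fixed {σ : L.N →* Module.End k U} (hσ : ∀ n : L.N, (n : G) ∈ L.P → σ n = 1)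
    {η : U →ₗ[k] V} (hη : Equi L σ (actN k L V) η) {u : G} (hu : u ∈ L.P) (x : U) :
    act k V u (η x) = η x := by
  have := hη ⟨u, L.P_le hu⟩ x
  rwa [hσ _ hu, Module.End.one_apply] at this

theorem HasQ.map {σ : L.N →* Module.End k U} (h : HasQ L V σ)
    (e : V ≃ₗ[MonoidAlgebra k G] W) : HasQ L W σ := by
  obtain ⟨η, hη, x, hx⟩ := h
  refine ⟨(e.toLinearMap.restrictScalars k).comp η, fun n y => ?_, x, ?_⟩
  · show act k W (n : G) (e.toLinearMap (η y)) = e.toLinearMap (η (σ n y))
    rw [← act_map, ← hη]; rfl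
  · rintro ⟨w, hw⟩
    refine hx ⟨e.symm w, ?_⟩
    have h' := tau_map L e.symm.toLinearMap w
    rw [hw] at h'
    simpa using h'.symm

/-- Half exactness. -/
theorem HasQ.quotient {σ : L.N →* Module.End k U} (hσ : ∀ n : L.N, (n : G) ∈ L.P → σ n = 1)
    (h : HasQ L V σ) (A : Submodule (MonoidAlgebra k G) V) (hA : ¬ HasQ L A σ) :
    HasQ L (V ⧸ A) σ := by
  obtain ⟨η, hη, x, hx⟩ := h
  let q : V →ₗ[k] (V ⧸ A) := A.mkQ.restrictScalars k
  let i : A →ₗ[k] V := A.subtype.restrictScalars k
  refine ⟨q.comp η, fun n y => ?_, ?_⟩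
  · show act k (V ⧸ A) (n : G) (A.mkQ (η y)) = A.mkQ (η (σ n y))
    rw [← act_map, ← hη]; rfl
  by_contra hno
  push Not at hno
  obtain ⟨ω, hω⟩ := exists_factor ((tau k L V).coprod i) η fun y => by
    obtain ⟨w, hw⟩ := hno y
    obtain ⟨w, rfl⟩ := A.mkQ_surjective w
    rw [← tau_map] at hw
    have hw' : A.mkQ (η y - tau k L V w) = 0 := by rw [map_sub, hw]; exact sub_self _
    rw [Submodule.mkQ_apply, Submodule.Quotient.mk_eq_zero] at hw'
    exact ⟨(w, ⟨_, hw'⟩), by simp [i]⟩
  set w' := (LinearMap.fst k V A).comp ω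
  set α := (LinearMap.snd k V A).comp ω
  have hη' : η = (tau k L V).comp w' + i.comp α := by
    ext y; simp [w', α, ← hω y]
  have hi : Equi L (actN k L A) (actN k L V) i := fun n a => (act_map A.subtype _ a).symm
  have hα : ∀ n : L.N, (n : G) ∈ L.P → ∀ y, actN k L A n (α y) = α (σ n y) := by
    intro n hn y
    apply Subtype.ext
    have h1 : i (α y) = η y - tau k L V (w' y) := by simp [hη']
    show i (actN k L A n (α y)) = i (α (σ n y))
    rw [← hi, h1, hσ n hn, Module.End.one_apply, h1, map_sub, actN_apply, actN_apply, act_tau L hn,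
      HasQ.fixed L hσ hη hn]
  have hdec : η = (tau k L V).comp (avg L σ (actN k L V) w') + i.comp (avg L σ (actN k L A) α) := by
    conv_lhs => rw [← avg_eq_self L hη, hη']
    rw [avg_add, avg_comp L σ (actN k L V) _ w' (equi_tau L), avg_comp L σ (actN k L A) _ α hi]
  have hαQ : ∀ y, avg L σ (actN k L A) α y ∈ LinearMap.range (tau k L A) := by
    by_contra hne
    push Not at hne
    exact hA ⟨_, equi_avg L hα, hne⟩
  obtain ⟨a, ha⟩ := hαQ x
  refine hx ⟨avg L σ (actN k L V) w' x + i a, ?_⟩
  rw [map_add, show tau k L V (i a) = i (tau k L A a) from (tau_map L A.subtype a).symm, ha]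
  conv_rhs => rw [hdec]
  rfl

/-- A simple quotient of a submodule having the property. -/
theorem exists_simple [Module.Finite k V] {σ : L.N →* Module.End k U}
    (hσ : ∀ n : L.N, (n : G) ∈ L.P → σ n = 1) (h : HasQ L V σ) :
    ∃ (W : Submodule (MonoidAlgebra k G) V) (A : Submodule (MonoidAlgebra k G) W),
      IsSimpleModule (MonoidAlgebra k G) (W ⧸ A) ∧ HasQ L (W ⧸ A) σ := by
  classical
  haveI : IsNoetherian k V := inferInstance
  have hfin : ∀ W : Submodule (MonoidAlgebra k G) V, Module.Finite k W := fun W =>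
    Module.Finite.of_injective (W.subtype.restrictScalars k) W.subtype_injective
  have htop : HasQ L (⊤ : Submodule (MonoidAlgebra k G) V) σ := h.map L Submodule.topEquiv.symm
  have hex : ∃ m, ∃ W : Submodule (MonoidAlgebra k G) V, Module.finrank k W = m ∧ HasQ L W σ :=
    ⟨_, ⊤, rfl, htop⟩
  obtain ⟨W, hW, hWQ⟩ := Nat.find_spec hex
  haveI := hfin W
  haveI : Module.Finite (MonoidAlgebra k G) W := Module.Finite.of_restrictScalars_finite k _ _
  obtain hbot | ⟨A, hA, -⟩ := eq_top_or_exists_le_coatom (⊥ : Submodule (MonoidAlgebra k G) W)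
  · exfalso
    obtain ⟨η, -, x, hx⟩ := hWQ
    refine hx ?_
    have : η x ∈ (⊥ : Submodule (MonoidAlgebra k G) W) := hbot ▸ Submodule.mem_top
    rw [Submodule.mem_bot] at this
    rw [this]
    exact zero_mem _
  refine ⟨W, A, isSimpleModule_iff_isCoatom.2 hA, hWQ.quotient L hσ A fun hAQ => ?_⟩
  let A' : Submodule (MonoidAlgebra k G) V := A.map W.subtype
  have hA'Q : HasQ L A' σ := hAQ.map L (Submodule.equivMapOfInjective _ W.subtype_injective A)
  have hlt : Module.finrank k A' < Module.finrank k W := by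
    have e1 : Module.finrank k A' = Module.finrank k A :=
      (LinearEquiv.finrank_eq
        ((Submodule.equivMapOfInjective _ W.subtype_injective A).restrictScalars k)).symm
    have e2 : A.restrictScalars k < ⊤ :=
      lt_of_le_of_ne le_top fun e => hA.1 (Submodule.restrictScalars_injective k _ _ e)
    have e3 := Submodule.finrank_lt e2.ne
    rw [e1]
    exact e3
  exact Nat.find_min hex (hW ▸ hlt) ⟨A', rfl, hA'Q⟩

end Cfsg.Agent.H86.TraceQ
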