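import Cfsg.Agent.BlockBasic.PPart
import Cfsg.Agent.H86.TraceQuotient
import Mathlib.RepresentationTheory.AlgebraRepresentation.Basic
import Mathlib.LinearAlgebra.Trace
import Mathlib.LinearAlgebra.Pi

/-!
# Trace functions of simple modules over the group algebra
-/

set_option linter.unusedSectionVars false

namespace Cfsg.Agent.H86.SimpleTr

open MonoidAlgebra BlockBasic TraceQ

variable {G : Type*} [Group G] [Finite G] {p : ℕ} [hp : Fact p.Prime]
variable {k : Type*} [Field k]

/-- The trace function of a module. -/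
noncomputable def trFun (k : Type*) [Field k] (S : Type*) [AddCommGroup S] [Module k S]
    [Module (MonoidAlgebra k G) S] [IsScalarTower k (MonoidAlgebra k G) S] (g : G) : k :=
  LinearMap.trace k S (act k S g)

theorem trFun_conj {S : Type*} [AddCommGroup S] [Module k S] [Module (MonoidAlgebra k G) S]
    [IsScalarTower k (MonoidAlgebra k G) S] (g x : G) : trFun k S (x * g * x⁻¹) = trFun k S g := by
  rw [trFun, trFun, map_mul (act k S), map_mul (act k S), LinearMap.trace_mul_comm, ← mul_assoc, ← map_mul (act k S),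
    inv_mul_cancel, map_one, one_mul]

theorem trFun_eq_pReg [CharP k p] {S : Type*} [AddCommGroup S] [Module k S] [Module.Finite k S]
    [Module (MonoidAlgebra k G) S] [IsScalarTower k (MonoidAlgebra k G) S] (g : G) :
    trFun k S g = trFun k S (pReg (p := p) g) := by
  obtain ⟨n, hn⟩ := exists_orderOf_pPart (p := p) g
  set x := pPart (p := p) g
  set y := pReg (p := p) g
  have hg : g = x * y := (pPart_mul_pReg g).symm
  set ε : MonoidAlgebra k G := MonoidAlgebra.of k G x - 1
  have hnil : IsNilpotent ε := by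
    refine ⟨p ^ n, ?_⟩
    have h : ((Polynomial.X : Polynomial k) - 1) ^ p ^ n = Polynomial.X ^ p ^ n - 1 := by
      rw [sub_pow_char_pow, one_pow]
    have h' := congrArg (Polynomial.aeval (MonoidAlgebra.of k G x)) h
    simp only [map_pow, map_sub, Polynomial.aeval_X, map_one] at h'
    rw [show ε = MonoidAlgebra.of k G x - 1 from rfl, h', ← map_pow, ← hn, pow_orderOf_eq_one,
      map_one, sub_self]
  have hc : Commute ε (MonoidAlgebra.of k G y) :=
    ((commute_pPart_pReg g).map (MonoidAlgebra.of k G)).sub_left (Commute.one_left _)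
  let Λ : MonoidAlgebra k G →ₐ[k] Module.End k S := Algebra.lsmul k k S
  have h0 : LinearMap.trace k S (Λ (ε * MonoidAlgebra.of k G y)) = 0 :=
    (LinearMap.isNilpotent_trace_of_isNilpotent
      ((Commute.isNilpotent_mul_right hc hnil).map Λ)).eq_zero
  rw [show ε * MonoidAlgebra.of k G y = MonoidAlgebra.of k G g - MonoidAlgebra.of k G y by
    rw [sub_mul, one_mul, ← map_mul, ← hg], map_sub, map_sub] at h0
  exact sub_eq_zero.1 h0

variable [IsAlgClosed k]

/-- The trace functions of pairwise non-isomorphic simple modules are independent. -/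
theorem linearIndependent_trFun {ι : Type*} [Fintype ι] (S : ι → Type*) [∀ i, AddCommGroup (S i)]
    [∀ i, Module k (S i)] [∀ i, Module (MonoidAlgebra k G) (S i)]
    [∀ i, IsScalarTower k (MonoidAlgebra k G) (S i)] [∀ i, IsSimpleModule (MonoidAlgebra k G) (S i)]
    [∀ i, Module.Finite k (S i)]
    (hne : ∀ i j, i ≠ j → IsEmpty (S i ≃ₗ[MonoidAlgebra k G] S j)) :
    LinearIndependent k fun (i : ι) (g : G) => trFun k (S i) g := by
  classical
  rw [Fintype.linearIndependent_iff]
  intro c hc i₀
  let A := MonoidAlgebra k G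
  haveI : Nontrivial (S i₀) := IsSimpleModule.nontrivial A (S i₀)
  obtain ⟨v, hv⟩ := exists_ne (0 : S i₀)
  obtain ⟨φ, hφ⟩ : ∃ φ : S i₀ →ₗ[k] k, φ v = 1 :=
    Module.Projective.exists_dual_eq_one k hv
  let f₀ : Module.End k (S i₀) := φ.smulRight v
  let M := ∀ i, S i
  have hend : ∀ (ψ : Module.End A M), ∃ t : k, ∀ w : S i₀,
      ψ (Pi.single i₀ w) = Pi.single i₀ (t • w) ∧ ∀ m : M, ψ m i₀ = t • m i₀ := by
    intro ψ
    obtain ⟨t, ht⟩ := (IsSimpleModule.algebraMap_end_bijective_of_isAlgClosed k (A := A)
      (V := S i₀)).2 ((LinearMap.proj i₀).comp (ψ.comp (LinearMap.single A S i₀)))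
    have hblock : ∀ (i j : ι), i ≠ j → ∀ w, ψ (Pi.single i w) j = 0 := by
      intro i j hij w
      by_contra hw
      have hne0 : (LinearMap.proj j).comp (ψ.comp (LinearMap.single A S i)) ≠ 0 :=
        fun h => hw (LinearMap.congr_fun h w)
      exact (hne i j hij).false (LinearEquiv.ofBijective _ (LinearMap.bijective_of_ne_zero hne0))
    have hdiag : ∀ w, ψ (Pi.single i₀ w) i₀ = t • w := fun w => (LinearMap.congr_fun ht w).symm
    refine ⟨t, fun w => ⟨funext fun j => ?_, fun m => ?_⟩⟩
    · by_cases hj : j = i₀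
      · subst hj; rw [hdiag, Pi.single_eq_same]
      · rw [hblock i₀ j (Ne.symm hj), Pi.single_eq_of_ne hj]
    · conv_lhs => rw [← Finset.univ_sum_single m]
      rw [map_sum, Finset.sum_apply, Finset.sum_eq_single i₀ (fun j _ hj => hblock j i₀ hj _)
        (fun h => absurd (Finset.mem_univ _) h), hdiag]
  let f : Module.End (Module.End A M) M :=
    { toFun := fun m => Pi.single i₀ (f₀ (m i₀))
      map_add' := fun m m' => by rw [Pi.add_apply, map_add, Pi.single_add]
      map_smul' := fun ψ m => by
        obtain ⟨t, ht⟩ := hend ψ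
        simp only [Module.End.smul_def, RingHom.id_apply]
        rw [(ht (f₀ (m i₀))).2 m, map_smul, (ht _).1] }
  haveI : Module.Finite k M := Module.Finite.pi
  obtain ⟨s, hs⟩ := Module.Finite.fg_top (R := k) (M := M)
  obtain ⟨a, ha⟩ := jacobson_density f s
  have ha' : ∀ m : M, Pi.single i₀ (f₀ (m i₀)) = a • m := by
    intro m
    induction hs.ge (trivial : m ∈ ⊤) using Submodule.span_induction with
    | mem m hm => exact ha m hm
    | zero => show Pi.single i₀ (f₀ 0) = a • (0 : M); rw [map_zero, Pi.single_zero, smul_zero]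
    | add x y _ _ hx hy => rw [Pi.add_apply, map_add, Pi.single_add, hx, hy, smul_add]
    | smul r x _ hx => rw [Pi.smul_apply, map_smul, Pi.single_smul, hx, smul_comm]
  let Λ : ∀ i, A →ₐ[k] Module.End k (S i) := fun i => Algebra.lsmul k k (S i)
  have hΛ : ∀ i, Λ i a = if h : i = i₀ then h ▸ f₀ else 0 := by
    intro i
    ext w
    have h := congrFun (ha' (Pi.single i w)) i
    rw [Pi.smul_apply, Pi.single_eq_same] at h
    show a • w = _
    rw [← h]
    by_cases hi : i = i₀
    · subst hi; rw [dif_pos rfl, Pi.single_eq_same, Pi.single_eq_same]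
    · rw [dif_neg hi, Pi.single_eq_of_ne hi]; rfl
  have hlin : ∀ b : A, ∑ i, c i * LinearMap.trace k (S i) (Λ i b) = 0 := by
    intro b
    induction b using MonoidAlgebra.induction_linear with
    | zero => simp
    | add x y hx hy => simp [mul_add, Finset.sum_add_distrib, hx, hy]
    | single g r =>
      have h := congrFun hc g
      simp only [Finset.sum_apply, Pi.smul_apply, smul_eq_mul, Pi.zero_apply] at h
      have e : ∀ i, LinearMap.trace k (S i) (Λ i (single g r)) = r * trFun k (S i) g := fun i => by
        rw [show single g r = r • single g (1 : k) by simp, map_smul, map_smul, smul_eq_mul]; rfl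
      simp only [e, ← mul_assoc, mul_comm _ r]
      simp only [mul_assoc, ← Finset.mul_sum, h, mul_zero]
  have h := hlin a
  rw [Finset.sum_eq_single i₀ (fun i _ hi => by rw [hΛ, dif_neg hi]; simp)
    (fun h => absurd (Finset.mem_univ _) h), hΛ, dif_pos rfl, LinearMap.trace_smulRight, hφ,
    mul_one] at h
  exact h

end Cfsg.Agent.H86.SimpleTr
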