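import Cfsg.Agent.H86.TraceUnique
import Cfsg.Agent.H86.SimpleTraces

/-!
# Trace functions attached to linear characters of the normalizer

Each linear character of `N` trivial on the centralizer of `P` gives a simple module; these are
pairwise non-isomorphic, and a central idempotent summing to `1` on the centralizer fixes them.
-/

set_option linter.unusedSectionVars false

namespace Cfsg.Agent.H86.TraceQ

open MonoidAlgebra BlockBasic SimpleTr

universe u v w

variable {G : Type u} [Group G] [Fintype G] {p : ℕ} [hp : Fact p.Prime]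
variable {k : Type v} [Field k] [CharP k p]

theorem le_centralizer_self (L : Frame G p) : L.P ≤ Subgroup.centralizer (L.P : Set G) :=
  fun x hx => Subgroup.mem_centralizer_iff.2 fun y hy => by
    have : IsCyclic L.P := isCyclic_of_prime_card (p := p) L.card_P
    have := IsCyclic.isMulCommutative (α := L.P)
    exact congrArg Subtype.val (mul_comm' (⟨y, hy⟩ : L.P) ⟨x, hx⟩)

theorem exists_module_hasQ (L : Frame G p) [Fintype L.P] [Fintype L.H] [Fintype L.N] (ν : L.N →* k)
    (hν : ∀ n : L.N, (n : G) ∈ L.P → ν n = 1) :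
    ∃ V : Submodule (MonoidAlgebra k G) (MonoidAlgebra k G),
      HasQ L V ((algebraMap k (Module.End k k)).toMonoidHom.comp ν) := by
  classical
  let E : MonoidAlgebra k G := ∑ n : L.N, single (n : G) (ν n⁻¹)
  have hE1 : E.coeff 1 = 1 := by
    show (∑ n : L.N, single (n : G) (ν n⁻¹)).coeff 1 = 1
    simp only [coeff_sum, Finsupp.finsetSum_apply, coeff_single, Finsupp.single_apply]
    rw [Finset.sum_eq_single 1 (fun n _ hn => if_neg (by simpa using fun h => hn (Subtype.ext h)))
      (fun h => absurd (Finset.mem_univ _) h)]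
    simp
  have hEl : ∀ m : L.N, single (m : G) (1 : k) * E = ν m • E := by
    intro m
    simp only [E, Finset.mul_sum, Finset.smul_sum, single_mul_single, one_mul, smul_single,
      smul_eq_mul]
    refine Fintype.sum_equiv (Equiv.mulLeft m) _ _ fun n => ?_
    simp only [Equiv.coe_mulLeft, Subgroup.coe_mul, mul_inv_rev, map_mul]
    rw [mul_left_comm, ← map_mul, mul_inv_cancel, map_one, mul_one]
  have hEr : ∀ u : L.P, E * single (u : G) (1 : k) = E := by
    intro u
    simp only [E, Finset.sum_mul, single_mul_single, mul_one]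
    refine Fintype.sum_equiv (Equiv.mulRight (⟨u, L.P_le u.2⟩ : L.N)) _ _ fun n => ?_
    simp only [Equiv.coe_mulRight, Subgroup.coe_mul, mul_inv_rev, map_mul]
    rw [hν (⟨(u : G), L.P_le u.2⟩ : L.N)⁻¹ (inv_mem u.2), one_mul]
  let v₀ : Submodule.span (MonoidAlgebra k G) ({E} : Set (MonoidAlgebra k G)) :=
    ⟨E, Submodule.mem_span_singleton_self _⟩
  refine ⟨_, LinearMap.toSpanSingleton k _ v₀, fun n x => ?_, 1, ?_⟩
  · refine Subtype.ext ?_
    show single (n : G) (1 : k) * (x • E) = ((algebraMap k (Module.End k k) (ν n)) x) • E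
    rw [mul_smul_comm, hEl, smul_smul, Module.algebraMap_end_apply, smul_eq_mul, mul_comm]
  · rintro ⟨w, hw⟩
    have h : (∑ u : L.P, single (u : G) (1 : k) * (w : MonoidAlgebra k G)) = (1 : k) • E := by
      have := congrArg Subtype.val hw
      rw [tau_apply, AddSubmonoidClass.coe_finsetSum] at this
      exact this
    obtain ⟨a, ha⟩ := Submodule.mem_span_singleton.1 w.2
    have hconst : ∀ u : L.P, (single (u : G) (1 : k) * (w : MonoidAlgebra k G)).coeff 1 =
        (w : MonoidAlgebra k G).coeff 1 := by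
      intro u
      have h1 : (w : MonoidAlgebra k G) * single (u : G) (1 : k) = (w : MonoidAlgebra k G) := by
        rw [← ha, smul_eq_mul, mul_assoc, hEr]
      have h2 := congrArg (fun z : MonoidAlgebra k G => z.coeff 1) h1
      simp only [coeff_mul_single_apply, coeff_single_mul_apply, one_mul, mul_one] at h2 ⊢
      exact h2
    have h' := congrArg (fun z : MonoidAlgebra k G => z.coeff 1) h
    simp only [coeff_sum, Finsupp.finsetSum_apply, one_smul, hE1] at h'
    rw [Finset.sum_congr rfl fun u _ => hconst u, Finset.sum_const, Finset.card_univ,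
      ← Nat.card_eq_fintype_card, L.card_P, nsmul_eq_mul, CharP.cast_eq_zero, zero_mul] at h'
    exact zero_ne_one h'

theorem exists_traces_of_modules [IsAlgClosed k] (L : Frame G p) {ι : Type*} [Fintype ι] (ν : ι → (L.N →* k))
    (hinj : Function.Injective ν)
    (hν : ∀ i (n : L.N), (n : G) ∈ Subgroup.centralizer (L.P : Set G) → ν i n = 1)
    (hCN : Subgroup.centralizer (L.P : Set G) ≤ L.N) [Fintype (Subgroup.centralizer (L.P : Set G))]
    {c : MonoidAlgebra k G} (hcc : c * c = c) (hcomm : ∀ x, c * x = x * c)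
    (V : ι → Type w) [∀ i, AddCommGroup (V i)] [∀ i, Module k (V i)]
    [∀ i, Module (MonoidAlgebra k G) (V i)] [∀ i, IsScalarTower k (MonoidAlgebra k G) (V i)]
    [∀ i, Module.Finite k (V i)] [Fintype L.P] [Fintype L.H]
    (hQ : ∀ i, HasQ L (V i) ((algebraMap k (Module.End k k)).toMonoidHom.comp (ν i)))
    (hsum : ∑ x : Subgroup.centralizer (L.P : Set G), c.coeff (x : G) = 1) :
    ∃ t : ι → G → k, (∀ i g x, t i (x * g * x⁻¹) = t i g) ∧
      LinearIndependent k (fun i (g : {g : G // ¬ p ∣ orderOf g}) => t i g) ∧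
      ∀ i g, ∑ y, (c * single g 1).coeff y * t i y = t i g := by
  classical
  letI : Fintype L.N := Fintype.ofFinite _
  have hPC := le_centralizer_self L
  let σ : ι → (L.N →* Module.End k k) := fun i =>
    (algebraMap k (Module.End k k)).toMonoidHom.comp (ν i)
  have hσval : ∀ i n (x : k), σ i n x = ν i n * x := fun i n x => by simp [σ]
  have hσP : ∀ i (n : L.N), (n : G) ∈ L.P → σ i n = 1 := fun i n hn => by
    ext; simp [σ, hν i n (hPC hn)]
  choose W A0 hsimp hSQ using fun i => exists_simple L (hσP i) (hQ i)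
  let S : ι → Type w := fun i => W i ⧸ A0 i
  haveI hfin : ∀ i, Module.Finite k (S i) := fun i => by
    haveI : Module.Finite k (W i) :=
      Module.Finite.of_injective ((W i).subtype.restrictScalars k) (W i).subtype_injective
    exact Module.Finite.of_surjective ((A0 i).mkQ.restrictScalars k) (A0 i).mkQ_surjective
  have hne : ∀ i j, i ≠ j → IsEmpty (S i ≃ₗ[MonoidAlgebra k G] S j) := by
    refine fun i j hij => ⟨fun f => ?_⟩
    haveI := hsimp j
    obtain ⟨φ, hφ0, hφ⟩ := hom_ne_zero_of_hasQ L (hσP j) (fun U _ => eq_bot_or_eq_top U) (hσP i)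
      (hSQ j) ((hSQ i).map L f)
    refine hij (hinj (MonoidHom.ext fun n => ?_))
    have h := hφ n 1
    rw [hσval, hσval, mul_one] at h
    have h1 : φ 1 ≠ 0 := fun h0 => hφ0 (LinearMap.ext_ring h0)
    have h2 : φ (ν i n) = ν i n * φ 1 := by
      rw [← smul_eq_mul, ← map_smul, smul_eq_mul, mul_one]
    rw [h2] at h
    exact (mul_right_cancel₀ h1 h).symm
  let C := Finset.univ.filter fun n : L.N => (n : G) ∈ Subgroup.centralizer (L.P : Set G)
  have hC : ∀ g : G, (∀ u ∈ L.P, u * g * u⁻¹ = g) ↔ ∃ n ∈ C, (n : G) = g := by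
    intro g
    constructor
    · intro h
      have hg : g ∈ Subgroup.centralizer (L.P : Set G) :=
        Subgroup.mem_centralizer_iff.2 fun u hu => mul_inv_eq_iff_eq_mul.1 (h u hu)
      exact ⟨⟨g, hCN hg⟩, Finset.mem_filter.2 ⟨Finset.mem_univ _, hg⟩, rfl⟩
    · rintro ⟨n, hn, rfl⟩ u hu
      exact mul_inv_eq_iff_eq_mul.2
        (Subgroup.mem_centralizer_iff.1 (Finset.mem_filter.1 hn).2 u hu)
  have hsumC : ∑ n ∈ C, c.coeff (n : G) = 1 := by
    rw [← hsum]
    refine Finset.sum_bij (fun n hn => (⟨(n : G), (Finset.mem_filter.1 hn).2⟩ :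
      Subgroup.centralizer (L.P : Set G))) (fun _ _ => Finset.mem_univ _) ?_ ?_ fun _ _ => rfl
    · intro a _ b _ h
      exact Subtype.ext (congrArg (fun z : Subgroup.centralizer (L.P : Set G) => (z : G)) h)
    · intro b _
      exact ⟨⟨b, hCN b.2⟩, Finset.mem_filter.2 ⟨Finset.mem_univ _, b.2⟩, rfl⟩
  have hact : ∀ i (v : S i), c • v = v := by
    intro i v
    haveI := hsimp i
    refine smul_eq_self_of_hasQ L (hσP i) (hSQ i) hcc hcomm C hC ?_ v
    refine Eq.trans (Finset.sum_congr rfl fun n hn => ?_)
      ((Finset.sum_smul (s := C) (f := fun n : L.N => c.coeff (n : G)) (x := (1 : Module.End k k))).symm.trans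
        (by rw [hsumC, one_smul]))
    congr 1
    ext
    simp [σ, hν i n (Finset.mem_filter.1 hn).2]
  refine ⟨fun i g => trFun k (S i) g, fun i g x => trFun_conj g x, ?_, fun i g => ?_⟩
  · haveI := hsimp
    have hall := linearIndependent_trFun (G := G) (k := k) S hne
    rw [Fintype.linearIndependent_iff] at hall ⊢
    intro a ha
    refine hall a (funext fun g => ?_)
    have h := congrFun ha ⟨pReg (p := p) g, not_dvd_orderOf_pReg g⟩
    simp only [Finset.sum_apply, Pi.smul_apply, Pi.zero_apply] at h ⊢
    simp only [← trFun_eq_pReg (p := p)] at h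
    exact h
  · let Λ : MonoidAlgebra k G →ₐ[k] Module.End k (S i) := Algebra.lsmul k k (S i)
    have hΛ : trFun k (S i) g = LinearMap.trace k (S i) (Λ (c * single g 1)) := by
      have : Λ c = 1 := LinearMap.ext fun v => hact i v
      rw [map_mul, this, one_mul]; rfl
    show ∑ y, _ * trFun k (S i) y = trFun k (S i) g
    rw [hΛ]
    conv_rhs => rw [← (MonoidAlgebra.basis G k).sum_repr (c * single g 1)]
    rw [map_sum, map_sum]
    refine Finset.sum_congr rfl fun y _ => ?_
    rw [map_smul, map_smul, MonoidAlgebra.basis_apply, smul_eq_mul]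
    rfl

/-- Independent class functions on the regular elements fixed by a central idempotent. -/
theorem exists_traces [IsAlgClosed k] (L : Frame G p) {ι : Type*} [Fintype ι] (ν : ι → (L.N →* k))
    (hinj : Function.Injective ν)
    (hν : ∀ i (n : L.N), (n : G) ∈ Subgroup.centralizer (L.P : Set G) → ν i n = 1)
    (hCN : Subgroup.centralizer (L.P : Set G) ≤ L.N) [Fintype (Subgroup.centralizer (L.P : Set G))]
    {c : MonoidAlgebra k G} (hcc : c * c = c) (hcomm : ∀ x, c * x = x * c)
    (hsum : ∑ x : Subgroup.centralizer (L.P : Set G), c.coeff (x : G) = 1) :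
    ∃ t : ι → G → k, (∀ i g x, t i (x * g * x⁻¹) = t i g) ∧
      LinearIndependent k (fun i (g : {g : G // ¬ p ∣ orderOf g}) => t i g) ∧
      ∀ i g, ∑ y, (c * single g 1).coeff y * t i y = t i g := by
  classical
  haveI : Module.Finite k (MonoidAlgebra k G) := Module.Finite.of_basis (MonoidAlgebra.basis G k)
  letI : Fintype L.P := Fintype.ofFinite _
  letI : Fintype L.H := Fintype.ofFinite _
  letI : Fintype L.N := Fintype.ofFinite _
  choose V hQ using fun i =>
    exists_module_hasQ L (ν i) fun n hn => hν i n (le_centralizer_self L hn)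
  haveI : ∀ i, Module.Finite k (V i) := fun i =>
    Module.Finite.of_injective ((V i).subtype.restrictScalars k) (V i).subtype_injective
  exact exists_traces_of_modules L ν hinj hν hCN hcc hcomm (fun i => ↥(V i)) hQ hsum

end Cfsg.Agent.H86.TraceQ
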