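import Cfsg.Agent.H86.PrimeOrderFrame
import Cfsg.Agent.H86.FrameTraces
import Cfsg.Agent.H86.AbelianExceptional
import Cfsg.Agent.H83.BlockAlgebra
import Cfsg.Agent.H82.BrauerMap

/-!
# The principal block of a group with a Sylow subgroup of prime order is large

The principal block has at least `e` independent restrictions to the regular elements.
-/

set_option linter.unusedSectionVars false

namespace Cfsg.Agent.H86.PrimeOrder

open MonoidAlgebra BlockBasic H83.BlockAlgebra CharBasic

universe u

variable {G : Type u} [Group G] [Fintype G] {p : ℕ} [hp : Fact p.Prime] {M : Ideal AlgInt}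

theorem charP_residue (hM : IsPModular p M) : CharP (Residue hM) p := by
  refine (CharP.charP_iff_prime_eq_zero hp.out).2 ?_
  have h : ((p : AlgInt) : AlgInt) ∈ M := hM.2.2
  rw [← map_natCast (toResidue hM), toResidue_apply, res_eq_zero_iff hM (memLocalRing_coe hM _)]
  exact ⟨_, 1, h, one_not_mem hM, by simp⟩

theorem red_blockElem_comm (hM : IsPModular p M) {B : Set (IrrCharacter G)} (hB : IsPBlock M B)
    (x : MonoidAlgebra (Residue hM) G) :
    red hM (blockElem B) * x = x * red hM (blockElem B) := by
  have hei := isIntElt_blockElem hM hB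
  induction x using MonoidAlgebra.induction_linear with
  | zero => simp
  | add a b ha hb => rw [mul_add, add_mul, ha, hb]
  | single a r =>
    have hs := isIntElt_single (M := M) hM a (locRing hM).one_mem
    rw [show single a r = r • single a (1 : Residue hM) by simp,
      mul_smul_comm, smul_mul_assoc, ← red_single hM, ← red_mul hM hei hs, ← red_mul hM hs hei,
      isCentralElt_comm (isCentralElt_blockElem _)]

/-- Reduced trace functions fixed by a block bound its regular rank. -/
theorem card_le_finrank_regular (hM : IsPModular p M) {B : Set (IrrCharacter G)} (hB : IsPBlock M B)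
    {ι : Type*} [Fintype ι] (t : ι → G → Residue hM) (hcl : ∀ i g x, t i (x * g * x⁻¹) = t i g)
    (hti : LinearIndependent (Residue hM) fun i (g : {g : G // ¬ p ∣ orderOf g}) => t i g)
    (hfix : ∀ i g, ∑ y, (red hM (blockElem B) * single g 1).coeff y * t i y = t i g) :
    Fintype.card ι ≤ Module.finrank ℂ (Submodule.span ℂ (Set.range
      fun (χ : {χ : IrrCharacter G // χ ∈ B}) (g : {g : G // ¬ p ∣ orderOf g}) =>
        (χ.1 : G → ℂ) g)) := by
  classical
  have hei := isIntElt_blockElem hM hB
  choose f hf hfi hfr using fun i => exists_lift hM (c := t i) (hcl i)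
  let F : ι → G → ℂ := fun i => blockPart B (f i)
  have hFeq : ∀ i g, F i g = chiLin (f i) (blockElem B * single g 1) :=
    fun i g => Cores.blockPart_eq_chiLin _ (hf i) g
  have hint : ∀ g : G, IsIntElt M (blockElem B * single g 1) := fun g =>
    hei.mul hM (isIntElt_single hM g (locRing hM).one_mem)
  have hFi : ∀ i g, MemLocalRing M (F i g) := fun i g => by
    rw [hFeq]
    exact (locRing hM).sum_mem fun y _ => memLocalRing_mul hM (hint g y) (hfi i y)
  have hFr : ∀ i g, res hM (F i g) = t i g := by
    intro i g
    rw [hFeq, chiLin, res_sum hM _ fun y _ => memLocalRing_mul hM (hint g y) (hfi i y), ← hfix i g,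
      ← red_single hM, ← red_mul hM hei (isIntElt_single hM g (locRing hM).one_mem)]
    refine Finset.sum_congr rfl fun y _ => ?_
    rw [res_mul hM (hint g y) (hfi i y), hfr, coeff_red]
  have hind : LinearIndependent ℂ fun i (g : {g : G // ¬ p ∣ orderOf g}) => F i g :=
    linearIndependent_of_res hM (fun i g => hFi i g) (by
      simpa only [funext fun i => funext fun g : {g : G // ¬ p ∣ orderOf g} => hFr i g] using hti)
  have h1 := finrank_span_eq_card hind
  rw [← h1]
  refine Submodule.finrank_mono (Submodule.span_le.2 ?_)
  rintro _ ⟨i, rfl⟩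
  have hFs : (fun g : {g : G // ¬ p ∣ orderOf g} => F i g) = ∑ χ : IrrCharacter G,
      (if χ ∈ B then classInner (f i) (χ : G → ℂ) else 0) •
        (fun g : {g : G // ¬ p ∣ orderOf g} => (χ : G → ℂ) g) := by
    funext g
    simp only [F, blockPart, Finset.sum_apply]
    simp only [BlockBasic.finsum_mem_eq_sum_ite, Pi.smul_apply, smul_eq_mul, ite_mul, zero_mul]
    refine Finset.sum_congr rfl fun χ _ => ?_
    congr!
  show (fun g : {g : G // ¬ p ∣ orderOf g} => F i g) ∈ _
  rw [hFs]
  refine Submodule.sum_mem _ fun χ _ => ?_
  split_ifs with h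
  · exact Submodule.smul_mem _ _ (Submodule.subset_span ⟨⟨χ, h⟩, rfl⟩)
  · simp

/-- The regular restrictions of the principal block span at least `e` dimensions. -/
theorem exists_independent_regular (hM : IsPModular p M) (P : Sylow p G) (hP : Nat.card P = p) :
    (Subgroup.centralizer ((P : Subgroup G) : Set G)).relIndex
        (Subgroup.normalizer ((P : Subgroup G) : Set G)) ≤
      Module.finrank ℂ (Submodule.span ℂ (Set.range
        fun (χ : {χ : IrrCharacter G // χ ∈ principalBlock M G}) (g : {g : G // ¬ p ∣ orderOf g}) =>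
          (χ.1 : G → ℂ) g)) := by
  classical
  haveI : CharP (Residue hM) p := charP_residue hM
  haveI : IsAlgClosed (Residue hM) := isAlgClosed_residue hM
  obtain ⟨L, hLP, hLN⟩ := TraceQ.exists_frame P hP
  obtain ⟨ν, hνinj, hνC⟩ := TraceQ.exists_homs P hP (Residue hM)
  let toN : L.N →* Subgroup.normalizer ((P : Subgroup G) : Set G) := Subgroup.inclusion hLN.le
  have htoN : Function.Surjective toN := fun n => ⟨⟨n, hLN.ge n.2⟩, Subtype.ext rfl⟩
  have hCN : Subgroup.centralizer (L.P : Set G) ≤ L.N := by
    rw [hLN, hLP]; exact Subgroup.centralizer_le_normalizer _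
  letI : Fintype (Subgroup.centralizer (L.P : Set G)) := Fintype.ofFinite _
  have hB := isPBlock_principalBlock (G := G) M
  have hei := isIntElt_blockElem hM hB
  set b := principalBlock M G with hb
  have hcc : red hM (blockElem b) * red hM (blockElem b) = red hM (blockElem b) := by
    rw [← red_mul hM hei hei, blockElem_idem]
  have hsum : ∑ x : Subgroup.centralizer (L.P : Set G), (red hM (blockElem b)).coeff (x : G) = 1 := by
    have hloc : ∀ x : G, MemLocalRing M (blockCoeff b x) := fun x =>
      memLocalRing_blockCoeff hM hB x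
    have h1 := H82.memLocalIdeal_sum_sub_sum_centralizer hM
      (Q := L.P) (IsPGroup.of_card (n := 1) (by rw [L.card_P, pow_one])) hloc
      fun q _ x => isClassFunction_blockCoeff _ x q
    rw [hb, H82.sum_blockCoeff_principalBlock hM] at h1
    have hlocS : MemLocalRing M (∑ x : Subgroup.centralizer (L.P : Set G), blockCoeff b x) :=
      (locRing hM).sum_mem fun x _ => hloc x
    have h2 := (res_eq_zero_iff hM ((locRing hM).sub_mem (locRing hM).one_mem hlocS)).2 h1
    rw [res_apply hM ((locRing hM).sub_mem (locRing hM).one_mem hlocS)] at h2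
    have h3 : (1 : Residue hM) -
        ∑ x : Subgroup.centralizer (L.P : Set G), res hM (blockCoeff b x) = 0 := by
      rw [← res_sum hM _ fun (x : Subgroup.centralizer (L.P : Set G)) _ => hloc x, ← res_one hM,
        res_apply hM (locRing hM).one_mem, res_apply hM hlocS, ← map_sub, ← h2]
      rfl
    refine Eq.trans ?_ (sub_eq_zero.1 h3).symm
    simp only [coeff_red, coeff_blockElem]
  obtain ⟨t, hcl, hti, hfix⟩ := TraceQ.exists_traces L (fun i => (ν i).comp toN)
    (fun i j h => hνinj (MonoidHom.ext fun m => by
      obtain ⟨n, rfl⟩ := htoN m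
      exact DFunLike.congr_fun h n))
    (fun i n hn => hνC i (toN n) (show (n : G) ∈ _ from hLP ▸ hn)) hCN hcc
    (red_blockElem_comm hM hB) hsum
  have h := card_le_finrank_regular hM hB t hcl hti hfix
  rw [Fintype.card_fin] at h
  exact h

end Cfsg.Agent.H86.PrimeOrder
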