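import Cfsg.Agent.H86.TraceUnique
import Mathlib.GroupTheory.Sylow
import Mathlib.GroupTheory.SchurZassenhaus
import Mathlib.RingTheory.IntegralDomain

/-!
# The frame of a Sylow subgroup of prime order and its linear characters in characteristic `p`
-/

set_option linter.unusedSectionVars false

namespace Cfsg.Agent.H86.TraceQ

open Subgroup MonoidAlgebra

variable {G : Type*} [Group G] [Finite G] {p : ℕ} [hp : Fact p.Prime] (P : Sylow p G)

/-- A Sylow subgroup of prime order gives a frame. -/
theorem exists_frame (hP : Nat.card P = p) :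
    ∃ L : Frame G p, L.P = (P : Subgroup G) ∧ L.N = normalizer ((P : Subgroup G) : Set G) := by
  set N := normalizer ((P : Subgroup G) : Set G) with hN
  have hle : (P : Subgroup G) ≤ N := le_normalizer
  haveI : ((P : Subgroup G).subgroupOf N).Normal := normal_in_normalizer
  have hc : Nat.card ((P : Subgroup G).subgroupOf N) = p := by
    rw [Nat.card_congr (subgroupOfEquivOfLe hle).toEquiv]; exact hP
  have hidx : ¬ p ∣ ((P : Subgroup G).subgroupOf N).index := fun h =>
    P.not_dvd_index (h.trans (relIndex_dvd_index_of_le hle))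
  obtain ⟨H, hH⟩ := exists_right_complement'_of_coprime (N := (P : Subgroup G).subgroupOf N)
    (by rw [hc]; exact hp.out.coprime_iff_not_dvd.2 hidx)
  refine ⟨{ P := P, H := H.map N.subtype, N := N, card_P := hP, P_le := hle
            H_le := map_subtype_le H, dec := ?_, conj_mem := ?_, card_H := ?_, free := ?_ },
    rfl, rfl⟩
  · intro n hn
    obtain ⟨⟨⟨u, hu⟩, ⟨h, hh⟩⟩, huh, -⟩ := isComplement_iff_existsUnique.1 hH (⟨n, hn⟩ : N)
    exact ⟨u, mem_subgroupOf.1 hu, h, mem_map_of_mem _ hh, (congrArg Subtype.val huh).symm⟩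
  · exact fun n hn u hu => (mem_normalizer_iff.1 hn u).1 hu
  · rw [Nat.card_congr (H.equivMapOfInjective _ N.subtype_injective).toEquiv.symm]
    have := hH.symm.index_eq_card
    intro h
    exact hidx (this.symm ▸ h)
  · intro g hg u hu hu1 hmem
    set v := g⁻¹ * u * g with hv
    have hordu : orderOf u = p := by
      have h := hP ▸ orderOf_dvd_natCard (G := (P : Subgroup G)) ⟨u, hu⟩
      rw [Subgroup.orderOf_mk] at h
      rcases (Nat.dvd_prime hp.out).1 h with e | e
      · exact absurd (orderOf_eq_one_iff.1 e) hu1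
      · exact e
    have hordv : orderOf v = p := by
      rw [hv, ← hordu]
      simpa using MulEquiv.orderOf_eq (MulAut.conj g⁻¹) u
    have hpg : IsPGroup p (zpowers v) := IsPGroup.of_card (n := 1) (by
      rw [Nat.card_zpowers, hordv, pow_one])
    have hvP : v ∈ (P : Subgroup G) := by
      have h1 : v ∈ zpowers v ⊓ N := ⟨mem_zpowers v, hmem⟩
      exact (le_of_eq (hpg.inf_normalizer_sylow P) h1).2
    have hgen : ∀ w : G, w ∈ (P : Subgroup G) → orderOf w = p → zpowers w = (P : Subgroup G) :=
      fun w hw ho => eq_of_le_of_card_ge (zpowers_le.2 hw) (by rw [Nat.card_zpowers, ho, hP])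
    refine hg (inv_mem_iff.1 ?_)
    have hmap : (P : Subgroup G).map (MulAut.conj g⁻¹).toMonoidHom = (P : Subgroup G) := by
      conv_lhs => rw [← hgen u hu hordu]
      rw [MonoidHom.map_zpowers]
      simpa [hv] using hgen v hvP hordv
    exact mem_normalizer_iff.2 fun w => by
      conv_rhs => rw [← hmap]
      constructor
      · intro hw; exact ⟨w, hw, by simp⟩
      · rintro ⟨w', hw', he⟩
        rwa [← (MulAut.conj g⁻¹).injective he]

/-- The action on `P` as a character of the normalizer in characteristic `p`. -/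
theorem exists_hom (hP : Nat.card P = p) (k : Type*) [Field k] [CharP k p] :
    ∃ ν : normalizer ((P : Subgroup G) : Set G) →* k, ν.toHomUnits.ker =
      (centralizer ((P : Subgroup G) : Set G)).subgroupOf (normalizer ((P : Subgroup G) : Set G)) := by
  set N := normalizer ((P : Subgroup G) : Set G)
  haveI : Nontrivial (P : Subgroup G) := Finite.one_lt_card_iff_nontrivial.1 (by rw [hP]; exact hp.out.one_lt)
  obtain ⟨⟨x, hx⟩, hx1⟩ := exists_ne (1 : (P : Subgroup G))
  have hord : orderOf x = p := by
    have h := hP ▸ orderOf_dvd_natCard (G := (P : Subgroup G)) ⟨x, hx⟩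
    rw [Subgroup.orderOf_mk] at h
    rcases (Nat.dvd_prime hp.out).1 h with e | e
    · exact absurd (orderOf_eq_one_iff.1 e) (fun h => hx1 (Subtype.ext h))
    · exact e
  have hgen : zpowers x = (P : Subgroup G) :=
    eq_of_le_of_card_ge (zpowers_le.2 hx) (by rw [Nat.card_zpowers, hord, hP])
  have hpow : ∀ n : N, ∃ a : ℕ, x ^ a = (n : G) * x * (n : G)⁻¹ := by
    intro n
    have h := (mem_normalizer_iff.1 n.2 x).1 hx
    rw [← SetLike.mem_coe, ← hgen, SetLike.mem_coe, ← mem_powers_iff_mem_zpowers] at h
    exact h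
  choose a ha using hpow
  have hcast : ∀ s t : ℕ, x ^ s = x ^ t → (s : k) = t := fun s t h =>
    (CharP.natCast_eq_natCast k p).2 (hord ▸ pow_eq_pow_iff_modEq.1 h)
  let ν : N →* k :=
    { toFun := fun n => (a n : k)
      map_one' := by
        show ((a 1 : ℕ) : k) = 1
        rw [← Nat.cast_one]
        exact hcast _ _ (by rw [ha]; simp)
      map_mul' := fun n m => by
        rw [← Nat.cast_mul]
        refine hcast _ _ ?_
        rw [ha, pow_mul, ha, conj_pow, ha, Subgroup.coe_mul]
        group }
  refine ⟨ν, ?_⟩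
  ext n
  rw [MonoidHom.mem_ker, mem_subgroupOf, mem_centralizer_iff, ← Units.val_inj,
    MonoidHom.coe_toHomUnits, Units.val_one]
  constructor
  · intro h y hy
    have hxn : Commute (n : G) x := by
      have h1 : x ^ a n = x ^ 1 := by
        rw [pow_eq_pow_iff_modEq, hord]
        exact (CharP.natCast_eq_natCast k p).1 (h.trans Nat.cast_one.symm)
      rw [ha, pow_one, mul_inv_eq_iff_eq_mul] at h1
      exact h1
    rw [SetLike.mem_coe, ← hgen] at hy
    obtain ⟨i, rfl⟩ := hy
    exact (hxn.zpow_right i).eq.symm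
  · intro h
    show ((a n : ℕ) : k) = 1
    rw [← Nat.cast_one]
    refine hcast _ _ ?_
    rw [ha, ← h x hx, mul_inv_cancel_right, pow_one]

/-- `e` distinct linear characters trivial on the centralizer. -/
theorem exists_homs (hP : Nat.card P = p) (k : Type*) [Field k] [CharP k p] :
    ∃ ν : Fin ((centralizer ((P : Subgroup G) : Set G)).relIndex
        (normalizer ((P : Subgroup G) : Set G))) → (normalizer ((P : Subgroup G) : Set G) →* k),
      Function.Injective ν ∧ ∀ i (n : normalizer ((P : Subgroup G) : Set G)),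
        (n : G) ∈ centralizer ((P : Subgroup G) : Set G) → ν i n = 1 := by
  obtain ⟨ν, hν⟩ := exists_hom P hP k
  have he : (centralizer ((P : Subgroup G) : Set G)).relIndex
      (normalizer ((P : Subgroup G) : Set G)) = Nat.card ν.toHomUnits.range := by
    rw [← index_ker, hν]; rfl
  haveI : Finite ν.toHomUnits.range := Finite.of_surjective _ ν.toHomUnits.rangeRestrict_surjective
  obtain ⟨g, hg⟩ := IsCyclic.exists_generator (α := ν.toHomUnits.range)
  have hog : orderOf (g : kˣ) = Nat.card ν.toHomUnits.range := by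
    rw [Subgroup.orderOf_coe, orderOf_eq_card_of_forall_mem_zpowers hg]
  obtain ⟨n₀, hn₀⟩ := g.2
  refine ⟨fun i => (powMonoidHom (i : ℕ)).comp ν, fun i j hij => Fin.ext ?_, fun i n hn => ?_⟩
  · have h := congrArg (fun f : _ →* k => f n₀) hij
    simp only [MonoidHom.comp_apply, powMonoidHom_apply] at h
    have h' : (g : kˣ) ^ (i : ℕ) = (g : kˣ) ^ (j : ℕ) := by
      rw [← hn₀]; exact Units.ext (by simpa using h)
    exact pow_injOn_Iio_orderOf (by rw [Set.mem_Iio, hog, ← he]; exact i.2)
      (by rw [Set.mem_Iio, hog, ← he]; exact j.2) h'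
  · have h : n ∈ ν.toHomUnits.ker := hν ▸ hn
    have h1 : ν n = 1 := by
      have := congrArg Units.val (MonoidHom.mem_ker.1 h)
      simpa using this
    simp [h1]

end Cfsg.Agent.H86.TraceQ
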