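import Mathlib.Algebra.BigOperators.Ring.Finset
import Mathlib.Algebra.Order.BigOperators.Group.Finset
import Mathlib.Data.Fintype.Basic
import Mathlib.Data.Finset.Card
import Mathlib.Tactic.Linarith
import Mathlib.Tactic.FinCases

/-!
# At least five integer vectors of norm four with all inner products three form a sunflower
-/

namespace Cfsg.Agent.H86

theorem unit_of_sq_le_three {n : ℤ} (h : n ≠ 0) (h3 : n ^ 2 ≤ 3) : n = 1 ∨ n = -1 := by
  have h1 : -1 ≤ n := by nlinarith
  have h2 : n ≤ 1 := by nlinarith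
  omega

variable {X : Type*} [Fintype X] [DecidableEq X]

/-- Support of a vector away from the distinguished coordinate. -/
def offSupp (x0 : X) (v : X → ℤ) : Finset X :=
  Finset.univ.filter fun x => x ≠ x0 ∧ v x ≠ 0

theorem offSupp_spec {x0 : X} {v : X → ℤ} (hn : ∑ x, v x ^ 2 = 4) (h0 : v x0 = -1) :
    (offSupp x0 v).card = 3 ∧ ∀ x ∈ offSupp x0 v, v x = 1 ∨ v x = -1 := by
  have hs : ∑ x ∈ offSupp x0 v, v x ^ 2 = 3 := by
    rw [← Finset.add_sum_erase _ _ (Finset.mem_univ x0), h0] at hn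
    have : ∑ x ∈ offSupp x0 v, v x ^ 2 = ∑ x ∈ Finset.univ.erase x0, v x ^ 2 := by
      refine Finset.sum_subset (fun x hx => ?_) fun x hx hnx => ?_
      · exact Finset.mem_erase.2 ⟨(Finset.mem_filter.1 hx).2.1, Finset.mem_univ x⟩
      · have h1 : ¬ (x ≠ x0 ∧ v x ≠ 0) := fun h => hnx (Finset.mem_filter.2 ⟨Finset.mem_univ x, h⟩)
        have h2 : v x = 0 := by_contra fun h => h1 ⟨(Finset.mem_erase.1 hx).1, h⟩
        rw [h2]; rfl
    linarith
  have hu : ∀ x ∈ offSupp x0 v, v x = 1 ∨ v x = -1 := fun x hx =>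
    unit_of_sq_le_three (Finset.mem_filter.1 hx).2.2
      (hs ▸ Finset.single_le_sum (f := fun x => v x ^ 2) (fun _ _ => sq_nonneg _) hx)
  refine ⟨?_, hu⟩
  have : ∑ x ∈ offSupp x0 v, v x ^ 2 = ∑ x ∈ offSupp x0 v, 1 :=
    Finset.sum_congr rfl fun x hx => by rcases hu x hx with h | h <;> rw [h] <;> norm_num
  rw [this, Finset.sum_const, nsmul_one] at hs
  exact_mod_cast hs

theorem offSupp_inter {x0 : X} {v w : X → ℤ} (hv : ∑ x, v x ^ 2 = 4) (hw : ∑ x, w x ^ 2 = 4)
    (hv0 : v x0 = -1) (hw0 : w x0 = -1) (hvw : ∑ x, v x * w x = 3) :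
    (offSupp x0 v ∩ offSupp x0 w).card = 2 ∧
      ∀ x ∈ offSupp x0 v ∩ offSupp x0 w, v x = w x := by
  obtain ⟨hvc, hvu⟩ := offSupp_spec hv hv0
  obtain ⟨-, hwu⟩ := offSupp_spec hw hw0
  set I := offSupp x0 v ∩ offSupp x0 w with hI
  have hs : ∑ x ∈ I, v x * w x = 2 := by
    rw [← Finset.add_sum_erase _ _ (Finset.mem_univ x0), hv0, hw0] at hvw
    have : ∑ x ∈ I, v x * w x = ∑ x ∈ Finset.univ.erase x0, v x * w x := by
      refine Finset.sum_subset (fun x hx => ?_) fun x hx hnx => ?_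
      · exact Finset.mem_erase.2 ⟨(Finset.mem_filter.1 (Finset.mem_inter.1 hx).1).2.1, Finset.mem_univ x⟩
      · by_contra h
        rw [mul_eq_zero] at h
        push Not at h
        exact hnx (Finset.mem_inter.2 ⟨Finset.mem_filter.2 ⟨Finset.mem_univ x, (Finset.mem_erase.1 hx).1, h.1⟩,
          Finset.mem_filter.2 ⟨Finset.mem_univ x, (Finset.mem_erase.1 hx).1, h.2⟩⟩)
    linarith
  -- agreements minus disagreements
  set A := I.filter fun x => v x = w x with hA
  have hsum : ∑ x ∈ I, v x * w x = (A.card : ℤ) - ((I.card : ℤ) - A.card) := by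
    rw [← Finset.sum_filter_add_sum_filter_not I (fun x => v x = w x)]
    have h1 : ∑ x ∈ A, v x * w x = A.card := by
      rw [Finset.sum_congr rfl (g := fun _ => (1 : ℤ)) fun x hx => ?_, Finset.sum_const, nsmul_one]
      obtain ⟨hxI, hxe⟩ := Finset.mem_filter.1 hx
      rw [← hxe]
      rcases hvu x (Finset.mem_inter.1 hxI).1 with h | h <;> rw [h] <;> norm_num
    have h2 : ∑ x ∈ I.filter (fun x => ¬ v x = w x), v x * w x =
        -((I.filter fun x => ¬ v x = w x).card : ℤ) := by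
      rw [Finset.sum_congr rfl (g := fun _ => (-1 : ℤ)) fun x hx => ?_, Finset.sum_const]
      · simp
      obtain ⟨hxI, hxe⟩ := Finset.mem_filter.1 hx
      rcases hvu x (Finset.mem_inter.1 hxI).1 with h | h <;>
        rcases hwu x (Finset.mem_inter.1 hxI).2 with h' | h' <;> rw [h, h'] at hxe ⊢ <;>
        first
        | exact absurd rfl hxe
        | norm_num
    have h3 := I.card_filter_add_card_filter_not (fun x => v x = w x)
    rw [h1, h2, ← hA] at *
    omega
  rw [hs] at hsum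
  have hle : I.card ≤ 3 := hvc ▸ Finset.card_le_card Finset.inter_subset_left
  have hAle : A.card ≤ I.card := Finset.card_filter_le _ _
  have hI2 : I.card = 2 := by omega
  refine ⟨hI2, fun x hx => ?_⟩
  have hAI : A = I := Finset.eq_of_subset_of_card_le (Finset.filter_subset _ _) (by omega)
  rw [← hAI] at hx
  exact (Finset.mem_filter.1 hx).2

/-- The sunflower. -/
theorem sunflower (x0 : X) (V : Finset (X → ℤ)) (h5 : 5 ≤ V.card)
    (hn : ∀ v ∈ V, ∑ x, v x ^ 2 = 4) (hc : ∀ v ∈ V, ∀ w ∈ V, v ≠ w → ∑ x, v x * w x = 3)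
    (h0 : ∀ v ∈ V, v x0 = -1) :
    ∃ a b : X, ∃ εa εb : ℤ, a ≠ x0 ∧ b ≠ x0 ∧ a ≠ b ∧ (εa = 1 ∨ εa = -1) ∧ (εb = 1 ∨ εb = -1) ∧
      ∀ v ∈ V, v a = εa ∧ v b = εb ∧ ∃ c : X, c ≠ x0 ∧ c ≠ a ∧ c ≠ b ∧ (v c = 1 ∨ v c = -1) ∧
        (∀ x, x ≠ x0 → x ≠ a → x ≠ b → x ≠ c → v x = 0) ∧ ∀ w ∈ V, w ≠ v → w c = 0 := by
  classical
  have hinj : ∀ v ∈ V, ∀ w ∈ V, offSupp x0 v = offSupp x0 w → v = w := by
    intro v hv w hw h
    by_contra hne
    have h2 := (offSupp_inter (hn v hv) (hn w hw) (h0 v hv) (h0 w hw) (hc v hv w hw hne)).1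
    rw [h, Finset.inter_self, (offSupp_spec (hn w hw) (h0 w hw)).1] at h2
    omega
  obtain ⟨v1, hv1, v2, hv2, h12⟩ := Finset.one_lt_card.1 (show 1 < V.card by omega)
  obtain ⟨hIc, hIe⟩ := offSupp_inter (hn v1 hv1) (hn v2 hv2) (h0 v1 hv1) (h0 v2 hv2) (hc v1 hv1 v2 hv2 h12)
  obtain ⟨a, b, hab, hI⟩ := Finset.card_eq_two.1 hIc
  have haI : a ∈ offSupp x0 v1 ∩ offSupp x0 v2 := by rw [hI]; simp
  have hbI : b ∈ offSupp x0 v1 ∩ offSupp x0 v2 := by rw [hI]; simp
  obtain ⟨hc1, hu1⟩ := offSupp_spec (hn v1 hv1) (h0 v1 hv1)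
  obtain ⟨hc2, -⟩ := offSupp_spec (hn v2 hv2) (h0 v2 hv2)
  have hthird : ∀ S : Finset X, S.card = 3 → a ∈ S → b ∈ S → ∃ c, c ≠ a ∧ c ≠ b ∧ S = {a, b, c} := by
    intro S hS ha hb
    have h1 : ((S.erase a).erase b).card = 1 := by
      rw [Finset.card_erase_of_mem (Finset.mem_erase.2 ⟨hab.symm, hb⟩), Finset.card_erase_of_mem ha, hS]
    obtain ⟨c, hcS⟩ := Finset.card_eq_one.1 h1
    have hcm : c ∈ (S.erase a).erase b := by rw [hcS]; simp
    simp only [Finset.mem_erase] at hcm
    refine ⟨c, hcm.2.1, hcm.1, Finset.ext fun x => ?_⟩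
    simp only [Finset.mem_insert, Finset.mem_singleton]
    constructor
    · intro hx
      by_cases hxa : x = a
      · exact Or.inl hxa
      by_cases hxb : x = b
      · exact Or.inr (Or.inl hxb)
      have : x ∈ (S.erase a).erase b := by simp [hxa, hxb, hx]
      rw [hcS, Finset.mem_singleton] at this
      exact Or.inr (Or.inr this)
    · rintro (rfl | rfl | rfl)
      exacts [ha, hb, hcm.2.2]
  obtain ⟨c1, hc1a, hc1b, hS1⟩ := hthird _ hc1 (Finset.mem_inter.1 haI).1 (Finset.mem_inter.1 hbI).1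
  obtain ⟨c2, hc2a, hc2b, hS2⟩ := hthird _ hc2 (Finset.mem_inter.1 haI).2 (Finset.mem_inter.1 hbI).2
  have hc12 : c1 ≠ c2 := fun h => h12 (hinj v1 hv1 v2 hv2 (by rw [hS1, hS2, h]))
  -- a set meeting `{a,b,c₁}` and `{a,b,c₂}` twice and missing `a` or `b`
  have hmiss : ∀ (a' b' : X) (S : Finset X), a' ≠ b' → S.card = 3 → (S ∩ {a', b', c1}).card = 2 →
      (S ∩ {a', b', c2}).card = 2 → a' ∉ S → S = {b', c1, c2} := by
    intro a' b' S _ hS h1 h2 ha
    have key : ∀ c, (S ∩ {a', b', c}).card = 2 → b' ∈ S ∧ c ∈ S := by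
      intro c hcard
      have hsub : S ∩ {a', b', c} ⊆ {b', c} := fun x hx => by
        simp only [Finset.mem_inter, Finset.mem_insert, Finset.mem_singleton] at hx ⊢
        rcases hx.2 with rfl | h | h
        exacts [absurd hx.1 ha, Or.inl h, Or.inr h]
      have heq := Finset.eq_of_subset_of_card_le hsub (by rw [hcard]; exact Finset.card_le_two)
      exact ⟨(Finset.mem_inter.1 (heq.symm ▸ Finset.mem_insert_self b' {c} : b' ∈ S ∩ {a', b', c})).1,
        (Finset.mem_inter.1 (heq.symm ▸ Finset.mem_insert_of_mem (Finset.mem_singleton_self c) :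
          c ∈ S ∩ {a', b', c})).1⟩
    obtain ⟨hb', h1'⟩ := key c1 h1
    obtain ⟨-, h2'⟩ := key c2 h2
    refine (Finset.eq_of_subset_of_card_le ?_ ?_).symm
    · intro x hx
      simp only [Finset.mem_insert, Finset.mem_singleton] at hx
      rcases hx with rfl | rfl | rfl <;> assumption
    · rw [hS, Finset.card_eq_three.2 ⟨b', c1, c2, ?_, ?_, hc12, rfl⟩]
      · rintro rfl
        have hle : (S ∩ {a', b', b'}).card ≤ 1 := by
          refine (Finset.card_le_card (t := {b'}) fun x hx => ?_).trans (by simp)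
          simp only [Finset.mem_inter, Finset.mem_insert, Finset.mem_singleton] at hx ⊢
          rcases hx.2 with rfl | h | h
          exacts [absurd hx.1 ha, h, h]
        omega
      · rintro rfl
        have hle : (S ∩ {a', b', b'}).card ≤ 1 := by
          refine (Finset.card_le_card (t := {b'}) fun x hx => ?_).trans (by simp)
          simp only [Finset.mem_inter, Finset.mem_insert, Finset.mem_singleton] at hx ⊢
          rcases hx.2 with rfl | h | h
          exacts [absurd hx.1 ha, h, h]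
        omega
  have hmeet : ∀ w ∈ V, (offSupp x0 w ∩ {a, b, c1}).card = 2 ∨ w = v1 := fun w hw => by
    by_cases h : w = v1
    · exact Or.inr h
    · left; rw [← hS1]
      exact (offSupp_inter (hn w hw) (hn v1 hv1) (h0 w hw) (h0 v1 hv1) (hc w hw v1 hv1 h)).1
  have hmeet2 : ∀ w ∈ V, (offSupp x0 w ∩ {a, b, c2}).card = 2 ∨ w = v2 := fun w hw => by
    by_cases h : w = v2
    · exact Or.inr h
    · left; rw [← hS2]
      exact (offSupp_inter (hn w hw) (hn v2 hv2) (h0 w hw) (h0 v2 hv2) (hc w hw v2 hv2 h)).1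
  have hshape : ∀ w ∈ V, a ∉ offSupp x0 w ∨ b ∉ offSupp x0 w →
      offSupp x0 w = {b, c1, c2} ∨ offSupp x0 w = {a, c1, c2} := by
    intro w hw hor
    have hne1 : w ≠ v1 := by rintro rfl; rw [hS1] at hor; simp at hor
    have hne2 : w ≠ v2 := by rintro rfl; rw [hS2] at hor; simp at hor
    have hw3 := (offSupp_spec (hn w hw) (h0 w hw)).1
    have h1 := (hmeet w hw).resolve_right hne1
    have h2 := (hmeet2 w hw).resolve_right hne2
    rcases hor with h | h
    · exact Or.inl (hmiss a b _ hab hw3 h1 h2 h)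
    · refine Or.inr (hmiss b a _ hab.symm hw3 ?_ ?_ h) <;> rw [Finset.insert_comm] <;> assumption
  have hmem : ∀ w ∈ V, a ∈ offSupp x0 w ∧ b ∈ offSupp x0 w := by
    intro w hw
    by_contra hnot
    have hor : a ∉ offSupp x0 w ∨ b ∉ offSupp x0 w := not_and_or.1 hnot
    have hne1 : w ≠ v1 := by rintro rfl; rw [hS1] at hor; simp at hor
    have hne2 : w ≠ v2 := by rintro rfl; rw [hS2] at hor; simp at hor
    have hsub : V.image (offSupp x0) ⊆ {{a, b, c1}, {a, b, c2}, {b, c1, c2}, {a, c1, c2}} := by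
      intro S hS
      obtain ⟨z, hz, rfl⟩ := Finset.mem_image.1 hS
      simp only [Finset.mem_insert, Finset.mem_singleton]
      by_cases hz' : a ∈ offSupp x0 z ∧ b ∈ offSupp x0 z
      · obtain ⟨c, hca, hcb, hSz⟩ := hthird _ (offSupp_spec (hn z hz) (h0 z hz)).1 hz'.1 hz'.2
        by_cases hzw : z = w
        · exact absurd (hzw ▸ hz') hnot
        have hi := (offSupp_inter (hn z hz) (hn w hw) (h0 z hz) (h0 w hw) (hc z hz w hw hzw)).1
        have hcc : c = c1 ∨ c = c2 := by
          by_contra hno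
          push Not at hno
          have : (offSupp x0 z ∩ offSupp x0 w).card ≤ 1 := by
            rcases hshape w hw hor with h | h <;> rw [hSz, h]
            · refine (Finset.card_le_card (t := {b}) fun x hx => ?_).trans (by simp)
              simp only [Finset.mem_inter, Finset.mem_insert, Finset.mem_singleton] at hx ⊢
              rcases hx.1 with rfl | h' | rfl
              · rcases hx.2 with h'' | rfl | rfl
                exacts [absurd h'' hab, absurd rfl hc1a, absurd rfl hc2a]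
              · exact h'
              · rcases hx.2 with h'' | h'' | h''
                exacts [h'', absurd h'' hno.1, absurd h'' hno.2]
            · refine (Finset.card_le_card (t := {a}) fun x hx => ?_).trans (by simp)
              simp only [Finset.mem_inter, Finset.mem_insert, Finset.mem_singleton] at hx ⊢
              rcases hx.1 with h' | rfl | rfl
              · exact h'
              · rcases hx.2 with h'' | rfl | rfl
                exacts [absurd h''.symm hab, absurd rfl hc1b, absurd rfl hc2b]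
              · rcases hx.2 with h'' | h'' | h''
                exacts [h'', absurd h'' hno.1, absurd h'' hno.2]
          omega
        rcases hcc with rfl | rfl
        exacts [Or.inl hSz, Or.inr (Or.inl hSz)]
      · exact Or.inr (Or.inr (hshape z hz (not_and_or.1 hz')))
    have h4 := (Finset.card_le_card hsub).trans Finset.card_le_four
    rw [Finset.card_image_of_injOn fun v hv w hw h => hinj v hv w hw h] at h4
    omega
  refine ⟨a, b, v1 a, v1 b, (Finset.mem_filter.1 (Finset.mem_inter.1 haI).1).2.1,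
    (Finset.mem_filter.1 (Finset.mem_inter.1 hbI).1).2.1, hab, hu1 a (Finset.mem_inter.1 haI).1,
    hu1 b (Finset.mem_inter.1 hbI).1, fun v hv => ?_⟩
  obtain ⟨hva, hvb⟩ := hmem v hv
  have hagree : ∀ x ∈ offSupp x0 v, x ∈ offSupp x0 v1 → v x = v1 x := by
    intro x hx hx1
    by_cases h : v = v1
    · rw [h]
    · exact (offSupp_inter (hn v hv) (hn v1 hv1) (h0 v hv) (h0 v1 hv1) (hc v hv v1 hv1 h)).2 x
        (Finset.mem_inter.2 ⟨hx, hx1⟩)
  obtain ⟨hvc, hvu⟩ := offSupp_spec (hn v hv) (h0 v hv)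
  obtain ⟨c, hca, hcb, hS⟩ := hthird _ hvc hva hvb
  have hcm : c ∈ offSupp x0 v := by rw [hS]; simp
  refine ⟨hagree a hva (Finset.mem_inter.1 haI).1, hagree b hvb (Finset.mem_inter.1 hbI).1, c,
    (Finset.mem_filter.1 hcm).2.1, hca, hcb, hvu c hcm, fun x hx0 hxa hxb hxc => ?_, fun w hw hwv => ?_⟩
  · by_contra hne
    have : x ∈ offSupp x0 v := Finset.mem_filter.2 ⟨Finset.mem_univ x, hx0, hne⟩
    rw [hS] at this
    simp [hxa, hxb, hxc] at this
  · by_contra hne
    have hcw : c ∈ offSupp x0 w :=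
      Finset.mem_filter.2 ⟨Finset.mem_univ c, (Finset.mem_filter.1 hcm).2.1, hne⟩
    refine hwv (hinj w hw v hv ?_)
    refine (Finset.eq_of_subset_of_card_le ?_ ?_).symm
    · rw [hS]; intro x hx
      simp only [Finset.mem_insert, Finset.mem_singleton] at hx
      rcases hx with rfl | rfl | rfl
      exacts [(hmem w hw).1, (hmem w hw).2, hcw]
    · rw [hvc, (offSupp_spec (hn w hw) (h0 w hw)).1]

end Cfsg.Agent.H86
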