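import Cfsg.Agent.H86.HomocyclicVectors
import Cfsg.Agent.H86.Sunflower
import Cfsg.Agent.H25.BrauerSuzukiLarge
import Cfsg.Agent.H85.ModP

/-!
# The principal block of a group with homocyclic Sylow 2-subgroup of rank two contains a
nontrivial linear character
-/

set_option linter.unusedSectionVars false
set_option maxHeartbeats 1000000

open scoped ComplexConjugate

namespace Cfsg.Agent.H86

open CharBasic BlockBasic Subgroup

universe u

/-- The arithmetical end of Brauer's argument. -/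
theorem eq_one_of_brauer_relation {A B : ℤ} (hA : Odd A) (hB : Odd B)
    (h : (1 + A + B) * (A * B + A + B) = 9 * A * B) : A = 1 ∧ B = 1 := by
  obtain ⟨u, hu⟩ : ∃ u, A + B = 2 * u := by
    obtain ⟨a, rfl⟩ := hA; obtain ⟨b, rfl⟩ := hB; exact ⟨a + b + 1, by ring⟩
  obtain ⟨w, hw⟩ : ∃ w, A - B = 2 * w := by
    obtain ⟨a, rfl⟩ := hA; obtain ⟨b, rfl⟩ := hB; exact ⟨a - b, by ring⟩
  have hAe : A = u + w := by omega
  have hBe : B = u - w := by omega
  have key : w ^ 2 * (u - 4) = u * (u - 1) ^ 2 := by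
    subst hAe; subst hBe; nlinarith [h]
  by_cases hu1 : u = 1
  · subst hu1
    have hw0 : w = 0 := by
      have h2 : w ^ 2 = 0 := by nlinarith [key]
      exact pow_eq_zero_iff (two_ne_zero) |>.1 h2
    constructor <;> omega
  exfalso
  have hk : (w * (u - 4)) ^ 2 = (u * (u - 4)) * (u - 1) ^ 2 := by
    linear_combination (u - 4) * key
  obtain ⟨k, hk'⟩ : (u - 1) ∣ w * (u - 4) :=
    (Int.pow_dvd_pow_iff two_ne_zero).1 ⟨u * (u - 4), by linear_combination hk⟩
  rw [hk', mul_pow] at hk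
  have hk2 : k ^ 2 = u * (u - 4) := by
    have : (u - 1) ^ 2 ≠ 0 := pow_ne_zero 2 (sub_ne_zero.2 hu1)
    refine mul_left_cancel₀ this ?_
    linear_combination hk
  have hu' : 0 ≤ u ∧ u ≤ 4 := by
    constructor
    · by_contra hneg
      have h1 : (2 - u) - 1 < |k| := by nlinarith [sq_abs k, abs_nonneg k]
      nlinarith [sq_abs k, abs_nonneg k]
    · by_contra hneg
      have h1 : (u - 2) - 1 < |k| := by nlinarith [sq_abs k, abs_nonneg k]
      nlinarith [sq_abs k, abs_nonneg k]
  obtain ⟨h0, h4⟩ := hu'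
  interval_cases u
  · have h2 : w = 0 := by
      have : w ^ 2 = 0 := by nlinarith [key]
      exact pow_eq_zero_iff (two_ne_zero) |>.1 this
    obtain ⟨a, ha⟩ := hA
    omega
  · exact hu1 rfl
  · nlinarith [sq_nonneg k]
  · nlinarith [sq_nonneg k]
  · norm_num at key

variable {G : Type u} [Group G] [Finite G] {M : Ideal AlgInt}
variable (P : Sylow 2 G) [IsMulCommutative (P : Subgroup G)] [Fintype (P : Subgroup G)]
variable {g : G} (hg : Rotor P g)
  (h4 : Nat.card {x : (P : Subgroup G) // x ^ 2 = 1} ≤ 4)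

include h4 in
theorem rotIrr_inj {a : IrrCharacter (P : Subgroup G)} (ha : a ≠ triv P) {i j : Fin 3}
    (h : rotIrr P hg i a = rotIrr P hg j a) : i = j := by
  by_contra hne
  set k := 3 - (i : ℕ) + (j : ℕ) with hk
  have hk0 : k % 3 ≠ 0 := by
    have h1 := i.2; have h2 := j.2
    have h3 : (i : ℕ) ≠ (j : ℕ) := fun e => hne (Fin.ext e)
    omega
  have hfix : ∀ z : (P : Subgroup G),
      (a : ↥(P : Subgroup G) → ℂ) (rot P hg k z) = (a : ↥(P : Subgroup G) → ℂ) z := by
    intro z
    have h1 := congrFun (congrArg Subtype.val h) (rot P hg (3 - (i : ℕ)) z)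
    simp only [rotIrr_apply, rot_rot] at h1
    rw [rot_mod P hg ((i : ℕ) + (3 - (i : ℕ))), show ((i : ℕ) + (3 - (i : ℕ))) % 3 = 0 by omega,
      rot_zero, show (j : ℕ) + (3 - (i : ℕ)) = k by omega] at h1
    exact h1.symm
  have hinj : Function.Injective fun z : (P : Subgroup G) => rot P hg k z * z⁻¹ := by
    intro z w hzw
    by_contra hzw'
    refine rot_ne P hg h4 hk0 (y := z * w⁻¹) (fun e => hzw' (mul_inv_eq_one.1 e)) ?_
    have h2 : rot P hg k z = rot P hg k w * (w⁻¹ * z) := by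
      rw [← mul_assoc]; exact mul_inv_eq_iff_eq_mul.1 hzw
    rw [map_mul, map_inv, h2, mul_comm' (rot P hg k w) (w⁻¹ * z), mul_assoc, mul_inv_cancel,
      mul_one, mul_comm' w⁻¹ z]
  apply ha
  refine Subtype.ext (funext fun z => ?_)
  obtain ⟨w, rfl⟩ := Finite.surjective_of_injective hinj z
  rw [triv_apply, sylow_mul, hfix, ← sylow_mul, mul_inv_cancel, sylow_lin]

include hg in
theorem rotIrr_ne_triv {a : IrrCharacter (P : Subgroup G)} (ha : a ≠ triv P) (i : ℕ) :
    rotIrr P hg i a ≠ triv P := fun h => ha (Subtype.ext (funext fun w => by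
  obtain ⟨v, rfl⟩ := (rot P hg i).surjective w
  exact congrFun (congrArg Subtype.val h) v))

include hg h4 in
open scoped Classical in
/-- A nontrivial linear principal character, trivial on `P`. -/
theorem exists_linear [Fintype G] (hM : IsPModular 2 M) (hq : 16 ≤ Nat.card (P : Subgroup G)) :
    ∃ χ : IrrCharacter G, χ ∈ principalBlock M G ∧ (χ : G → ℂ) 1 = 1 ∧ χ ≠ trivialIrr ∧
      ∀ y ∈ (P : Subgroup G), (χ : G → ℂ) y = 1 := by
  haveI : Fact (Nat.Prime 2) := ⟨Nat.prime_two⟩
  let X := {χ : IrrCharacter G // χ ∈ principalBlock M G}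
  let x0 : X := ⟨trivialIrr, sameBlock_refl hM _⟩
  let V' : IrrCharacter (P : Subgroup G) → X → ℤ := fun a χ => vec P a χ.1
  let T := Finset.univ.filter fun a : IrrCharacter (P : Subgroup G) => a ≠ triv P
  let V := T.image V'
  have hT : ∀ {a}, a ∈ T ↔ a ≠ triv P := fun {a} => by simp [T]
  -- the Gram matrix
  have hgr : ∀ {a b}, a ∈ T → b ∈ T → ∑ χ : X, V' a χ * V' b χ =
      if ∃ i : Fin 3, rotIrr P hg i b = a then 4 else 3 := by
    intro a b ha hb
    refine (gram P hg h4 hM (hT.1 ha) (hT.1 hb)).trans ?_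
    split_ifs with h
    · obtain ⟨i, rfl⟩ := h
      rw [Finset.sum_add_distrib, Finset.sum_eq_single i (fun j _ hj => if_neg fun e =>
        hj (rotIrr_inj P hg h4 (hT.1 hb) e)) (by simp), if_pos rfl]
      simp
    · rw [Finset.sum_add_distrib, Finset.sum_eq_zero fun i _ => if_neg fun e => h ⟨i, e⟩]
      simp
  have hself : ∀ a : IrrCharacter (P : Subgroup G), rotIrr P hg (((0 : Fin 3) : ℕ)) a = a := fun a =>
    Subtype.ext (funext fun y => by rw [rotIrr_apply]; simp [rot_zero])
  have hnorm : ∀ v ∈ V, ∑ χ, v χ ^ 2 = 4 := by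
    intro v hv
    obtain ⟨a, ha, rfl⟩ := Finset.mem_image.1 hv
    simp only [sq]
    rw [hgr ha ha, if_pos ⟨0, hself a⟩]
  have heq : ∀ {a b}, a ∈ T → b ∈ T → (V' a = V' b ↔ ∃ i : Fin 3, rotIrr P hg i b = a) := by
    intro a b ha hb
    constructor
    · intro h
      by_contra hne
      have h1 := hgr ha hb
      rw [if_neg hne, h] at h1
      have h2 := hgr hb hb
      rw [if_pos ⟨0, hself b⟩] at h2
      omega
    · intro h
      have h1 := hgr ha hb
      rw [if_pos h] at h1
      have h2 := hgr ha ha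
      rw [if_pos ⟨0, hself a⟩] at h2
      have h3 := hgr hb hb
      rw [if_pos ⟨0, hself b⟩] at h3
      have h0 : ∑ χ : X, (V' a χ - V' b χ) ^ 2 = 0 := by
        rw [Finset.sum_congr rfl (g := fun χ => V' a χ * V' a χ + V' b χ * V' b χ -
          2 * (V' a χ * V' b χ)) (fun χ _ => by ring), Finset.sum_sub_distrib, Finset.sum_add_distrib,
          ← Finset.mul_sum, h1, h2, h3]
        norm_num
      funext χ
      have h5 := (Finset.sum_eq_zero_iff_of_nonneg fun χ _ => sq_nonneg _).1 h0 χ (Finset.mem_univ χ)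
      exact sub_eq_zero.1 (pow_eq_zero_iff (two_ne_zero) |>.1 h5)
  have hcross : ∀ v ∈ V, ∀ w ∈ V, v ≠ w → ∑ χ, v χ * w χ = 3 := by
    intro v hv w hw hvw
    obtain ⟨a, ha, rfl⟩ := Finset.mem_image.1 hv
    obtain ⟨b, hb, rfl⟩ := Finset.mem_image.1 hw
    rw [hgr ha hb, if_neg fun h => hvw ((heq ha hb).2 h)]
  have hx0 : ∀ v ∈ V, v x0 = -1 := by
    intro v hv
    obtain ⟨a, ha, rfl⟩ := Finset.mem_image.1 hv
    exact vec_trivialIrr P (hT.1 ha)
  have hfib : ∀ {a}, a ∈ T → T.filter (fun b => V' b = V' a) =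
      Finset.univ.image fun i : Fin 3 => rotIrr P hg i a := by
    intro a ha
    ext b
    simp only [Finset.mem_filter, Finset.mem_image, Finset.mem_univ, true_and]
    constructor
    · exact fun ⟨hb, h⟩ => (heq hb ha).1 h
    · rintro ⟨i, rfl⟩
      have hb := hT.2 (rotIrr_ne_triv P hg (hT.1 ha) i)
      exact ⟨hb, (heq hb ha).2 ⟨i, rfl⟩⟩
  have hinj : ∀ {a}, a ∈ T → Function.Injective fun i : Fin 3 => rotIrr P hg i a :=
    fun {a} ha i j h => rotIrr_inj P hg h4 (hT.1 ha) h
  have hV5 : 5 ≤ V.card := by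
    have h1 : T.card = 3 * V.card := by
      rw [Finset.card_eq_sum_card_image V' T, Finset.sum_congr rfl (g := fun _ => 3) fun v hv => ?_,
        Finset.sum_const, smul_eq_mul, mul_comm]
      obtain ⟨a, ha, rfl⟩ := Finset.mem_image.1 hv
      rw [hfib ha, Finset.card_image_of_injective _ (hinj ha), Finset.card_univ, Fintype.card_fin]
    have h2 := sum_sq_degree (G := (P : Subgroup G))
    simp only [sylow_lin P, one_pow, Finset.sum_const, Finset.card_univ, nsmul_eq_mul, mul_one,
      Nat.cast_inj] at h2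
    have h3 : T.card + 1 = Fintype.card (IrrCharacter (P : Subgroup G)) := by
      rw [show T = Finset.univ.erase (triv P) by ext; simp [T],
        Finset.card_erase_of_mem (Finset.mem_univ _), Finset.card_univ]
      have := Fintype.card_pos_iff.2 ⟨triv P⟩
      omega
    omega
  obtain ⟨ca, cb, εa, εb, hca0, hcb0, hcab, hεa, hεb, hflower⟩ := sunflower x0 V hV5 hnorm hcross hx0
  haveI : Nonempty X := ⟨x0⟩
  choose! φ hφ using fun v hv => (hflower v hv).2.2
  -- values on nontrivial elements of `P`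
  have hval : ∀ (χ : X) {y : (P : Subgroup G)}, y ≠ 1 →
      (χ.1 : G → ℂ) y = ∑ a ∈ T, (V' a χ : ℂ) * (a : ↥(P : Subgroup G) → ℂ) y := by
    intro χ y hy
    rw [apply_eq_sum_vec P χ.1 hy]
    refine (Finset.sum_subset (Finset.subset_univ T) fun a _ ha => ?_).symm
    obtain rfl : a = triv P := by_contra fun h => ha (hT.2 h)
    simp [vec_triv, V']
  have hTsum : ∀ {y : (P : Subgroup G)}, y ≠ 1 →
      ∑ a ∈ T, (a : ↥(P : Subgroup G) → ℂ) y = -1 := by
    intro y hy
    rw [show T = Finset.univ.erase (triv P) by ext; simp [T],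
      Finset.sum_erase_eq_sub (Finset.mem_univ _), sum_irr_apply P hy, triv_apply, zero_sub]
  have hconst : ∀ (χ : X) (ε : ℤ), (∀ v ∈ V, v χ = ε) → ∀ {y : (P : Subgroup G)}, y ≠ 1 →
      (χ.1 : G → ℂ) y = -(ε : ℂ) := by
    intro χ ε h y hy
    rw [hval χ hy, Finset.sum_congr rfl (g := fun a : IrrCharacter (P : Subgroup G) => (ε : ℂ) * (a : ↥(P : Subgroup G) → ℂ) y)
      (fun a ha => by rw [h (V' a) (Finset.mem_image_of_mem _ ha)]), ← Finset.mul_sum, hTsum hy]
    ring
  let S : (X → ℤ) → ↥(P : Subgroup G) → ℂ := fun v y =>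
    ∑ a ∈ T.filter (fun b => V' b = v), (a : ↥(P : Subgroup G) → ℂ) y
  have hexc : ∀ v ∈ V, ∀ {y : (P : Subgroup G)}, y ≠ 1 →
      ((φ v).1 : G → ℂ) y = (v (φ v) : ℂ) * S v y := by
    intro v hv y hy
    simp only [S]
    rw [hval (φ v) hy, Finset.mul_sum]
    conv_rhs => rw [Finset.sum_filter]
    refine Finset.sum_congr rfl fun a ha => ?_
    split_ifs with h
    · rw [h]
    · rw [(hφ v hv).2.2.2.2.2 _ (Finset.mem_image_of_mem _ ha) h, Int.cast_zero, zero_mul]
  have hnone : ∀ χ : X, χ ≠ x0 → χ ≠ ca → χ ≠ cb → (∀ v ∈ V, χ ≠ φ v) →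
      ∀ {y : (P : Subgroup G)}, y ≠ 1 → (χ.1 : G → ℂ) y = 0 := by
    intro χ h0 ha hb hv y hy
    rw [hval χ hy]
    refine Finset.sum_eq_zero fun a haT => ?_
    have hm := Finset.mem_image_of_mem V' haT
    rw [(hφ _ hm).2.2.2.2.1 χ h0 ha hb (hv _ hm), Int.cast_zero, zero_mul]
  -- an involution `t` and an element `x` of order at least four
  obtain ⟨t, ht⟩ := exists_prime_orderOf_dvd_card' (G := (P : Subgroup G)) 2 (by
    obtain ⟨n, hn⟩ := IsPGroup.iff_card.1 P.isPGroup'
    rw [hn]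
    refine dvd_pow_self 2 ?_
    rintro rfl
    rw [pow_zero] at hn
    omega)
  have ht2 : t ^ 2 = 1 := by
    have := pow_orderOf_eq_one t
    rwa [ht] at this
  have ht1 : t ≠ 1 := fun h => by rw [h, orderOf_one] at ht; omega
  obtain ⟨x, hx⟩ : ∃ x : (P : Subgroup G), x ^ 2 ≠ 1 := by
    by_contra h
    push Not at h
    have h16 : Nat.card {x : (P : Subgroup G) // x ^ 2 = 1} = Nat.card (P : Subgroup G) :=
      Nat.card_congr ⟨fun z => z.1, fun z => ⟨z, h z⟩, fun _ => rfl, fun _ => rfl⟩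
    omega
  have hx1 : x ≠ 1 := fun h => hx (by rw [h, one_pow])
  have hxx : ¬ IsConj (x : G) (x : G)⁻¹ := by
    intro hc
    obtain ⟨i, hi⟩ := exists_rot_of_isConj P hg (y := x) (z := x⁻¹) (by simpa using hc)
    have h2 : rot P hg ((i : ℕ) + i) x = x := by rw [← rot_rot, hi, map_inv, hi, inv_inv]
    have h0 : ((i : ℕ) + i) % 3 = 0 := by_contra fun h => rot_ne P hg h4 h hx1 h2
    have : (i : ℕ) = 0 := by have := i.2; omega
    rw [this, rot_zero] at hi
    exact hx (by rw [sq]; nth_rw 2 [hi]; rw [mul_inv_cancel])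
  have hxord : ∃ k, orderOf (x : G) = 2 ^ k := by
    obtain ⟨k, hk⟩ := IsPGroup.iff_orderOf.1 P.isPGroup' x
    exact ⟨k, by rw [Subgroup.orderOf_coe, hk]⟩
  have hn := pNilAt_of_mem P h4 x.2 (fun h => hx1 (Subtype.ext h))
  -- no product of two conjugates of `t` lies in the section of `x`
  have hrel : ∑ χ : X, (χ.1 : G → ℂ) (t : G) * (χ.1 : G → ℂ) (t : G) * (χ.1 : G → ℂ) (x : G) /
      (χ.1 : G → ℂ) 1 = 0 := by
    haveI : Fintype (Subgroup.centralizer ({(x : G)} : Set G)) := Fintype.ofFinite _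
    have hz : ∀ c : Subgroup.centralizer ({(x : G)} : Set G), ¬ 2 ∣ orderOf c →
        ∑ χ : IrrCharacter G, conj ((χ : G → ℂ) (t : G)) * conj ((χ : G → ℂ) (t : G)) *
          (χ : G → ℂ) ((x : G) * (c : G)) / (χ : G → ℂ) 1 = 0 := by
      intro c hc
      refine H25.sum_sq_apply_eq_zero _ _ fun a ha hb => hxx ?_
      have hsq : ∀ {z : G}, IsConj (t : G) z → z⁻¹ = z := by
        intro z hz
        obtain ⟨d, rfl⟩ := isConj_iff.1 hz
        refine inv_eq_of_mul_eq_one_right ?_
        rw [← sq, conj_pow, ← Subgroup.coe_pow, ht2]; simp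
      set y := (x : G) * (c : G)
      have ha' := hsq ha
      have hb' := hsq hb
      rw [mul_inv_rev, inv_inv, ha'] at hb'
      have hyy : IsConj y y⁻¹ := isConj_iff.2 ⟨a, by
        calc a * y * a⁻¹ = (a * y) * a⁻¹ := rfl
          _ = (y⁻¹ * a) * a⁻¹ := by rw [hb']
          _ = y⁻¹ := by group⟩
      have hp := isConj_pPart (p := 2) hyy
      rwa [pPart_inv, pPart_mul_of (Subgroup.mem_centralizer_singleton_iff.1 c.2).symm hxord
        (by rwa [Subgroup.orderOf_coe])] at hp
    have hsum : ∑ χ : IrrCharacter G, conj ((χ : G → ℂ) (t : G)) * conj ((χ : G → ℂ) (t : G)) /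
        (χ : G → ℂ) 1 * ((Nat.card (pPrimeCore 2 (Subgroup.centralizer ({(x : G)} : Set G))) : ℂ) *
          if χ ∈ principalBlock M G then (χ : G → ℂ) (x : G) else 0) = 0 := by
      simp only [← sum_shift_regular hM hxord hn, Finset.mul_sum]
      rw [Finset.sum_comm]
      refine Finset.sum_eq_zero fun c _ => ?_
      by_cases hc : 2 ∣ orderOf c
      · simp [hc]
      · rw [← hz c hc]
        exact Finset.sum_congr rfl fun χ _ => by rw [if_neg hc]; ring
    simp only [mul_ite, mul_zero, ← Finset.sum_filter] at hsum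
    rw [Finset.sum_subtype _ (p := fun χ => χ ∈ principalBlock M G) (fun χ => by simp)
      (fun χ => conj ((χ : G → ℂ) (t : G)) * conj ((χ : G → ℂ) (t : G)) / (χ : G → ℂ) 1 *
        ((Nat.card (pPrimeCore 2 (Subgroup.centralizer ({(x : G)} : Set G))) : ℂ) * (χ : G → ℂ) (x : G)))]
      at hsum
    have hK : (Nat.card (pPrimeCore 2 (Subgroup.centralizer ({(x : G)} : Set G))) : ℂ) ≠ 0 :=
      Nat.cast_ne_zero.2 Nat.card_pos.ne'
    refine mul_left_cancel₀ hK ?_
    rw [mul_zero, ← hsum, Finset.mul_sum]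
    refine Finset.sum_congr rfl fun χ _ => ?_
    have hti : (t : G)⁻¹ = (t : G) := inv_eq_of_mul_eq_one_right (by rw [← sq, ← Subgroup.coe_pow, ht2]; rfl)
    rw [conj_apply_eq_inv, hti]
    ring
  -- degrees
  let n : X → ℤ := fun χ => (charDegree (χ.1 : G → ℂ) : ℤ)
  have hn1 : ∀ χ : X, (χ.1 : G → ℂ) 1 = (n χ : ℂ) := fun χ => by
    simp [n, apply_one_eq_charDegree χ.1]
  have hnpos : ∀ χ : X, 0 < n χ := fun χ => by simp [n, charDegree_pos χ.1]
  have hn0 : n x0 = 1 := by
    have := hn1 x0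
    simp only [x0, trivialIrr] at this
    exact_mod_cast this.symm
  set A := -(εa * n ca) with hA
  set B := -(εb * n cb) with hB
  have hD : ∀ v ∈ V, v (φ v) * n (φ v) = 1 + A + B := by
    intro v hv
    obtain ⟨hc0, hca', hcb', -, hz, -⟩ := hφ v hv
    obtain ⟨a, ha, rfl⟩ := Finset.mem_image.1 hv
    have h := sum_degree_vec P hM (a := a)
    rw [← Finset.sum_subset (Finset.subset_univ ({x0, ca, cb, φ (V' a)} : Finset X)) (fun χ _ hχ => by
      simp only [Finset.mem_insert, Finset.mem_singleton, not_or] at hχ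
      have := hz χ hχ.1 hχ.2.1 hχ.2.2.1 hχ.2.2.2
      simp only [V'] at this
      rw [this, mul_zero])] at h
    rw [Finset.sum_insert (by simp [hca0.symm, hcb0.symm, hc0.symm]),
      Finset.sum_insert (by simp [hcab, hca'.symm]), Finset.sum_insert (by simp [hcb'.symm]),
      Finset.sum_singleton] at h
    have ea := (hflower (V' a) hv).1
    have eb := (hflower (V' a) hv).2.1
    have e0 := hx0 (V' a) hv
    simp only [V'] at ea eb e0 ⊢
    change n x0 * _ + (n ca * _ + (n cb * _ + n _ * _)) = 0 at h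
    rw [ea, eb, e0, hn0] at h
    simp only [hA, hB]
    linarith
  have hAodd : ∀ (χ : X) (ε : ℤ), (ε = 1 ∨ ε = -1) → (∀ v ∈ V, v χ = ε) → Odd (-(ε * n χ)) := by
    intro χ ε hε h
    have h1 := H85.memLocalIdeal_apply_sub_one hM (IsIrr.isCharacter χ.1.2) (x := (t : G))
      ⟨1, by rw [Subgroup.orderOf_coe, ht, pow_one]⟩
    rw [hconst χ ε h ht1, hn1, ← Int.cast_neg, ← Int.cast_sub, memLocalIdeal_intCast_iff hM] at h1
    rw [Int.odd_iff]
    rcases hε with rfl | rfl <;> omega
  -- the sum over the exceptional characters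
  have hS : ∑ v ∈ V, S v t * S v t * S v x = -9 := by
    have hSa : ∀ {a}, a ∈ T → ∀ y, S (V' a) y =
        ∑ i : Fin 3, (a : ↥(P : Subgroup G) → ℂ) (rot P hg i y) := by
      intro a ha y
      simp only [S, hfib ha]
      rw [Finset.sum_image fun i _ j _ h => hinj ha h]
      rfl
    have hu1 : rot P hg 1 t ≠ t := rot_ne P hg h4 (by norm_num) ht1
    have hw : rot P hg 2 t = t * rot P hg 1 t := by
      have hsq : ∀ i, ((rot P hg i t : (P : Subgroup G)) : G) ^ 2 = 1 := fun i => by
        rw [← Subgroup.coe_pow, ← map_pow, ht2, map_one]; rfl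
      have h1 : rot P hg 1 t ≠ 1 := fun h => ht1 (by simpa using h)
      have h2 : rot P hg 2 t ≠ 1 := fun h => ht1 (by simpa using h)
      rcases invol_cases P h4 t.2 (rot P hg 1 t).2 (by rw [← Subgroup.coe_pow, ht2]; rfl) (hsq 1)
        (fun h => ht1 (Subtype.ext h)) (fun h => h1 (Subtype.ext h))
        (fun h => hu1 (Subtype.ext h.symm)) (rot P hg 2 t).2 (hsq 2) with h | h | h | h
      · exact absurd (Subtype.ext h) h2
      · exact absurd (Subtype.ext h) (rot_ne P hg h4 (by norm_num) ht1)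
      · exact absurd (rot_injective_idx P hg h4 (i := 2) (j := 1) (by norm_num) (by norm_num) ht1
          (Subtype.ext h)) (by norm_num)
      · exact Subtype.ext h
    calc ∑ v ∈ V, S v t * S v t * S v x
        = ∑ a ∈ T, S (V' a) t * S (V' a) t * (a : ↥(P : Subgroup G) → ℂ) x := by
          rw [← Finset.sum_fiberwise_of_maps_to (g := V') (t := V)
            (fun a ha => Finset.mem_image_of_mem _ ha)
            (fun a => S (V' a) t * S (V' a) t * (a : ↥(P : Subgroup G) → ℂ) x)]
          refine Finset.sum_congr rfl fun v _ => ?_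
          rw [Finset.sum_congr rfl (g := fun a : IrrCharacter (P : Subgroup G) => S v t * S v t * (a : ↥(P : Subgroup G) → ℂ) x)
            (fun a ha => by rw [(Finset.mem_filter.1 ha).2]), ← Finset.mul_sum]
      _ = ∑ a ∈ T, (3 * (a : ↥(P : Subgroup G) → ℂ) x +
            2 * ∑ i : Fin 3, (a : ↥(P : Subgroup G) → ℂ) (rot P hg i t * x)) := by
          refine Finset.sum_congr rfl fun a ha => ?_
          rw [hSa ha, Fin.sum_univ_three, Fin.sum_univ_three, sylow_mul, sylow_mul, sylow_mul]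
          simp only [Fin.val_zero, Fin.val_one, Fin.val_two, rot_zero, hw, sylow_mul]
          have q0 : (a : ↥(P : Subgroup G) → ℂ) t ^ 2 = 1 := by
            rw [sq, ← sylow_mul, ← sq, ht2, sylow_lin]
          have q1 : (a : ↥(P : Subgroup G) → ℂ) (rot P hg 1 t) ^ 2 = 1 := by
            rw [sq, ← sylow_mul, ← sq, ← map_pow, ht2, map_one, sylow_lin]
          linear_combination ((a : ↥(P : Subgroup G) → ℂ) x *
              (1 + 2 * (a : ↥(P : Subgroup G) → ℂ) (rot P hg 1 t) +
                (a : ↥(P : Subgroup G) → ℂ) (rot P hg 1 t) ^ 2)) * q0 +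
            ((a : ↥(P : Subgroup G) → ℂ) x *
              (2 + 2 * (a : ↥(P : Subgroup G) → ℂ) t)) * q1
      _ = -9 := by
          rw [Finset.sum_add_distrib, ← Finset.mul_sum, hTsum hx1, ← Finset.mul_sum, Finset.sum_comm,
            Finset.sum_congr rfl (g := fun _ => (-1 : ℂ)) fun i _ => hTsum fun h => hx ?_]
          · simp; norm_num
          · have : x = (rot P hg i t)⁻¹ := eq_inv_of_mul_eq_one_right h
            rw [this, inv_pow, ← map_pow, ht2, map_one, inv_one]
  -- the relation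
  have hfinal : (1 : ℂ) + 1 / (A : ℂ) + 1 / (B : ℂ) + (-9) / ((1 + A + B : ℤ) : ℂ) = 0 := by
    have hφinj : Set.InjOn φ V := by
      intro v hv w hw h
      by_contra hne
      have hv4 : v (φ v) = 1 ∨ v (φ v) = -1 := (hφ v hv).2.2.2.1
      have h0 : v (φ w) = 0 := (hφ w hw).2.2.2.2.2 v hv hne
      rw [← h] at h0
      omega
    rw [← hrel, ← Finset.sum_subset (Finset.subset_univ (({x0, ca, cb} : Finset X) ∪ V.image φ))
      (fun χ _ hχ => by
        simp only [Finset.mem_union, Finset.mem_insert, Finset.mem_singleton, Finset.mem_image,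
          not_or, not_exists, not_and] at hχ
        rw [hnone χ hχ.1.1 hχ.1.2.1 hχ.1.2.2 (fun v hv h => hχ.2 v hv h.symm) hx1, mul_zero, zero_div]),
      Finset.sum_union, Finset.sum_image hφinj, Finset.sum_insert (by simp [hca0.symm, hcb0.symm]),
      Finset.sum_insert (by simp [hcab]), Finset.sum_singleton]
    · have e0 : (x0.1 : G → ℂ) = fun _ => 1 := rfl
      rw [hconst ca εa (fun v hv => (hflower v hv).1) ht1, hconst ca εa (fun v hv => (hflower v hv).1) hx1,
        hconst cb εb (fun v hv => (hflower v hv).2.1) ht1,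
        hconst cb εb (fun v hv => (hflower v hv).2.1) hx1, hn1 ca, hn1 cb, e0]
      rw [Finset.sum_congr rfl (g := fun v => S v t * S v t * S v x / ((1 + A + B : ℤ) : ℂ))
        fun v hv => ?_, ← Finset.sum_div, hS]
      · have sa : (εa : ℂ) ^ 2 = 1 := by rcases hεa with rfl | rfl <;> simp
        have sb : (εb : ℂ) ^ 2 = 1 := by rcases hεb with rfl | rfl <;> simp
        have na : (n ca : ℂ) ≠ 0 := by exact_mod_cast (hnpos ca).ne'
        have nb : (n cb : ℂ) ≠ 0 := by exact_mod_cast (hnpos cb).ne'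
        have ea : (1 : ℂ) / (A : ℂ) = -(εa : ℂ) * -(εa : ℂ) * -(εa : ℂ) / (n ca : ℂ) := by
          rw [hA]; push_cast
          rcases hεa with rfl | rfl <;> simp [div_neg, neg_div]
        have eb : (1 : ℂ) / (B : ℂ) = -(εb : ℂ) * -(εb : ℂ) * -(εb : ℂ) / (n cb : ℂ) := by
          rw [hB]; push_cast
          rcases hεb with rfl | rfl <;> simp [div_neg, neg_div]
        rw [ea, eb]
        ring
      · rw [hexc v hv ht1, hexc v hv hx1, hn1, ← hD v hv]
        rcases (hφ v hv).2.2.2.1 with h | h <;> rw [h] <;> push_cast <;> ring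
    · rw [Finset.disjoint_left]
      intro χ h1 h2
      obtain ⟨v, hv, rfl⟩ := Finset.mem_image.1 h2
      simp only [Finset.mem_insert, Finset.mem_singleton] at h1
      obtain ⟨q0, q1, q2, -⟩ := hφ v hv
      rcases h1 with h | h | h
      exacts [q0 h, q1 h, q2 h]
  obtain ⟨v0, hv0⟩ := Finset.card_pos.1 (show 0 < V.card by omega)
  have hDne : (1 + A + B : ℤ) ≠ 0 := by
    rw [← hD v0 hv0]
    refine mul_ne_zero ?_ (hnpos _).ne'
    rcases (hφ v0 hv0).2.2.2.1 with h | h <;> rw [h] <;> norm_num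
  have oA := hAodd ca εa hεa fun v hv => (hflower v hv).1
  have oB := hAodd cb εb hεb fun v hv => (hflower v hv).2.1
  have hint : (1 + A + B) * (A * B + A + B) = 9 * A * B := by
    have a0 : (A : ℂ) ≠ 0 := by
      have : A ≠ 0 := by rcases oA with ⟨k, hk⟩; omega
      exact_mod_cast this
    have b0 : (B : ℂ) ≠ 0 := by
      have : B ≠ 0 := by rcases oB with ⟨k, hk⟩; omega
      exact_mod_cast this
    have d0 : ((1 + A + B : ℤ) : ℂ) ≠ 0 := by exact_mod_cast hDne
    apply Int.cast_injective (α := ℂ)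
    push_cast at hfinal d0 ⊢
    field_simp at hfinal
    linear_combination hfinal
  have hA1 := (eq_one_of_brauer_relation oA oB hint).1
  have hε : εa = -1 ∧ n ca = 1 := by
    have := hnpos ca
    rcases hεa with rfl | rfl <;> constructor <;> omega
  refine ⟨ca.1, ca.2, by rw [hn1, hε.2, Int.cast_one], fun h => hca0 (Subtype.ext h), fun y hy => ?_⟩
  rcases eq_or_ne (⟨y, hy⟩ : (P : Subgroup G)) 1 with h | h
  · rw [show y = 1 from congrArg Subtype.val h, hn1, hε.2, Int.cast_one]
  · have := hconst ca εa (fun v hv => (hflower v hv).1) h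
    rw [hε.1] at this
    simpa using this

end Cfsg.Agent.H86
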