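import Cfsg.Agent.H86.PrincipalRegular
import Mathlib.Data.Int.ModEq

/-!
# The principal block of a group with a Sylow subgroup of prime order

It consists of `e` characters with values `±1` on the singular sections and `(p - 1) / e`
exceptional characters agreeing on the regular elements.
-/

set_option linter.unusedSectionVars false
set_option maxHeartbeats 1000000

open scoped ComplexConjugate

namespace Cfsg.Agent.H86.Abelian

open CharBasic BlockBasic Subgroup PrimeOrder

universe u

variable {G : Type u} [Group G] [Fintype G] {p : ℕ} [hp : Fact p.Prime] {M : Ideal AlgInt}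
variable (P : Sylow p G) (hP : Nat.card P = p)

include hP

theorem isMulCommutative_sylow : IsMulCommutative (P : Subgroup G) := by
  haveI : IsCyclic (P : Subgroup G) := isCyclic_of_prime_card (p := p) hP
  exact IsCyclic.isMulCommutative

theorem freeFusion : FreeFusion P := by
  intro n _ x hx hx1 hnx
  have hle : zpowers x = (P : Subgroup G) := by
    refine eq_of_le_of_card_ge (zpowers_le.2 hx) ?_
    have h := hP ▸ orderOf_dvd_natCard (G := (P : Subgroup G)) ⟨x, hx⟩
    rw [Subgroup.orderOf_mk] at h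
    rw [Nat.card_zpowers, hP]
    rcases (Nat.dvd_prime hp.out).1 h with e | e
    · exact absurd (orderOf_eq_one_iff.1 e) hx1
    · exact e.ge
  have hc : Commute n x := mul_inv_eq_iff_eq_mul.1 hnx
  refine mem_centralizer_iff.2 fun y hy => ?_
  rw [SetLike.mem_coe, ← hle] at hy
  obtain ⟨i, rfl⟩ := hy
  exact (hc.zpow_right i).eq.symm

theorem relIndex_dvd :
    (centralizer ((P : Subgroup G) : Set G)).relIndex (normalizer (P : Set G)) ∣
      p - 1 := by
  obtain ⟨ν, hν⟩ := TraceQ.exists_hom P hP (ZMod p)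
  have he : (centralizer ((P : Subgroup G) : Set G)).relIndex
      (normalizer (P : Set G)) = Nat.card ν.toHomUnits.range := by
    rw [← index_ker, hν]; rfl
  rw [he]
  refine (Subgroup.card_subgroup_dvd_card _).trans ?_
  rw [Nat.card_eq_fintype_card, ZMod.card_units]

/-- The regular rank and the vectors give `e + r ≤ k`. -/
theorem card_principal_ge (hM : IsPModular p M) :
    (centralizer ((P : Subgroup G) : Set G)).relIndex (normalizer (P : Set G)) +
      (p - 1) / (centralizer ((P : Subgroup G) : Set G)).relIndex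
        (normalizer (P : Set G)) ≤ Nat.card (principalBlock M G) := by
  classical
  haveI := isMulCommutative_sylow P hP
  letI : Fintype (P : Subgroup G) := Fintype.ofFinite _
  letI : Fintype (normalizer (P : Set G)) := Fintype.ofFinite _
  have hfix := freeFusion P hP
  set m := (centralizer ((P : Subgroup G) : Set G)).relIndex (normalizer (P : Set G)) with hm
  let X := {χ : IrrCharacter G // χ ∈ principalBlock M G}
  let Φ : (X → ℂ) →ₗ[ℂ] ({g : G // ¬ p ∣ orderOf g} → ℂ) :=
    Fintype.linearCombination ℂ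
      (fun (χ : X) (g : {g : G // ¬ p ∣ orderOf g}) => (χ.1 : G → ℂ) g)
  have hm0 : 0 < m := Nat.pos_of_ne_zero (Subgroup.index_ne_zero_of_finite)
  let T := Finset.univ.filter fun b : IrrCharacter (P : Subgroup G) => b ≠ triv P
  let O := T.image (orb P)
  have hT : ∀ {b}, b ∈ T ↔ b ≠ triv P := fun {b} => by simp [T]
  have hfib : ∀ b ∈ T, T.filter (fun b' => orb P b' = orb P b) = orb P b := by
    intro b hb
    ext b'
    simp only [Finset.mem_filter]
    constructor
    · exact fun ⟨_, h⟩ => h ▸ self_mem_orb P b'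
    · intro h
      obtain ⟨n, rfl⟩ := (mem_orb P).1 h
      exact ⟨hT.2 (actIrr_ne_triv P (hT.1 hb) n), eq_orb_of_mem P h⟩
  have hTcard : T.card + 1 = p := by
    have h2 := sum_sq_degree (G := (P : Subgroup G))
    simp only [lin P, one_pow, Finset.sum_const, Finset.card_univ, nsmul_eq_mul, mul_one,
      Nat.cast_inj] at h2
    rw [show T = Finset.univ.erase (triv P) by ext; simp [T],
      Finset.card_erase_of_mem (Finset.mem_univ _), Finset.card_univ, h2]
    have h3 : Nat.card (P : Subgroup G) = p := hP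
    have := hp.out.two_le
    omega
  have hO : O.card * m + 1 = p := by
    have h1 : T.card = O.card * m := by
      rw [Finset.card_eq_sum_card_image (orb P) T, Finset.sum_congr rfl (g := fun _ => m) fun o ho => ?_,
        Finset.sum_const, smul_eq_mul]
      obtain ⟨b, hb, rfl⟩ := Finset.mem_image.1 ho
      rw [hfib b hb, card_orb P hfix (hT.1 hb)]
    omega
  choose rep hrepT hrep using fun o : O => Finset.mem_image.1 o.2
  have hker : ∀ o : O, (fun χ : X => (vec P (rep o) χ.1 : ℂ)) ∈ LinearMap.ker Φ := by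
    intro o
    rw [LinearMap.mem_ker]
    funext g
    have h := sum_regular_vec P hM g.2 (rep o)
    simpa [Φ, Fintype.linearCombination_apply, Finset.sum_apply, mul_comm] using h
  have hind : LinearIndependent ℂ fun o : O => (⟨_, hker o⟩ : LinearMap.ker Φ) := by
    refine LinearIndependent.of_comp (LinearMap.ker Φ).subtype ?_
    rw [Fintype.linearIndependent_iff]
    intro a ha
    have hgram : ∀ o o' : O, ∑ χ : X, (vec P (rep o) χ.1 : ℂ) * (vec P (rep o') χ.1 : ℂ) =
        (m : ℂ) + if o = o' then 1 else 0 := by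
      intro o o'
      have h := congrArg (fun z : ℤ => (z : ℂ))
        (gram P hM hfix (hT.1 (hrepT o)) (hT.1 (hrepT o')))
      have hiff : rep o ∈ orb P (rep o') ↔ o = o' := by
        constructor
        · intro h'
          exact Subtype.ext ((hrep o).symm.trans ((eq_orb_of_mem P h').trans (hrep o')))
        · rintro rfl; exact self_mem_orb P _
      simp only [hiff, Int.cast_sum, Int.cast_mul, Int.cast_add, Int.cast_natCast,
        apply_ite (fun z : ℤ => (z : ℂ)), Int.cast_one, Int.cast_zero] at h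
      exact h
    have h1 : ∀ o' : O, (m : ℂ) * ∑ o, a o + a o' = 0 := by
      intro o'
      have h0 : ∑ χ : X, (∑ o, a o * (vec P (rep o) χ.1 : ℂ)) * (vec P (rep o') χ.1 : ℂ) = 0 := by
        refine Finset.sum_eq_zero fun χ _ => ?_
        have := congrFun ha χ
        simp only [Function.comp_apply, Submodule.coe_subtype, Finset.sum_apply, Pi.smul_apply,
          smul_eq_mul, Pi.zero_apply] at this
        rw [this, zero_mul]
      simp only [Finset.sum_mul, mul_assoc] at h0
      rw [Finset.sum_comm] at h0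
      simp only [← Finset.mul_sum, hgram, mul_add, Finset.sum_add_distrib, mul_ite, mul_one, mul_zero,
        Finset.sum_ite_eq', Finset.mem_univ, if_true, ← Finset.sum_mul] at h0
      rw [mul_comm]; exact h0
    intro o'
    have h2 : ((m : ℂ) * (O.card : ℂ) + 1) * ∑ o, a o = 0 := by
      have := Finset.sum_eq_zero fun o (_ : o ∈ Finset.univ) => h1 o
      rw [Finset.sum_add_distrib, Finset.sum_const, Finset.card_univ, Fintype.card_coe,
        nsmul_eq_mul] at this
      linear_combination this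
    have h3 : ((m : ℂ) * (O.card : ℂ) + 1) ≠ 0 := by
      have : ((m * O.card + 1 : ℕ) : ℂ) ≠ 0 := Nat.cast_ne_zero.2 (Nat.succ_ne_zero _)
      push_cast at this
      exact this
    have := h1 o'
    rw [(mul_eq_zero.1 h2).resolve_left h3, mul_zero, zero_add] at this
    exact this
  have h1 := hind.fintype_card_le_finrank
  rw [Fintype.card_coe] at h1
  have h2 := exists_independent_regular hM P hP
  rw [← Fintype.range_linearCombination] at h2
  have h3 := LinearMap.finrank_range_add_finrank_ker Φ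
  rw [Module.finrank_fintype_fun_eq_card] at h3
  have h4 : (p - 1) / m = O.card := by
    rw [show p - 1 = O.card * m by omega, Nat.mul_div_cancel _ hm0]
  have h5 : Nat.card (principalBlock M G) = Fintype.card X := Nat.card_eq_fintype_card
  show m + (p - 1) / m ≤ _
  rw [h4, h5]
  calc m + O.card ≤ Module.finrank ℂ (LinearMap.range Φ) + Module.finrank ℂ (LinearMap.ker Φ) :=
        Nat.add_le_add h2 h1
    _ = _ := h3

theorem exists_int_sum_apply (χ : IrrCharacter G) [Fintype (P : Subgroup G)] :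
    ∃ k : ℤ, ∑ y : (P : Subgroup G), (χ : G → ℂ) y = (p : ℂ) * k := by
  haveI := isMulCommutative_sylow P hP
  letI : Fintype (normalizer (P : Set G)) := Fintype.ofFinite _
  refine ⟨pMult P χ (triv P), ?_⟩
  have h := pMult_spec P χ (triv P)
  simp only [classInner_def, triv_apply, map_one, mul_one] at h
  rw [show Nat.card (P : Subgroup G) = p from hP] at h
  rw [Int.cast_natCast, ← h, ← mul_assoc, mul_inv_cancel₀ (Nat.cast_ne_zero.2 hp.out.ne_zero),
    one_mul]

theorem charDegree_modEq (χ : IrrCharacter G) [Fintype (P : Subgroup G)] [DecidableEq (P : Subgroup G)]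
    {s : ℤ} (hs : ∑ y ∈ Finset.univ.erase (1 : (P : Subgroup G)), (χ : G → ℂ) y = (s : ℂ)) :
    (charDegree (χ : G → ℂ) : ℤ) ≡ -s [ZMOD p] := by
  obtain ⟨k, hk⟩ := exists_int_sum_apply P hP χ
  rw [← Finset.add_sum_erase _ _ (Finset.mem_univ (1 : (P : Subgroup G))), hs, Subgroup.coe_one,
    apply_one_eq_charDegree] at hk
  have hk' : (charDegree (χ : G → ℂ) : ℤ) + s = p * k := by exact_mod_cast hk
  rw [Int.modEq_iff_dvd]
  exact ⟨-k, by linear_combination -hk'⟩

theorem apply_mul_eq [IsMulCommutative (P : Subgroup G)] (hM : IsPModular p M) {χ : IrrCharacter G}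
    (hχ : χ ∈ principalBlock M G) {x : G} (hx : x ∈ (P : Subgroup G)) (hx1 : x ≠ 1) {y : G}
    (hy : y ∈ centralizer ((P : Subgroup G) : Set G)) (hy' : ¬ p ∣ orderOf y) :
    (χ : G → ℂ) (x * y) = (χ : G → ℂ) x := by
  refine principal_apply_mul hM (exists_orderOf P ⟨x, hx⟩)
    (pNilAt_of_mem P (freeFusion P hP) hx hx1) hχ (c := ⟨y, ?_⟩)
    (by rwa [Subgroup.orderOf_mk])
  exact mem_centralizer_singleton_iff.2 (mem_centralizer_iff.1 hy x hx).symm

/-- The structure of the principal block, with the sums over `P`. -/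
theorem exists_structure_full (hM : IsPModular p M) :
    ∃ (X Y : Finset (IrrCharacter G)) (εX : IrrCharacter G → ℤ) (ε : ℤ),
      (∀ χ, χ ∈ principalBlock M G ↔ χ ∈ X ∨ χ ∈ Y) ∧ Disjoint X Y ∧
      X.card = (centralizer ((P : Subgroup G) : Set G)).relIndex
        (normalizer (P : Set G)) ∧
      Y.card = (p - 1) / (centralizer ((P : Subgroup G) : Set G)).relIndex
        (normalizer (P : Set G)) ∧
      (∀ χ ∈ X, (εX χ = 1 ∨ εX χ = -1) ∧ (charDegree (χ : G → ℂ) : ℤ) ≡ εX χ [ZMOD p] ∧
        ∀ x : G, x ∈ (P : Subgroup G) → x ≠ 1 → ∀ y : G,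
          y ∈ centralizer ((P : Subgroup G) : Set G) → ¬ p ∣ orderOf y →
            (χ : G → ℂ) (x * y) = (εX χ : ℂ)) ∧
      (ε = 1 ∨ ε = -1) ∧
      (∀ θ ∈ Y, (charDegree (θ : G → ℂ) : ℤ) ≡ ε *
        ((centralizer ((P : Subgroup G) : Set G)).relIndex
          (normalizer (P : Set G)) : ℤ) [ZMOD p]) ∧
      (∀ θ ∈ Y, ∀ θ' ∈ Y, ∀ g : G, ¬ p ∣ orderOf g → (θ : G → ℂ) g = (θ' : G → ℂ) g) ∧
      (∀ θ ∈ Y, ∀ g : G, ¬ p ∣ orderOf g →
        (ε : ℂ) * (θ : G → ℂ) g = ∑ χ ∈ X, (εX χ : ℂ) * (χ : G → ℂ) g) ∧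
      trivialIrr ∈ X ∧
      ∀ θ ∈ Y, ∀ [Fintype (P : Subgroup G)], ∑ y : (P : Subgroup G), (θ : G → ℂ) y =
        (θ : G → ℂ) 1 - (ε : ℂ) *
          ((centralizer ((P : Subgroup G) : Set G)).relIndex (normalizer (P : Set G)) : ℂ) := by
  classical
  haveI := isMulCommutative_sylow P hP
  letI instP : Fintype (P : Subgroup G) := Fintype.ofFinite _
  letI : Fintype (normalizer (P : Set G)) := Fintype.ofFinite _
  have hfix := freeFusion P hP
  have hP' : Nat.card (P : Subgroup G) = p := hP
  obtain ⟨r, hr⟩ := relIndex_dvd P hP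
  set m := (centralizer ((P : Subgroup G) : Set G)).relIndex (normalizer (P : Set G)) with hm
  have hm0 : 0 < m := Nat.pos_of_ne_zero (Subgroup.index_ne_zero_of_finite)
  have hr' : (p - 1) / m = r := by rw [hr, Nat.mul_div_cancel_left _ hm0]
  have hp2 := hp.out.two_le
  have hr0 : r ≠ 0 := by rintro rfl; omega
  have hge := card_principal_ge P hP hM
  rw [hr'] at hge ⊢
  let B := Finset.univ.filter fun χ : IrrCharacter G => χ ∈ principalBlock M G
  have hB : ∀ {χ}, χ ∈ B ↔ χ ∈ principalBlock M G := fun {χ} => by simp [B]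
  have hBc : Nat.card (principalBlock M G) = B.card := by
    rw [Nat.card_eq_fintype_card, ← Fintype.card_subtype]
  rw [hBc] at hge
  have herase : ∀ (χ : IrrCharacter G) (c : ℂ), (∀ y : (P : Subgroup G), y ≠ 1 → (χ : G → ℂ) y = c) →
      ∑ y ∈ Finset.univ.erase (1 : (P : Subgroup G)), (χ : G → ℂ) y = ((p - 1 : ℕ) : ℂ) * c := by
    intro χ c h
    rw [Finset.sum_congr rfl fun y hy => h y (Finset.ne_of_mem_erase hy), Finset.sum_const,
      Finset.card_erase_of_mem (Finset.mem_univ _), Finset.card_univ, ← Nat.card_eq_fintype_card,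
      hP', nsmul_eq_mul]
  have hconstdeg : ∀ (χ : IrrCharacter G) (a : ℤ),
      (∀ y : (P : Subgroup G), y ≠ 1 → (χ : G → ℂ) y = a) →
      (charDegree (χ : G → ℂ) : ℤ) ≡ a [ZMOD p] := by
    intro χ a h
    have h1 := charDegree_modEq P hP χ (s := ((p - 1 : ℕ) : ℤ) * a) (by rw [herase χ a h]; push_cast; ring)
    refine h1.trans ?_
    rw [Int.modEq_iff_dvd]
    refine ⟨a, ?_⟩
    rw [Nat.cast_sub (by omega)]; push_cast; ring
  have hconstval : ∀ χ ∈ principalBlock M G, ∀ a : ℤ,
      (∀ y : (P : Subgroup G), y ≠ 1 → (χ : G → ℂ) y = a) →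
      ∀ x : G, x ∈ (P : Subgroup G) → x ≠ 1 → ∀ y : G,
        y ∈ centralizer ((P : Subgroup G) : Set G) → ¬ p ∣ orderOf y →
          (χ : G → ℂ) (x * y) = (a : ℂ) := fun χ hχ a h x hx hx1 y hy hy' => by
    rw [apply_mul_eq P hP hM hχ hx hx1 hy hy']
    exact h ⟨x, hx⟩ fun e => hx1 (congrArg Subtype.val e)
  rcases eq_or_ne r 1 with rfl | hr1
  · -- one orbit
    rw [mul_one] at hr
    obtain ⟨b₀, hb₀⟩ : ∃ b : IrrCharacter (P : Subgroup G), b ≠ triv P := by
      by_contra hno
      push Not at hno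
      have h2 := sum_sq_degree (G := (P : Subgroup G))
      simp only [lin P, one_pow, Finset.sum_const, Finset.card_univ, nsmul_eq_mul, mul_one,
        Nat.cast_inj] at h2
      have h3 : Fintype.card (IrrCharacter (P : Subgroup G)) ≤ 1 :=
        Fintype.card_le_one_iff.2 fun a b => (hno a).trans (hno b).symm
      omega
    let v : IrrCharacter G → ℤ := vec P b₀
    have hall : ∀ b : IrrCharacter (P : Subgroup G), b ≠ triv P → b ∈ orb P b₀ := by
      intro b hb
      have hsub : orb P b₀ ⊆ Finset.univ.erase (triv P) := fun c hc => by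
        obtain ⟨n, rfl⟩ := (mem_orb P).1 hc
        exact Finset.mem_erase.2 ⟨actIrr_ne_triv P hb₀ n, Finset.mem_univ _⟩
      have heq := Finset.eq_of_subset_of_card_le hsub (by
        rw [card_orb P hfix hb₀, Finset.card_erase_of_mem (Finset.mem_univ _), Finset.card_univ]
        have h2 := sum_sq_degree (G := (P : Subgroup G))
        simp only [lin P, one_pow, Finset.sum_const, Finset.card_univ, nsmul_eq_mul, mul_one,
          Nat.cast_inj] at h2
        show _ ≤ m
        omega)
      rw [heq]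
      exact Finset.mem_erase.2 ⟨hb, Finset.mem_univ _⟩
    have hvec : ∀ χ ∈ principalBlock M G, ∀ b : IrrCharacter (P : Subgroup G), b ≠ triv P →
        vec P b χ = v χ := by
      intro χ hχ b hb
      have h1 := gram P hM hfix hb hb₀
      have h2 := gram P hM hfix hb₀ hb₀
      have h3 := gram P hM hfix hb hb
      rw [if_pos (hall b hb)] at h1
      rw [if_pos (self_mem_orb P _)] at h2 h3
      have h0 : ∑ χ : {χ : IrrCharacter G // χ ∈ principalBlock M G},
          (vec P b χ.1 - vec P b₀ χ.1) ^ 2 = 0 := by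
        rw [Finset.sum_congr rfl (g := fun χ : {χ : IrrCharacter G // χ ∈ principalBlock M G} =>
          vec P b χ.1 * vec P b χ.1 + vec P b₀ χ.1 * vec P b₀ χ.1 -
            2 * (vec P b χ.1 * vec P b₀ χ.1)) (fun χ _ => by ring), Finset.sum_sub_distrib,
          Finset.sum_add_distrib, ← Finset.mul_sum, h1, h2, h3]
        ring
      have h5 := (Finset.sum_eq_zero_iff_of_nonneg fun χ _ => sq_nonneg _).1 h0 ⟨χ, hχ⟩
        (Finset.mem_univ _)
      exact sub_eq_zero.1 (pow_eq_zero_iff two_ne_zero |>.1 h5)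
    have hval : ∀ χ ∈ principalBlock M G, ∀ y : (P : Subgroup G), y ≠ 1 →
        (χ : G → ℂ) y = ((-v χ : ℤ) : ℂ) := by
      intro χ hχ y hy
      rw [apply_eq_sum_vec P χ hy, ← Finset.add_sum_erase _ _ (Finset.mem_univ (triv P)), vec_triv,
        Int.cast_zero, zero_mul, zero_add, Finset.sum_congr rfl fun b hb => by
          rw [hvec χ hχ b (Finset.ne_of_mem_erase hb)], ← Finset.mul_sum,
        Finset.sum_erase_eq_sub (Finset.mem_univ _), sum_irr_apply P hy, triv_apply]
      push_cast; ring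
    have hsumB : ∀ {α : Type} [AddCommMonoid α] (f : IrrCharacter G → α),
        ∑ χ : {χ : IrrCharacter G // χ ∈ principalBlock M G}, f χ.1 = ∑ χ ∈ B, f χ :=
      fun f => (Finset.sum_subtype B (fun χ => hB) f).symm
    have hnorm : ∑ χ ∈ B, v χ ^ 2 = (p : ℤ) := by
      have h := gram P hM hfix hb₀ hb₀
      rw [if_pos (self_mem_orb P _), hsumB (fun χ => vec P b₀ χ * vec P b₀ χ)] at h
      simp only [sq]
      rw [h]
      show (m : ℤ) + 1 = (p : ℤ)
      omega
    have hne : ∀ χ ∈ B, 1 ≤ v χ ^ 2 := by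
      intro χ hχ
      rcases eq_or_ne (v χ) 0 with h0 | h0
      · exfalso
        obtain ⟨y, hy, hy0⟩ := exists_apply_ne_zero P hM hfix (by omega) (hB.1 hχ)
        exact hy0 (by rw [hval χ (hB.1 hχ) y hy, h0]; simp)
      · nlinarith [Int.one_le_abs h0, sq_abs (v χ)]
    have hsum0 : ∑ χ ∈ B, (v χ ^ 2 - 1) = 0 := by
      refine le_antisymm ?_ (Finset.sum_nonneg fun χ hχ => by linarith [hne χ hχ])
      rw [Finset.sum_sub_distrib, hnorm, Finset.sum_const, nsmul_eq_mul, mul_one]
      omega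
    have hone : ∀ χ ∈ B, v χ = 1 ∨ v χ = -1 := fun χ hχ => sq_eq_one_iff.1 (by
      linarith [(Finset.sum_eq_zero_iff_of_nonneg fun χ hχ => by linarith [hne χ hχ]).1 hsum0 χ hχ])
    have hk : B.card = m + 1 := by
      rw [Finset.sum_sub_distrib, hnorm, Finset.sum_const, nsmul_eq_mul, mul_one] at hsum0
      omega
    have htB : (trivialIrr : IrrCharacter G) ∈ B := hB.2 (sameBlock_refl hM _)
    obtain ⟨θ, hθ, hθne⟩ := Finset.exists_mem_ne (show 1 < B.card by omega) (trivialIrr : IrrCharacter G)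
    refine ⟨B.erase θ, {θ}, fun χ => -v χ, v θ, fun χ => ?_, ?_, ?_, by simp, ?_, hone θ hθ, ?_, ?_, ?_,
      Finset.mem_erase.2 ⟨hθne.symm, htB⟩, ?_⟩
    · rw [← hB, Finset.mem_singleton, Finset.mem_erase]
      by_cases h : χ = θ
      · subst h; simp [hθ]
      · simp [h]
    · simp
    · rw [Finset.card_erase_of_mem hθ, hk]; rfl
    · intro χ hχ
      have hχB := Finset.mem_of_mem_erase hχ
      exact ⟨by rcases hone χ hχB with e | e <;> simp [e],
        hconstdeg χ _ (hval χ (hB.1 hχB)), hconstval χ (hB.1 hχB) _ (hval χ (hB.1 hχB))⟩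
    · intro χ hχ
      obtain rfl := Finset.mem_singleton.1 hχ
      refine (hconstdeg χ _ (hval χ (hB.1 hθ))).trans ?_
      rw [Int.modEq_iff_dvd]
      refine ⟨v χ, ?_⟩
      have : (m : ℤ) = (p : ℤ) - 1 := by omega
      rw [this]; ring
    · intro a ha b hb g _
      rw [Finset.mem_singleton.1 ha, Finset.mem_singleton.1 hb]
    · intro a ha g hg
      obtain rfl := Finset.mem_singleton.1 ha
      have h := sum_regular_vec P hM hg b₀
      rw [hsumB (fun χ => (χ : G → ℂ) g * (vec P b₀ χ : ℂ)), ← Finset.add_sum_erase _ _ hθ] at h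
      have e : ∑ χ ∈ B.erase a, ((-v χ : ℤ) : ℂ) * (χ : G → ℂ) g =
          -∑ χ ∈ B.erase a, (χ : G → ℂ) g * (vec P b₀ χ : ℂ) := by
        rw [← Finset.sum_neg_distrib]
        exact Finset.sum_congr rfl fun χ _ => by simp [v]; ring
      rw [e]
      linear_combination h
    · intro a ha instF
      obtain rfl := Finset.mem_singleton.1 ha
      rw [Subsingleton.elim instF instP]
      clear instF
      refine (Finset.add_sum_erase Finset.univ (fun y : (P : Subgroup G) => (a : G → ℂ) y)
        (Finset.mem_univ 1)).symm.trans ?_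
      rw [Subgroup.coe_one, sub_eq_add_neg]
      refine congrArg _ ?_
      rw [show ∑ y ∈ Finset.univ.erase (1 : (P : Subgroup G)), (a : G → ℂ) y =
          ((p - 1 : ℕ) : ℂ) * ((-v a : ℤ) : ℂ) from by convert herase a _ (hval a (hB.1 hθ))]
      have : (m : ℂ) = ((p - 1 : ℕ) : ℂ) := by exact_mod_cast congrArg (fun z : ℕ => (z : ℂ)) hr.symm
      show _ = -((v a : ℂ) * (m : ℂ))
      rw [this]; push_cast; ring
  · -- at least two orbits
    have hr2 : 2 ≤ r := by omega
    have hmp : m + 1 < Nat.card (P : Subgroup G) := by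
      have : m * 2 ≤ m * r := Nat.mul_le_mul_left m hr2
      omega
    obtain ⟨Y, ζ, δ, d, a, hδ, hYB, htY, -, -, hζs, -, hYc, hexc, hout, hnorm, hagree, hrel⟩ :=
      exists_exceptional P hM hfix hmp
    rw [← hm] at hYc hnorm
    have hYr : Y.card = r := by
      have : Y.card * m = r * m := by rw [mul_comm r m]; omega
      exact Nat.eq_of_mul_eq_mul_right hm0 this
    have hYsub : Y ⊆ B := fun θ hθ => hB.2 (hYB θ hθ)
    let X := B \ Y
    have hXc : X.card + r = B.card := by
      rw [← hYr, Finset.card_sdiff_add_card_eq_card hYsub]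
    have hnorm' : (d - δ) ^ 2 + ((r : ℤ) - 1) * d ^ 2 + ∑ χ ∈ X, a χ ^ 2 = (m : ℤ) + 1 := by
      rw [← hYr]
      refine Eq.trans ?_ hnorm
      congr 1
      rw [← Finset.sum_filter]
      exact Finset.sum_congr (by ext; simp [X, B]) fun _ _ => rfl
    have hone : ∀ χ ∈ X, 1 ≤ a χ ^ 2 := fun χ hχ => by
      have h := (hout χ (hB.1 (Finset.mem_sdiff.1 hχ).1) (Finset.mem_sdiff.1 hχ).2).1
      nlinarith [Int.one_le_abs h, sq_abs (a χ)]
    have hXsum : (X.card : ℤ) ≤ ∑ χ ∈ X, a χ ^ 2 := by
      simpa using Finset.sum_le_sum hone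
    have hXm : (m : ℤ) ≤ X.card := by exact_mod_cast (by omega : m ≤ X.card)
    have hd2 : δ ^ 2 = 1 := by rcases hδ with e | e <;> simp [e]
    have hcases : (d = 0 ∧ (d - δ) ^ 2 + ((r : ℤ) - 1) * d ^ 2 = 1) ∨ (d = δ ∧ r = 2) := by
      rcases eq_or_ne d 0 with h | h
      · left; refine ⟨h, ?_⟩; rw [h]; linear_combination hd2
      · right
        have h1 : 1 ≤ d ^ 2 := by nlinarith [Int.one_le_abs h, sq_abs d]
        have h2 : (2 : ℤ) ≤ r := by exact_mod_cast hr2
        have h3 : (d - δ) ^ 2 + ((r : ℤ) - 1) * d ^ 2 ≤ 1 := by omega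
        have h4 : ((r : ℤ) - 1) * 1 ≤ ((r : ℤ) - 1) * d ^ 2 :=
          mul_le_mul_of_nonneg_left h1 (by omega)
        have h5 := sq_nonneg (d - δ)
        have h6 : (r : ℤ) = 2 := by omega
        refine ⟨?_, by exact_mod_cast h6⟩
        rw [h6] at h3
        have h7 : (d - δ) ^ 2 = 0 := by omega
        exact sub_eq_zero.1 (pow_eq_zero_iff two_ne_zero |>.1 h7)
    have htot : ∑ χ ∈ X, a χ ^ 2 = (m : ℤ) := by
      rcases hcases with ⟨h, h'⟩ | ⟨h, h'⟩
      · omega
      · rw [h, h', sub_self] at hnorm'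
        rw [hd2] at hnorm'
        push_cast at hnorm'
        linarith
    have hXc' : X.card = m := by omega
    have ha1 : ∀ χ ∈ X, a χ = 1 ∨ a χ = -1 := fun χ hχ => sq_eq_one_iff.1 (by
      have hz : ∑ χ ∈ X, (a χ ^ 2 - 1) = 0 := by
        rw [Finset.sum_sub_distrib, htot, Finset.sum_const, nsmul_eq_mul, mul_one, hXc', sub_self]
      linarith [(Finset.sum_eq_zero_iff_of_nonneg fun χ hχ => by linarith [hone χ hχ]).1 hz χ hχ])
    let ε : ℤ := -((r : ℤ) * d - δ)
    have hε : ε = 1 ∨ ε = -1 := by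
      rcases hcases with ⟨h, -⟩ | ⟨h, h'⟩ <;> rcases hδ with e | e <;> simp only [ε, h, e] <;>
        (try simp only [h']) <;> norm_num
    refine ⟨X, Y, a, ε, fun χ => ?_, Finset.sdiff_disjoint, hXc', hYr, ?_, hε, ?_, hagree, ?_,
      Finset.mem_sdiff.2 ⟨hB.2 (sameBlock_refl hM _), htY⟩, ?_⟩
    · simp only [X, Finset.mem_sdiff, hB]
      have := hYB χ
      tauto
    · intro χ hχ
      obtain ⟨hχB, hχY⟩ := Finset.mem_sdiff.1 hχ
      have hy := (hout χ (hB.1 hχB) hχY).2
      exact ⟨ha1 χ hχ, hconstdeg χ _ hy, hconstval χ (hB.1 hχB) _ hy⟩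
    · intro θ hθ
      obtain ⟨b, hb, rfl⟩ := hζs θ hθ
      have horb : ∀ b' ∈ orb P b, ∑ y ∈ Finset.univ.erase (1 : (P : Subgroup G)),
          (b' : ↥(P : Subgroup G) → ℂ) y = -1 := by
        intro b' hb'
        obtain ⟨n, rfl⟩ := (mem_orb P).1 hb'
        rw [Finset.sum_erase_eq_sub (Finset.mem_univ _), lin P,
          H85.sum_apply_eq_zero _ (fun h => actIrr_ne_triv P hb n (Subtype.ext h)), zero_sub]
      have hs : ∑ y ∈ Finset.univ.erase (1 : (P : Subgroup G)), (ζ b : G → ℂ) y =
          ((((p - 1 : ℕ) : ℤ) * d - δ * m : ℤ) : ℂ) := by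
        rw [Finset.sum_congr rfl fun y hy => hexc b hb y (Finset.ne_of_mem_erase hy),
          Finset.sum_add_distrib, Finset.sum_const, Finset.card_erase_of_mem (Finset.mem_univ _),
          Finset.card_univ, ← Nat.card_eq_fintype_card, hP', ← Finset.mul_sum, Finset.sum_comm,
          Finset.sum_congr rfl horb, Finset.sum_const, card_orb P hfix hb]
        simp only [nsmul_eq_mul]
        push_cast
        ring
      refine (charDegree_modEq P hP (ζ b) hs).trans ?_
      rw [Int.modEq_iff_dvd, Nat.cast_sub (by omega : 1 ≤ p)]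
      rcases hcases with ⟨h, -⟩ | ⟨h, h'⟩
      · refine ⟨0, ?_⟩
        simp only [ε, h]; push_cast; ring
      · refine ⟨0, ?_⟩
        have : (p : ℤ) = 2 * m + 1 := by
          have : m * 2 = p - 1 := by rw [← h']; exact hr.symm
          omega
        simp only [ε, h, h']; push_cast; rw [this]; ring
    · intro θ hθ g hg
      have h := hrel θ hθ g hg
      rw [hYr, ← Finset.sum_filter, show (Finset.univ.filter fun χ : IrrCharacter G =>
        χ ∈ principalBlock M G ∧ χ ∉ Y) = X by ext; simp [X, B]] at h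
      simp only [ε]
      push_cast at h ⊢
      linear_combination -h
    · intro θ hθ instF
      rw [Subsingleton.elim instF instP]
      clear instF
      obtain ⟨b, hb, rfl⟩ := hζs θ hθ
      have horb : ∀ b' ∈ orb P b, ∑ y ∈ Finset.univ.erase (1 : (P : Subgroup G)),
          (b' : ↥(P : Subgroup G) → ℂ) y = -1 := by
        intro b' hb'
        obtain ⟨n, rfl⟩ := (mem_orb P).1 hb'
        rw [Finset.sum_erase_eq_sub (Finset.mem_univ _), lin P,
          H85.sum_apply_eq_zero _ (fun h => actIrr_ne_triv P hb n (Subtype.ext h)), zero_sub]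
      refine (Finset.add_sum_erase Finset.univ (fun y : (P : Subgroup G) => (ζ b : G → ℂ) y)
        (Finset.mem_univ 1)).symm.trans ?_
      rw [Subgroup.coe_one, sub_eq_add_neg]
      refine congrArg _ ?_
      rw [Finset.sum_congr rfl fun y hy => hexc b hb y (Finset.ne_of_mem_erase hy),
        Finset.sum_add_distrib, Finset.sum_const, Finset.card_erase_of_mem (Finset.mem_univ _),
        Finset.card_univ, ← Nat.card_eq_fintype_card, hP', ← Finset.mul_sum, Finset.sum_comm,
        Finset.sum_congr rfl horb, Finset.sum_const, card_orb P hfix hb]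
      show _ = -((ε : ℂ) * (m : ℂ))
      simp only [nsmul_eq_mul, ε]
      rcases hcases with ⟨h, -⟩ | ⟨h, h'⟩
      · rw [h]; push_cast; ring
      · have hp1 : ((p - 1 : ℕ) : ℂ) = 2 * (m : ℂ) := by
          have : p - 1 = 2 * m := by rw [hr, h', mul_comm]
          rw [this]; push_cast; ring
        rw [h, h', hp1]; push_cast; ring

/-- The structure of the principal block. -/
theorem exists_structure (hM : IsPModular p M) :
    ∃ (X Y : Finset (IrrCharacter G)) (εX : IrrCharacter G → ℤ) (ε : ℤ),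
      (∀ χ, χ ∈ principalBlock M G ↔ χ ∈ X ∨ χ ∈ Y) ∧ Disjoint X Y ∧
      X.card = (centralizer ((P : Subgroup G) : Set G)).relIndex
        (normalizer (P : Set G)) ∧
      Y.card = (p - 1) / (centralizer ((P : Subgroup G) : Set G)).relIndex
        (normalizer (P : Set G)) ∧
      (∀ χ ∈ X, (εX χ = 1 ∨ εX χ = -1) ∧ (charDegree (χ : G → ℂ) : ℤ) ≡ εX χ [ZMOD p] ∧
        ∀ x : G, x ∈ (P : Subgroup G) → x ≠ 1 → ∀ y : G,
          y ∈ centralizer ((P : Subgroup G) : Set G) → ¬ p ∣ orderOf y →
            (χ : G → ℂ) (x * y) = (εX χ : ℂ)) ∧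
      (ε = 1 ∨ ε = -1) ∧
      (∀ θ ∈ Y, (charDegree (θ : G → ℂ) : ℤ) ≡ ε *
        ((centralizer ((P : Subgroup G) : Set G)).relIndex
          (normalizer (P : Set G)) : ℤ) [ZMOD p]) ∧
      (∀ θ ∈ Y, ∀ θ' ∈ Y, ∀ g : G, ¬ p ∣ orderOf g → (θ : G → ℂ) g = (θ' : G → ℂ) g) ∧
      ∀ θ ∈ Y, ∀ g : G, ¬ p ∣ orderOf g →
        (ε : ℂ) * (θ : G → ℂ) g = ∑ χ ∈ X, (εX χ : ℂ) * (χ : G → ℂ) g := by
  obtain ⟨X, Y, εX, ε, h1, h2, h3, h4, h5, h6, h7, h8, h9, -, -⟩ := exists_structure_full P hP hM
  exact ⟨X, Y, εX, ε, h1, h2, h3, h4, h5, h6, h7, h8, h9⟩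

end Cfsg.Agent.H86.Abelian
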