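import Cfsg.Agent.H86.FewSylowMinus
import Cfsg.Agent.S4588
import Cfsg.Agent.H84.Kernel
import Cfsg.Agent.H36.EvenPSL
import Mathlib.FieldTheory.Finite.GaloisField
import Mathlib.RingTheory.ZMod.UnitsCyclic

/-!
# Few Sylow subgroups of prime order: the exceptional case gives `PSL₂(2^m)`
-/

set_option linter.unusedSectionVars false
set_option linter.style.haveILetI false

open scoped ComplexConjugate Classical

namespace Cfsg.Agent.H86.FewSylow

open CharBasic Subgroup BlockBasic

universe u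

variable {G : Type u} [Group G] [Fintype G] {p : ℕ} [hp : Fact p.Prime]

theorem hom_val_sq {E : Type*} [Group E] [Fintype E] (hc : IsMulCommutative E)
    (l : IrrCharacter E) {z : E} (hz : z * z = 1) :
    (l : E → ℂ) z = 1 ∨ (l : E → ℂ) z = -1 := by
  haveI := hc
  obtain ⟨f, hf⟩ := CharInduce.IsChar.exists_hom_of_degree_one (IsIrr.isCharacter l.2)
    (H85.apply_one_eq_one_of_comm _)
  rw [hf z]
  refine mul_self_eq_one_iff.1 ?_
  rw [← Units.val_mul, ← map_mul, hz, map_one, Units.val_one]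

namespace Data

variable (D : Data G p)

include D

theorem card_G_minus (h : D.ε = -1) : Nat.card G = (p * D.d) * (D.e * D.t) ∧ Odd (p * D.d) := by
  obtain ⟨-, htd⟩ := D.n_succ_eq h
  have hd := D.d_eq
  rw [h, (D.minus_eq h).1, Nat.cast_one, mul_one, neg_one_mul] at hd
  refine ⟨by rw [D.card_G_eq, ← htd]; ring, ?_⟩
  obtain ⟨c, hc⟩ := D.two_dvd_e h
  have hpo : Odd p := hp.out.odd_of_ne_two (by have := D.three_le_p; omega)
  refine hpo.mul ?_
  obtain ⟨c', hc'⟩ := hpo
  rw [Nat.odd_iff]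
  omega

theorem factorization_two (h : D.ε = -1) :
    (Nat.card G).factorization 2 = (D.e * D.t).factorization 2 := by
  obtain ⟨h1, h2⟩ := D.card_G_minus h
  have hpd : p * D.d ≠ 0 := Nat.ne_of_odd_add (n := 0) (by simpa using h2)
  have het : D.e * D.t ≠ 0 := by
    rw [D.e_mul_t]; have := hp.out.two_le; omega
  rw [h1, Nat.factorization_mul hpd het, Finsupp.add_apply,
    Nat.factorization_eq_zero_of_not_dvd h2.not_two_dvd_nat, zero_add]

theorem exists_sylow_two (h : D.ε = -1) :
    ∃ S : Sylow 2 G, (S : Subgroup G) ≤ normalizer (D.S.E : Set G) ∧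
      Nat.card (S : Subgroup G) = 2 ^ (D.e * D.t).factorization 2 := by
  haveI : Fact (Nat.Prime 2) := ⟨Nat.prime_two⟩
  let T : Sylow 2 (normalizer (D.S.E : Set G)) := default
  let H : Subgroup G := (T : Subgroup (normalizer (D.S.E : Set G))).map
    (normalizer (D.S.E : Set G)).subtype
  have hc : Nat.card H = 2 ^ (D.e * D.t).factorization 2 := by
    rw [Subgroup.card_map_of_injective (normalizer (D.S.E : Set G)).subtype_injective,
      T.card_eq_multiplicity, D.card_NE, (D.minus_eq h).2.1]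
  exact ⟨Sylow.ofCard H (by rw [hc, D.factorization_two h]), Subgroup.map_subtype_le _, hc⟩

theorem not_four_dvd (h : D.ε = -1) (ht : 3 ≤ D.t) : ¬ 4 ∣ D.e := by
  intro h4
  haveI := isCyclic_E D.S
  have hcard := IsCyclic.card_orderOf_eq_totient (α := D.S.E) (d := 4)
    (by rw [← Nat.card_eq_fintype_card]; exact h4)
  have h2 : Nat.totient 4 = 2 := by decide
  rw [h2] at hcard
  obtain ⟨y, hy⟩ := Finset.card_pos.1
    (show 0 < (Finset.univ.filter fun a : D.S.E => orderOf a = 4).card by omega)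
  obtain ⟨z, hz, hz2⟩ := D.exists_z h
  have hy4 : orderOf (y : G) = 4 := by rw [Subgroup.orderOf_coe]; exact (Finset.mem_filter.1 hy).2
  have hy1 : (y : G) ≠ 1 := fun e => by rw [e, orderOf_one] at hy4; omega
  have hyz : (y : G) ≠ z := fun e => by rw [e, hz2] at hy4; omega
  have hC := D.centralizer_eq_E h hz hz2 y.2 hy1 hyz
  let W : Finset G := (Finset.univ.filter fun a : D.S.E => orderOf a = 4).map
    (Function.Embedding.subtype _)
  have hW : W.card = 2 := by rw [Finset.card_map, hcard]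
  let T : Finset G := Finset.univ.filter fun x : G => x ∈ normalizer (D.S.E : Set G)
  have hT : T.card = D.e * D.t := by
    rw [(D.minus_eq h).2.1, ← D.card_NE, Nat.card_eq_fintype_card, Fintype.card_subtype]
  have hmaps : ∀ x ∈ T, x * (y : G) * x⁻¹ ∈ W := by
    intro x hx
    have hm : x * (y : G) * x⁻¹ ∈ D.S.E :=
      (mem_normalizer_iff.1 (Finset.mem_filter.1 hx).2 (y : G)).1 y.2
    refine Finset.mem_map.2 ⟨⟨_, hm⟩, Finset.mem_filter.2 ⟨Finset.mem_univ _, ?_⟩, rfl⟩
    rw [Subgroup.orderOf_mk, ← hy4]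
    exact MulEquiv.orderOf_eq (MulAut.conj x) _
  have hle : T.card ≤ D.e * W.card := by
    refine Finset.card_le_mul_card_image_of_maps_to hmaps D.e fun w _ => ?_
    rcases (T.filter fun x => x * (y : G) * x⁻¹ = w).eq_empty_or_nonempty with he | ⟨x₀, hx₀⟩
    · rw [he, Finset.card_empty]; exact Nat.zero_le _
    have hcE : (Finset.univ.filter fun x : G => x ∈ D.S.E).card = D.e := by
      rw [← Fintype.card_subtype, ← Nat.card_eq_fintype_card]
    rw [← hcE]
    refine Finset.card_le_card_of_injOn (fun x => x₀⁻¹ * x) ?_ (fun a _ b _ e => mul_left_cancel e)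
    intro x hx
    simp only [Finset.coe_filter, Set.mem_setOf_eq] at hx ⊢
    refine ⟨Finset.mem_univ _, ?_⟩
    rw [← hC, mem_centralizer_singleton_iff]
    have e := hx.2.trans (Finset.mem_filter.1 hx₀).2.symm
    calc x₀⁻¹ * x * (y : G) = x₀⁻¹ * (x * (y : G) * x⁻¹) * x := by group
      _ = x₀⁻¹ * (x₀ * (y : G) * x₀⁻¹) * x := by rw [e]
      _ = (y : G) * (x₀⁻¹ * x) := by group
  rw [hW, hT] at hle
  have := Nat.le_of_mul_le_mul_left hle (by have := D.two_le_e; omega)
  omega

theorem card_Xp_eq_zero (h : D.ε = -1) (ht : 3 ≤ D.t) : D.Xp.card = 0 := by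
  by_contra ha
  haveI : Fact (Nat.Prime 2) := ⟨Nat.prime_two⟩
  obtain ⟨-, htn, he⟩ := D.minus_eq h
  have he5 : 5 ≤ D.e := by
    have : 1 * D.t ≤ D.Xp.card * D.t := Nat.mul_le_mul_right _ (Nat.pos_of_ne_zero ha)
    omega
  obtain ⟨e', he'⟩ := D.two_dvd_e h
  have he'odd : ¬ 2 ∣ e' := fun ⟨c, hc⟩ =>
    D.not_four_dvd h ht ⟨c, by rw [he', hc]; ring⟩
  obtain ⟨z, hz, hz2⟩ := D.exists_z h
  obtain ⟨S, hSN, hS⟩ := D.exists_sylow_two h
  have hfe : D.e.factorization 2 = 1 := by
    rw [he', Nat.factorization_mul two_ne_zero (by omega), Finsupp.add_apply,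
      Nat.prime_two.factorization_self, Nat.factorization_eq_zero_of_not_dvd he'odd]
  have hfet : (D.e * D.t).factorization 2 = 1 + D.t.factorization 2 := by
    rw [Nat.factorization_mul (by omega) (by omega), Finsupp.add_apply, hfe]
  rw [hfet] at hS
  have ht0 : D.t.factorization 2 ≠ 0 := fun h0 =>
    PerfectSylow.card_sylow_two_ne D.perf S (by rw [hS, h0]; rfl)
  -- an element of odd prime order in the complement
  obtain ⟨r, hr, hre⟩ := Nat.exists_prime_and_dvd (show e' ≠ 1 by omega)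
  have hr2 : r ≠ 2 := fun e => he'odd (e ▸ hre)
  obtain ⟨y, hy, hyo⟩ := exists_E_orderOf D.S hr ((dvd_mul_of_dvd_right hre 2).trans (dvd_of_eq he'.symm))
  have hy1 : y ≠ 1 := fun e => hr.ne_one (by rw [← hyo, e, orderOf_one])
  have hyz : y ≠ z := fun e => hr2 (by rw [← hyo, e, hz2])
  have hC := D.centralizer_eq_E h hz hz2 hy hy1 hyz
  set K := zpowers y with hK
  have hconj : ∀ x ∈ normalizer (D.S.E : Set G), x * y * x⁻¹ ∈ K := by
    intro x hx
    haveI := isCyclic_E D.S
    let y' : D.S.E := ⟨y, hy⟩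
    let w' : D.S.E := ⟨x * y * x⁻¹, (mem_normalizer_iff.1 hx y).1 hy⟩
    have hord : ∀ i : ℤ, (y' ^ i) ^ r = 1 := fun i => by
      rw [← zpow_natCast, ← zpow_mul, mul_comm, zpow_mul, zpow_natCast, ← hyo,
        ← Subgroup.orderOf_mk y hy, pow_orderOf_eq_one, one_zpow]
    have hwr : w' ^ r = 1 := by
      rw [← hyo, ← (MulEquiv.orderOf_eq (MulAut.conj x) y), MulAut.conj_apply]
      exact Subtype.ext (by simp only [SubmonoidClass.coe_pow, w']; exact pow_orderOf_eq_one _)
    have hsub : (Finset.univ.filter fun a : D.S.E => a ∈ zpowers y') ⊆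
        Finset.univ.filter fun a : D.S.E => a ^ r = 1 := fun a ha => by
      obtain ⟨i, rfl⟩ := (Finset.mem_filter.1 ha).2
      exact Finset.mem_filter.2 ⟨Finset.mem_univ _, hord i⟩
    have heq := Finset.eq_of_subset_of_card_le hsub (by
      rw [← Fintype.card_subtype (fun a : D.S.E => a ∈ zpowers y'), ← Nat.card_eq_fintype_card,
        Nat.card_zpowers, Subgroup.orderOf_mk, hyo]
      exact IsCyclic.card_pow_eq_one_le hr.pos)
    obtain ⟨i, hi⟩ := (Finset.mem_filter.1
      (heq ▸ Finset.mem_filter.2 ⟨Finset.mem_univ w', hwr⟩ :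
        w' ∈ Finset.univ.filter fun a : D.S.E => a ∈ zpowers y')).2
    exact ⟨i, by simpa using congrArg Subtype.val hi⟩
  have hKmap : ∀ x ∈ normalizer (D.S.E : Set G), ∀ w ∈ K, x * w * x⁻¹ ∈ K := by
    rintro x hx w ⟨i, rfl⟩
    have e : x * y ^ i * x⁻¹ = (x * y * x⁻¹) ^ i := by
      rw [← MulAut.conj_apply, map_zpow, MulAut.conj_apply]
    show x * y ^ i * x⁻¹ ∈ K
    exact e ▸ zpow_mem (hconj x hx) i
  have hNK : normalizer (D.S.E : Set G) ≤ normalizer (K : Set G) := fun x hx =>
    mem_normalizer_iff.2 fun w => ⟨hKmap x hx w, fun hw => by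
      simpa [mul_assoc] using hKmap x⁻¹ (inv_mem hx) _ hw⟩
  let f : (S : Subgroup G) →* MulAut K :=
    K.normalizerMonoidHom.comp (Subgroup.inclusion (hSN.trans hNK))
  haveI : IsCyclic K := inferInstance
  haveI : IsCyclic (MulAut K) := by
    haveI : IsCyclic (ZMod (Nat.card K))ˣ := by
      rw [hK, Nat.card_zpowers, hyo]; exact ZMod.isCyclic_units_prime hr
    exact isCyclic_of_surjective (IsCyclic.mulAutMulEquiv (G := K)).symm.toMonoidHom
      (IsCyclic.mulAutMulEquiv (G := K)).symm.surjective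
  have hker : ∀ w : (S : Subgroup G), w ∈ f.ker → (w : G) = 1 ∨ (w : G) = z := by
    intro w hw
    have hw' : Subgroup.inclusion (hSN.trans hNK) w ∈ K.normalizerMonoidHom.ker := hw
    rw [Subgroup.normalizerMonoidHom_ker, mem_subgroupOf] at hw'
    have hwE : (w : G) ∈ D.S.E := by
      rw [← hC, mem_centralizer_singleton_iff]
      exact ((mem_centralizer_iff.1 hw') y (mem_zpowers y)).symm
    obtain ⟨a, ha⟩ := S.isPGroup' w
    have h1 : orderOf (w : G) ∣ 2 ^ a :=
      orderOf_dvd_of_pow_eq_one (by simpa using congrArg Subtype.val ha)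
    have h2 : orderOf (w : G) ∣ D.e :=
      (dvd_of_eq (Subgroup.orderOf_coe (⟨_, hwE⟩ : D.S.E))).trans (orderOf_dvd_natCard _)
    obtain ⟨j, -, hj⟩ := (Nat.dvd_prime_pow Nat.prime_two).1 h1
    rcases (show j = 0 ∨ j = 1 ∨ 2 ≤ j by omega) with rfl | rfl | hj2
    · exact Or.inl (orderOf_eq_one_iff.1 hj)
    · exact Or.inr (eq_of_two D.S hwE hz (by rw [hj, pow_one]) hz2)
    · exact absurd ((pow_dvd_pow 2 hj2).trans (hj ▸ h2)) (D.not_four_dvd h ht)
  have hkc : f.ker ≤ center (S : Subgroup G) := by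
    intro w hw
    refine Subgroup.mem_center_iff.2 fun v => Subtype.ext ?_
    rcases hker w hw with e | e <;> simp only [Subgroup.coe_mul, e]
    · rw [mul_one, one_mul]
    · exact mem_centralizer_singleton_iff.1 (D.z_central hz hz2 (hSN v.2))
  have hk2 : Nat.card f.ker ≤ 2 := by
    have hcard : (Finset.univ : Finset f.ker).card ≤ ({1, z} : Finset G).card :=
      Finset.card_le_card_of_injOn (fun w => ((w : (S : Subgroup G)) : G))
        (fun w _ => by
          have := hker w w.2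
          simp only [Finset.coe_insert, Finset.coe_singleton, Set.mem_insert_iff,
            Set.mem_singleton_iff]
          exact this)
        fun a _ b _ e => Subtype.ext (Subtype.ext e)
    rw [Nat.card_eq_fintype_card, ← Finset.card_univ]
    exact hcard.trans (Finset.card_le_two)
  have hS4 := PerfectSylow.card_sylow_two_le D.perf S f hkc hk2
  rw [hS] at hS4
  have ht1 : D.t.factorization 2 = 1 := by
    have : 1 + D.t.factorization 2 ≤ 2 :=
      (Nat.pow_le_pow_iff_right (show 1 < 2 by norm_num)).1 (hS4.trans (by norm_num))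
    omega
  have ht2 : 2 ∣ D.t :=
    Nat.dvd_of_factorization_pos ht0
  -- the principal 2-block
  obtain ⟨M, hM⟩ := exists_isPModular Nat.prime_two
  have hB := isPBlock_principalBlock (G := G) M
  have hdef : blockDefect 2 (principalBlock M G) = 2 := by
    rw [S4588.defect_principal hM, D.factorization_two h, hfet, ht1]
  set B := Finset.univ.filter fun χ : IrrCharacter G => χ ∈ principalBlock M G with hBdef
  have hB4 : B.card ≤ 4 := by
    have := (S4698.main hM _ G _ hB hdef).1 le_rfl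
    rw [hBdef, ← Fintype.card_subtype, ← Nat.card_eq_fintype_card]
    exact this
  have htB : trivialIrr ∈ B := Finset.mem_filter.2 ⟨Finset.mem_univ _, sameBlock_refl hM _⟩
  -- orthogonality between `P` and `z`
  have horth : ∀ u ∈ (Finset.univ : Finset (D.S.P : Subgroup G)).erase 1,
      ∑ χ ∈ B, (χ : G → ℂ) (u : G) * conj ((χ : G → ℂ) z) = 0 := by
    intro u hu
    have hu' : ¬ 2 ∣ orderOf (u : G) := by
      rw [Subgroup.orderOf_coe]
      have hd := D.S.card_P ▸ orderOf_dvd_natCard u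
      rcases (Nat.dvd_prime hp.out).1 hd with e | e
      · exact absurd (orderOf_eq_one_iff.1 e) (Finset.ne_of_mem_erase hu)
      · rw [e]
        intro h2
        have := (Nat.prime_dvd_prime_iff_eq Nat.prime_two hp.out).1 h2
        have := D.three_le_p
        omega
    have h0 := blockKernel_eq_zero_of_regular_of_singular hM hB hu' (dvd_of_eq hz2.symm)
    rw [blockKernel, finsum_mem_eq_finite_toFinset_sum _ (Set.toFinite _)] at h0
    rw [← h0]
    exact Finset.sum_congr (by ext; simp [hBdef]) fun _ _ => rfl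
  set W : IrrCharacter G → ℂ := fun χ =>
    ∑ u ∈ (Finset.univ : Finset (D.S.P : Subgroup G)).erase 1, (χ : G → ℂ) (u : G) with hWdef
  have hsum : ∑ χ ∈ B, W χ * conj ((χ : G → ℂ) z) = 0 := by
    simp only [hWdef, Finset.sum_mul]
    rw [Finset.sum_comm]
    exact Finset.sum_eq_zero horth
  have hWX : ∀ χ ∈ D.X, W χ = ((p - 1 : ℕ) : ℂ) * (D.εX χ : ℂ) := by
    intro χ hχ
    show (∑ u ∈ (Finset.univ : Finset (D.S.P : Subgroup G)).erase 1, (χ : G → ℂ) (u : G)) = _
    rw [Finset.sum_congr rfl fun (u : (D.S.P : Subgroup G)) hu => D.valX χ hχ u u.2 fun e =>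
      Finset.ne_of_mem_erase hu (Subtype.ext e), Finset.sum_const,
      Finset.card_erase_of_mem (Finset.mem_univ _), Finset.card_univ, ← Nat.card_eq_fintype_card,
      D.S.card_P, nsmul_eq_mul]
  have hWY : ∀ χ ∈ D.Y, W χ = (D.e : ℂ) := by
    intro χ hχ
    have h1 := D.sumY χ hχ
    rw [← Finset.add_sum_erase _ _ (Finset.mem_univ (1 : (D.S.P : Subgroup G))), Subgroup.coe_one,
      h] at h1
    show (∑ u ∈ (Finset.univ : Finset (D.S.P : Subgroup G)).erase 1, (χ : G → ℂ) (u : G)) = _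
    push_cast at h1
    linear_combination h1
  let z' : D.S.E := ⟨z, hz⟩
  have hz'1 : z' ≠ 1 := fun e => D.ne_one_of_two hz2 (congrArg Subtype.val e)
  have hzz : z' * z' = 1 := Subtype.ext (by
    show z * z = 1
    rw [← pow_two, ← hz2, pow_orderOf_eq_one])
  have hvalz : ∀ χ : IrrCharacter G,
      (χ : G → ℂ) z = ∑ l : IrrCharacter D.S.E, (mlt D.S χ l : ℂ) * (l : D.S.E → ℂ) z' := fun χ => by
    rw [← fixFun_expand, fixFun_ne D.S (IsIrr.isClassFunction χ.2) hz'1]
  choose sg hsg using fun l : IrrCharacter D.S.E =>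
    (show ∃ s : ℤ, (s = 1 ∨ s = -1) ∧ (l : D.S.E → ℂ) z' = (s : ℂ) by
      rcases hom_val_sq (comm_E D.S) l hzz with e | e
      · exact ⟨1, Or.inl rfl, by simp [e]⟩
      · exact ⟨-1, Or.inr rfl, by simp [e]⟩)
  set V : IrrCharacter G → ℤ := fun χ => ∑ l : IrrCharacter D.S.E, (mlt D.S χ l : ℤ) * sg l
    with hVdef
  have hV : ∀ χ : IrrCharacter G, (χ : G → ℂ) z = (V χ : ℂ) := fun χ => by
    rw [hvalz χ, hVdef]
    push_cast
    exact Finset.sum_congr rfl fun l _ => by rw [(hsg l).2]
  have hVeven : ∀ χ ∈ D.Xp, Even (V χ) := by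
    intro χ hχ
    obtain ⟨h1, h2, h3⟩ := Finset.mem_filter.1 hχ
    have hfd : fixDim D.S χ = D.t := by rw [D.fixDim_pos h1 h3 h2, htn]
    have hev : Even (V χ - (fixDim D.S χ : ℤ)) := by
      rw [hVdef, fixDim, Nat.cast_sum, ← Finset.sum_sub_distrib]
      refine Finset.even_sum _ fun l _ => ?_
      rcases (hsg l).1 with e | e <;> rw [e]
      · simp
      · exact ⟨-(mlt D.S χ l : ℤ), by ring⟩
    rw [hfd] at hev
    have ht2' : Even (D.t : ℤ) := by
      obtain ⟨c, hc⟩ := ht2
      exact ⟨c, by rw [hc]; push_cast; ring⟩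
    simpa using hev.add ht2'
  have hVm : ∀ χ ∈ D.Xm, V χ = 0 := fun χ hχ =>
    Finset.sum_eq_zero fun l _ => by rw [D.mlt_Xm hχ l, Nat.cast_zero, zero_mul]
  have hVY : ∀ χ ∈ D.Y, V χ = sg (D.l₀ h) := fun χ hχ => by
    show ∑ l : IrrCharacter D.S.E, (mlt D.S χ l : ℤ) * sg l = _
    rw [Finset.sum_eq_single (D.l₀ h) (fun l _ hl => by
        rw [D.mlt_Y hχ, D.mlt_ne_l₀ h hl, Nat.cast_zero, zero_mul])
      (fun hh => absurd (Finset.mem_univ _) hh), D.mlt_Y hχ, D.mlt_l₀, Nat.cast_one, one_mul]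
  set K' := ∑ χ ∈ B.filter (· ∈ D.Xp), V χ with hK'
  set j := (B.filter (· ∈ D.Y)).card with hj
  have key : ((p - 1 : ℕ) : ℤ) * (1 + K') + (j : ℤ) * ((D.e : ℤ) * sg (D.l₀ h)) = 0 := by
    have hzero : ∀ χ ∈ B, χ ∉ insert trivialIrr (B.filter (· ∈ D.Xp)) ∪ B.filter (· ∈ D.Y) →
        W χ * conj ((χ : G → ℂ) z) = 0 := by
      intro χ hχ hn
      simp only [Finset.mem_union, Finset.mem_insert, Finset.mem_filter, hχ, true_and,
        not_or] at hn
      by_cases hX : χ ∈ D.X
      · rw [D.X_eq] at hX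
        simp only [Finset.mem_insert, Finset.mem_union] at hX
        rw [hV χ, hVm χ (by tauto), Int.cast_zero, map_zero, mul_zero]
      · have : W χ = 0 := Finset.sum_eq_zero fun u hu =>
          D.vanish χ hX hn.2 u u.2 fun e => Finset.ne_of_mem_erase hu (Subtype.ext e)
        rw [this, zero_mul]
    have hsub : insert trivialIrr (B.filter (· ∈ D.Xp)) ∪ B.filter (· ∈ D.Y) ⊆ B := by
      intro χ
      simp only [Finset.mem_union, Finset.mem_insert, Finset.mem_filter]
      rintro ((rfl | h1) | h1)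
      · exact htB
      · exact h1.1
      · exact h1.1
    have hdj : Disjoint (insert trivialIrr (B.filter (· ∈ D.Xp))) (B.filter (· ∈ D.Y)) := by
      refine Finset.disjoint_left.2 fun χ h1 h2 => ?_
      have hY := (Finset.mem_filter.1 h2).2
      have hX : χ ∈ D.X := by
        rcases Finset.mem_insert.1 h1 with rfl | h1
        · exact D.trivX
        · exact (Finset.mem_filter.1 (Finset.mem_filter.1 h1).2).1
      exact Finset.disjoint_left.1 D.disj hX hY
    rw [← Finset.sum_subset hsub hzero, Finset.sum_union hdj, Finset.sum_insert (fun hh =>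
      D.triv_notMem (Finset.mem_union_left _ (Finset.mem_filter.1 hh).2))] at hsum
    rw [hWX _ D.trivX, D.εX_triv, show ((trivialIrr : IrrCharacter G) : G → ℂ) z = 1 from rfl,
      Finset.sum_congr rfl (g := fun χ => ((p - 1 : ℕ) : ℂ) * (V χ : ℂ)) (fun χ hχ => by
        obtain ⟨h1, h2, -⟩ := Finset.mem_filter.1 (Finset.mem_filter.1 hχ).2
        rw [hWX χ h1, h2, hV χ]
        simp),
      Finset.sum_congr (s₁ := B.filter (· ∈ D.Y)) rfl (g := fun _ => (D.e : ℂ) * (sg (D.l₀ h) : ℂ))
      (fun χ hχ => by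
        have hY := (Finset.mem_filter.1 hχ).2
        rw [hWY χ hY, hV χ, hVY χ hY]
        simp), ← Finset.mul_sum, Finset.sum_const, nsmul_eq_mul, map_one] at hsum
    apply Int.cast_injective (α := ℂ)
    rw [hK', hj]
    push_cast at hsum ⊢
    linear_combination hsum
  have hj3 : j ≤ 3 := by
    have : (B.filter (· ∈ D.Y)).card ≤ (B.erase trivialIrr).card :=
      Finset.card_le_card fun χ hχ => by
        obtain ⟨h1, h2⟩ := Finset.mem_filter.1 hχ
        exact Finset.mem_erase.2 ⟨fun e => Finset.disjoint_left.1 D.disj D.trivX (e ▸ h2), h1⟩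
    rw [Finset.card_erase_of_mem htB] at this
    omega
  rw [← D.e_mul_t, Nat.cast_mul] at key
  have key' : (D.t : ℤ) * (1 + K') + (j : ℤ) * sg (D.l₀ h) = 0 := by
    refine mul_left_cancel₀ (show (D.e : ℤ) ≠ 0 by omega) ?_
    linear_combination key
  have htj : (D.t : ℤ) ∣ (j : ℤ) := by
    have h1 : (D.t : ℤ) ∣ (j : ℤ) * sg (D.l₀ h) := ⟨-(1 + K'), by linear_combination key'⟩
    rcases (hsg (D.l₀ h)).1 with e | e <;> rw [e] at h1 <;> simpa using h1
  have ht4 : 4 ≤ D.t := by obtain ⟨c, hc⟩ := ht2; omega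
  have hj0 : j = 0 := by
    by_contra hne
    have := Nat.le_of_dvd (Nat.pos_of_ne_zero hne) (Int.natCast_dvd_natCast.1 htj)
    omega
  rw [hj0, Nat.cast_zero, zero_mul, add_zero] at key'
  have hK0 : 1 + K' = 0 := (mul_eq_zero.1 key').resolve_left (by omega)
  have hKe : Even K' := Finset.even_sum _ fun χ hχ => hVeven χ (Finset.mem_filter.1 hχ).2
  obtain ⟨c, hc⟩ := hKe
  omega

theorem exists_psl_even (h : D.ε = -1) (ht : 3 ≤ D.t) :
    ∃ (m : ℕ) (F : Type) (_ : Field F) (_ : Fintype F), Fintype.card F = 2 ^ m ∧ p = 2 ^ m + 1 ∧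
      3 < p ∧ Nonempty (G ≃* Matrix.ProjectiveSpecialLinearGroup (Fin 2) F) := by
  obtain ⟨hk, htn, he⟩ := D.minus_eq h
  have ha := D.card_Xp_eq_zero h ht
  rw [ha, zero_mul, zero_add] at he
  obtain ⟨hG, hodd⟩ := D.card_G_minus h
  have het := D.e_mul_t
  rw [he] at het
  have hp3 := D.three_le_p
  have hd : D.d = p - 2 := by
    have hd := D.d_eq
    rw [h, hk, he] at hd
    push_cast at hd
    omega
  obtain ⟨z, hz, hz2⟩ := D.exists_z h
  have hXm : D.Xm.Nonempty := by
    rw [← Finset.card_pos]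
    have := D.card_eq
    omega
  have hXp : D.Xp = ∅ := Finset.card_eq_zero.1 ha
  obtain ⟨ψ, hψ⟩ := hXm
  obtain ⟨hψX, hψε⟩ := Finset.mem_filter.1 hψ
  have hψd := D.degree_neg hψX hψε
  have hXm1 : D.Xm = {ψ} := by
    refine Finset.eq_singleton_iff_unique_mem.2 ⟨hψ, fun χ hχ => ?_⟩
    refine Finset.card_le_one.1 ?_ χ hχ ψ hψ
    have := D.card_eq
    omega
  have hsingular : ∀ y : G, 2 ∣ orderOf y → IsConj y z := by
    intro y hy
    haveI : Fact (Nat.Prime 2) := ⟨Nat.prime_two⟩
    -- the order is prime to `p`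
    have hyp : ¬ p ∣ orderOf y := by
      intro hpy
      set u := y ^ (orderOf y / p) with hu
      have huo : orderOf u = p := orderOf_pow_orderOf_div (orderOf_pos y).ne' hpy
      obtain ⟨Q, hQ⟩ := (IsPGroup.of_card (n := 1)
        (by rw [Nat.card_zpowers, huo, pow_one] : Nat.card (zpowers u) = p ^ 1)).exists_le_sylow
      obtain ⟨c, hc⟩ := MulAction.exists_smul_eq G Q D.S.P
      have hmem : c * u * c⁻¹ ∈ (D.S.P : Subgroup G) := by
        rw [← hc]
        exact Subgroup.smul_mem_pointwise_smul u (MulAut.conj c) _ (hQ (mem_zpowers u))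
      have hne : c * u * c⁻¹ ≠ 1 := fun e => by
        rw [conj_eq_one_iff] at e
        rw [e, orderOf_one] at huo
        exact hp.out.ne_one huo.symm
      have hcy : c * y * c⁻¹ ∈ (D.S.P : Subgroup G) := by
        rw [← centralizer_singleton_eq D.S hmem hne, mem_centralizer_singleton_iff, hu]
        calc c * y * c⁻¹ * (c * y ^ (orderOf y / p) * c⁻¹)
            = c * (y * y ^ (orderOf y / p)) * c⁻¹ := by group
          _ = c * (y ^ (orderOf y / p) * y) * c⁻¹ := by rw [Commute.self_pow y]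
          _ = _ := by group
      have hd := D.S.card_P ▸ orderOf_dvd_natCard (G := (D.S.P : Subgroup G)) ⟨_, hcy⟩
      rw [Subgroup.orderOf_mk, ← MulAut.conj_apply, MulEquiv.orderOf_eq] at hd
      have := (Nat.prime_dvd_prime_iff_eq Nat.prime_two hp.out).1 (hy.trans hd)
      omega
    by_cases hN : ∃ m ∈ D.S.N, IsConj y m
    · obtain ⟨m, hm, hc⟩ := hN
      obtain ⟨u, hu, w, hw, rfl⟩ := D.S.dec m hm
      have hyo : orderOf (u * w) = orderOf y := by
        obtain ⟨c, hc'⟩ := isConj_iff.1 hc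
        rw [← hc', ← MulAut.conj_apply, MulEquiv.orderOf_eq]
      rcases eq_or_ne w 1 with rfl | hw1
      · rw [mul_one] at hyo
        have hd := D.S.card_P ▸ orderOf_dvd_natCard (G := (D.S.P : Subgroup G)) ⟨u, hu⟩
        rw [Subgroup.orderOf_mk, hyo] at hd
        have := (Nat.prime_dvd_prime_iff_eq Nat.prime_two hp.out).1 (hy.trans hd)
        omega
      · obtain ⟨v, -, hv⟩ := exists_conj D.S hu hw hw1
        have hw2 : orderOf w = 2 := by
          have hd : orderOf w ∣ 2 := he ▸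
            (dvd_of_eq (Subgroup.orderOf_coe (⟨w, hw⟩ : D.S.E))).trans (orderOf_dvd_natCard _)
          exact ((Nat.dvd_prime Nat.prime_two).1 hd).resolve_left
            fun e => hw1 (orderOf_eq_one_iff.1 e)
        rw [eq_of_two D.S hw hz hw2 hz2] at hv
        exact hc.trans (isConj_iff.2 ⟨v, by rw [eq_of_two D.S hw hz hw2 hz2]; exact hv⟩).symm
    · exfalso
      push Not at hN
      have h1 := sum_conj_apply_mul_mlt D.S hN (D.l₀ h)
      rw [← Finset.sum_sdiff (Finset.subset_univ D.Y), Finset.sum_eq_zero, zero_add,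
        Finset.sum_congr rfl (g := fun _ => conj ((D.θ : G → ℂ) y)) (fun χ hχ => by
          rw [D.mlt_Y hχ, D.mlt_l₀, Nat.cast_one, mul_one, D.agree χ hχ D.θ D.θ_mem y hyp]),
        Finset.sum_const, nsmul_eq_mul, mul_eq_zero] at h1
      · have hθ0 : (D.θ : G → ℂ) y = 0 := by
          rcases h1 with h1 | h1
          · rw [Nat.cast_eq_zero] at h1
            exact absurd h1 (Finset.card_pos.2 D.Y_nonempty).ne'
          · simpa using congrArg conj h1
        have hψ0 : (ψ : G → ℂ) y = 0 := by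
          refine H84.apply_eq_zero_of_defect_zero ψ ?_ hy
          rw [hψd, hG, he, het, Nat.mul_div_cancel _ (show 0 < p - 1 by omega)]
          exact hodd.not_two_dvd_nat
        have hr := D.rel D.θ D.θ_mem y hyp
        rw [hθ0, mul_zero, D.sum_X, hXp, hXm1, Finset.sum_empty, Finset.sum_singleton, hψ0,
          mul_zero, D.εX_triv, show ((trivialIrr : IrrCharacter G) : G → ℂ) y = 1 from rfl] at hr
        norm_num at hr
      · intro χ hχ
        simp only [Finset.mem_sdiff, Finset.mem_univ, true_and] at hχ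
        suffices h0 : mlt D.S χ (D.l₀ h) = 0 by rw [h0, Nat.cast_zero, mul_zero]
        by_cases hX : χ ∈ D.X
        · rw [D.X_eq, hXp, hXm1] at hX
          simp only [Finset.mem_insert, Finset.mem_union, Finset.notMem_empty, false_or,
            Finset.mem_singleton] at hX
          rcases hX with rfl | rfl
          · exact D.mlt_triv (D.l₀_ne h)
          · exact D.mlt_Xm hψ _
        · exact D.mlt_out hX hχ (D.l₀_ne h)
  have hinv : ∀ y : G, 2 ∣ orderOf y → orderOf y = 2 := fun y hy => by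
    obtain ⟨c, hc⟩ := isConj_iff.1 (hsingular y hy)
    rw [← hz2, ← hc, ← MulAut.conj_apply, MulEquiv.orderOf_eq]
  have hcz : ∀ u : G, orderOf u = 2 → Nat.card (centralizer ({u} : Set G)) = p - 1 := by
    intro u hu
    obtain ⟨c, hc⟩ := isConj_iff.1 (hsingular u (hu ▸ dvd_rfl))
    rw [← het, ← he, ← D.card_centralizer_z h hz hz2, ← hc]
    refine Nat.card_congr ((MulAut.conj c).toEquiv.subtypeEquiv fun w => ?_)
    show w ∈ centralizer ({u} : Set G) ↔ c * w * c⁻¹ ∈ centralizer ({c * u * c⁻¹} : Set G)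
    rw [mem_centralizer_singleton_iff, mem_centralizer_singleton_iff]
    exact ⟨fun e => by
      calc c * w * c⁻¹ * (c * u * c⁻¹) = c * (w * u) * c⁻¹ := by group
        _ = c * (u * w) * c⁻¹ := by rw [e]
        _ = _ := by group,
      fun e => by
      calc w * u = c⁻¹ * (c * w * c⁻¹ * (c * u * c⁻¹)) * c := by group
        _ = c⁻¹ * (c * u * c⁻¹ * (c * w * c⁻¹)) * c := by rw [e]
        _ = _ := by group⟩
  obtain ⟨m, hm⟩ : ∃ m, p - 1 = 2 ^ m := by
    refine ⟨_, Nat.eq_prime_pow_of_unique_prime_dvd (by omega) fun {r} hr hrd => ?_⟩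
    by_contra hr2
    haveI := Fact.mk hr
    rw [← het, ← he, ← D.card_centralizer_z h hz hz2] at hrd
    obtain ⟨w, hw⟩ := exists_prime_orderOf_dvd_card' r hrd
    have hwG : orderOf (w : G) = r := (Subgroup.orderOf_coe w).trans hw
    have hcw : Commute (w : G) z := mem_centralizer_singleton_iff.1 w.2
    have ho : orderOf ((w : G) * z) = r * 2 := by
      rw [hcw.orderOf_mul_eq_mul_orderOf_of_coprime, hwG, hz2]
      rw [hwG, hz2]
      exact (Nat.coprime_primes hr Nat.prime_two).2 hr2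
    have h2 := hinv ((w : G) * z) (ho ▸ dvd_mul_left 2 r)
    rw [ho] at h2
    have := hr.two_le
    omega
  have hm1 : 1 ≤ m := Nat.pos_of_ne_zero fun e => by rw [e, pow_zero] at hm; omega
  haveI : Fintype (GaloisField 2 m) := Fintype.ofFinite _
  have hF : Fintype.card (GaloisField 2 m) = 2 ^ m := by
    rw [← Nat.card_eq_fintype_card, GaloisField.card 2 m (by omega)]
  refine ⟨m, GaloisField 2 m, inferInstance, inferInstance, hF, by omega, ?_, ?_⟩
  · omega
  refine H36.EvenPSL.nonempty_psl (q := 2 ^ m) m hm1 rfl ?_ ?_ ?_ ?_ hF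
  · rw [← hm, hG, hd, he, het, show p - 1 + 1 = p by omega, show p - 1 - 1 = p - 2 by omega]
    ring
  · intro u hu hu1
    rw [← hm]
    exact hcz u (orderOf_eq_prime (by rw [pow_two]; exact hu) hu1)
  · intro u v hu hu1 hv hv1
    exact (hsingular u (orderOf_eq_prime (p := 2) (by rw [pow_two]; exact hu) hu1 ▸ dvd_rfl)).trans
      (hsingular v (orderOf_eq_prime (p := 2) (by rw [pow_two]; exact hv) hv1 ▸ dvd_rfl)).symm
  · intro S x hx
    haveI : Fact (Nat.Prime 2) := ⟨Nat.prime_two⟩
    rcases eq_or_ne x 1 with rfl | hx1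
    · exact one_mul 1
    have h2 : 2 ∣ orderOf x := by
      obtain ⟨a, ha⟩ := S.isPGroup' ⟨x, hx⟩
      have h1 : orderOf x ∣ 2 ^ a :=
        orderOf_dvd_of_pow_eq_one (by simpa using congrArg Subtype.val ha)
      obtain ⟨j, -, hj⟩ := (Nat.dvd_prime_pow Nat.prime_two).1 h1
      rw [hj]
      exact dvd_pow_self 2 fun e => hx1 (by rw [e, pow_zero] at hj; exact orderOf_eq_one_iff.1 hj)
    rw [← pow_two, ← hinv x h2, pow_orderOf_eq_one]

end Data

end Cfsg.Agent.H86.FewSylow
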