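import Cfsg.Agent.H86.FewSylowDegrees
import Cfsg.Agent.Cores.PCore

/-!
# Perfect groups with a Sylow subgroup of prime order: reduction to the self-centralizing case
-/

set_option linter.unusedSectionVars false
set_option linter.style.haveILetI false

open scoped ComplexConjugate Classical

namespace Cfsg.Agent.H86.FewSylowReduce

open CharBasic Subgroup BlockBasic

universe u

variable {G : Type u} [Group G] [Fintype G] {p : ℕ} [hp : Fact p.Prime]

theorem dvd_of_isIntegral {a b : ℕ} (hb : 0 < b) {s : ℤ} (hs : s = 1 ∨ s = -1)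
    (h : IsIntegral ℤ ((a : ℂ) * (s : ℂ) / (b : ℂ))) : b ∣ a := by
  have hq : ((a : ℂ) * (s : ℂ) / (b : ℂ)) = algebraMap ℚ ℂ ((a : ℚ) * (s : ℚ) / (b : ℚ)) := by
    simp
  rw [hq, isIntegral_algebraMap_iff (algebraMap ℚ ℂ).injective] at h
  obtain ⟨k, hk⟩ := IsIntegrallyClosed.isIntegral_iff.1 h
  have hk' : (a : ℤ) * s = (k : ℤ) * b := by
    have : ((a : ℚ) * (s : ℚ)) = (k : ℚ) * (b : ℚ) := by
      rw [show (k : ℚ) = algebraMap ℤ ℚ k from rfl, hk]
      field_simp
    exact_mod_cast this
  refine Int.natCast_dvd_natCast.1 ⟨k * s, ?_⟩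
  rcases hs with rfl | rfl <;> linarith

theorem relIndex_ne_one (hperf : commutator G = ⊤) (P : Sylow p G) (hP : Nat.card P = p) :
    (centralizer ((P : Subgroup G) : Set G)).relIndex (normalizer (P : Set G)) ≠ 1 := by
  intro h
  have hle : normalizer (P : Set G) ≤ centralizer ((P : Subgroup G) : Set G) :=
    Subgroup.relIndex_eq_one.1 h
  haveI : IsCyclic (P : Subgroup G) := isCyclic_of_prime_card (p := p) hP
  haveI : IsMulCommutative (P : Subgroup G) := IsCyclic.isMulCommutative
  have hc := MonoidHom.ker_transferSylow_isComplement' P hle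
  have hker : (MonoidHom.transferSylow P hle).ker = ⊤ := eq_top_iff.2 fun g _ =>
    MonoidHom.mem_ker.2 (FewSylow.hom_eq_one_of_perfect hperf _ (fun _ _ => mul_comm' _ _) g)
  rw [hker] at hc
  have hbot := Subgroup.isComplement'_top_left.1 hc
  have h2 : Nat.card (P : Subgroup G) = p := hP
  rw [hbot, Subgroup.card_bot] at h2
  exact hp.out.ne_one h2.symm

theorem card_sylow_ne_one (hperf : commutator G = ⊤) (P : Sylow p G) (hP : Nat.card P = p) :
    Nat.card (Sylow p G) ≠ 1 := by
  intro h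
  apply relIndex_ne_one hperf P hP
  obtain ⟨ν, hν⟩ := TraceQ.exists_hom P hP (ZMod p)
  have hN : ∀ g : G, g ∈ normalizer (P : Set G) := by
    intro g
    haveI := (Nat.card_eq_one_iff_unique.1 h).1
    exact Sylow.smul_eq_iff_mem_normalizer.1 (Subsingleton.elim _ _)
  let f : G →* (ZMod p)ˣ := ν.toHomUnits.comp
    { toFun := fun g => (⟨g, hN g⟩ : normalizer (P : Set G)), map_one' := rfl,
      map_mul' := fun _ _ => rfl }
  have hf := FewSylow.hom_eq_one_of_perfect hperf f fun _ _ => mul_comm _ _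
  rw [Subgroup.relIndex_eq_one]
  intro g _
  have hmem : (⟨g, hN g⟩ : normalizer (P : Set G)) ∈ ν.toHomUnits.ker := MonoidHom.mem_ker.2 (hf g)
  rw [hν, mem_subgroupOf] at hmem
  exact hmem

/-- The index of the centralizer. -/
theorem index_centralizer (P : Sylow p G) :
    (centralizer ((P : Subgroup G) : Set G)).index =
      (centralizer ((P : Subgroup G) : Set G)).relIndex (normalizer (P : Set G)) *
        Nat.card (Sylow p G) := by
  rw [Sylow.card_eq_index_normalizer P]
  refine (Subgroup.relIndex_mul_index ?_).symm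
  exact centralizer_le_normalizer _

theorem centralizer_singleton_of_mem (P : Sylow p G) (hP : Nat.card P = p) {x : G}
    (hx : x ∈ (P : Subgroup G)) (hx1 : x ≠ 1) :
    centralizer ({x} : Set G) = centralizer ((P : Subgroup G) : Set G) := by
  have hle : zpowers x = (P : Subgroup G) := by
    refine eq_of_le_of_card_ge (zpowers_le.2 hx) ?_
    have h := hP ▸ orderOf_dvd_natCard (G := (P : Subgroup G)) ⟨x, hx⟩
    rw [Subgroup.orderOf_mk] at h
    rw [Nat.card_zpowers, hP]
    rcases (Nat.dvd_prime hp.out).1 h with e | e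
    · exact absurd (orderOf_eq_one_iff.1 e) hx1
    · exact e.ge
  refine le_antisymm (fun c hc => mem_centralizer_iff.2 fun v hv => ?_) fun c hc =>
    mem_centralizer_singleton_iff.2 (mem_centralizer_iff.1 hc x hx).symm
  rw [SetLike.mem_coe, ← hle] at hv
  obtain ⟨i, rfl⟩ := hv
  exact (Commute.zpow_left ((mem_centralizer_singleton_iff.1 hc).symm : Commute x c) i).eq

/-- A character of degree `p - 1` with value `-1` on the singular elements of `P v` is trivial on `v`. -/
theorem apply_eq_degree (P : Sylow p G) (hP : Nat.card P = p) {χ : IrrCharacter G}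
    (hd : charDegree (χ : G → ℂ) = p - 1) {v : G}
    (hv : ∀ x : G, x ∈ (P : Subgroup G) → x ≠ 1 → (χ : G → ℂ) (x * v) = -1)
    (hval : ∀ x : G, x ∈ (P : Subgroup G) → x ≠ 1 → (χ : G → ℂ) x = -1) :
    (χ : G → ℂ) v = ((p - 1 : ℕ) : ℂ) := by
  have hP' : Nat.card (P : Subgroup G) = p := hP
  obtain ⟨n, ρ, hρ, he⟩ := χ.2
  let ρP : Representation ℂ (P : Subgroup G) (Fin n → ℂ) := ρ.comp (P : Subgroup G).subtype
  letI : Fintype (P : Subgroup G) := Fintype.ofFinite _
  haveI : Invertible (Fintype.card (P : Subgroup G) : ℂ) :=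
    invertibleOfNonzero (Nat.cast_ne_zero.2 Fintype.card_pos.ne')
  have hone : (χ : G → ℂ) 1 = ((p - 1 : ℕ) : ℂ) := by rw [apply_one_eq_charDegree, hd]
  have hsum : ∑ u : (P : Subgroup G), (χ : G → ℂ) (u : G) = 0 := by
    rw [← Finset.add_sum_erase _ _ (Finset.mem_univ (1 : (P : Subgroup G))), Subgroup.coe_one, hone,
      Finset.sum_congr rfl fun (u : (P : Subgroup G)) hu => hval u u.2 fun e =>
        Finset.ne_of_mem_erase hu (Subtype.ext e), Finset.sum_const,
      Finset.card_erase_of_mem (Finset.mem_univ _), Finset.card_univ, ← Nat.card_eq_fintype_card,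
      hP', nsmul_eq_mul]
    ring
  have hproj := Representation.isProj_averageMap ρP
  have htr : LinearMap.trace ℂ _ ρP.averageMap = 0 := by
    rw [Representation.averageMap, GroupAlgebra.average, map_smul, map_sum]
    simp only [MonoidAlgebra.of_apply, Representation.asAlgebraHom_single_one, map_smul, map_sum]
    rw [← smul_zero (⅟(Fintype.card (P : Subgroup G) : ℂ))]
    congr 1
    rw [← hsum]
    exact Finset.sum_congr rfl fun u _ => by rw [← he]; rfl
  rw [hproj.trace, Nat.cast_eq_zero, Submodule.finrank_eq_zero] at htr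
  have hzero : ρP.averageMap = 0 := by
    refine LinearMap.ext fun w => ?_
    have := Representation.averageMap_invariant ρP w
    rw [htr, Submodule.mem_bot] at this
    exact this
  have hsum0 : ∑ u : (P : Subgroup G), ρ (u : G) = 0 := by
    rw [Representation.averageMap, GroupAlgebra.average, map_smul, map_sum] at hzero
    simp only [MonoidAlgebra.of_apply, Representation.asAlgebraHom_single_one] at hzero
    exact (smul_eq_zero.1 hzero).resolve_left (Invertible.ne_zero _)
  have hsv : ∑ u : (P : Subgroup G), (χ : G → ℂ) ((u : G) * v) = 0 := by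
    simp only [← he, Representation.character, map_mul]
    rw [← map_sum, ← Finset.sum_mul, hsum0, zero_mul, map_zero]
  rw [← Finset.add_sum_erase _ _ (Finset.mem_univ (1 : (P : Subgroup G))), Subgroup.coe_one,
    one_mul, Finset.sum_congr rfl fun (u : (P : Subgroup G)) hu => hv u u.2 fun e =>
      Finset.ne_of_mem_erase hu (Subtype.ext e), Finset.sum_const,
    Finset.card_erase_of_mem (Finset.mem_univ _), Finset.card_univ, ← Nat.card_eq_fintype_card,
    hP', nsmul_eq_mul] at hsv
  linear_combination hsv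

/-- Without a representation of `n` the principal block has a character of degree `p - 1`. -/
theorem exists_degree_sub_one (hperf : commutator G = ⊤) (P : Sylow p G) (hP : Nat.card P = p)
    {n : ℕ} (hn : Nat.card (Sylow p G) = 1 + n * p) (hrep : ¬ FewSylowArith.Rep p n) :
    ∃ χ : IrrCharacter G, charDegree (χ : G → ℂ) = p - 1 ∧
      ∀ x : G, x ∈ (P : Subgroup G) → x ≠ 1 → ∀ y : G,
        y ∈ centralizer ((P : Subgroup G) : Set G) → ¬ p ∣ orderOf y →
          (χ : G → ℂ) (x * y) = -1 := by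
  letI : Fintype (P : Subgroup G) := Fintype.ofFinite _
  obtain ⟨M, hM⟩ := exists_isPModular hp.out
  obtain ⟨X, Y, εX, ε, -, hdisj, hXc, hYc, hXp, hε, hYd, -, hrel, htX, hsum⟩ :=
    Abelian.exists_structure_full P hP hM
  set e := (centralizer ((P : Subgroup G) : Set G)).relIndex (normalizer (P : Set G)) with he
  set g := Nat.card (Sylow p G) with hg
  have hidx := index_centralizer P
  rw [← he, ← hg] at hidx
  have hedvd : e ∣ p - 1 := Abelian.relIndex_dvd P hP
  have he1 : e ≠ 1 := relIndex_ne_one hperf P hP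
  have hp2 := hp.out.two_le
  have he0 : 0 < e := Nat.pos_of_dvd_of_pos hedvd (by omega)
  have hep : e ≤ p - 1 := Nat.le_of_dvd (by omega) hedvd
  have hp3 : 3 ≤ p := by omega
  have hn1 : 1 ≤ n := Nat.pos_of_ne_zero fun h0 => card_sylow_ne_one hperf P hP (by
    show g = 1
    rw [hn, h0, zero_mul, add_zero])
  haveI : Nontrivial (P : Subgroup G) :=
    Finite.one_lt_card_iff_nontrivial.1 (by
      rw [show Nat.card (P : Subgroup G) = p from hP]; exact hp.out.one_lt)
  obtain ⟨⟨x₀, hx₀⟩, hx₀'⟩ := exists_ne (1 : (P : Subgroup G))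
  have hx₀1 : x₀ ≠ 1 := fun e => hx₀' (Subtype.ext e)
  have hval : ∀ χ ∈ X, ∀ x : G, x ∈ (P : Subgroup G) → x ≠ 1 → (χ : G → ℂ) x = (εX χ : ℂ) := by
    intro χ hχ x hx hx1
    have := (hXp χ hχ).2.2 x hx hx1 1 (one_mem _)
      (by rw [orderOf_one, Nat.dvd_one]; exact hp.out.ne_one)
    rwa [mul_one] at this
  have hdvd : ∀ χ ∈ X, charDegree (χ : G → ℂ) ∣ e * g := by
    intro χ hχ
    have h := isIntegral_centralChar χ.2 x₀
    rw [centralChar, centralizer_singleton_of_mem P hP hx₀ hx₀1, hidx, hval χ hχ x₀ hx₀ hx₀1,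
      apply_one_eq_charDegree] at h
    exact dvd_of_isIntegral (charDegree_pos χ) (hXp χ hχ).1 h
  have htriv : charDegree ((trivialIrr : IrrCharacter G) : G → ℂ) = 1 := by
    have h' := apply_one_eq_charDegree (trivialIrr : IrrCharacter G)
    exact_mod_cast (h'.symm.trans rfl :
      (charDegree ((trivialIrr : IrrCharacter G) : G → ℂ) : ℂ) = 1)
  have hεtriv : εX trivialIrr = 1 := by
    have h := hval trivialIrr htX x₀ hx₀ hx₀1
    have h' : ((εX trivialIrr : ℤ) : ℂ) = ((1 : ℤ) : ℂ) := by rw [← h, Int.cast_one]; rfl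
    exact Int.cast_injective h'
  have hne1 : ∀ χ : IrrCharacter G, χ ≠ trivialIrr → 1 < charDegree (χ : G → ℂ) := by
    intro χ hχ
    refine lt_of_le_of_ne (charDegree_pos χ) fun h => hχ (Subtype.ext (funext fun x => ?_))
    obtain ⟨l, hl⟩ := CharInduce.IsChar.exists_hom_of_degree_one (IsIrr.isCharacter χ.2)
      (by rw [apply_one_eq_charDegree, ← h, Nat.cast_one])
    rw [hl x, FewSylow.hom_eq_one_of_perfect hperf l (fun _ _ => mul_comm _ _) x, Units.val_one]
    rfl
  have hplus : ∀ χ ∈ X, χ ≠ trivialIrr → εX χ = 1 → charDegree (χ : G → ℂ) = g := by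
    intro χ hχ hne h1
    refine FewSylowArith.deg_plus hp.out hn hedvd ?_ (hne1 χ hne) (hdvd χ hχ) hrep
    have h := (hXp χ hχ).2.1.symm.dvd
    rw [h1] at h
    have := charDegree_pos χ
    refine Int.natCast_dvd_natCast.1 ?_
    rwa [Nat.cast_sub (by omega), Nat.cast_one]
  by_contra hno
  push Not at hno
  have hminus : ∀ χ ∈ X, εX χ = -1 → charDegree (χ : G → ℂ) = (p - 1) * g ∧ e = p - 1 := by
    intro χ hχ h1
    have hd : p ∣ charDegree (χ : G → ℂ) + 1 := by
      have h := (hXp χ hχ).2.1.symm.dvd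
      rw [h1, sub_neg_eq_add] at h
      exact_mod_cast h
    have hne : charDegree (χ : G → ℂ) ≠ p - 1 := fun hdeg => by
      obtain ⟨x, hx, hx1, y, hy, hy', hneq⟩ := hno χ hdeg
      refine hneq ?_
      rw [(hXp χ hχ).2.2 x hx hx1 y hy hy', h1]
      norm_num
    obtain ⟨t, ht⟩ := hedvd
    obtain ⟨q, hq⟩ := (hdvd χ hχ).trans (mul_dvd_mul_right ⟨t, ht⟩ g)
    have hgpos : 0 < g := Nat.card_pos
    have hd0 := charDegree_pos χ
    have hq0 : 0 < q := by
      rcases Nat.eq_zero_or_pos q with h | h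
      · rw [h, mul_zero] at hq
        have : 0 < (p - 1) * g := Nat.mul_pos (by omega) hgpos
        omega
      · exact h
    have hqmod : p ∣ q - 1 := by
      obtain ⟨u, hu⟩ := hd
      have hq' : ((p : ℤ) - 1) * g = (charDegree (χ : G → ℂ) : ℤ) * q := by
        have h' : (((p - 1) * g : ℕ) : ℤ) = ((charDegree (χ : G → ℂ) * q : ℕ) : ℤ) := congrArg _ hq
        push_cast [Nat.cast_sub (show 1 ≤ p by omega)] at h'
        exact h'
      have hu' : (charDegree (χ : G → ℂ) : ℤ) + 1 = p * u := by exact_mod_cast hu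
      refine Int.natCast_dvd_natCast.1 ?_
      rw [Nat.cast_sub hq0, Nat.cast_one]
      refine ⟨(u : ℤ) * q - (g : ℤ) + n, ?_⟩
      have hgn : (g : ℤ) = 1 + n * p := by exact_mod_cast hn
      linear_combination hq' + (q : ℤ) * hu' + hgn
    rcases (show q = 1 ∨ 1 < q by omega) with rfl | hq1
    · rw [mul_one] at hq
      refine ⟨hq.symm, le_antisymm hep ?_⟩
      have h2 := Nat.le_of_dvd (Nat.mul_pos he0 hgpos) (hdvd χ hχ)
      rw [← hq] at h2
      exact Nat.le_of_mul_le_mul_right h2 hgpos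
    · rcases le_or_gt g q with hle | hlt
      · exfalso
        have h1 : charDegree (χ : G → ℂ) * g ≤ (p - 1) * g := by
          rw [hq]; exact Nat.mul_le_mul_left _ hle
        have h2 : charDegree (χ : G → ℂ) ≤ p - 1 := Nat.le_of_mul_le_mul_right h1 hgpos
        have h3 := Nat.le_of_dvd (by omega) hd
        omega
      · exact absurd (FewSylowArith.rep_of_dvd hp.out hn hqmod hq1 hlt
          ⟨charDegree (χ : G → ℂ), by rw [hq, mul_comm]⟩) hrep
  -- the degree of an exceptional character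
  obtain ⟨θ, hθ⟩ : Y.Nonempty := Finset.card_pos.1 (by
    rw [hYc]; exact Nat.div_pos hep he0)
  have hθe : θ ≠ trivialIrr := fun h' => Finset.disjoint_left.1 hdisj htX (h' ▸ hθ)
  have hθ1 := hne1 θ hθe
  set d := charDegree (θ : G → ℂ) with hd
  have hθdvd : d ∣ e * e * g := by
    have h : IsIntegral ℤ (∑ u ∈ (Finset.univ : Finset (P : Subgroup G)).erase 1,
        centralChar (θ : G → ℂ) (u : G)) :=
      IsIntegral.sum _ fun u _ => isIntegral_centralChar θ.2 _
    have h2 : ∑ u ∈ (Finset.univ : Finset (P : Subgroup G)).erase 1,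
        centralChar (θ : G → ℂ) (u : G) = ((e * e * g : ℕ) : ℂ) * ((-ε : ℤ) : ℂ) / (d : ℂ) := by
      rw [Finset.sum_congr rfl (g := fun u : (P : Subgroup G) =>
        ((e * g : ℕ) : ℂ) * (θ : G → ℂ) (u : G) / (d : ℂ)) (fun (u : (P : Subgroup G)) hu => by
          rw [centralChar, centralizer_singleton_of_mem P hP u.2
            fun e => Finset.ne_of_mem_erase hu (Subtype.ext e), hidx, apply_one_eq_charDegree]),
        ← Finset.sum_div, ← Finset.mul_sum]
      have h3 := hsum θ hθ
      rw [← Finset.add_sum_erase _ _ (Finset.mem_univ (1 : (P : Subgroup G))),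
        Subgroup.coe_one] at h3
      rw [show ∑ u ∈ (Finset.univ : Finset (P : Subgroup G)).erase 1, (θ : G → ℂ) (u : G) =
        -((ε : ℂ) * (e : ℂ)) by linear_combination h3]
      push_cast; ring
    rw [h2] at h
    exact dvd_of_isIntegral (charDegree_pos θ) (by rcases hε with e | e <;> simp [e]) h
  -- the relation between the degrees
  set b := (X.filter fun χ => εX χ = -1).card with hb
  set a := (X.filter fun χ => εX χ = 1 ∧ χ ≠ trivialIrr).card with ha
  have hXeq : X = insert trivialIrr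
      ((X.filter fun χ => εX χ = 1 ∧ χ ≠ trivialIrr) ∪ X.filter fun χ => εX χ = -1) := by
    ext χ
    simp only [Finset.mem_insert, Finset.mem_union, Finset.mem_filter]
    constructor
    · intro h
      rcases eq_or_ne χ trivialIrr with e | e
      · exact Or.inl e
      · rcases (hXp χ h).1 with e' | e' <;> tauto
    · rintro (rfl | ⟨h, -⟩ | ⟨h, -⟩)
      · exact htX
      all_goals exact h
  have hsumX : ∀ {β : Type} [AddCommMonoid β] (f : IrrCharacter G → β), ∑ χ ∈ X, f χ =
      f trivialIrr + (∑ χ ∈ X.filter (fun χ => εX χ = 1 ∧ χ ≠ trivialIrr), f χ +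
        ∑ χ ∈ X.filter (fun χ => εX χ = -1), f χ) := by
    intro β _ f
    conv_lhs => rw [hXeq]
    rw [Finset.sum_insert (by simp [hεtriv]), Finset.sum_union
      (Finset.disjoint_filter.2 fun χ _ h h' => by omega)]
  have hcard : e = 1 + (a + b) := by
    have := hsumX (fun _ => (1 : ℕ))
    simpa [hXc, ha, hb] using this
  have hrel1 : ε * (d : ℤ) = 1 + ((a : ℤ) * g - (b : ℤ) * (((p : ℤ) - 1) * g)) := by
    have h := hrel θ hθ 1 (by rw [orderOf_one, Nat.dvd_one]; exact hp.out.ne_one)
    simp only [apply_one_eq_charDegree] at h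
    rw [hsumX] at h
    rw [Finset.sum_congr rfl (g := fun _ => (g : ℂ)) (fun χ hχ => by
        obtain ⟨h1, h2, h3⟩ := Finset.mem_filter.1 hχ
        rw [h2, hplus χ h1 h3 h2]; simp),
      Finset.sum_congr (s₁ := X.filter fun χ => εX χ = -1) rfl
        (g := fun _ => -(((p - 1 : ℕ) : ℂ) * (g : ℂ))) (fun χ hχ => by
        obtain ⟨h1, h2⟩ := Finset.mem_filter.1 hχ
        rw [h2, (hminus χ h1 h2).1]; simp),
      Finset.sum_const, Finset.sum_const, hεtriv, htriv, nsmul_eq_mul, nsmul_eq_mul,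
      Nat.cast_sub (by omega : 1 ≤ p)] at h
    apply Int.cast_injective (α := ℂ)
    push_cast [← ha, ← hb, ← hd] at h ⊢
    linear_combination h
  have hgn : (g : ℤ) = 1 + n * p := by exact_mod_cast hn
  have hp3' : (3 : ℤ) ≤ p := by exact_mod_cast hp3
  have hn1' : (1 : ℤ) ≤ n := by exact_mod_cast hn1
  rcases Nat.eq_zero_or_pos b with hb0 | hb0
  · -- all signs positive
    rw [hb0, Nat.cast_zero, zero_mul, sub_zero] at hrel1
    have hε1 : ε = 1 := hε.resolve_right fun h => by
      rw [h] at hrel1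
      have : (0 : ℤ) ≤ (a : ℤ) * g := mul_nonneg (Int.natCast_nonneg a) (Int.natCast_nonneg g)
      omega
    rw [hε1, one_mul] at hrel1
    have ha1 : 1 ≤ a := by omega
    have hd' : d = 1 + a * g := by exact_mod_cast hrel1
    have hco : Nat.Coprime d g := by
      rw [hd']; exact (Nat.coprime_add_mul_right_left 1 g a).2 (Nat.coprime_one_left g)
    have h2 : d ∣ e * e := hco.dvd_of_dvd_mul_right hθdvd
    have h3 := Nat.le_of_dvd (Nat.mul_pos he0 he0) h2
    have h4 : a * (1 + p) ≤ a * g := Nat.mul_le_mul_left _ (by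
      have : 1 * p ≤ n * p := Nat.mul_le_mul_right _ hn1
      omega)
    rw [hcard, hb0, add_zero] at h3
    have h5 : a + 2 ≤ p := by omega
    have h6 : a * (a + 2) ≤ a * p := Nat.mul_le_mul_left _ h5
    rw [hd'] at h3
    nlinarith
  · obtain ⟨χ, hχ⟩ := Finset.card_pos.1 (hb ▸ hb0)
    obtain ⟨hχ1, hχ2⟩ := Finset.mem_filter.1 hχ
    have hemax : e = p - 1 := (hminus χ hχ1 hχ2).2
    have hab : a + b + 2 = p := by omega
    obtain ⟨m, hm⟩ : ∃ m : ℕ, (m : ℤ) = (b : ℤ) * ((p : ℤ) - 1) - a := by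
      refine ⟨((b : ℤ) * ((p : ℤ) - 1) - a).toNat, Int.toNat_of_nonneg ?_⟩
      have hb1 : (1 : ℤ) * ((p : ℤ) - 1) ≤ (b : ℤ) * ((p : ℤ) - 1) :=
        mul_le_mul_of_nonneg_right (by exact_mod_cast hb0) (by omega)
      omega
    have hm2 : 2 ≤ m := by
      have hb1 : (1 : ℤ) * ((p : ℤ) - 1) ≤ (b : ℤ) * ((p : ℤ) - 1) :=
        mul_le_mul_of_nonneg_right (by exact_mod_cast hb0) (by omega)
      omega
    have hg1 : p + 1 ≤ g := by
      have : 1 * p ≤ n * p := Nat.mul_le_mul_right _ hn1
      omega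
    have hmg : ε * (d : ℤ) = 1 - (m : ℤ) * g := by rw [hrel1, hm]; ring
    have hmg1 : (2 : ℤ) * g ≤ (m : ℤ) * g :=
      mul_le_mul_of_nonneg_right (by exact_mod_cast hm2) (by positivity)
    have hεm : ε = -1 := hε.resolve_left fun h => by
      rw [h, one_mul] at hmg
      omega
    rw [hεm] at hmg
    have hd' : d + 1 = m * g := by
      have : ((d + 1 : ℕ) : ℤ) = ((m * g : ℕ) : ℤ) := by push_cast; linarith
      exact_mod_cast this
    have hco : Nat.Coprime d g := by
      refine Nat.coprime_of_dvd' fun k _ h1 h2 => ?_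
      have h3 : k ∣ d + 1 := hd' ▸ dvd_mul_of_dvd_right h2 _
      exact (Nat.dvd_add_right h1).1 h3
    have h2 : d ∣ e * e := hco.dvd_of_dvd_mul_right hθdvd
    rw [hemax] at h2
    obtain ⟨q, hq⟩ := h2
    obtain ⟨j, hj⟩ : (p : ℤ) ∣ (m : ℤ) - 2 := ⟨(b : ℤ) - 1, by
      rw [hm]
      have : (a : ℤ) + b + 2 = p := by exact_mod_cast hab
      linear_combination -this⟩
    have hq' : ((p : ℤ) - 1) * ((p : ℤ) - 1) = (d : ℤ) * q := by
      have h' : (((p - 1) * (p - 1) : ℕ) : ℤ) = ((d * q : ℕ) : ℤ) := congrArg _ hq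
      push_cast [Nat.cast_sub (show 1 ≤ p by omega)] at h'
      exact h'
    obtain ⟨w, hw⟩ : (p : ℤ) ∣ (q : ℤ) - 1 := by
      refine ⟨(p : ℤ) - 2 - ((m : ℤ) * n + j) * q, ?_⟩
      have hdz : (d : ℤ) + 1 = (m : ℤ) * g := by exact_mod_cast hd'
      linear_combination -hq' - (q : ℤ) * hdz - (m : ℤ) * q * hgn - (q : ℤ) * hj
    rcases (show q = 0 ∨ q = 1 ∨ 1 < q by omega) with rfl | rfl | hq1
    · rw [Nat.cast_zero, mul_zero] at hq'
      nlinarith
    · rw [Nat.cast_one, mul_one] at hq'
      have hdz : (d : ℤ) + 1 = (m : ℤ) * g := by exact_mod_cast hd'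
      rcases (show j ≤ -1 ∨ j = 0 ∨ 1 ≤ j by omega) with hj' | hj' | hj'
      · have : (p : ℤ) * j ≤ (p : ℤ) * (-1) := mul_le_mul_of_nonneg_left hj' (by positivity)
        omega
      · subst hj'
        have hm' : (m : ℤ) = 2 := by linarith
        rw [hm'] at hdz
        obtain ⟨c, hc⟩ := hp.out.odd_of_ne_two (by omega)
        have hc' : (p : ℤ) = 2 * c + 1 := by exact_mod_cast hc
        rw [hc'] at hq'
        ring_nf at hq' hdz
        omega
      · have h1 : (p : ℤ) * 1 ≤ (p : ℤ) * j := mul_le_mul_of_nonneg_left hj' (by positivity)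
        have h2 : ((p : ℤ) + 2) * ((p : ℤ) + 1) ≤ (m : ℤ) * g :=
          mul_le_mul (by omega) (by exact_mod_cast hg1) (by positivity) (by positivity)
        nlinarith
    · have hw1 : 1 ≤ w := by
        by_contra h
        push Not at h
        have : (p : ℤ) * w ≤ 0 := mul_nonpos_of_nonneg_of_nonpos (by positivity) (by omega)
        omega
      have h1 : (p : ℤ) * 1 ≤ (p : ℤ) * w := mul_le_mul_of_nonneg_left hw1 (by positivity)
      have hdz : (d : ℤ) + 1 = (m : ℤ) * g := by exact_mod_cast hd'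
      have h2 : (2 : ℤ) * ((p : ℤ) + 1) ≤ (m : ℤ) * g :=
        mul_le_mul (by exact_mod_cast hm2) (by exact_mod_cast hg1) (by positivity) (by positivity)
      have h3 : (d : ℤ) * ((p : ℤ) + 1) ≤ (d : ℤ) * q :=
        mul_le_mul_of_nonneg_left (by omega) (by positivity)
      nlinarith

theorem centralizer_eq (hperf : commutator G = ⊤) (P : Sylow p G) (hP : Nat.card P = p)
    (hcore : pPrimeCore p G = ⊥)
    {n : ℕ} (hn : Nat.card (Sylow p G) = 1 + n * p) (hrep : ¬ FewSylowArith.Rep p n) :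
    centralizer ((P : Subgroup G) : Set G) = P := by
  have hP' : Nat.card (P : Subgroup G) = p := hP
  obtain ⟨χ, hd, hχ⟩ := exists_degree_sub_one hperf P hP hn hrep
  have hone : (χ : G → ℂ) 1 = ((p - 1 : ℕ) : ℂ) := by rw [apply_one_eq_charDegree, hd]
  have hval : ∀ x : G, x ∈ (P : Subgroup G) → x ≠ 1 → (χ : G → ℂ) x = -1 := fun x hx hx1 => by
    have := hχ x hx hx1 1 (one_mem _) (by rw [orderOf_one, Nat.dvd_one]; exact hp.out.ne_one)
    rwa [mul_one] at this
  obtain ⟨k, ρ, hρ, he⟩ := χ.2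
  have hkerP : ∀ x ∈ (P : Subgroup G), x ∈ ρ.ker → x = 1 := by
    intro x hx hk
    by_contra hx1
    have h := hval x hx hx1
    rw [← he, Representation.character, MonoidHom.mem_ker.1 hk, ← map_one ρ] at h
    have h1 : ρ.character 1 = ((p - 1 : ℕ) : ℂ) := by rw [he, hone]
    rw [show LinearMap.trace ℂ _ (ρ 1) = ρ.character 1 from rfl, h1] at h
    have h' : (((p - 1 : ℕ) : ℤ) : ℂ) = ((-1 : ℤ) : ℂ) := by push_cast; exact h
    have h'' : ((p - 1 : ℕ) : ℤ) = -1 := Int.cast_injective h'
    omega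
  have hnp : ¬ p ∣ Nat.card ρ.ker := by
    intro hdvd
    obtain ⟨w, hw⟩ := exists_prime_orderOf_dvd_card' p hdvd
    have hwo : orderOf (w : G) = p := (Subgroup.orderOf_coe w).trans hw
    obtain ⟨Q, hQ⟩ := (IsPGroup.of_card (n := 1)
      (by rw [Nat.card_zpowers, hwo, pow_one]) : IsPGroup p (zpowers (w : G))).exists_le_sylow
    obtain ⟨c, hc⟩ := MulAction.exists_smul_eq G Q P
    have hmem : c * (w : G) * c⁻¹ ∈ (P : Subgroup G) := by
      rw [← hc]
      exact Subgroup.smul_mem_pointwise_smul (w : G) (MulAut.conj c) _ (hQ (mem_zpowers _))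
    have h1 := hkerP _ hmem ((MonoidHom.normal_ker ρ).conj_mem _ w.2 c)
    rw [conj_eq_one_iff] at h1
    rw [h1, orderOf_one] at hwo
    exact hp.out.ne_one hwo.symm
  haveI := MonoidHom.normal_ker ρ
  have hbot : ρ.ker = ⊥ := le_bot_iff.1 (hcore ▸
    Cores.le_pPrimeCore ((hp.out.coprime_iff_not_dvd.2 hnp).symm))
  refine le_antisymm (fun w hw => ?_) ?_
  · have hG : ∀ x : G, ¬ p ^ 2 ∣ orderOf x := by
      intro x hx
      have h2 : p ^ 2 ∣ Nat.card G := hx.trans (orderOf_dvd_natCard x)
      have h3 : 2 ≤ (Nat.card G).factorization p :=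
        (Nat.Prime.pow_dvd_iff_le_factorization hp.out Nat.card_pos.ne').1 h2
      have h4 := P.card_eq_multiplicity
      rw [hP'] at h4
      have h5 : p ^ 1 = p ^ (Nat.card G).factorization p := (pow_one p).trans h4
      have := Nat.pow_right_injective hp.out.two_le h5
      omega
    have hwp : ¬ p ∣ orderOf (w ^ p) := by
      intro h
      rcases em (p ∣ orderOf w) with hd' | hd'
      · rw [orderOf_pow_of_dvd hp.out.ne_zero hd'] at h
        obtain ⟨c, hc⟩ := hd'
        rw [hc, Nat.mul_div_cancel_left _ hp.out.pos] at h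
        exact hG w (by rw [hc, pow_two]; exact mul_dvd_mul_left _ h)
      · exact hd' (h.trans (orderOf_pow_dvd p))
    have hwC : w ^ p ∈ centralizer ((P : Subgroup G) : Set G) := pow_mem hw p
    have hone' : w ^ p ∈ ρ.ker := by
      have h1 := apply_eq_degree P hP hd (v := w ^ p)
        (fun x hx hx1 => hχ x hx hx1 _ hwC hwp) hval
      refine MonoidHom.mem_ker.2 ?_
      have h2 : ρ.character (w ^ p) = ρ.character 1 := by
        rw [he, h1, hone]
      rw [Representation.char_one] at h2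
      rw [Module.End.one_eq_id, ← CharBasic.character_eq_finrank_iff ρ]
      exact h2
    rw [hbot, mem_bot] at hone'
    have hpg : IsPGroup p (zpowers w) := by
      intro z
      refine ⟨1, Subtype.ext ?_⟩
      obtain ⟨i, hi⟩ := z.2
      show ((z : G)) ^ p ^ 1 = 1
      rw [← hi, pow_one, ← zpow_natCast, ← zpow_mul, mul_comm, zpow_mul, zpow_natCast, hone',
        one_zpow]
    have hwN : w ∈ normalizer ((P : Subgroup G) : Set G) :=
      centralizer_le_normalizer _ hw
    exact (le_of_eq (hpg.inf_normalizer_sylow P) ⟨mem_zpowers w, hwN⟩).2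
  · intro v hv
    haveI : IsCyclic (P : Subgroup G) := isCyclic_of_prime_card (p := p) hP'
    haveI : IsMulCommutative (P : Subgroup G) := IsCyclic.isMulCommutative
    exact mem_centralizer_iff.2 fun u hu =>
      congrArg Subtype.val (mul_comm' (⟨u, hu⟩ : (P : Subgroup G)) ⟨v, hv⟩)

/-- The quotient by the `p'`-core has the same number of Sylow subgroups. -/
theorem quotient_data (hperf : commutator G = ⊤) (P : Sylow p G) (hP : Nat.card P = p)
    (N : Subgroup G) [N.Normal] (hN : (Nat.card N).Coprime p)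
    {n : ℕ} (hn : Nat.card (Sylow p G) = 1 + n * p) (hrep : ¬ FewSylowArith.Rep p n) :
    commutator (G ⧸ N) = ⊤ ∧ ∃ Q : Sylow p (G ⧸ N), Nat.card Q = p ∧
      Nat.card (Sylow p (G ⧸ N)) = 1 + n * p := by
  have hperf' : commutator (G ⧸ N) = ⊤ := by
    rw [eq_top_iff, _root_.commutator_def]
    have h : Subgroup.map (QuotientGroup.mk' N) (commutator G) ≤
        ⁅(⊤ : Subgroup (G ⧸ N)), (⊤ : Subgroup (G ⧸ N))⁆ := by
      rw [_root_.commutator_def, Subgroup.map_commutator]
      exact Subgroup.commutator_mono le_top le_top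
    rwa [hperf, ← MonoidHom.range_eq_map,
      MonoidHom.range_eq_top.2 (QuotientGroup.mk'_surjective N)] at h
  refine ⟨hperf', ?_⟩
  let Q := P.mapSurjective (QuotientGroup.mk'_surjective N)
  have hQc : Nat.card (Q : Subgroup (G ⧸ N)) = p := by
    rw [Q.card_eq_multiplicity]
    have h1 : (Nat.card G).factorization p = 1 := by
      have h4 := P.card_eq_multiplicity
      rw [show Nat.card (P : Subgroup G) = p from hP] at h4
      exact (Nat.pow_right_injective hp.out.two_le
        (show p ^ 1 = p ^ _ by rw [pow_one]; exact h4)).symm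
    rw [Subgroup.card_eq_card_quotient_mul_card_subgroup N,
      Nat.factorization_mul Nat.card_pos.ne' Nat.card_pos.ne', Finsupp.add_apply,
      Nat.factorization_eq_zero_of_not_dvd (n := Nat.card N)
        (hp.out.coprime_iff_not_dvd.1 hN.symm), add_zero] at h1
    rw [h1, pow_one]
  refine ⟨Q, hQc, ?_⟩
  have hdvd : Nat.card (Sylow p (G ⧸ N)) ∣ Nat.card (Sylow p G) := by
    rw [Sylow.card_eq_index_normalizer P, Sylow.card_eq_index_normalizer Q]
    refine (Subgroup.index_dvd_of_le ?_).trans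
      (Subgroup.index_map_dvd _ (QuotientGroup.mk'_surjective N))
    exact Subgroup.le_normalizer_map _
  by_contra hne
  have h1 : Nat.card (Sylow p (G ⧸ N)) % p = 1 := by
    have h := card_sylow_modEq_one p (G ⧸ N)
    rwa [Nat.ModEq, Nat.one_mod_eq_one.2 hp.out.ne_one] at h
  have hne1 : Nat.card (Sylow p (G ⧸ N)) ≠ 1 := by
    haveI : Fintype (G ⧸ N) := Fintype.ofFinite _
    exact card_sylow_ne_one hperf' Q hQc
  have hmod : p ∣ Nat.card (Sylow p (G ⧸ N)) - 1 := by
    have h := Nat.dvd_sub_mod (n := p) (Nat.card (Sylow p (G ⧸ N)))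
    rwa [h1] at h
  have hpos : 0 < Nat.card (Sylow p (G ⧸ N)) := Nat.card_pos
  exact hrep (FewSylowArith.rep_of_dvd hp.out hn hmod (by omega)
    (lt_of_le_of_ne (Nat.le_of_dvd Nat.card_pos hdvd) fun h => hne (h.trans hn))
    (hdvd.trans (dvd_mul_left _ _)))

end Cfsg.Agent.H86.FewSylowReduce
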