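import Cfsg.Agent.H86.FewSylowCases
import Cfsg.Agent.H28.ZassApps

/-!
# Self-centralizing Sylow subgroup of prime order with `p + 1` conjugates: `PSL₂(p)`
-/

set_option linter.unusedSectionVars false
set_option linter.style.haveILetI false

open scoped Classical

namespace Cfsg.Agent.H86.FewSylow

open CharBasic Subgroup

universe u

variable {G : Type u} [Group G] [Fintype G] {p : ℕ} [hp : Fact p.Prime]

namespace Data

variable (D : Data G p)

include D

theorem isZassenhaus (hn : D.n = 1) : Cfsg.IsZassenhausGroup G (Sylow p G) := by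
  have hΩ : Nat.card (Sylow p G) = p + 1 := by
    rw [card_sylow_eq D.S, show nn D.S = 1 from hn, one_mul, add_comm]
  have hother : ∃ Q : Sylow p G, Q ≠ D.S.P := by
    haveI : Nontrivial (Sylow p G) :=
      Finite.one_lt_card_iff_nontrivial.1 (by rw [hΩ]; have := hp.out.two_le; omega)
    exact exists_ne _
  have horb : ∀ Q R : Sylow p G, Q ≠ D.S.P → R ≠ D.S.P →
      ∃ u : (D.S.P : Subgroup G), (u : G) • Q = R := by
    intro Q R hQ hR
    let f : ↥(D.S.P : Subgroup G) → {R : Sylow p G // R ≠ D.S.P} := fun u =>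
      ⟨(u : G) • Q, fun h => hQ (smul_left_cancel (u : G)
        (h.trans ((smul_P_eq D.S).2 (P_le D.S u.2)).symm))⟩
    have hinj : Function.Injective f := by
      intro u v h
      have h' : (u : G) • Q = (v : G) • Q := congrArg Subtype.val h
      have h1 : ((v : G)⁻¹ * u) • Q = Q := by rw [mul_smul, h', inv_smul_smul]
      exact Subtype.ext (inv_mul_eq_one.1
        (eq_one_of_fix D.S (mul_mem (inv_mem v.2) u.2) hQ h1)).symm
    have hbij := hinj.bijective_of_nat_card_le (by
      have hc : Nat.card {R : Sylow p G // R ≠ D.S.P} = p := by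
        rw [Nat.card_eq_fintype_card, Fintype.card_subtype_compl, Fintype.card_subtype_eq,
          ← Nat.card_eq_fintype_card, hΩ, Nat.add_sub_cancel]
      rw [hc, D.S.card_P])
    obtain ⟨u, hu⟩ := hbij.2 ⟨R, hR⟩
    exact ⟨u, congrArg Subtype.val hu⟩
  have hfix : ∀ g : G, g • D.S.P = D.S.P → ∀ Q R : Sylow p G, Q ≠ D.S.P → R ≠ D.S.P → Q ≠ R →
      g • Q = Q → g • R = R → g = 1 := by
    intro g hg Q R hQ hR hQR hgQ hgR
    obtain ⟨u, hu, y, hy, rfl⟩ := D.S.dec g ((smul_P_eq D.S).1 hg)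
    rcases eq_or_ne y 1 with rfl | hy1
    · rw [mul_one] at hgQ ⊢
      exact eq_one_of_fix D.S hu hQ hgQ
    · exfalso
      obtain ⟨v, hv, hvy⟩ := exists_conj D.S hu hy hy1
      have hsub : ({D.S.P, v⁻¹ • Q, v⁻¹ • R} : Finset (Sylow p G)) ⊆ fixPts p y := by
        intro X hX
        simp only [Finset.mem_insert, Finset.mem_singleton] at hX
        rw [mem_fixPts]
        rw [← hvy] at hgQ hgR
        rcases hX with rfl | rfl | rfl
        · exact (smul_P_eq D.S).2 (D.S.E_le hy)
        · rw [← mul_smul, ← inv_smul_smul v ((y * v⁻¹) • Q), ← mul_smul v, ← mul_assoc, hgQ]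
        · rw [← mul_smul, ← inv_smul_smul v ((y * v⁻¹) • R), ← mul_smul v, ← mul_assoc, hgR]
      have hvP : v • D.S.P = D.S.P := (smul_P_eq D.S).2 (P_le D.S hv)
      have hne : ∀ X, X ≠ D.S.P → D.S.P ≠ v⁻¹ • X := fun X hX h => hX (by
        rw [← smul_inv_smul v X, ← h, hvP])
      have hc := Finset.card_le_card hsub
      rw [Finset.card_insert_of_notMem (by simp [hne Q hQ, hne R hR]),
        Finset.card_pair (fun e => hQR (smul_left_cancel _ e)), D.card_fix hy hy1, hn] at hc
      omega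
  refine ⟨⟨fun {g₁ g₂} h => ?_⟩, ?_, ?_, ?_, ?_⟩
  · -- faithful
    set K := MulAction.toPermHom G (Sylow p G) with hKdef
    have hker : ∀ x : G, x ∈ K.ker → x = 1 := by
      intro x hx
      have hxfix : ∀ y : G, y ∈ K.ker → ∀ Q : Sylow p G, y • Q = Q := fun y hy Q =>
        Equiv.ext_iff.1 (MonoidHom.mem_ker.1 hy) Q
      obtain ⟨Q, hQ⟩ := hother
      have hxN : x ∈ D.S.N := (smul_P_eq D.S).1 (hxfix x hx _)
      have hcomm : ∀ v ∈ (D.S.P : Subgroup G), x * v = v * x := by
        intro v hv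
        have hm : x * v * x⁻¹ * v⁻¹ ∈ (D.S.P : Subgroup G) :=
          mul_mem (conj_mem D.S hxN hv) (inv_mem hv)
        have hk : x * v * x⁻¹ * v⁻¹ ∈ K.ker := by
          rw [show x * v * x⁻¹ * v⁻¹ = x * (v * x⁻¹ * v⁻¹) by group]
          exact mul_mem hx ((MonoidHom.normal_ker K).conj_mem _ (inv_mem hx) v)
        exact mul_inv_eq_iff_eq_mul.1 (mul_inv_eq_one.1 (eq_one_of_fix D.S hm hQ (hxfix _ hk Q)))
      have hxP : x ∈ (D.S.P : Subgroup G) := by
        rw [← D.S.hC]
        exact mem_centralizer_iff.2 fun v hv => (hcomm v hv).symm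
      exact eq_one_of_fix D.S hxP hQ (hxfix x hx Q)
    have hmem : g₂⁻¹ * g₁ ∈ K.ker := MonoidHom.mem_ker.2 (Equiv.ext fun Q => by
      show (g₂⁻¹ * g₁) • Q = Q
      rw [mul_smul, h, inv_smul_smul])
    exact (inv_mul_eq_one.1 (hker _ hmem)).symm
  · -- doubly transitive
    rw [MulAction.is_two_pretransitive_iff]
    intro a b c d hab hcd
    obtain ⟨x, hx⟩ := MulAction.exists_smul_eq G a D.S.P
    obtain ⟨y, hy⟩ := MulAction.exists_smul_eq G c D.S.P
    obtain ⟨u, hu⟩ := horb (x • b) (y • d) (fun e => hab (smul_left_cancel x (hx.trans e.symm)))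
      (fun e => hcd (smul_left_cancel y (hy.trans e.symm)))
    refine ⟨y⁻¹ * u * x, ?_, ?_⟩
    · rw [mul_smul, mul_smul, hx, (smul_P_eq D.S).2 (P_le D.S u.2), ← hy, inv_smul_smul]
    · rw [mul_smul, mul_smul, hu, inv_smul_smul]
  · -- at most two fixed points
    intro g a b c hab hbc hac ha hb hc
    obtain ⟨x, hx⟩ := MulAction.exists_smul_eq G a D.S.P
    have hconj : ∀ X : Sylow p G, g • X = X → (x * g * x⁻¹) • (x • X) = x • X := fun X hX => by
      rw [mul_smul, mul_smul, inv_smul_smul, hX]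
    refine conj_eq_one_iff.1 (hfix (x * g * x⁻¹) ?_ (x • b) (x • c) ?_ ?_ ?_ (hconj b hb) (hconj c hc))
    · rw [← hx]; exact hconj a ha
    · exact fun e => hab (smul_left_cancel x (hx.trans e.symm))
    · exact fun e => hac (smul_left_cancel x (hx.trans e.symm))
    · exact fun e => hbc (smul_left_cancel x e)
  · -- an element fixing two points
    haveI := Finite.one_lt_card_iff_nontrivial.1 (show 1 < Nat.card D.S.E from D.two_le_e)
    obtain ⟨⟨y, hy⟩, hy1⟩ := exists_ne (1 : D.S.E)
    have hy1' : y ≠ 1 := fun e => hy1 (Subtype.ext e)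
    obtain ⟨Q, hQ, hQP⟩ := Finset.exists_mem_ne
      (show 1 < (fixPts p y).card by rw [D.card_fix hy hy1', hn]; omega) D.S.P
    exact ⟨y, hy1', Q, D.S.P, hQP, mem_fixPts.1 hQ, (smul_P_eq D.S).2 (D.S.E_le hy)⟩
  · -- no regular normal subgroup
    intro N hN hpt
    by_contra hall
    push Not at hall
    haveI := hN
    -- the stabilizer maps onto the quotient
    let π : D.S.N →* G ⧸ N := (QuotientGroup.mk' N).comp D.S.N.subtype
    have hsurj : Function.Surjective π := by
      intro q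
      obtain ⟨g, rfl⟩ := QuotientGroup.mk'_surjective N q
      obtain ⟨⟨m, hm⟩, hm'⟩ := hpt.exists_smul_eq (g • D.S.P) D.S.P
      have hmg : m * g ∈ D.S.N := (smul_P_eq D.S).1 (by rw [mul_smul]; exact hm')
      refine ⟨⟨m * g, hmg⟩, ?_⟩
      show ((m * g : G) : G ⧸ N) = ((g : G) : G ⧸ N)
      rw [QuotientGroup.mk_mul, (QuotientGroup.eq_one_iff m).2 hm, one_mul]
    haveI : Group.IsSolvable (D.S.P : Subgroup G) := by
      haveI : IsCyclic (D.S.P : Subgroup G) := isCyclic_of_prime_card (p := p) D.S.card_P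
      haveI : IsMulCommutative (D.S.P : Subgroup G) := IsCyclic.isMulCommutative
      exact Group.isSolvable_of_comm mul_comm'
    haveI : Group.IsSolvable D.S.E := by
      haveI := comm_E D.S
      exact Group.isSolvable_of_comm mul_comm'
    haveI : Group.IsSolvable D.S.N := by
      refine Group.isSolvable_of_ker_le_range (Subgroup.inclusion (P_le D.S)) (proj D.S) fun x hx => ?_
      obtain ⟨⟨u, y⟩, rfl⟩ := (decEquiv D.S).surjective x
      rw [MonoidHom.mem_ker, proj_decEquiv] at hx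
      subst hx
      exact ⟨u, Subtype.ext (by simp [decEquiv_apply])⟩
    haveI : Group.IsSolvable (G ⧸ N) := Group.isSolvable_of_surjective hsurj
    have htop : N = ⊤ := by
      by_contra hne
      haveI : Nontrivial (G ⧸ N) := QuotientGroup.nontrivial_iff.2 hne
      have h1 := Group.IsSolvable.commutator_lt_top_of_nontrivial (G ⧸ N)
      have h2 : Subgroup.map (QuotientGroup.mk' N) (commutator G) ≤ commutator (G ⧸ N) := by
        rw [_root_.commutator_def, Subgroup.map_commutator, _root_.commutator_def]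
        exact Subgroup.commutator_mono le_top le_top
      rw [D.perf, ← MonoidHom.range_eq_map,
        MonoidHom.range_eq_top.2 (QuotientGroup.mk'_surjective N)] at h2
      exact h1.not_ge h2
    obtain ⟨y, hy⟩ := exists_ne_one D
    have hmem : (⟨y, htop ▸ mem_top y⟩ : N) ∈ MulAction.stabilizer N D.S.P :=
      (smul_P_eq D.S).2 (P_le D.S hy.1)
    rw [hall D.S.P, Subgroup.mem_bot] at hmem
    exact hy.2 (congrArg Subtype.val hmem)

theorem exists_psl_odd (hn : D.n = 1) :
    ∃ (F : Type) (_ : Field F) (_ : Fintype F), Fintype.card F = p ∧ 3 < p ∧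
      Nonempty (G ≃* Matrix.ProjectiveSpecialLinearGroup (Fin 2) F) := by
  have hZ := D.isZassenhaus hn
  have hΩ : Nat.card (Sylow p G) = p + 1 := by
    rw [card_sylow_eq D.S, show nn D.S = 1 from hn, one_mul, add_comm]
  haveI := Finite.one_lt_card_iff_nontrivial.1 (show 1 < Nat.card D.S.E from D.two_le_e)
  obtain ⟨⟨y, hy⟩, hy1⟩ := exists_ne (1 : D.S.E)
  have hy1' : y ≠ 1 := fun e => hy1 (Subtype.ext e)
  obtain ⟨Q, hQ, hQP⟩ := Finset.exists_mem_ne
    (show 1 < (fixPts p y).card by rw [D.card_fix hy hy1', hn]; omega) D.S.P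
  have hH : H28.Zass.IsKer D.S.P (D.S.P : Subgroup G) :=
    ⟨fun u hu => (smul_P_eq D.S).2 (P_le D.S hu), by rw [D.S.card_P, hΩ],
      fun u hu hu1 c hc => by_contra fun hne => hu1 (eq_one_of_fix D.S hu hne hc)⟩
  have hcomm : ∀ u ∈ (D.S.P : Subgroup G), ∀ v ∈ (D.S.P : Subgroup G), u * v = v * u := by
    intro u hu v hv
    have hu' := hu
    rw [← D.S.hC] at hu'
    exact (mem_centralizer_iff.1 hu' v hv).symm
  have hst : MulAction.stabilizer G D.S.P ⊓ MulAction.stabilizer G Q = D.S.E := by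
    refine le_antisymm (fun x hx => ?_) fun x hx => ?_
    · obtain ⟨h1, h2⟩ := Subgroup.mem_inf.1 hx
      exact inf_stab_le D.S D.sum_mlt_trivial hQP hy hy1' hQ ((smul_P_eq D.S).1 h1) h2
    · refine Subgroup.mem_inf.2 ⟨(smul_P_eq D.S).2 (D.S.E_le hx), ?_⟩
      rcases eq_or_ne x 1 with rfl | hx1
      · exact one_mem _
      · exact mem_fixPts.1 (fixPts_eq D.S D.sum_mlt_trivial hx hx1 hy hy1' ▸ hQ)
  have hcard : Nat.card ↥(MulAction.stabilizer G D.S.P ⊓ MulAction.stabilizer G Q) = D.e := by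
    rw [hst]
  have hcases := H28.Zass.kernel_cases hH hZ hQP.symm hcomm
  rw [hcard, D.S.card_P] at hcases
  have h2e : 2 * D.e ≤ D.e * D.t := by
    rw [mul_comm 2]; exact Nat.mul_le_mul_left _ D.two_le_t
  rw [D.e_mul_t] at h2e
  have he2 := D.two_le_e
  have hhalf : 2 * D.e + 1 = p := hcases.resolve_left (by omega)
  obtain ⟨F, i1, i2, -, hF, hiso⟩ := H28.Zass.half_equiv hH hZ hQP.symm hcomm
    (by rw [hcard, D.S.card_P]; exact hhalf)
  exact ⟨F, i1, i2, by rw [hF, D.S.card_P], by omega, hiso⟩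

end Data

end Cfsg.Agent.H86.FewSylow
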