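import Mathlib
import Cfsg.Agent.CharBasic.Indicator
import Cfsg.Agent.H26.FrobeniusSchur
import Cfsg.Agent.CharInduce.Correspondence
import Cfsg.Agent.CharInduce.Ops

/-!
# The indicator of a character with a real constituent of type `+` and multiplicity one
-/

open Module Matrix
open scoped ComplexConjugate
open Cfsg.Agent Cfsg.Agent.CharBasic

namespace Cfsg.Agent.H86

variable {G : Type*} [Group G] [Fintype G]

theorem indicator_cases {χ : G → ℂ} (hχ : Cfsg.IsIrrCharacter G χ) :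
    ((Nat.card G : ℂ)⁻¹ * ∑ s : G, χ (s * s) = 0 ∧ ∃ s : G, (χ s).im ≠ 0) ∨
    ((∀ s : G, (χ s).im = 0) ∧ ((Nat.card G : ℂ)⁻¹ * ∑ s : G, χ (s * s) = 1 ∨
      (Nat.card G : ℂ)⁻¹ * ∑ s : G, χ (s * s) = -1)) := by
  obtain ⟨n, ρ, hρ, rfl⟩ := hχ
  exact H26.frobeniusSchur_core ρ (Pi.basisFun ℂ (Fin n))

theorem real_of_indicator_one {χ : G → ℂ} (hχ : Cfsg.IsIrrCharacter G χ)
    (h : (Nat.card G : ℂ)⁻¹ * ∑ s : G, χ (s * s) = 1) (s : G) : (χ s).im = 0 := by
  rcases indicator_cases hχ with ⟨h0, -⟩ | ⟨hr, -⟩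
  · rw [h] at h0; exact absurd h0 one_ne_zero
  · exact hr s

section Trace

variable {m n : Type*} [Fintype m] [Fintype n] [DecidableEq m] [DecidableEq n]

theorem trace_rect_end (T : Matrix m n ℂ →ₗ[ℂ] Matrix m n ℂ) :
    LinearMap.trace ℂ _ T = ∑ i, ∑ j, T (Matrix.single i j 1) i j := by
  rw [LinearMap.trace_eq_matrix_trace ℂ (Matrix.stdBasis ℂ m n), Matrix.trace,
    ← Fintype.sum_prod_type' (fun i j => T (Matrix.single i j 1) i j)]
  refine Finset.sum_congr rfl fun p _ => ?_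
  obtain ⟨i, j⟩ := p
  simp only [Matrix.diag, LinearMap.toMatrix_apply, Matrix.stdBasis_eq_single]
  simp [Matrix.stdBasis]

/-- The average of `X ↦ A s * X * B s`. -/
noncomputable def sandwich {S : Type*} [Fintype S] (A : S → Matrix m m ℂ) (B : S → Matrix n n ℂ) :
    Matrix m n ℂ →ₗ[ℂ] Matrix m n ℂ where
  toFun X := (Nat.card S : ℂ)⁻¹ • ∑ s, A s * X * B s
  map_add' X Y := by simp [Matrix.mul_add, Matrix.add_mul, Finset.sum_add_distrib, smul_add]
  map_smul' c X := by
    simp [Matrix.mul_smul, Matrix.smul_mul, ← Finset.smul_sum, smul_comm c]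

theorem trace_sandwich {S : Type*} [Fintype S] (A : S → Matrix m m ℂ) (B : S → Matrix n n ℂ) :
    LinearMap.trace ℂ _ (sandwich A B) =
      (Nat.card S : ℂ)⁻¹ * ∑ s, (A s).trace * (B s).trace := by
  rw [trace_rect_end]
  have e : ∀ i j, sandwich A B (Matrix.single i j 1) i j =
      (Nat.card S : ℂ)⁻¹ * ∑ s, A s i i * B s j j := by
    intro i j
    simp [sandwich, Matrix.sum_apply, Matrix.mul_apply, Matrix.single_apply, Finset.sum_ite_eq',
      ite_and]
  simp only [e, ← Finset.mul_sum]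
  congr 1
  simp only [Matrix.trace, Matrix.diag, Finset.sum_mul_sum]
  exact (Finset.sum_congr rfl fun i _ => Finset.sum_comm).trans Finset.sum_comm

end Trace

theorem indicator_eq_one_of_restrict (H : Subgroup G) [Fintype H] {χ : G → ℂ} {θ : ↥H → ℂ}
    (hχ : Cfsg.IsIrrCharacter G χ) (hθ : Cfsg.IsIrrCharacter ↥H θ) (hreal : ∀ g, (χ g).im = 0)
    (hind : (Nat.card H : ℂ)⁻¹ * ∑ t : H, θ (t * t) = 1)
    (hmult : Cfsg.classInner (fun t : H => χ t) θ = 1) :
    (Nat.card G : ℂ)⁻¹ * ∑ s : G, χ (s * s) = 1 := by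
  classical
  have hθreal := real_of_indicator_one hθ hind
  have hθconj : ∀ t, conj (θ t) = θ t := fun t => Complex.conj_eq_iff_im.2 (hθreal t)
  have hθinv : ∀ t, θ t⁻¹ = θ t := fun t => by
    rw [IsChar.inv_apply (IsIrr.isCharacter hθ) t, hθconj]
  have hsum : (Nat.card H : ℂ)⁻¹ * ∑ t : H, χ t * θ t = 1 := by
    rw [← hmult, classInner_def]
    simp only [hθconj]
  obtain ⟨n, ρ, hρ, rfl⟩ := hχ
  obtain ⟨m, σ, hσ, rfl⟩ := hθ
  set R : ↥H → Matrix (Fin n) (Fin n) ℂ := fun t => repMat ρ (t : G)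
  set S : ↥H → Matrix (Fin m) (Fin m) ℂ := fun t => repMat σ t
  have hRmul : ∀ a b, R (a * b) = R a * R b := fun a b => repMat_mul ρ a b
  have hSmul : ∀ a b, S (a * b) = S a * S b := fun a b => repMat_mul σ a b
  have hcard : (Nat.card H : ℂ) ≠ 0 := Nat.cast_ne_zero.2 Nat.card_pos.ne'
  -- an intertwiner
  obtain ⟨M, hM0, hM⟩ : ∃ M : Matrix (Fin n) (Fin m) ℂ, M ≠ 0 ∧ ∀ t, R t * M = M * S t := by
    have htr : LinearMap.trace ℂ _ (sandwich R (fun t => S t⁻¹)) = 1 := by
      rw [trace_sandwich, ← hsum]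
      congr 1
      refine Finset.sum_congr rfl fun t _ => ?_
      rw [← character_eq_trace_repMat, ← character_eq_trace_repMat, hθinv]
    obtain ⟨X, hX⟩ : ∃ X, sandwich R (fun t => S t⁻¹) X ≠ 0 := by
      by_contra hall
      push Not at hall
      rw [LinearMap.ext (g := 0) hall, map_zero] at htr
      exact zero_ne_one htr
    refine ⟨_, hX, fun t => ?_⟩
    simp only [sandwich, LinearMap.coe_mk, AddHom.coe_mk, Matrix.mul_smul, Matrix.smul_mul,
      Matrix.mul_sum, Matrix.sum_mul]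
    congr 1
    refine Fintype.sum_equiv (Equiv.mulLeft t) _ _ fun s => ?_
    simp only [Equiv.coe_mulLeft, hRmul, _root_.mul_inv_rev, hSmul, Matrix.mul_assoc]
    rw [show S t⁻¹ * S t = 1 from repMat_inv_mul σ t, Matrix.mul_one]
  -- it has a left inverse
  obtain ⟨R₀, hR₀⟩ : ∃ R₀ : Matrix (Fin m) (Fin n) ℂ, R₀ * M = 1 := by
    have hker : LinearMap.ker (Matrix.toLin' M) = ⊥ := by
      let W : Subrepresentation σ :=
        ⟨LinearMap.ker (Matrix.toLin' M), fun g w hw => by
          rw [LinearMap.mem_ker, Matrix.toLin'_apply] at hw ⊢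
          have h1 : σ g w = S g *ᵥ w := (LinearMap.toMatrix'_mulVec (σ g) w).symm
          rw [h1, mulVec_mulVec, ← hM g, ← mulVec_mulVec, hw, mulVec_zero]⟩
      rcases IsSimpleOrder.eq_bot_or_eq_top W with h | h
      · exact congrArg Subrepresentation.toSubmodule h
      · have h2 : LinearMap.ker (Matrix.toLin' M) = ⊤ := congrArg Subrepresentation.toSubmodule h
        exact absurd (Matrix.toLin'.injective (by rw [LinearMap.ker_eq_top.1 h2, map_zero])) hM0
    obtain ⟨g, hg⟩ := (Matrix.toLin' M).exists_leftInverse_of_injective hker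
    refine ⟨LinearMap.toMatrix' g, ?_⟩
    have h1 := congrArg LinearMap.toMatrix' hg
    rwa [LinearMap.toMatrix'_comp, LinearMap.toMatrix'_toLin', LinearMap.toMatrix'_id] at h1
  obtain ⟨C, hC0, hC⟩ := exists_invariant_of_real σ hθreal
  obtain ⟨B, hB0, hB⟩ := exists_invariant_of_real ρ hreal
  -- the invariant pairings of the two modules form a line
  set T := sandwich (fun t => (S t)ᵀ) R with hT
  have hTinv : ∀ X t, (S t)ᵀ * T X * R t = T X := by
    intro X t
    simp only [hT, sandwich, LinearMap.coe_mk, AddHom.coe_mk, Matrix.mul_smul, Matrix.smul_mul,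
      Matrix.mul_sum, Matrix.sum_mul]
    refine congrArg (fun Y => (Nat.card H : ℂ)⁻¹ • Y) ?_
    refine Fintype.sum_equiv (Equiv.mulRight t) _ _ fun s => ?_
    simp only [Equiv.coe_mulRight, hRmul, hSmul, transpose_mul, Matrix.mul_assoc]
  have hTfix : ∀ X, (∀ t, (S t)ᵀ * X * R t = X) → T X = X := by
    intro X hX
    simp only [hT, sandwich, LinearMap.coe_mk, AddHom.coe_mk, hX, Finset.sum_const,
      Finset.card_univ, ← Nat.card_eq_fintype_card, ← Nat.cast_smul_eq_nsmul ℂ, smul_smul]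
    rw [inv_mul_cancel₀ hcard, one_smul]
  have hrank : finrank ℂ (LinearMap.range T) = 1 := by
    have hp : LinearMap.IsProj (LinearMap.range T) T :=
      ⟨fun X => LinearMap.mem_range_self T X, by
        rintro _ ⟨X, rfl⟩
        exact hTfix _ (hTinv X)⟩
    have h1 : LinearMap.trace ℂ _ T = 1 := by
      rw [hT, trace_sandwich, ← hsum]
      congr 1
      refine Finset.sum_congr rfl fun t _ => ?_
      rw [Matrix.trace_transpose, ← character_eq_trace_repMat, ← character_eq_trace_repMat]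
      ring
    rw [hp.trace] at h1
    exact_mod_cast h1
  set R' := T (C * R₀) with hR'
  have hR'M : R' * M = C := by
    simp only [hR', hT, sandwich, LinearMap.coe_mk, AddHom.coe_mk, Matrix.smul_mul,
      Matrix.sum_mul]
    have e : ∀ t, (S t)ᵀ * (C * R₀) * R t * M = C := by
      intro t
      rw [Matrix.mul_assoc, hM t, ← Matrix.mul_assoc, Matrix.mul_assoc _ (C * R₀) M,
        Matrix.mul_assoc C, hR₀, Matrix.mul_one]
      exact hC t
    simp only [e, Finset.sum_const, Finset.card_univ, ← Nat.card_eq_fintype_card,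
      ← Nat.cast_smul_eq_nsmul ℂ, smul_smul]
    rw [inv_mul_cancel₀ hcard, one_smul]
  have hR'0 : (⟨R', LinearMap.mem_range_self T _⟩ : LinearMap.range T) ≠ 0 := fun e =>
    hC0 (by rw [← hR'M, show R' = 0 from congrArg Subtype.val e, Matrix.zero_mul])
  have hMB : ∀ t, (S t)ᵀ * (Mᵀ * B) * R t = Mᵀ * B := by
    intro t
    rw [← Matrix.mul_assoc, ← transpose_mul, ← hM t, transpose_mul]
    calc Mᵀ * (R t)ᵀ * B * R t = Mᵀ * ((R t)ᵀ * B * R t) := by simp only [Matrix.mul_assoc]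
      _ = Mᵀ * B := by rw [hB (t : G)]
  obtain ⟨c, hc⟩ := exists_smul_eq_of_finrank_eq_one hrank hR'0
    (⟨Mᵀ * B, ⟨_, hTfix _ hMB⟩⟩ : LinearMap.range T)
  have hc' : c • R' = Mᵀ * B := congrArg Subtype.val hc
  have hc0 : c ≠ 0 := by
    intro h0
    rw [h0, zero_smul] at hc'
    have hu : IsUnit B.det := isUnit_iff_ne_zero.2 (det_ne_zero_of_invariant ρ hB hB0)
    have h1 : Mᵀ = 0 := by
      have := congrArg (· * B⁻¹) hc'
      simpa [Matrix.mul_assoc, Matrix.mul_nonsing_inv _ hu] using this.symm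
    exact hM0 (by simpa using congrArg Matrix.transpose h1)
  have hD : Mᵀ * B * M = c • C := by rw [← hc', Matrix.smul_mul, hR'M]
  have hD0 : Mᵀ * B * M ≠ 0 := by rw [hD]; exact smul_ne_zero hc0 hC0
  have hDinv : ∀ t, (repMat σ t)ᵀ * (Mᵀ * B * M) * repMat σ t = Mᵀ * B * M := by
    intro t
    rw [hD, Matrix.mul_smul, Matrix.smul_mul, hC t]
  have e1 := transpose_eq_indicator_smul σ hDinv
  rw [hind, one_smul, transpose_mul, transpose_mul, transpose_transpose,
    transpose_eq_indicator_smul ρ hB, Matrix.smul_mul, Matrix.mul_smul, ← Matrix.mul_assoc] at e1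
  by_contra hne
  apply hD0
  have h2 : ((Nat.card G : ℂ)⁻¹ * ∑ s : G, ρ.character (s * s) - 1) • (Mᵀ * B * M) = 0 := by
    rw [sub_smul, one_smul, e1, sub_self]
  exact (smul_eq_zero.1 h2).resolve_left (sub_ne_zero.2 hne)

/-- Induction preserves indicator `+1` when the induced character is irreducible. -/
theorem indicator_indFun (H : Subgroup G) [Fintype H] {θ : ↥H → ℂ}
    (hθ : Cfsg.IsIrrCharacter ↥H θ) (hind : (Nat.card H : ℂ)⁻¹ * ∑ t : H, θ (t * t) = 1)
    (hirr : Cfsg.IsIrrCharacter G (Cfsg.indFun H θ)) :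
    (Nat.card G : ℂ)⁻¹ * ∑ s : G, Cfsg.indFun H θ (s * s) = 1 := by
  classical
  refine indicator_eq_one_of_restrict H hirr hθ (fun g => ?_) hind ?_
  · rw [← Complex.conj_eq_iff_im]
    simp only [Cfsg.indFun, map_mul, map_inv₀, map_natCast, map_sum]
    congr 1
    refine Finset.sum_congr rfl fun x _ => ?_
    by_cases hx : x⁻¹ * g * x ∈ H
    · rw [CharInduce.extendByZero_of_mem _ hx]
      exact Complex.conj_eq_iff_im.2 (real_of_indicator_one hθ hind _)
    · rw [CharInduce.extendByZero_of_not_mem _ hx, map_zero]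
  · rw [← CharInduce.classInner_indFun_right H θ _ (IsIrr.isClassFunction hirr),
      classInner_irr_self hirr]

end Cfsg.Agent.H86
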