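import Cfsg.Agent.Cores.PrincipalSection
import Cfsg.Agent.Cores.PCore
import Cfsg.Agent.H83.SectionSum
import Cfsg.Agent.Fusion.PComplement
import Cfsg.Agent.S0939

/-!
# Characters on a section with a `p`-nilpotent centraliser

For a `p`-element `x` whose centraliser has a normal `p`-complement `K`, a member of the principal
block is constant on `xK` and every other irreducible character has average zero there.
-/

open scoped ComplexConjugate

namespace Cfsg.Agent.H86

open CharBasic BlockBasic

universe u

variable {G : Type u} [Group G] [Finite G] {p : ℕ} [hp : Fact p.Prime] {M : Ideal AlgInt} {x : G}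

/-- The centraliser of `x` has a normal `p`-complement. -/
def PNilAt (p : ℕ) (x : G) : Prop :=
  ∃ k : ℕ, (pPrimeCore p (Subgroup.centralizer ({x} : Set G))).index = p ^ k

theorem mem_core_iff (hn : PNilAt p x) (c : Subgroup.centralizer ({x} : Set G)) :
    c ∈ pPrimeCore p (Subgroup.centralizer ({x} : Set G)) ↔ ¬ p ∣ orderOf c := by
  refine ⟨fun hc hd => Cores.not_dvd_card_pPrimeCore
    (p := p) (G := Subgroup.centralizer ({x} : Set G)) (hd.trans ?_), mem_of_regular hn⟩
  rw [show orderOf c = orderOf (⟨c, hc⟩ : pPrimeCore p (Subgroup.centralizer ({x} : Set G))) from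
    (Subgroup.orderOf_mk c hc).symm]
  exact orderOf_dvd_natCard _

/-- A principal character is constant on the `p`-regular part of the section. -/
theorem principal_apply_mul (hM : IsPModular p M) (hx : ∃ k, orderOf x = p ^ k) (hn : PNilAt p x)
    {χ : IrrCharacter G} (hχ : χ ∈ principalBlock M G) {c : Subgroup.centralizer ({x} : Set G)}
    (hc : ¬ p ∣ orderOf c) : (χ : G → ℂ) (x * (c : G)) = (χ : G → ℂ) x := by
  obtain ⟨e, he⟩ := hx
  exact Cores.principalBlock_apply_mul hM he hχ _ Cores.not_dvd_card_pPrimeCore
    ((mem_core_iff hn c).2 hc)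

theorem card_core_mul (hn : PNilAt p x) :
    Nat.card (pPrimeCore p (Subgroup.centralizer ({x} : Set G))) *
      p ^ (Nat.card (Subgroup.centralizer ({x} : Set G))).factorization p =
      Nat.card (Subgroup.centralizer ({x} : Set G)) := by
  obtain ⟨k, hk⟩ := hn
  set K := pPrimeCore p (Subgroup.centralizer ({x} : Set G))
  have h := K.card_mul_index
  rw [hk] at h
  have hf : (Nat.card (Subgroup.centralizer ({x} : Set G))).factorization p = k := by
    rw [← h, Nat.factorization_mul Nat.card_pos.ne' (pow_ne_zero _ hp.out.ne_zero),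
      Finsupp.add_apply, Nat.factorization_eq_zero_of_not_dvd Cores.not_dvd_card_pPrimeCore,
      hp.out.factorization_pow, Finsupp.single_eq_same, zero_add]
  rw [hf, h]

open scoped Classical in
/-- The average of an irreducible character over the section. -/
theorem sum_shift_regular (hM : IsPModular p M) (hx : ∃ k, orderOf x = p ^ k) (hn : PNilAt p x)
    (χ : IrrCharacter G) [Fintype (Subgroup.centralizer ({x} : Set G))] :
    (∑ c : Subgroup.centralizer ({x} : Set G),
        if p ∣ orderOf c then 0 else (χ : G → ℂ) (x * (c : G))) =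
      (Nat.card (pPrimeCore p (Subgroup.centralizer ({x} : Set G))) : ℂ) *
        if χ ∈ principalBlock M G then (χ : G → ℂ) x else 0 := by
  cases nonempty_fintype G
  obtain ⟨e, he⟩ := hx
  set K := pPrimeCore p (Subgroup.centralizer ({x} : Set G)) with hK
  have hpp := Cores.principal_part_eq hM he χ 1
    (by rw [orderOf_one, Nat.dvd_one]; exact hp.out.ne_one)
  rw [OneMemClass.coe_one, mul_one, S0939.result p M hM hn] at hpp
  rw [← hpp, Finset.mul_sum, Finset.sum_filter]
  set θ := fun c : Subgroup.centralizer ({x} : Set G) => (χ : G → ℂ) (x * (c : G)) with hθ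
  have hexp := classFunction_expansion (Cores.isClassFunction_shift (x := x) (IsIrr.isClassFunction χ.2))
  have hl : (∑ c : Subgroup.centralizer ({x} : Set G), if p ∣ orderOf c then 0 else θ c) =
      ∑ c ∈ Finset.univ.filter (· ∈ K), θ c := by
    rw [Finset.sum_filter]
    refine Finset.sum_congr rfl fun c _ => ?_
    have h1 := mem_core_iff hn c
    by_cases h : p ∣ orderOf c
    · rw [if_pos h, if_neg (fun hc => h1.1 hc h)]
    · rw [if_neg h, if_pos (h1.2 h)]
  show (∑ c : Subgroup.centralizer ({x} : Set G), if p ∣ orderOf c then 0 else θ c) = _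
  rw [hl, Finset.sum_congr rfl (g := fun c => ∑ ψ : IrrCharacter (Subgroup.centralizer ({x} : Set G)),
    classInner θ (ψ : _ → ℂ) * (ψ : _ → ℂ) c) (fun c _ => by
      conv_lhs => rw [hθ, hexp]
      simp only [Finset.sum_apply, Pi.smul_apply, smul_eq_mul]
      rfl), Finset.sum_comm]
  refine Finset.sum_congr rfl fun ψ _ => ?_
  rw [← Finset.mul_sum]
  split_ifs with h
  · rw [Finset.sum_congr rfl fun c hc => h c (Finset.mem_filter.1 hc).2, Finset.sum_const,
      nsmul_eq_mul, ← Fintype.card_subtype, ← Nat.card_eq_fintype_card]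
    ring
  · rw [by_contra fun hne => h fun c hc => H82.eq_one_of_sum_ne_zero K ψ.2 hne hc, mul_zero]

open scoped Classical in
/-- The sum of a character times a conjugated principal character over a section. -/
theorem sum_section_mul [Fintype G] (hM : IsPModular p M) (hx : ∃ k, orderOf x = p ^ k)
    (hn : PNilAt p x) {χ ψ : IrrCharacter G} (hχ : χ ∈ principalBlock M G)
    (hψ : ψ ∈ principalBlock M G) :
    ((p : ℂ) ^ (Nat.card (Subgroup.centralizer ({x} : Set G))).factorization p) *
      ∑ g ∈ Finset.univ.filter (fun g : G => IsConj x (pPart (p := p) g)),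
        (χ : G → ℂ) g * conj ((ψ : G → ℂ) g) =
      (Nat.card G : ℂ) * ((χ : G → ℂ) x * conj ((ψ : G → ℂ) x)) := by
  obtain ⟨e, he⟩ := hx
  haveI : Fintype (Subgroup.centralizer ({x} : Set G)) := Fintype.ofFinite _
  have hs := H83.sum_section (fun g => (χ : G → ℂ) g * conj ((ψ : G → ℂ) g)) (fun g h => by
    simp only [IsIrr.isClassFunction χ.2 g h, IsIrr.isClassFunction ψ.2 g h]) he
  refine Eq.trans (congrArg (((p : ℂ) ^ (Nat.card (Subgroup.centralizer ({x} : Set G))).factorization p) * ·)
    (Eq.trans (Finset.sum_congr (Finset.ext fun g => by simp) fun _ _ => rfl) hs)) ?_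
  rw [Finset.sum_congr rfl (g := fun c : Subgroup.centralizer ({x} : Set G) =>
    if c ∈ pPrimeCore p (Subgroup.centralizer ({x} : Set G)) then
      (χ : G → ℂ) x * conj ((ψ : G → ℂ) x) else 0) (fun c _ => by
      by_cases h : p ∣ orderOf c
      · rw [if_pos h, if_neg fun hc => (mem_core_iff hn c).1 hc h]
      · rw [if_neg h, if_pos ((mem_core_iff hn c).2 h), principal_apply_mul hM ⟨e, he⟩ hn hχ h,
          principal_apply_mul hM ⟨e, he⟩ hn hψ h]), ← Finset.sum_filter, Finset.sum_const,
    nsmul_eq_mul, ← Fintype.card_subtype, ← Nat.card_eq_fintype_card,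
    ← Subgroup.index_mul_card (Subgroup.centralizer ({x} : Set G))]
  conv_rhs => rw [← card_core_mul hn]
  push_cast
  ring

/-- The square sum of the principal column. -/
theorem sum_sq_principal (hM : IsPModular p M) (hx : ∃ k, orderOf x = p ^ k) (hn : PNilAt p x) :
    blockKernel (principalBlock M G) x x =
      (p : ℂ) ^ (Nat.card (Subgroup.centralizer ({x} : Set G))).factorization p := by
  classical
  cases nonempty_fintype G
  obtain ⟨e, he⟩ := hx
  haveI : Fintype (Subgroup.centralizer ({x} : Set G)) := Fintype.ofFinite _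
  rw [Cores.blockKernel_principal_self hM he, S0939.result p M hM hn]
  have h := Cores.sum_sq_degree_trivial_on (pPrimeCore p (Subgroup.centralizer ({x} : Set G)))
  have hidx : (pPrimeCore p (Subgroup.centralizer ({x} : Set G))).index =
      p ^ (Nat.card (Subgroup.centralizer ({x} : Set G))).factorization p := by
    have h1 := (pPrimeCore p (Subgroup.centralizer ({x} : Set G))).card_mul_index
    rw [← card_core_mul hn] at h1
    simpa [Nat.card_pos.ne'] using h1
  rw [← Nat.cast_pow, ← hidx, ← h, finsum_mem_eq_finite_toFinset_sum _ (Set.toFinite _), Nat.cast_sum]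
  refine Finset.sum_congr (by ext; simp) fun ψ _ => ?_
  rw [apply_one_eq_charDegree, Nat.cast_pow, sq]

open scoped Classical in
/-- A principal character has nonzero sum over the `p`-regular elements. -/
theorem sum_regular_ne_zero [Fintype G] (hM : IsPModular p M) {χ : IrrCharacter G}
    (hχ : χ ∈ principalBlock M G) : ∑ g : G with ¬ p ∣ orderOf g, (χ : G → ℂ) g ≠ 0 := by
  intro h0
  have h := omega_congr hM (fun _ _ => rfl) (IsIrr.isClassFunction χ.2) hχ
    (Cores.isCentralElt_regElt (G := G) p) (Cores.isIntElt_regElt hM)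
  have hz : omega (χ : G → ℂ) (Cores.regElt p) = 0 := by
    rw [omega, chiLin]
    simp only [Cores.regElt, coeff_ofFun, ite_mul, one_mul, zero_mul]
    rw [← Finset.sum_filter, h0, zero_div]
  rw [hz, sub_zero] at h
  exact Cores.not_memLocalIdeal_omega_regElt (G := G) hM h

end Cfsg.Agent.H86
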