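import Mathlib.GroupTheory.Transfer
import Mathlib.GroupTheory.SpecificGroups.Cyclic

/-!
# Abelian Sylow subgroups of perfect groups
-/

set_option linter.unusedSectionVars false
set_option linter.style.haveILetI false

namespace Cfsg.Agent.H86.PerfectSylow

open Subgroup

variable {G : Type*} [Group G] [Finite G] {q : ℕ} [hq : Fact q.Prime]

open scoped IsMulCommutative in
/-- In a perfect group an abelian Sylow subgroup has no nontrivial fixed point under its
normalizer. -/
theorem eq_one_of_fixed (hperf : commutator G = ⊤) (S : Sylow q G)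
    [IsMulCommutative (S : Subgroup G)] {s : G} (hs : s ∈ (S : Subgroup G))
    (hfix : ∀ n ∈ normalizer ((S : Subgroup G) : Set G), n * s * n⁻¹ = s) : s = 1 := by
  let V : G →* (S : Subgroup G) := MonoidHom.transfer (MonoidHom.id (S : Subgroup G))
  have hV : V s = 1 := by
    have h : commutator G ≤ V.ker := by
      rw [commutator_def, Subgroup.commutator_le]
      intro a _ b _
      rw [MonoidHom.mem_ker, map_commutatorElement, commutatorElement_eq_one_iff_mul_comm]
      exact mul_comm' _ _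
    rw [hperf] at h
    exact h (mem_top s)
  have key : ∀ (k : ℕ) (g₀ : G), g₀⁻¹ * s ^ k * g₀ ∈ (S : Subgroup G) →
      g₀⁻¹ * s ^ k * g₀ = s ^ k := by
    intro k g₀ hk
    obtain ⟨n, hn, he⟩ := Sylow.conj_eq_normalizer_conj_of_mem (P := S) (s ^ k) g₀ (pow_mem hs k) hk
    rw [he]
    have h1 := hfix n⁻¹ (inv_mem hn)
    rw [inv_inv] at h1
    conv_rhs => rw [← h1]
    rw [show n⁻¹ * s * n = MulAut.conj n⁻¹ s by simp, ← map_pow]
    simp
  have hVs : V s = ⟨s ^ (S : Subgroup G).index, MonoidHom.transfer_eq_pow_aux s key⟩ :=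
    MonoidHom.transfer_eq_pow _ s key
  rw [hV] at hVs
  have h0 : s ^ (S : Subgroup G).index = 1 := (congrArg Subtype.val hVs).symm
  obtain ⟨a, ha⟩ := S.isPGroup' ⟨s, hs⟩
  have h1 : orderOf s ∣ q ^ a := orderOf_dvd_of_pow_eq_one (by simpa using congrArg Subtype.val ha)
  have h2 : Nat.Coprime (q ^ a) (S : Subgroup G).index :=
    (hq.out.coprime_iff_not_dvd.2 S.not_dvd_index).pow_left a
  exact orderOf_eq_one_iff.1
    (Nat.eq_one_of_dvd_coprimes h2 h1 (orderOf_dvd_of_pow_eq_one h0))

/-- A Sylow `2`-subgroup of a perfect group does not have order two. -/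
theorem card_sylow_two_ne (hperf : commutator G = ⊤) (S : Sylow 2 G) :
    Nat.card (S : Subgroup G) ≠ 2 := by
  intro h2
  haveI : Fact (Nat.Prime 2) := ⟨Nat.prime_two⟩
  haveI : IsCyclic (S : Subgroup G) := isCyclic_of_prime_card (p := 2) h2
  haveI : IsMulCommutative (S : Subgroup G) := IsCyclic.isMulCommutative
  obtain ⟨⟨s, hs⟩, hne, huniq⟩ := (Nat.card_eq_two_iff' (1 : (S : Subgroup G))).1 h2
  refine hne (Subtype.ext (eq_one_of_fixed hperf S hs fun n hn => ?_))
  have hmem : n * s * n⁻¹ ∈ (S : Subgroup G) := (mem_normalizer_iff.1 hn s).1 hs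
  refine congrArg Subtype.val (huniq ⟨_, hmem⟩ fun e => hne (Subtype.ext ?_))
  have e' : n * s * n⁻¹ = 1 := congrArg Subtype.val e
  calc s = n⁻¹ * (n * s * n⁻¹) * n := by group
    _ = 1 := by rw [e']; group

/-- If a Sylow `2`-subgroup of a perfect group has a central subgroup of order at most two with
cyclic quotient, its order is at most four. -/
theorem card_sylow_two_le (hperf : commutator G = ⊤) (S : Sylow 2 G) {A : Type*} [Group A]
    [IsCyclic A] (f : (S : Subgroup G) →* A) (hker : f.ker ≤ center (S : Subgroup G))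
    (hk : Nat.card f.ker ≤ 2) : Nat.card (S : Subgroup G) ≤ 4 := by
  haveI : Fact (Nat.Prime 2) := ⟨Nat.prime_two⟩
  haveI : IsMulCommutative (S : Subgroup G) := f.isMulCommutative_of_isCyclic_of_ker_le_center hker
  obtain ⟨⟨c, ⟨s, rfl⟩⟩, hgen⟩ := IsCyclic.exists_generator (α := f.range)
  have hk2 : ∀ k : (S : Subgroup G), k ∈ f.ker → k * k = 1 := by
    intro k hkm
    have h1 : (⟨k, hkm⟩ : f.ker) ^ Nat.card f.ker = 1 := pow_card_eq_one'
    have h2 : k ^ Nat.card f.ker = 1 := congrArg Subtype.val h1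
    rcases (show Nat.card f.ker = 1 ∨ Nat.card f.ker = 2 by
      have := Nat.card_pos (α := f.ker); omega) with h | h <;> rw [h] at h2
    · rw [pow_one] at h2; rw [h2, one_mul]
    · rwa [pow_two] at h2
  have hdec : ∀ x : (S : Subgroup G), ∃ i : ℤ, x * x = (s * s) ^ i := by
    intro x
    obtain ⟨i, hi⟩ := hgen ⟨f x, x, rfl⟩
    have hi' : f s ^ i = f x := congrArg Subtype.val hi
    have hm : (s ^ i)⁻¹ * x ∈ f.ker := by
      rw [MonoidHom.mem_ker, map_mul, map_inv, map_zpow, hi', inv_mul_cancel]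
    refine ⟨i, ?_⟩
    have h2 := hk2 _ hm
    rw [Commute.mul_mul_mul_comm (mul_comm' x (s ^ i)⁻¹ : Commute x (s ^ i)⁻¹), ← mul_inv_rev,
      inv_mul_eq_one] at h2
    rw [← h2, Commute.mul_zpow (Commute.refl s)]
  have hss : s * s = 1 := by
    by_contra hne
    obtain ⟨a, ha⟩ := S.isPGroup' (s * s)
    have hd : orderOf (s * s) ∣ 2 ^ a := orderOf_dvd_of_pow_eq_one ha
    obtain ⟨j, -, hj⟩ := (Nat.dvd_prime_pow Nat.prime_two).1 hd
    obtain ⟨j', rfl⟩ : ∃ j', j = j' + 1 := ⟨j - 1, by
      rcases Nat.eq_zero_or_pos j with rfl | h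
      · simp at hj; exact absurd hj hne
      · omega⟩
    set w := (s * s) ^ 2 ^ j' with hw
    have hw1 : w ≠ 1 := fun h => by
      have hd' := orderOf_dvd_of_pow_eq_one h
      rw [hj] at hd'
      have h1 := Nat.le_of_dvd (pow_pos two_pos j') hd'
      rw [pow_succ] at h1
      have : 0 < 2 ^ j' := pow_pos two_pos j'
      omega
    refine hw1 (Subtype.ext (eq_one_of_fixed hperf S w.2 fun n hn => ?_))
    have hmem : ∀ x : (S : Subgroup G), n * (x : G) * n⁻¹ ∈ (S : Subgroup G) := fun x =>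
      (mem_normalizer_iff.1 hn x).1 x.2
    let u : (S : Subgroup G) := s ^ 2 ^ j'
    have hwu : w = u * u := Commute.mul_pow (Commute.refl s) _
    obtain ⟨i, hi⟩ := hdec ⟨_, hmem u⟩
    set w' : (S : Subgroup G) := ⟨_, hmem w⟩ with hw'
    have hw'i : w' = (s * s) ^ i := by
      rw [← hi]
      refine Subtype.ext ?_
      simp only [hw', hwu, Subgroup.coe_mul]
      group
    have hw'1 : w' * w' = 1 := by
      have hww : w * w = 1 := by
        rw [hw, ← pow_add, ← two_mul, ← pow_succ', ← hj, pow_orderOf_eq_one]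
      refine Subtype.ext ?_
      simp only [hw', Subgroup.coe_mul]
      calc n * (w : G) * n⁻¹ * (n * (w : G) * n⁻¹) = n * ((w * w : (S : Subgroup G)) : G) * n⁻¹ := by
            rw [Subgroup.coe_mul]; group
        _ = 1 := by rw [hww]; simp
    have hw'ne : w' ≠ 1 := fun h => hw1 (Subtype.ext (by
      have h' : n * (w : G) * n⁻¹ = 1 := congrArg Subtype.val h
      calc (w : G) = n⁻¹ * (n * (w : G) * n⁻¹) * n := by group
        _ = ((1 : (S : Subgroup G)) : G) := by rw [h']; simp))
    rw [hw'i, ← zpow_add, ← orderOf_dvd_iff_zpow_eq_one, hj, pow_succ] at hw'1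
    push_cast at hw'1
    rw [← two_mul, mul_comm ((2 : ℤ) ^ j') 2] at hw'1
    obtain ⟨r, hr⟩ := Int.dvd_of_mul_dvd_mul_left two_ne_zero hw'1
    have hws : w' = w ^ r := by
      rw [hw'i, hr, zpow_mul, hw]
      norm_cast
    rcases Int.even_or_odd r with ⟨m, hm⟩ | ⟨m, hm⟩
    · refine absurd ?_ hw'ne
      have hw2 : w ^ (2 : ℤ) = 1 := by
        rw [zpow_two, hw, ← pow_add, ← two_mul, ← pow_succ', ← hj, pow_orderOf_eq_one]
      rw [hws, hm, ← two_mul, zpow_mul, hw2, one_zpow]
    · have hw2 : w ^ (2 : ℤ) = 1 := by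
        rw [zpow_two, hw, ← pow_add, ← two_mul, ← pow_succ', ← hj, pow_orderOf_eq_one]
      have : w' = w := by rw [hws, hm, zpow_add, zpow_mul, hw2, one_zpow, one_mul, zpow_one]
      exact congrArg Subtype.val this
  have hr : Nat.card f.range ≤ 2 := by
    rw [← orderOf_eq_card_of_forall_mem_zpowers hgen]
    refine Nat.le_of_dvd two_pos (orderOf_dvd_of_pow_eq_one (Subtype.ext ?_))
    rw [pow_two, Subgroup.coe_mul, ← map_mul, hss, map_one, Subgroup.coe_one]
  rw [← f.ker.card_mul_index, Subgroup.index_ker]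
  calc Nat.card f.ker * Nat.card f.range ≤ 2 * 2 := Nat.mul_le_mul hk hr
    _ = 4 := rfl

end Cfsg.Agent.H86.PerfectSylow
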