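import Cfsg.Agent.H86.SelfCentralFix

/-!
# The points fixed by the complement among the Sylow subgroups
-/

set_option linter.unusedSectionVars false
set_option linter.style.haveILetI false

open scoped ComplexConjugate Classical Pointwise

namespace Cfsg.Agent.H86.FewSylow

open CharBasic Subgroup BlockBasic

universe u

variable {G : Type u} [Group G] [Fintype G] {p : ℕ} [hp : Fact p.Prime]

noncomputable scoped instance fintypeSylow : Fintype (Sylow p G) := Fintype.ofFinite _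

variable (S : SC G p)

theorem mem_normalizer_smul {y : G} {Q : Sylow p G} :
    y ∈ normalizer ((Q : Subgroup G) : Set G) ↔ y • Q = Q :=
  Sylow.smul_eq_iff_mem_normalizer.symm

/-- The Sylow subgroups normalized by `y`. -/
noncomputable def fixPts (p : ℕ) [Fact p.Prime] (y : G) : Finset (Sylow p G) :=
  Finset.univ.filter fun Q : Sylow p G => y • Q = Q

theorem mem_fixPts {y : G} {Q : Sylow p G} : Q ∈ fixPts p y ↔ y • Q = Q := by simp [fixPts]

theorem smul_P_eq {y : G} : y • S.P = S.P ↔ y ∈ S.N := Sylow.smul_eq_iff_mem_normalizer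

theorem P_mem_fixPts {y : G} (hy : y ∈ S.E) : S.P ∈ fixPts p y :=
  mem_fixPts.2 ((smul_P_eq S).2 (S.E_le hy))

/-- An element of `P` fixing another Sylow subgroup is trivial. -/
theorem eq_one_of_fix {u : G} (hu : u ∈ (S.P : Subgroup G)) {Q : Sylow p G} (hQ : Q ≠ S.P)
    (h : u • Q = Q) : u = 1 := by
  by_contra hu1
  have hgen : ∀ (R : Sylow p G) {w : G}, w ∈ (R : Subgroup G) → w ≠ 1 →
      Nat.card (R : Subgroup G) = p → zpowers w = (R : Subgroup G) := by
    intro R w hw hw1 hR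
    refine eq_of_le_of_card_ge (zpowers_le.2 hw) ?_
    have hd := hR ▸ orderOf_dvd_natCard (G := (R : Subgroup G)) ⟨w, hw⟩
    rw [Subgroup.orderOf_mk] at hd
    rw [Nat.card_zpowers, hR]
    rcases (Nat.dvd_prime hp.out).1 hd with e | e
    · exact absurd (orderOf_eq_one_iff.1 e) hw1
    · exact e.ge
  have hQc : Nat.card (Q : Subgroup G) = p := by
    rw [Q.card_eq_multiplicity, ← S.P.card_eq_multiplicity, S.card_P]
  have hpg : IsPGroup p (zpowers u) := by
    refine IsPGroup.of_card (n := 1) ?_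
    rw [hgen S.P hu hu1 S.card_P, S.card_P, pow_one]
  have huQ : u ∈ (Q : Subgroup G) :=
    (le_of_eq (hpg.inf_normalizer_sylow Q) ⟨mem_zpowers u, mem_normalizer_smul.2 h⟩).2
  exact hQ (Sylow.ext ((hgen Q huQ hu1 hQc).symm.trans (hgen S.P hu hu1 S.card_P)))

theorem conj_mem_E_iff {n y : G} (hn : n ∈ S.N) (hy : y ∈ S.E) (hy1 : y ≠ 1) :
    n⁻¹ * y * n ∈ S.E ↔ n ∈ S.E := by
  refine ⟨fun h => ?_, fun h => mul_mem (mul_mem (inv_mem h) hy) h⟩
  obtain ⟨u, hu, z, hz, rfl⟩ := S.dec n hn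
  have h1 : u⁻¹ * y * u ∈ S.E := by
    have := mul_mem (mul_mem hz h) (inv_mem hz)
    simpa [mul_assoc] using this
  have h2 : u⁻¹ * (y * u * y⁻¹) = 1 := by
    refine eq_one_of_mem S (mul_mem (inv_mem hu) (conj_mem S (S.E_le hy) hu)) ?_
    have := mul_mem h1 (inv_mem hy)
    simpa [mul_assoc] using this
  have h3 : y * u = u * y := by
    have := inv_mul_eq_one.1 h2
    exact (mul_inv_eq_iff_eq_mul.1 this.symm)
  rw [eq_one_of_commute S hy hy1 hu h3, one_mul]
  exact hz

theorem card_conj_into {y : G} (hy : y ∈ S.E) (hy1 : y ≠ 1) :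
    (Finset.univ.filter fun x : G => x⁻¹ * y * x ∈ S.E).card =
      Nat.card S.E * (fixPts p y).card := by
  have hmaps : ∀ x ∈ Finset.univ.filter (fun x : G => x⁻¹ * y * x ∈ S.E),
      x • S.P ∈ fixPts p y := by
    intro x hx
    rw [Finset.mem_filter] at hx
    rw [mem_fixPts, ← mul_smul, ← inv_smul_eq_iff, ← mul_smul, smul_P_eq, ← mul_assoc]
    exact S.E_le hx.2
  rw [Finset.card_eq_sum_card_fiberwise hmaps, mul_comm, ← smul_eq_mul, ← Finset.sum_const]
  refine Finset.sum_congr rfl fun Q hQ => ?_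
  obtain ⟨x₀, hx₀⟩ := MulAction.exists_smul_eq G S.P Q
  rw [mem_fixPts, ← hx₀, ← mul_smul, ← inv_smul_eq_iff, ← mul_smul, smul_P_eq, ← mul_assoc] at hQ
  obtain ⟨u, hu, y₁, hy₁, hm⟩ := S.dec _ hQ
  have hy₁1 : y₁ ≠ 1 := by
    rintro rfl
    rw [mul_one] at hm
    have ho : orderOf u = orderOf y := by
      rw [← hm]
      simpa using MulEquiv.orderOf_eq (MulAut.conj x₀⁻¹) y
    rcases eq_or_ne u 1 with rfl | hu1
    · rw [orderOf_one] at ho
      exact hy1 (orderOf_eq_one_iff.1 ho.symm)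
    · have hd := S.card_P ▸ orderOf_dvd_natCard (G := (S.P : Subgroup G)) ⟨u, hu⟩
      rw [Subgroup.orderOf_mk] at hd
      rcases (Nat.dvd_prime hp.out).1 hd with e | e
      · exact hu1 (orderOf_eq_one_iff.1 e)
      · exact not_dvd_orderOf S hy (ho ▸ e ▸ dvd_rfl)
  obtain ⟨v, hv, hvy⟩ := exists_conj S hu hy₁ hy₁1
  have hval : ∀ n, (x₀ * n)⁻¹ * y * (x₀ * n) = (v⁻¹ * n)⁻¹ * y₁ * (v⁻¹ * n) := fun n => by
    rw [show (x₀ * n)⁻¹ * y * (x₀ * n) = n⁻¹ * (x₀⁻¹ * y * x₀) * n by group, hm, ← hvy]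
    group
  rw [Nat.card_eq_fintype_card, ← Finset.card_univ]
  symm
  refine Finset.card_bij (fun z _ => x₀ * (v * z)) ?_ ?_ ?_
  · intro z _
    simp only [Finset.mem_filter, Finset.mem_univ, true_and]
    refine ⟨?_, ?_⟩
    · rw [hval, inv_mul_cancel_left]
      exact mul_mem (mul_mem (inv_mem z.2) hy₁) z.2
    · rw [mul_smul, (smul_P_eq S).2 (mul_mem (P_le S hv) (S.E_le z.2)), hx₀]
  · intro a _ b _ h
    exact Subtype.ext (mul_left_cancel (mul_left_cancel h))
  · intro x hx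
    simp only [Finset.mem_filter, Finset.mem_univ, true_and] at hx
    have hn : x₀⁻¹ * x ∈ S.N := by
      rw [← smul_P_eq, mul_smul, hx.2, ← hx₀, inv_smul_smul]
    have h1 := hx.1
    rw [show x = x₀ * (x₀⁻¹ * x) by group, hval] at h1
    have hz := (conj_mem_E_iff S (mul_mem (inv_mem (P_le S hv)) hn) hy₁ hy₁1).1 h1
    exact ⟨⟨_, hz⟩, Finset.mem_univ _, by group⟩

theorem card_fixPts_le {y : G} (hy : y ∈ S.E) (hy1 : y ≠ 1) : (fixPts p y).card ≤ nn S + 1 := by
  have hP := P_mem_fixPts S hy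
  let T := (fixPts p y).erase S.P
  let U : Finset G := Finset.univ.filter fun u : G => u ∈ (S.P : Subgroup G)
  have hU : U.card = p := by
    rw [← S.card_P, Nat.card_eq_fintype_card, Fintype.card_subtype]
  have hinj : Set.InjOn (fun a : Sylow p G × G => a.2 • a.1) ↑(T ×ˢ U) := by
    rintro ⟨Q, u⟩ ha ⟨Q', u'⟩ hb h
    simp only [Finset.coe_product, Set.mem_prod, Finset.mem_coe, T, U, Finset.mem_erase,
      Finset.mem_filter, Finset.mem_univ, true_and, mem_fixPts] at ha hb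
    simp only at h
    set w := u'⁻¹ * u with hw
    have hwP : w ∈ (S.P : Subgroup G) := mul_mem (inv_mem hb.2) ha.2
    have hwQ : w • Q = Q' := by rw [hw, mul_smul, h, inv_smul_smul]
    have h1 : (w⁻¹ * (y * w * y⁻¹)) • Q = Q := by
      rw [mul_smul, mul_smul, mul_smul, show y⁻¹ • Q = Q by rw [inv_smul_eq_iff]; exact ha.1.2.symm,
        hwQ, hb.1.2, ← hwQ, inv_smul_smul]
    have h2 := eq_one_of_fix S (mul_mem (inv_mem hwP) (conj_mem S (S.E_le hy) hwP)) ha.1.1 h1
    have h3 : y * w = w * y := mul_inv_eq_iff_eq_mul.1 (inv_mul_eq_one.1 h2).symm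
    have h4 := eq_one_of_commute S hy hy1 hwP h3
    rw [h4, one_smul] at hwQ
    exact Prod.ext hwQ (inv_mul_eq_one.1 h4).symm
  have hsub : (T ×ˢ U).image (fun a : Sylow p G × G => a.2 • a.1) ⊆ Finset.univ.erase S.P := by
    intro R hR
    obtain ⟨⟨Q, u⟩, ha, rfl⟩ := Finset.mem_image.1 hR
    simp only [Finset.mem_product, T, U, Finset.mem_erase, Finset.mem_filter, Finset.mem_univ,
      true_and] at ha
    refine Finset.mem_erase.2 ⟨fun h => ha.1.1 ?_, Finset.mem_univ _⟩
    rw [← inv_smul_smul u Q, h, (smul_P_eq S).2 (inv_mem (P_le S ha.2))]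
  have hc := Finset.card_le_card hsub
  rw [Finset.card_image_of_injOn hinj, Finset.card_product, hU,
    Finset.card_erase_of_mem (Finset.mem_univ _), Finset.card_univ, ← Nat.card_eq_fintype_card,
    card_sylow_eq S, Nat.add_sub_cancel_left] at hc
  have h5 : T.card ≤ nn S := Nat.le_of_mul_le_mul_right hc hp.out.pos
  have h6 : T.card + 1 = (fixPts p y).card := Finset.card_erase_add_one hP
  omega

theorem mlt_trivialIrr (χ : IrrCharacter G) :
    (Nat.card S.E : ℂ) * (mlt S χ trivialIrr : ℂ) = ∑ y : S.E, fixFun S (χ : G → ℂ) y := by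
  rw [mlt_spec, classInner_def, ← mul_assoc,
    mul_inv_cancel₀ (Nat.cast_ne_zero.2 (Nat.card_pos (α := S.E)).ne' : (Nat.card S.E : ℂ) ≠ 0),
    one_mul]
  exact Finset.sum_congr rfl fun y _ => by simp [trivialIrr]

/-- The squares of the multiplicities of the trivial character count fixed points. -/
theorem sum_mlt_trivial_sq :
    Nat.card S.E * ∑ χ : IrrCharacter G, mlt S χ trivialIrr ^ 2 =
      nn S + 1 + ∑ y ∈ (Finset.univ : Finset S.E).erase 1, (fixPts p (y : G)).card := by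
  have key : (Nat.card S.E : ℂ) ^ 2 * ∑ χ : IrrCharacter G, (mlt S χ trivialIrr : ℂ) ^ 2 =
      (Nat.card S.E : ℂ) * (nn S + 1) + ∑ y ∈ (Finset.univ : Finset S.E).erase 1,
        ((Finset.univ.filter fun x : G => x⁻¹ * (y : G) * x ∈ S.E).card : ℂ) := by
    have h0 : ∀ χ : IrrCharacter G, ∀ y ∈ (Finset.univ : Finset S.E).erase 1,
        fixFun S (χ : G → ℂ) y = (χ : G → ℂ) (y : G) := fun χ y hy =>
      fixFun_ne S (IsIrr.isClassFunction χ.2) (Finset.ne_of_mem_erase hy)
    have hsq : ∀ χ : IrrCharacter G, (Nat.card S.E : ℂ) ^ 2 * (mlt S χ trivialIrr : ℂ) ^ 2 =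
        (fixDim S χ : ℂ) ^ 2 +
        ((fixDim S χ : ℂ) * conj (∑ y ∈ (Finset.univ : Finset S.E).erase 1, (χ : G → ℂ) (y : G)) +
          conj ((fixDim S χ : ℂ) *
            conj (∑ y ∈ (Finset.univ : Finset S.E).erase 1, (χ : G → ℂ) (y : G)))) +
        ∑ y ∈ (Finset.univ : Finset S.E).erase 1, ∑ z ∈ (Finset.univ : Finset S.E).erase 1,
          (χ : G → ℂ) (y : G) * conj ((χ : G → ℂ) (z : G)) := by
      intro χ
      have h1 := mlt_trivialIrr S χ
      rw [← Finset.add_sum_erase _ _ (Finset.mem_univ (1 : S.E)), ← fixDim_spec,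
        Finset.sum_congr rfl (h0 χ)] at h1
      rw [show (Nat.card S.E : ℂ) ^ 2 * (mlt S χ trivialIrr : ℂ) ^ 2 =
          ((Nat.card S.E : ℂ) * (mlt S χ trivialIrr : ℂ)) *
            conj ((Nat.card S.E : ℂ) * (mlt S χ trivialIrr : ℂ)) by
        rw [map_mul, Complex.conj_natCast, Complex.conj_natCast]; ring, h1,
        ← Finset.sum_mul_sum, ← map_sum]
      simp only [map_add, map_mul, Complex.conj_natCast, Complex.conj_conj]
      ring
    rw [Finset.mul_sum, Finset.sum_congr rfl fun χ _ => hsq χ, Finset.sum_add_distrib,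
      Finset.sum_add_distrib, Finset.sum_add_distrib, sum_fixDim_sq, ← map_sum]
    have hz : ∑ χ : IrrCharacter G, (fixDim S χ : ℂ) *
        conj (∑ y ∈ (Finset.univ : Finset S.E).erase 1, (χ : G → ℂ) (y : G)) = 0 := by
      simp only [map_sum, Finset.mul_sum]
      rw [Finset.sum_comm]
      exact Finset.sum_eq_zero fun y hy => sum_fixDim_apply S (Finset.ne_of_mem_erase hy)
    rw [hz, map_zero, add_zero, add_zero, Finset.sum_comm]
    refine congrArg₂ _ rfl (Finset.sum_congr rfl fun y hy => ?_)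
    rw [Finset.sum_comm]
    simp only [second_orthogonality_count]
    rw [← Nat.cast_sum]
    congr 1
    simp only [Nat.card_eq_fintype_card, Fintype.card_subtype]
    rw [← Finset.card_biUnion]
    · refine congrArg Finset.card (Finset.ext fun x => ?_)
      simp only [Finset.mem_biUnion, Finset.mem_erase, Finset.mem_univ, and_true, Finset.mem_filter,
        true_and]
      constructor
      · rintro ⟨z, -, h⟩
        rw [show x⁻¹ * (y : G) * x = (z : G) by rw [← h]; group]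
        exact z.2
      · intro h
        refine ⟨⟨_, h⟩, fun e => Finset.ne_of_mem_erase hy (Subtype.ext ?_),
          show x * (x⁻¹ * (y : G) * x) * x⁻¹ = (y : G) by group⟩
        have h' : x⁻¹ * (y : G) * x = 1 := congrArg Subtype.val e
        rw [← show x * (x⁻¹ * (y : G) * x) * x⁻¹ = (y : G) by group, h']
        simp
    · intro a _ b _ hab
      refine Finset.disjoint_filter.2 fun x _ ha hb => hab (Subtype.ext ?_)
      rw [← hb] at ha
      exact mul_left_cancel (mul_right_cancel ha)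
  rw [Finset.sum_congr rfl fun (y : S.E) hy => congrArg (fun z : ℕ => (z : ℂ))
    (card_conj_into S y.2 fun e => Finset.ne_of_mem_erase hy (Subtype.ext e))] at key
  push_cast at key
  rw [← Finset.mul_sum, ← mul_add] at key
  have he : (Nat.card S.E : ℂ) ≠ 0 := Nat.cast_ne_zero.2 Nat.card_pos.ne'
  have key2 : (Nat.card S.E : ℂ) * ∑ χ : IrrCharacter G, (mlt S χ trivialIrr : ℂ) ^ 2 =
      (nn S + 1 : ℂ) + ∑ y ∈ (Finset.univ : Finset S.E).erase 1, ((fixPts p (y : G)).card : ℂ) := by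
    refine mul_left_cancel₀ he ?_
    rw [← key]; ring
  exact_mod_cast key2

section Equality

variable (h : ∑ χ : IrrCharacter G, mlt S χ trivialIrr ^ 2 = nn S + 1)

include h

theorem card_fixPts {y : G} (hy : y ∈ S.E) (hy1 : y ≠ 1) : (fixPts p y).card = nn S + 1 := by
  have h1 := sum_mlt_trivial_sq S
  rw [h] at h1
  have hle : ∀ z ∈ (Finset.univ : Finset S.E).erase 1, (fixPts p (z : G)).card ≤ nn S + 1 :=
    fun z hz => card_fixPts_le S z.2 fun e => Finset.ne_of_mem_erase hz (Subtype.ext e)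
  have hsum : ∑ z ∈ (Finset.univ : Finset S.E).erase 1, (fixPts p (z : G)).card =
      ∑ _z ∈ (Finset.univ : Finset S.E).erase 1, (nn S + 1) := by
    rw [Finset.sum_const, Finset.card_erase_of_mem (Finset.mem_univ _), Finset.card_univ,
      ← Nat.card_eq_fintype_card, smul_eq_mul, Nat.sub_mul, one_mul]
    omega
  exact (Finset.sum_eq_sum_iff_of_le hle).1 hsum ⟨y, hy⟩
    (Finset.mem_erase.2 ⟨fun e => hy1 (congrArg Subtype.val e), Finset.mem_univ _⟩)

theorem fixPts_eq {y z : G} (hy : y ∈ S.E) (hy1 : y ≠ 1) (hz : z ∈ S.E) (hz1 : z ≠ 1) :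
    fixPts p y = fixPts p z := by
  haveI := isCyclic_E S
  obtain ⟨⟨c, hc⟩, hgen⟩ := IsCyclic.exists_generator (α := S.E)
  have key : ∀ w : G, w ∈ S.E → w ≠ 1 → fixPts p c = fixPts p w := by
    intro w hw hw1
    have hc1 : c ≠ 1 := by
      intro hc1
      refine hw1 ?_
      obtain ⟨i, hi⟩ := hgen ⟨w, hw⟩
      have := congrArg Subtype.val hi
      simp only [SubgroupClass.coe_zpow] at this
      rw [← this, hc1, one_zpow]
    refine Finset.eq_of_subset_of_card_le (fun Q hQ => ?_) ?_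
    · rw [mem_fixPts] at hQ ⊢
      obtain ⟨i, hi⟩ := hgen ⟨w, hw⟩
      have hwc : c ^ i = w := by simpa using congrArg Subtype.val hi
      rw [← mem_normalizer_smul] at hQ ⊢
      exact hwc ▸ zpow_mem hQ i
    · rw [card_fixPts S h hw hw1, card_fixPts S h hc hc1]
  rw [← key y hy hy1, key z hz hz1]

theorem inf_stab_le {Q : Sylow p G} (hQ : Q ≠ S.P) {y : G} (hy : y ∈ S.E) (hy1 : y ≠ 1)
    (hQy : Q ∈ fixPts p y) {n : G} (hn : n ∈ S.N) (hnQ : n • Q = Q) : n ∈ S.E := by
  have hfix : ∀ z ∈ S.E, z • Q = Q := by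
    intro z hz
    rcases eq_or_ne z 1 with rfl | hz1
    · exact one_smul _ _
    · exact mem_fixPts.1 (fixPts_eq S h hz hz1 hy hy1 ▸ hQy)
  obtain ⟨u, hu, z, hz, rfl⟩ := S.dec n hn
  rw [mul_smul, hfix z hz] at hnQ
  rw [eq_one_of_fix S hu hQ hnQ, one_mul]
  exact hz

theorem mem_normalizer_E_of_conj {x y : G} (hy : y ∈ S.E) (hy1 : y ≠ 1)
    (hx : x⁻¹ * y * x ∈ S.E) (hn : 1 ≤ nn S) : x ∈ normalizer (S.E : Set G) := by
  set z := x⁻¹ * y * x with hzdef
  have hz1 : z ≠ 1 := fun e => hy1 (by rw [show y = x * z * x⁻¹ by rw [hzdef]; group, e]; group)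
  have hmap : ∀ Q, Q ∈ fixPts p y → x⁻¹ • Q ∈ fixPts p z := by
    intro Q hQ
    rw [mem_fixPts] at hQ ⊢
    rw [hzdef, mul_smul, mul_smul, smul_inv_smul, hQ]
  obtain ⟨Q, hQ, hQP⟩ := Finset.exists_mem_ne (show 1 < (fixPts p y).card by
    rw [card_fixPts S h hy hy1]; omega) S.P
  have hall : ∀ w ∈ S.E, x * w * x⁻¹ ∈ S.E := by
    intro w hw
    rcases eq_or_ne w 1 with rfl | hw1
    · simp [one_mem]
    have hfix : ∀ R, R ∈ fixPts p y → (x * w * x⁻¹) • R = R := by
      intro R hR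
      have h1 := hmap R hR
      rw [fixPts_eq S h hx hz1 hw hw1, mem_fixPts] at h1
      rw [mul_smul, mul_smul, h1, smul_inv_smul]
    exact inf_stab_le S h hQP hy hy1 hQ ((smul_P_eq S).1 (hfix S.P (P_mem_fixPts S hy))) (hfix Q hQ)
  refine mem_normalizer_iff.2 fun w => ⟨hall w, fun hw => ?_⟩
  have hsurj : (fun a : S.E => (⟨x * a * x⁻¹, hall a a.2⟩ : S.E)).Injective := fun a b e =>
    Subtype.ext (mul_left_cancel (mul_right_cancel (congrArg Subtype.val e)))
  obtain ⟨a, ha⟩ := Finite.surjective_of_injective hsurj ⟨_, hw⟩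
  rw [← mul_left_cancel (mul_right_cancel (congrArg Subtype.val ha))]
  exact a.2

theorem card_normalizer_E (hn : 1 ≤ nn S) (he : 1 < Nat.card S.E) :
    Nat.card (normalizer (S.E : Set G)) = Nat.card S.E * (nn S + 1) := by
  haveI := Finite.one_lt_card_iff_nontrivial.1 he
  obtain ⟨⟨y, hy⟩, hy1⟩ := exists_ne (1 : S.E)
  have hy1' : y ≠ 1 := fun e => hy1 (Subtype.ext e)
  rw [← card_fixPts S h hy hy1', ← card_conj_into S hy hy1', Nat.card_eq_fintype_card,
    Fintype.card_subtype]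
  refine congrArg Finset.card (Finset.filter_congr fun x _ => ?_)
  refine ⟨fun hx => ?_, fun hx => mem_normalizer_E_of_conj S h hy hy1' hx hn⟩
  have := (mem_normalizer_iff.1 (inv_mem hx) y).1 hy
  rwa [inv_inv] at this

theorem centralizer_le_normalizer_E (hn : 1 ≤ nn S) {y : G} (hy : y ∈ S.E) (hy1 : y ≠ 1) :
    centralizer ({y} : Set G) ≤ normalizer (S.E : Set G) := fun x hx =>
  mem_normalizer_E_of_conj S h hy hy1 (by
    rw [mul_assoc, ← mem_centralizer_singleton_iff.1 hx, inv_mul_cancel_left]; exact hy) hn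

end Equality

end Cfsg.Agent.H86.FewSylow
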