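import Mathlib
import Cfsg.Agent.H43.Galois
import Cfsg.Agent.H81.GaloisSum
import Cfsg.Agent.CharBasic.Complete
import Cfsg.Agent.PGroups.Taussky
import Cfsg.Agent.PGroups.Basic

/-!
# Fields of values at 2-elements and Sylow 2-subgroups of maximal class
-/

namespace Cfsg.Agent.H86

open Cfsg.Agent

/-- An algebraic number fixed by every automorphism fixing `S` lies in `ℚ(S)`. -/
theorem mem_adjoin_of_fixed {S : Set ℂ} (hS : ∀ s ∈ S, IsIntegral ℚ s) {z : ℂ}
    (hz : IsIntegral ℚ z) (h : ∀ σ : ℂ ≃+* ℂ, (∀ s ∈ S, σ s = s) → σ z = z) :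
    z ∈ IntermediateField.adjoin ℚ S := by
  haveI : IsAlgClosure ℚ (algebraicClosure ℚ ℂ) := algebraicClosure.isAlgClosure ℚ ℂ
  haveI : Normal ℚ (algebraicClosure ℚ ℂ) := IsAlgClosure.normal ℚ _
  haveI : IsGalois ℚ (algebraicClosure ℚ ℂ) := ⟨⟩
  let A := algebraicClosure ℚ ℂ
  let S' : Set A := Subtype.val ⁻¹' S
  let E := IntermediateField.adjoin ℚ S'
  let x : A := ⟨z, mem_algebraicClosure_iff'.mpr hz⟩
  have hx : x ∈ E := by
    rw [← InfiniteGalois.fixedField_fixingSubgroup E, IntermediateField.mem_fixedField_iff]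
    intro τ hτ
    obtain ⟨σ, hσ⟩ := H43.exists_aut_extend τ
    have h1 : σ z = z := by
      refine h σ fun s hs => ?_
      have hmem : (⟨s, mem_algebraicClosure_iff'.mpr (hS s hs)⟩ : A) ∈ E :=
        IntermediateField.subset_adjoin ℚ S' hs
      have h2 := (IntermediateField.mem_fixingSubgroup_iff E τ).1 hτ _ hmem
      have h3 := hσ ⟨s, mem_algebraicClosure_iff'.mpr (hS s hs)⟩
      rw [h2] at h3
      exact h3
    exact Subtype.ext ((hσ x).symm.trans h1)
  have h4 : z ∈ (IntermediateField.adjoin ℚ S').map A.val := ⟨x, hx, rfl⟩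
  have h5 := (IntermediateField.adjoin_map ℚ S' A.val).le h4
  exact IntermediateField.adjoin.mono ℚ _ _ (by rintro _ ⟨a, ha, rfl⟩; exact ha) h5

/-- Automorphisms fixing generators fix the field they generate. -/
theorem fixed_of_mem_adjoin {S : Set ℂ} (σ : ℂ ≃+* ℂ) (h : ∀ s ∈ S, σ s = s) {z : ℂ}
    (hz : z ∈ IntermediateField.adjoin ℚ S) : σ z = z := by
  induction hz using IntermediateField.adjoin_induction with
  | mem x hx => exact h x hx
  | algebraMap q => simp
  | add x y _ _ hx hy => rw [map_add, hx, hy]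
  | inv x _ hx => rw [map_inv₀, hx]
  | mul x y _ _ hx hy => rw [map_mul, hx, hy]

theorem adjoin_eq_iff {S T : Set ℂ} (hS : ∀ s ∈ S, IsIntegral ℚ s) (hT : ∀ s ∈ T, IsIntegral ℚ s) :
    IntermediateField.adjoin ℚ S = IntermediateField.adjoin ℚ T ↔
      ∀ σ : ℂ ≃+* ℂ, (∀ s ∈ S, σ s = s) ↔ ∀ t ∈ T, σ t = t := by
  constructor
  · intro e σ
    constructor
    · intro h t ht
      exact fixed_of_mem_adjoin σ h (e ▸ IntermediateField.subset_adjoin ℚ T ht)
    · intro h s hs
      exact fixed_of_mem_adjoin σ h (e.symm ▸ IntermediateField.subset_adjoin ℚ S hs)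
  · intro h
    refine le_antisymm (IntermediateField.adjoin_le_iff.2 fun s hs => ?_)
      (IntermediateField.adjoin_le_iff.2 fun t ht => ?_)
    · exact mem_adjoin_of_fixed hT (hS s hs) fun σ hσ => (h σ).2 hσ s hs
    · exact mem_adjoin_of_fixed hS (hT t ht) fun σ hσ => (h σ).1 hσ t ht

/-- The action of an automorphism on `ζ + sζ⁻¹`. -/
theorem aut_fix_iff (σ : ℂ ≃+* ℂ) {ζ s : ℂ} (hζ : ζ ≠ 0) (hs : s = 1 ∨ s = -1) :
    σ (ζ + s * ζ⁻¹) = ζ + s * ζ⁻¹ ↔ σ ζ = ζ ∨ σ ζ * ζ = s := by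
  have hs' : σ s = s := by rcases hs with rfl | rfl <;> simp
  rw [map_add, map_mul, map_inv₀, hs']
  have h1 : σ ζ ≠ 0 := by simpa using hζ
  constructor
  · intro h
    field_simp at h
    have : (σ ζ - ζ) * (σ ζ * ζ - s) = 0 := by linear_combination h
    rcases mul_eq_zero.1 this with e | e
    · exact Or.inl (sub_eq_zero.1 e)
    · exact Or.inr (sub_eq_zero.1 e)
  · rintro (h | h)
    · rw [h]
    · field_simp
      linear_combination (σ ζ - ζ) * h

variable {G : Type*} [Group G] [Finite G]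

/-- An automorphism fixes all values at `g` iff the corresponding power of `g` is conjugate
to `g`. -/
theorem fix_values_iff {g : G} {n k : ℕ} (hn : n ≠ 0) (hg : orderOf g ∣ n) (σ : ℂ ≃+* ℂ)
    (hσ : ∀ z : ℂ, z ^ n = 1 → σ z = z ^ k) :
    (∀ s ∈ {z : ℂ | ∃ χ : Cfsg.IrrCharacter G, (χ : G → ℂ) g = z}, σ s = s) ↔
      IsConj (g ^ k) g := by
  have hval : ∀ χ : Cfsg.IrrCharacter G, σ ((χ : G → ℂ) g) = (χ : G → ℂ) (g ^ k) := by
    intro χ
    obtain ⟨m, ξ, e, hξ, hv⟩ := H81.exists_exponents (CharBasic.IsIrr.isCharacter χ.2) g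
    have h1 := hv 1
    rw [pow_one, pow_one] at h1
    rw [h1, hv k, map_sum]
    refine Finset.sum_congr rfl fun i _ => ?_
    rw [hσ _ (by
      obtain ⟨c, rfl⟩ := hg
      rw [← pow_mul, mul_comm, pow_mul, pow_mul ξ, hξ.pow_eq_one, one_pow, one_pow]),
      ← pow_mul, ← pow_mul, mul_comm]
  rw [CharBasic.isConj_iff_forall_irr]
  constructor
  · intro h χ
    rw [← hval χ, h _ ⟨χ, rfl⟩]
  · rintro h _ ⟨χ, rfl⟩
    rw [hval χ, h χ]

theorem isIntegral_values (g : G) :
    ∀ s ∈ {z : ℂ | ∃ χ : Cfsg.IrrCharacter G, (χ : G → ℂ) g = z}, IsIntegral ℚ s := by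
  rintro _ ⟨χ, rfl⟩
  exact (CharBasic.IsChar.isIntegral (CharBasic.IsIrr.isCharacter χ.2) g).tower_top

/-- Classes of elements central in a Sylow subgroup have odd size. -/
theorem not_dvd_index_of_le (P : Sylow 2 G) {g : G}
    (h : (P : Subgroup G) ≤ Subgroup.centralizer ({g} : Set G)) :
    ¬ 2 ∣ (Subgroup.centralizer ({g} : Set G)).index := fun hd =>
  P.not_dvd_index (hd.trans (Subgroup.index_dvd_of_le h))

/-- If the Sylow 2-subgroups have small centre, elements of large order have even classes. -/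
theorem dvd_index_of_large (P : Sylow 2 G) {g : G} {a : ℕ} (ha : orderOf g = 2 ^ a)
    (hZ : Nat.card (Subgroup.center ↥(P : Subgroup G)) < 2 ^ a) :
    2 ∣ (Subgroup.centralizer ({g} : Set G)).index := by
  by_contra hd
  set C := Subgroup.centralizer ({g} : Set G) with hC
  obtain ⟨S⟩ : Nonempty (Sylow 2 ↥C) := inferInstance
  have hgC : g ∈ C := Subgroup.mem_centralizer_singleton_iff.2 rfl
  have hgS : (⟨g, hgC⟩ : ↥C) ∈ (S : Subgroup ↥C) := by
    have hp : IsPGroup 2 (Subgroup.zpowers (⟨g, hgC⟩ : ↥C)) :=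
      IsPGroup.of_card (n := a) (by rw [Nat.card_zpowers, Subgroup.orderOf_mk, ha])
    haveI : (Subgroup.zpowers (⟨g, hgC⟩ : ↥C)).Normal := by
      refine ⟨fun x hx y => ?_⟩
      obtain ⟨i, rfl⟩ := hx
      have hcy : Commute y (⟨g, hgC⟩ : ↥C) :=
        Subtype.ext (Subgroup.mem_centralizer_singleton_iff.1 y.2)
      show y * (⟨g, hgC⟩ : ↥C) ^ i * y⁻¹ ∈ _
      rw [(hcy.zpow_right i).eq, mul_inv_cancel_right]
      exact ⟨i, rfl⟩
    exact S.is_maximal' (S.isPGroup'.to_sup_of_normal_right hp) le_sup_left ▸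
      (le_sup_right (a := (S : Subgroup ↥C)) (Subgroup.mem_zpowers _))
  have hcard : Nat.card ↥((S : Subgroup ↥C).map C.subtype) = Nat.card ↥(P : Subgroup G) := by
    rw [Subgroup.card_map_of_injective C.subtype_injective, Sylow.card_eq_multiplicity,
      Sylow.card_eq_multiplicity, ← Subgroup.card_mul_index C,
      Nat.factorization_mul Nat.card_pos.ne' Subgroup.index_ne_zero_of_finite, Finsupp.add_apply,
      Nat.factorization_eq_zero_of_not_dvd hd, add_zero]
  let T : Sylow 2 G := Sylow.ofCard ((S : Subgroup ↥C).map C.subtype)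
    (by rw [hcard, Sylow.card_eq_multiplicity])
  have hgT : g ∈ (T : Subgroup G) := ⟨⟨g, hgC⟩, hgS, rfl⟩
  have hz : (⟨g, hgT⟩ : ↥(T : Subgroup G)) ∈ Subgroup.center ↥(T : Subgroup G) := by
    rw [Subgroup.mem_center_iff]
    rintro ⟨y, hy⟩
    obtain ⟨y', -, rfl⟩ := hy
    exact Subtype.ext (Subgroup.mem_centralizer_singleton_iff.1 y'.2)
  have h1 : 2 ^ a ≤ Nat.card (Subgroup.center ↥(T : Subgroup G)) := by
    rw [← ha, ← Subgroup.orderOf_mk g hgT, ← Nat.card_zpowers]
    exact Subgroup.card_le_of_le (Subgroup.zpowers_le.2 hz)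
  rw [Nat.card_congr (Subgroup.centerCongr (T.equiv P)).toEquiv] at h1
  omega

/-- Powers conjugate to a generator of a cyclic subgroup of index two of a Sylow 2-subgroup. -/
theorem pow_eq_of_isConj (P : Sylow 2 G) {g y : G} {n r k : ℕ}
    (hP : Nat.card P = 2 ^ n) (hn : 2 ≤ n) (hg : orderOf g = 2 ^ (n - 1))
    (hy : y * g * y⁻¹ = g ^ r) (hr : g ^ r ≠ g) (hk : k.Coprime (orderOf g))
    (h : IsConj (g ^ k) g) : g ^ k = g ∨ g ^ k = g ^ r := by
  classical
  obtain ⟨c, hc⟩ := isConj_iff.1 h.symm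
  set H := Subgroup.zpowers g
  have hnorm : ∀ (x : G) (i : ℕ), i.Coprime (orderOf g) → x * g * x⁻¹ = g ^ i →
      x ∈ Subgroup.normalizer (H : Set G) := by
    intro x i hi hx
    rw [Subgroup.mem_normalizer_iff]
    have hmap : H.map (MulAut.conj x).toMonoidHom = H := by
      rw [MonoidHom.map_zpowers]
      show Subgroup.zpowers (x * g * x⁻¹) = H
      rw [hx]
      refine Subgroup.eq_of_le_of_card_ge (Subgroup.zpowers_le.2 (Subgroup.pow_mem _
        (Subgroup.mem_zpowers g) i)) ?_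
      rw [Nat.card_zpowers, Nat.card_zpowers, hi.symm.orderOf_pow]
    intro z
    constructor
    · intro hz
      rw [← hmap]
      exact ⟨z, hz, rfl⟩
    · intro hz
      rw [← hmap] at hz
      obtain ⟨w, hw, hwe⟩ := hz
      rwa [(MulAut.conj x).injective hwe] at hw
  have hrc : r.Coprime (orderOf g) := by
    have h1 : orderOf (g ^ r) = orderOf g := by
      rw [← hy, ← MulAut.conj_apply, MulEquiv.orderOf_eq]
    rw [orderOf_pow g] at h1
    exact (Nat.coprime_comm.1 ((Nat.div_eq_self.1 h1).resolve_left (orderOf_pos g).ne'))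
  have hcN := hnorm c k hk hc
  have hyN := hnorm y r hrc hy
  set Φ := H.normalizerMonoidHom
  have hker : Nat.card H ∣ Nat.card Φ.ker := by
    have hle : H.subgroupOf (Subgroup.normalizer (H : Set G)) ≤ Φ.ker := by
      intro z hz
      rw [Subgroup.normalizerMonoidHom_ker, Subgroup.mem_subgroupOf, Subgroup.mem_centralizer_iff]
      obtain ⟨i, hi⟩ := Subgroup.mem_zpowers_iff.1 (Subgroup.mem_subgroupOf.1 hz)
      intro w hw
      obtain ⟨j, rfl⟩ := Subgroup.mem_zpowers_iff.1 hw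
      rw [← hi, ← zpow_add, ← zpow_add, add_comm]
    have := Subgroup.card_dvd_of_le hle
    rwa [Nat.card_congr (Subgroup.subgroupOfEquivOfLe Subgroup.le_normalizer).toEquiv] at this
  have hrange : Nat.card Φ.range ∣ Nat.card (MulAut ↥H) := Subgroup.card_subgroup_dvd_card _
  rw [IsCyclic.card_mulAut, Nat.card_zpowers, hg, Nat.totient_prime_pow Nat.prime_two (by omega),
    show (2 - 1 : ℕ) = 1 from rfl, mul_one] at hrange
  obtain ⟨j, -, hj⟩ := (Nat.dvd_prime_pow Nat.prime_two).1 hrange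
  have hmul : Nat.card Φ.range * Nat.card Φ.ker ∣ Nat.card G := by
    rw [← Subgroup.index_ker Φ, mul_comm, Subgroup.card_mul_index]
    exact Subgroup.card_subgroup_dvd_card _
  have hdvd : 2 ^ (j + (n - 1)) ∣ Nat.card G := by
    refine dvd_trans ?_ hmul
    rw [pow_add, hj]
    refine mul_dvd_mul_left _ ?_
    rwa [Nat.card_zpowers, hg] at hker
  have hle : j ≤ 1 := by
    have h1 := (Nat.prime_two.pow_dvd_iff_le_factorization Nat.card_pos.ne').1 hdvd
    have h2 : (Nat.card G).factorization 2 = n :=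
      Nat.pow_right_injective (le_refl 2) (P.card_eq_multiplicity.symm.trans hP)
    omega
  have hsmall : Nat.card Φ.range ≤ 2 := by
    rw [hj]
    calc 2 ^ j ≤ 2 ^ 1 := Nat.pow_le_pow_right (by norm_num) hle
      _ = 2 := rfl
  have happ : ∀ (x : G) (hx : x ∈ Subgroup.normalizer (H : Set G)) (i : ℕ), x * g * x⁻¹ = g ^ i →
      ((Φ ⟨x, hx⟩) ⟨g, Subgroup.mem_zpowers g⟩ : G) = g ^ i := fun x hx i e => e
  by_contra hcon
  rw [not_or] at hcon
  have h3 : 3 ≤ Nat.card Φ.range := by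
    have hsub : ({1, Φ ⟨y, hyN⟩, Φ ⟨c, hcN⟩} : Finset (MulAut ↥H)).card = 3 := by
      rw [Finset.card_eq_three]
      refine ⟨_, _, _, ?_, ?_, ?_, rfl⟩
      · intro e
        have := congrArg (fun f : MulAut ↥H => ((f ⟨g, Subgroup.mem_zpowers g⟩ : ↥H) : G)) e
        simp only [MulAut.one_apply] at this
        rw [happ y hyN r hy] at this
        exact hr this.symm
      · intro e
        have := congrArg (fun f : MulAut ↥H => ((f ⟨g, Subgroup.mem_zpowers g⟩ : ↥H) : G)) e
        simp only [MulAut.one_apply] at this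
        rw [happ c hcN k hc] at this
        exact hcon.1 this.symm
      · intro e
        have := congrArg (fun f : MulAut ↥H => ((f ⟨g, Subgroup.mem_zpowers g⟩ : ↥H) : G)) e
        exact hcon.2 ((happ c hcN k hc).symm.trans (this.symm.trans (happ y hyN r hy)))
    rw [← hsub]
    refine le_trans (Finset.card_le_card (t := (Φ.range : Set (MulAut ↥H)).toFinite.toFinset) ?_) ?_
    · intro x hx
      simp only [Finset.mem_insert, Finset.mem_singleton] at hx
      rw [Set.Finite.mem_toFinset]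
      rcases hx with rfl | rfl | rfl
      · exact one_mem _
      · exact ⟨_, rfl⟩
      · exact ⟨_, rfl⟩
    · rw [← Set.ncard_eq_toFinset_card, ← Nat.card_coe_set_eq]
      rfl
  omega

/-- The field-of-values criterion. -/
theorem field_criterion (P : Sylow 2 G) (n : ℕ) (hn : 3 ≤ n) (hP : Nat.card P = 2 ^ n) (ζ : ℂ)
    (hζ : IsPrimitiveRoot ζ (2 ^ (n - 1))) :
    (commutator ↥P).index = 4 ↔
      ∃ g : G, g ∈ (P : Subgroup G) ∧ 2 ∣ (Subgroup.centralizer ({g} : Set G)).index ∧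
        (IntermediateField.adjoin ℚ {z : ℂ | ∃ χ : Cfsg.IrrCharacter G, (χ : G → ℂ) g = z} =
            IntermediateField.adjoin ℚ ({ζ + ζ⁻¹} : Set ℂ) ∨
          IntermediateField.adjoin ℚ {z : ℂ | ∃ χ : Cfsg.IrrCharacter G, (χ : G → ℂ) g = z} =
            IntermediateField.adjoin ℚ ({ζ - ζ⁻¹} : Set ℂ)) := by
  set N := 2 ^ (n - 1) with hN
  have hN0 : N ≠ 0 := pow_ne_zero _ two_ne_zero
  have hNh : N = 2 * 2 ^ (n - 2) := by rw [hN, ← pow_succ']; congr 1; omega
  have hζ0 : ζ ≠ 0 := hζ.ne_zero hN0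
  have hζh : ζ ^ 2 ^ (n - 2) = -1 := (hζ.pow (Nat.pos_of_ne_zero hN0)
    (show N = 2 ^ (n - 2) * 2 by rw [hNh, mul_comm])).eq_neg_one_of_two_right
  have htr : ∀ {M : Type _} [Group M] (x : M), orderOf x = N → ∀ a b : ℕ,
      x ^ a = x ^ b ↔ ζ ^ a = ζ ^ b := fun x hx a b => by
    rw [pow_eq_pow_iff_modEq, IsOfFinOrder.pow_eq_pow_iff_modEq (hζ.isOfFinOrder hN0), hx, ← hζ.eq_orderOf]
  have hint : ∀ s : ℂ, (s = 1 ∨ s = -1) → ∀ t ∈ ({ζ + s * ζ⁻¹} : Set ℂ), IsIntegral ℚ t := by
    rintro s hs _ rfl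
    have h1 : IsIntegral ℚ ζ := (hζ.isIntegral (Nat.pos_of_ne_zero hN0)).tower_top
    rcases hs with rfl | rfl <;> simp only [one_mul, neg_one_mul] <;>
      first | exact h1.add h1.inv | exact h1.add h1.inv.neg
  have hform : ∀ (g : G), ((IntermediateField.adjoin ℚ
      {z : ℂ | ∃ χ : Cfsg.IrrCharacter G, (χ : G → ℂ) g = z} =
        IntermediateField.adjoin ℚ ({ζ + ζ⁻¹} : Set ℂ)) ∨
      (IntermediateField.adjoin ℚ {z : ℂ | ∃ χ : Cfsg.IrrCharacter G, (χ : G → ℂ) g = z} =
        IntermediateField.adjoin ℚ ({ζ - ζ⁻¹} : Set ℂ))) ↔ ∃ s : ℂ, (s = 1 ∨ s = -1) ∧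
      ∀ σ : ℂ ≃+* ℂ, (∀ z ∈ {z : ℂ | ∃ χ : Cfsg.IrrCharacter G, (χ : G → ℂ) g = z}, σ z = z) ↔
        (σ ζ = ζ ∨ σ ζ * ζ = s) := by
    intro g
    have e1 : ∀ s : ℂ, (s = 1 ∨ s = -1) → (IntermediateField.adjoin ℚ
        {z : ℂ | ∃ χ : Cfsg.IrrCharacter G, (χ : G → ℂ) g = z} =
        IntermediateField.adjoin ℚ ({ζ + s * ζ⁻¹} : Set ℂ) ↔
        ∀ σ : ℂ ≃+* ℂ, (∀ z ∈ {z : ℂ | ∃ χ : Cfsg.IrrCharacter G, (χ : G → ℂ) g = z}, σ z = z) ↔
          (σ ζ = ζ ∨ σ ζ * ζ = s)) := by
      intro s hs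
      rw [adjoin_eq_iff (isIntegral_values g) (hint s hs)]
      refine forall_congr' fun σ => ?_
      simp only [Set.mem_singleton_iff, forall_eq, aut_fix_iff σ hζ0 hs]
    constructor
    · rintro (h | h)
      · exact ⟨1, Or.inl rfl, (e1 1 (Or.inl rfl)).1 (by rw [one_mul]; exact h)⟩
      · exact ⟨-1, Or.inr rfl, (e1 (-1) (Or.inr rfl)).1 (by rw [neg_one_mul, ← sub_eq_add_neg]; exact h)⟩
    · rintro ⟨s, hs, h⟩
      have := (e1 s hs).2 h
      rcases hs with rfl | rfl
      · rw [one_mul] at this; exact Or.inl this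
      · rw [neg_one_mul, ← sub_eq_add_neg] at this; exact Or.inr this
  simp only [hform]
  clear hform hint
  have hPg : IsPGroup 2 ↥(P : Subgroup G) := P.isPGroup'
  constructor
  · intro hidx
    have hmax := PGroups.maxClass_of_index_commutator n ↥(P : Subgroup G) hn hP hidx
    obtain ⟨hZ, -, -⟩ := PGroups.card_center_of_maxClass (p := 2) hn hP hmax
    obtain ⟨c, y, hc, hy, hrel, -⟩ := PGroups.maxClass_two hn hP hmax
    have ho : orderOf (c : G) = N := by rw [Subgroup.orderOf_coe]; exact hc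
    obtain ⟨r, s, hs, hs4, hry, hrs⟩ : ∃ (r : ℕ) (s : ℂ), (s = 1 ∨ s = -1) ∧ (s = -1 → 4 ≤ n) ∧
        (y : G) * c * (y : G)⁻¹ = (c : G) ^ r ∧ ζ ^ r * ζ = s := by
      rcases hrel with ⟨h, -⟩ | ⟨h4, h, -⟩
      · refine ⟨N - 1, 1, Or.inl rfl, fun h => absurd h (by norm_num), ?_, ?_⟩
        · have h1 := congrArg Subtype.val h
          simp only [Subgroup.coe_mul, Subgroup.coe_inv] at h1
          rw [h1]
          refine inv_eq_of_mul_eq_one_left ?_
          rw [← pow_succ, Nat.sub_add_cancel (Nat.one_le_iff_ne_zero.2 hN0), ← ho, pow_orderOf_eq_one]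
        · rw [← pow_succ, Nat.sub_add_cancel (Nat.one_le_iff_ne_zero.2 hN0), hζ.pow_eq_one]
      · refine ⟨2 ^ (n - 2) - 1, -1, Or.inr rfl, fun _ => h4, ?_, ?_⟩
        · have h1 := congrArg Subtype.val h
          simpa using h1
        · rw [← pow_succ, Nat.sub_add_cancel (Nat.one_le_two_pow), hζh]
    have hrne : (c : G) ^ r ≠ c := by
      intro e
      have h1 : ζ ^ r = ζ ^ 1 := (htr (c : G) ho r 1).1 (by rw [e, pow_one])
      rw [h1, pow_one, ← sq] at hrs
      rcases hs with rfl | rfl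
      · have h2 := Nat.le_of_dvd two_pos (hζ.dvd_of_pow_eq_one 2 hrs)
        have h3 : 2 ^ 2 ≤ 2 ^ (n - 1) := Nat.pow_le_pow_right two_pos (by omega)
        rw [← hN] at h3
        omega
      · have h2 := Nat.le_of_dvd (by norm_num : 0 < 4)
          (hζ.dvd_of_pow_eq_one 4 (by linear_combination (ζ ^ 2 - 1) * hrs))
        have h3 : 2 ^ 3 ≤ 2 ^ (n - 1) := Nat.pow_le_pow_right two_pos (by have := hs4 rfl; omega)
        rw [← hN] at h3
        omega
    refine ⟨c, c.2, dvd_index_of_large P ho ?_, s, hs, fun σ => ?_⟩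
    · rw [hZ]
      calc (2 : ℕ) = 2 ^ 1 := rfl
        _ < 2 ^ (n - 1) := Nat.pow_lt_pow_right (by norm_num) (by omega)
    obtain ⟨k, hk, hσ⟩ := H43.aut_eq_pow σ hN0
    rw [fix_values_iff hN0 (ho ▸ dvd_rfl) σ hσ, hσ ζ hζ.pow_eq_one]
    constructor
    · intro h
      rcases pow_eq_of_isConj P hP (by omega) ho hry hrne (ho ▸ hk) h with e | e
      · left
        have := (htr (c : G) ho k 1).1 (by rw [e, pow_one])
        rwa [pow_one] at this
      · right
        rw [(htr (c : G) ho k r).1 e, hrs]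
    · rintro (e | e)
      · rw [(htr (c : G) ho k 1).2 (by rw [e, pow_one]), pow_one]
      · have h1 : ζ ^ k = ζ ^ r := mul_right_cancel₀ hζ0 (e.trans hrs.symm)
        rw [(htr (c : G) ho k r).2 h1, ← hry]
        exact (isConj_iff.2 ⟨(y : G), rfl⟩).symm
  · rintro ⟨g, hgP, heven, s, hs, hfix⟩
    have hnab : ∃ x : ↥(P : Subgroup G), x * ⟨g, hgP⟩ ≠ ⟨g, hgP⟩ * x := by
      by_contra hall
      push Not at hall
      exact not_dvd_index_of_le P (fun x hx => Subgroup.mem_centralizer_singleton_iff.2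
        (congrArg Subtype.val (hall ⟨x, hx⟩))) heven
    obtain ⟨x, hx⟩ := hnab
    have hna : Subgroup.center ↥(P : Subgroup G) ≠ ⊤ := fun e =>
      hx (Subgroup.mem_center_iff.1 (e ▸ Subgroup.mem_top (⟨g, hgP⟩ : ↥(P : Subgroup G))) x)
    haveI : Finite ↥(P : Subgroup G) := Subtype.finite
    rcases hn.eq_or_lt with rfl | hn4
    · -- order 8
      obtain ⟨j, hj2, hj, hq, hz⟩ := PGroups.card_quotient_center (p := 2) (m := 3) hP hna
      obtain rfl : j = 2 := by omega
      have hidxZ : (Subgroup.center ↥(P : Subgroup G)).index = 4 := by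
        rw [Subgroup.index_eq_card, hq]; rfl
      have hle : commutator ↥(P : Subgroup G) ≤ Subgroup.center _ :=
        PGroups.commutator_le_of_index_dvd_sq (p := 2) _ (by rw [hidxZ]; norm_num)
      have hne : commutator ↥(P : Subgroup G) ≠ ⊥ := by
        intro e
        refine hx ?_
        rw [← commutatorElement_eq_one_iff_mul_comm, ← Subgroup.mem_bot, ← e]
        exact Subgroup.commutator_mem_commutator (Subgroup.mem_top _) (Subgroup.mem_top _)
      have heq : commutator ↥(P : Subgroup G) = Subgroup.center _ := by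
        refine Subgroup.eq_of_le_of_card_ge hle ?_
        rw [hz]
        have h1 := Subgroup.one_lt_card_iff_ne_bot _ |>.2 hne
        norm_num
        omega
      show (commutator ↥(P : Subgroup G)).index = 4
      rw [heq, hidxZ]
    -- general case
    set g' : ↥(P : Subgroup G) := ⟨g, hgP⟩ with hg'
    have hog : orderOf g' = orderOf g := Subgroup.orderOf_mk g hgP
    obtain ⟨m, hm⟩ : ∃ m, orderOf g' = 2 ^ m := hPg.exists_orderOf_eq_pow g'
    have hmn : m ≤ n - 1 := by
      have h1 : 2 ^ m ∣ 2 ^ n := by rw [← hm, ← hP]; exact orderOf_dvd_natCard g'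
      have h2 := (Nat.pow_dvd_pow_iff_le_right (by norm_num : 1 < 2)).1 h1
      by_contra hlt
      have : IsCyclic ↥(P : Subgroup G) :=
        isCyclic_of_orderOf_eq_card g' (by rw [hm, hP]; congr 1; omega)
      exact hx (this.commGroup.mul_comm x g')
    have hfixed : ∀ k : ℕ, k.Coprime N → ∀ d : ℕ, orderOf g ∣ d → d ∣ N → IsConj (g ^ k) g →
        ζ ^ k = ζ ∨ ζ ^ k * ζ = s := by
      intro k hk d hd hdN hconj
      obtain ⟨σ, hσ⟩ := H43.exists_aut_pow hN0 hk
      have := (hfix σ).1 ((fix_values_iff hN0 (hd.trans hdN) σ hσ).2 hconj)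
      rwa [hσ ζ hζ.pow_eq_one] at this
    have hN8 : 8 ≤ N := by
      have h3 : 2 ^ 3 ≤ 2 ^ (n - 1) := Nat.pow_le_pow_right two_pos (by omega)
      omega
    obtain rfl : m = n - 1 := by
      by_contra hne
      have hd : orderOf g ∣ 2 ^ (n - 2) := by
        rw [← hog, hm]
        exact Nat.pow_dvd_pow 2 (by omega)
      have hk : (1 + 2 ^ (n - 2)).Coprime N := by
        rw [hN]
        refine Nat.Coprime.pow_right _ (Nat.coprime_two_right.2 ?_)
        rw [show n - 2 = (n - 3) + 1 by omega, pow_succ, mul_comm]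
        exact ⟨_, add_comm _ _⟩
      have hgk : g ^ (1 + 2 ^ (n - 2)) = g := by
        rw [pow_add, pow_one, orderOf_dvd_iff_pow_eq_one.1 hd, mul_one]
      rcases hfixed _ hk _ hd ⟨2, by rw [hNh, mul_comm]⟩ (by rw [hgk]) with e | e
      · rw [pow_add, pow_one, hζh] at e
        exact hζ0 (by linear_combination -(1 / 2 : ℂ) * e)
      · rw [pow_add, pow_one, hζh] at e
        have h4 : ζ ^ 4 = 1 := by
          rcases hs with rfl | rfl
          · linear_combination -(ζ ^ 2 - 1) * e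
          · linear_combination -(ζ ^ 2 + 1) * e
        have := Nat.le_of_dvd (by norm_num) (hζ.dvd_of_pow_eq_one 4 h4)
        omega
    have hidx2 : (Subgroup.zpowers g').index = 2 := by
      have h1 := (Subgroup.zpowers g').card_mul_index
      rw [Nat.card_zpowers, hm, hP, show 2 ^ n = 2 ^ (n - 1) * 2 by
        rw [← pow_succ]; congr 1; omega] at h1
      exact Nat.eq_of_mul_eq_mul_left (Nat.two_pow_pos _) h1
    haveI hnor := PGroups.normal_of_index_eq hPg hidx2
    obtain ⟨r, hr⟩ : ∃ r : ℕ, g' ^ r = x * g' * x⁻¹ :=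
      (mem_powers_iff_mem_zpowers.2 (hnor.conj_mem g' (Subgroup.mem_zpowers g') x))
    have hrg : g ^ r = (x : G) * g * (x : G)⁻¹ := congrArg Subtype.val hr
    have hrc : r.Coprime N := by
      have h1 : orderOf (g' ^ r) = orderOf g' := by
        rw [hr, ← MulAut.conj_apply, MulEquiv.orderOf_eq]
      rw [orderOf_pow g'] at h1
      rw [hN, ← hm]
      exact (Nat.coprime_comm.1 ((Nat.div_eq_self.1 h1).resolve_left (orderOf_pos g').ne'))
    have hconj : IsConj (g ^ r) g := by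
      rw [hrg]
      exact (isConj_iff.2 ⟨(x : G), rfl⟩).symm
    have hgN : orderOf g = N := by rw [← hog, hm]
    rcases hfixed r hrc N (by rw [hgN]) dvd_rfl hconj with e | e
    · refine absurd ?_ hx
      have h1 : g' ^ r = g' ^ 1 := (htr g' hm r 1).2 (by rw [e, pow_one])
      rw [pow_one, hr] at h1
      exact mul_inv_eq_iff_eq_mul.1 h1
    -- the commutator subgroup is generated by the square of `g'`
    have hcomm : g' ^ r * g'⁻¹ ∈ commutator ↥(P : Subgroup G) := by
      rw [hr]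
      exact Subgroup.commutator_mem_commutator (Subgroup.mem_top x) (Subgroup.mem_top g')
    have h2mem : g' ^ 2 ∈ commutator ↥(P : Subgroup G) := by
      rcases hs with rfl | rfl
      · have h1 : g' ^ (r + 1) = g' ^ 0 := (htr g' hm _ _).2 (by rw [pow_succ, e, pow_zero])
        rw [pow_succ, pow_zero] at h1
        rw [eq_inv_of_mul_eq_one_left h1] at hcomm
        rw [sq]
        simpa using inv_mem hcomm
      · have h1 : g' ^ (r + 1) = g' ^ 2 ^ (n - 2) :=
          (htr g' hm _ _).2 (by rw [pow_succ, e, hζh])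
        rw [pow_succ, ← eq_mul_inv_iff_mul_eq] at h1
        rw [h1, mul_assoc, ← sq, inv_pow] at hcomm
        have h4 : g' ^ 4 ∈ commutator ↥(P : Subgroup G) := by
          have h2 := inv_mem (Subgroup.pow_mem _ hcomm 2)
          rw [(Commute.inv_right ((Commute.refl g').pow_pow _ _)).mul_pow, ← pow_mul, inv_pow,
            ← pow_mul, mul_comm, ← hNh, hN, ← hm, pow_orderOf_eq_one, one_mul, inv_inv] at h2
          exact h2
        have h5 : g' ^ 2 ^ (n - 2) ∈ commutator ↥(P : Subgroup G) := by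
          rw [show 2 ^ (n - 2) = 4 * 2 ^ (n - 4) by
            rw [show (4 : ℕ) = 2 ^ 2 from rfl, ← pow_add]; congr 1; omega, pow_mul]
          exact Subgroup.pow_mem _ h4 _
        have h6 := inv_mem ((Subgroup.mul_mem_cancel_left _ h5).1 hcomm)
        rwa [inv_inv] at h6
    haveI : (Subgroup.zpowers (g' ^ 2)).Normal := by
      refine ⟨fun z hz w => ?_⟩
      obtain ⟨i, rfl⟩ := Subgroup.mem_zpowers_iff.1 hz
      obtain ⟨j, hj⟩ := Subgroup.mem_zpowers_iff.1 (hnor.conj_mem g' (Subgroup.mem_zpowers g') w)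
      rw [Subgroup.mem_zpowers_iff]
      refine ⟨j * i, ?_⟩
      rw [← conj_zpow, ← conj_pow, ← hj]
      simp only [← zpow_natCast, ← zpow_mul]
      congr 1
      ring
    have hidx4 : (Subgroup.zpowers (g' ^ 2)).index = 4 := by
      have h1 := (Subgroup.zpowers (g' ^ 2)).card_mul_index
      rw [Nat.card_zpowers, orderOf_pow' g' two_ne_zero, hm, hP,
        Nat.gcd_eq_right (dvd_pow_self 2 (by omega)),
        show 2 ^ (n - 1) = 2 ^ (n - 2) * 2 by rw [← pow_succ]; congr 1; omega,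
        Nat.mul_div_cancel _ two_pos, show 2 ^ n = 2 ^ (n - 2) * 4 by
          rw [show (4 : ℕ) = 2 ^ 2 from rfl, ← pow_add]; congr 1; omega] at h1
      exact Nat.eq_of_mul_eq_mul_left (Nat.two_pow_pos _) h1
    show (commutator ↥(P : Subgroup G)).index = 4
    rw [le_antisymm (PGroups.commutator_le_of_index_dvd_sq (p := 2) _ (by rw [hidx4]; norm_num))
      (Subgroup.zpowers_le.2 h2mem), hidx4]

end Cfsg.Agent.H86
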