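import Cfsg.Agent.H86.HomocyclicFusion
import Cfsg.Agent.H86.IrrOps
import Cfsg.Agent.H83.PrincipalPair
import Cfsg.Agent.H85.CharAux

/-!
# The integer vectors attached to the columns of the principal block

For an abelian Sylow 2-subgroup with a rotor, the multiplicities of a linear character `a` of `P`
in the principal characters, minus those of the trivial character, form vectors of norm 4.
-/

set_option linter.unusedSectionVars false

open scoped ComplexConjugate

namespace Cfsg.Agent.H86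

open CharBasic BlockBasic Subgroup

universe u

variable {G : Type u} [Group G] [Finite G]

/-- A linear character is multiplicative. -/
theorem apply_mul_of_one {χ : G → ℂ} (h : IsIrrCharacter G χ) (h1 : χ 1 = 1) (g g' : G) :
    χ (g * g') = χ g * χ g' := by
  obtain ⟨n, ρ, hρ, rfl⟩ := h
  rw [Representation.char_one, Module.finrank_fin_fun, Nat.cast_eq_one] at h1
  subst h1
  simp only [Representation.character, map_mul]
  rw [LinearMap.trace_eq_matrix_trace ℂ (Pi.basisFun ℂ (Fin 1)),
    LinearMap.trace_eq_matrix_trace ℂ (Pi.basisFun ℂ (Fin 1)),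
    LinearMap.trace_eq_matrix_trace ℂ (Pi.basisFun ℂ (Fin 1)), LinearMap.toMatrix_mul,
    Matrix.trace_fin_one, Matrix.trace_fin_one, Matrix.trace_fin_one, Matrix.mul_apply,
    Fin.sum_univ_one]

variable (P : Sylow 2 G) [hab : IsMulCommutative (P : Subgroup G)]

/-- The trivial character of `P`. -/
noncomputable def triv : IrrCharacter (P : Subgroup G) := trivialIrr

theorem triv_apply (y : (P : Subgroup G)) : (triv P : ↥(P : Subgroup G) → ℂ) y = 1 := rfl

theorem sylow_lin (a : IrrCharacter (P : Subgroup G)) : (a : ↥(P : Subgroup G) → ℂ) 1 = 1 :=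
  H85.apply_one_eq_one_of_comm a

theorem sylow_mul (a : IrrCharacter (P : Subgroup G)) (y z : (P : Subgroup G)) :
    (a : ↥(P : Subgroup G) → ℂ) (y * z) = (a : ↥(P : Subgroup G) → ℂ) y * (a : ↥(P : Subgroup G) → ℂ) z :=
  apply_mul_of_one a.2 (sylow_lin P a) y z

/-- Multiplicity of `a` in the restriction of `χ`. -/
noncomputable def pMult [Fintype (P : Subgroup G)] (χ : IrrCharacter G)
    (a : IrrCharacter (P : Subgroup G)) : ℕ :=
  (classInner_isChar_nat (isCharacter_comp (IsIrr.isCharacter χ.2) (P : Subgroup G).subtype)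
    (IsIrr.isCharacter a.2)).choose

/-- The vector of `a`. -/
noncomputable def vec [Fintype (P : Subgroup G)] (a : IrrCharacter (P : Subgroup G))
    (χ : IrrCharacter G) : ℤ :=
  (pMult P χ a : ℤ) - (pMult P χ (triv P) : ℤ)

variable [Fintype (P : Subgroup G)]

theorem vec_spec (a : IrrCharacter (P : Subgroup G)) (χ : IrrCharacter G) :
    (vec P a χ : ℂ) = (Nat.card (P : Subgroup G) : ℂ)⁻¹ *
      ∑ y : (P : Subgroup G), (χ : G → ℂ) y * (conj ((a : ↥(P : Subgroup G) → ℂ) y) - 1) := by
  have h : ∀ b : IrrCharacter (P : Subgroup G), ((pMult P χ b : ℕ) : ℂ) =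
      (Nat.card (P : Subgroup G) : ℂ)⁻¹ *
        ∑ y : (P : Subgroup G), (χ : G → ℂ) y * conj ((b : ↥(P : Subgroup G) → ℂ) y) := fun b => by
    rw [← classInner_def]
    exact (classInner_isChar_nat (isCharacter_comp (IsIrr.isCharacter χ.2) (P : Subgroup G).subtype)
      (IsIrr.isCharacter b.2)).choose_spec.symm
  simp only [vec, Int.cast_sub, Int.cast_natCast, h, triv_apply, map_one, mul_one, mul_sub,
    Finset.sum_sub_distrib]

theorem vec_triv (χ : IrrCharacter G) : vec P (triv P) χ = 0 := sub_self _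

theorem sum_irr_apply {y : (P : Subgroup G)} (hy : y ≠ 1) :
    ∑ a : IrrCharacter (P : Subgroup G), (a : ↥(P : Subgroup G) → ℂ) y = 0 := by
  classical
  have h := sum_degree_mul_apply (G := (P : Subgroup G)) y
  simp only [sylow_lin, one_mul, if_neg hy] at h
  exact h

/-- Values on `P \ {1}` from the vectors. -/
theorem apply_eq_sum_vec (χ : IrrCharacter G) {y : (P : Subgroup G)} (hy : y ≠ 1) :
    (χ : G → ℂ) y = ∑ a : IrrCharacter (P : Subgroup G), (vec P a χ : ℂ) * (a : ↥(P : Subgroup G) → ℂ) y := by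
  have hθ : IsClassFunction (P : Subgroup G) (fun z : (P : Subgroup G) => (χ : G → ℂ) z) :=
    fun z w => IsIrr.isClassFunction χ.2 (z : G) (w : G)
  have h := congrFun (classFunction_expansion hθ) y
  simp only [Finset.sum_apply, Pi.smul_apply, smul_eq_mul] at h
  have hm : ∀ a : IrrCharacter (P : Subgroup G),
      classInner (fun z : (P : Subgroup G) => (χ : G → ℂ) z) (a : ↥(P : Subgroup G) → ℂ) = (pMult P χ a : ℂ) :=
    fun a => (classInner_isChar_nat (isCharacter_comp (IsIrr.isCharacter χ.2) (P : Subgroup G).subtype)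
      (IsIrr.isCharacter a.2)).choose_spec
  simp only [hm] at h
  simp only [vec, Int.cast_sub, Int.cast_natCast, sub_mul, Finset.sum_sub_distrib, ← Finset.mul_sum,
    sum_irr_apply P hy, mul_zero, sub_zero]
  exact h

theorem sum_conj_apply {a : IrrCharacter (P : Subgroup G)} (ha : a ≠ triv P) :
    ∑ y : (P : Subgroup G), conj ((a : ↥(P : Subgroup G) → ℂ) y) = 0 := by
  rw [← map_sum, H85.sum_apply_eq_zero a (fun h => ha (Subtype.ext h)), map_zero]

theorem vec_trivialIrr {a : IrrCharacter (P : Subgroup G)} (ha : a ≠ triv P) :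
    vec P a trivialIrr = -1 := by
  have h := vec_spec P a trivialIrr
  simp only [trivialIrr, one_mul, Finset.sum_sub_distrib, sum_conj_apply P ha] at h
  rw [Finset.sum_const, Finset.card_univ, ← Nat.card_eq_fintype_card, nsmul_eq_mul, mul_one,
    zero_sub, mul_neg, inv_mul_cancel₀ (Nat.cast_ne_zero.2 Nat.card_pos.ne')] at h
  exact_mod_cast h

variable {g : G} (hg : Rotor P g)

/-- The powers of the rotor as automorphisms of `P`. -/
def rot (hg : Rotor P g) (i : ℕ) : (P : Subgroup G) ≃* (P : Subgroup G) :=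
  H62.conjAut (P : Subgroup G) (pow_mem hg.mem i)

theorem rot_coe (i : ℕ) (y : (P : Subgroup G)) :
    ((rot P hg i y : (P : Subgroup G)) : G) = g ^ i * (y : G) * (g ^ i)⁻¹ :=
  H62.conjAut_coe _ _ _

/-- The action of the rotor on characters. -/
noncomputable def rotIrr (hg : Rotor P g) (i : ℕ) (a : IrrCharacter (P : Subgroup G)) :
    IrrCharacter (P : Subgroup G) :=
  H83.irrComp (rot P hg i) a

theorem rotIrr_apply (i : ℕ) (a : IrrCharacter (P : Subgroup G)) (y : (P : Subgroup G)) :
    (rotIrr P hg i a : ↥(P : Subgroup G) → ℂ) y = (a : ↥(P : Subgroup G) → ℂ) (rot P hg i y) := rfl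

theorem rot_zero (y : (P : Subgroup G)) : rot P hg 0 y = y :=
  Subtype.ext (by rw [rot_coe]; simp)

theorem rot_rot (i j : ℕ) (y : (P : Subgroup G)) :
    rot P hg i (rot P hg j y) = rot P hg (i + j) y :=
  Subtype.ext (by simp only [rot_coe, pow_add]; group)

theorem rot_three (i : ℕ) (y : (P : Subgroup G)) : rot P hg (i + 3) y = rot P hg i y := by
  rw [← rot_rot P hg i 3]
  congr 1
  refine Subtype.ext ?_
  rw [rot_coe, ← mem_centralizer_iff.1 hg.cube (y : G) y.2, mul_inv_cancel_right]

theorem rot_mod (i : ℕ) (y : (P : Subgroup G)) : rot P hg i y = rot P hg (i % 3) y := by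
  induction i using Nat.strong_induction_on with
  | _ i ih =>
    rcases Nat.lt_or_ge i 3 with h | h
    · rw [Nat.mod_eq_of_lt h]
    · conv_lhs => rw [← Nat.sub_add_cancel h, rot_three, ih (i - 3) (by omega)]
      rw [Nat.mod_eq_sub_mod h]

variable (h4 : Nat.card {x : (P : Subgroup G) // x ^ 2 = 1} ≤ 4)

include h4 in
theorem rot_ne {i : ℕ} (hi : i % 3 ≠ 0) {y : (P : Subgroup G)} (hy : y ≠ 1) : rot P hg i y ≠ y := by
  intro h
  have h' := congrArg Subtype.val h
  rw [rot_coe] at h'
  have hc := fix_of_normalizer P h4 (pow_mem hg.mem i) y.2 (fun h => hy (Subtype.ext h)) h'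
  have hmul : ∀ k : ℕ, g ^ (3 * k) ∈ centralizer ((P : Subgroup G) : Set G) := fun k => by
    rw [pow_mul]; exact pow_mem hg.cube k
  rw [← Nat.div_add_mod i 3, pow_add] at hc
  have hr := (Subgroup.mul_mem_cancel_left _ (hmul _)).1 hc
  have : i % 3 = 1 ∨ i % 3 = 2 := by omega
  rcases this with e | e <;> rw [e] at hr
  · exact hg.not_mem (by simpa using hr)
  · refine hg.not_mem ?_
    have := mul_mem hg.cube (inv_mem hr)
    rwa [show g ^ 3 * (g ^ 2)⁻¹ = g by group] at this

include h4 in
theorem rot_injective_idx {i j : ℕ} (hi : i < 3) (hj : j < 3) {y : (P : Subgroup G)} (hy : y ≠ 1)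
    (h : rot P hg i y = rot P hg j y) : i = j := by
  by_contra hne
  have h2 : rot P hg ((3 - i) + j) y = y := by
    rw [← rot_rot, ← h, rot_rot, rot_mod, show (3 - i + i) % 3 = 0 by omega, rot_zero]
  exact rot_ne P hg h4 (by omega) hy h2

include hg in
/-- Fusion in `P`. -/
theorem exists_rot_of_isConj {y z : (P : Subgroup G)} (h : IsConj (y : G) (z : G)) :
    ∃ i : Fin 3, rot P hg i y = z := by
  haveI : Fact (Nat.Prime 2) := ⟨Nat.prime_two⟩
  obtain ⟨c, hc⟩ := isConj_iff.1 h
  obtain ⟨n, hn, hneq⟩ := P.conj_eq_normalizer_conj_of_mem (y : G) c⁻¹ y.2 (by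
    rw [inv_inv, hc]; exact z.2)
  rw [inv_inv, hc] at hneq
  obtain ⟨i, hi⟩ := hg.cover n⁻¹ (inv_mem hn)
  refine ⟨i, Subtype.ext ?_⟩
  rw [rot_coe, hneq]
  have hcomm := mem_centralizer_iff.1 hi (y : G) y.2
  calc g ^ (i : ℕ) * (y : G) * (g ^ (i : ℕ))⁻¹
      = g ^ (i : ℕ) * ((y : G) * ((g ^ (i : ℕ))⁻¹ * n⁻¹)) * n := by group
    _ = n⁻¹ * (y : G) * n := by rw [hcomm]; group

variable {M : Ideal AlgInt}

include h4 in
open scoped Classical in
/-- The principal kernel on `P`. -/
theorem kernel_sylow (hM : IsPModular 2 M) {y z : (P : Subgroup G)} (hy : y ≠ 1) :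
    blockKernel (principalBlock M G) (y : G) (z : G) =
      (Nat.card (P : Subgroup G) : ℂ) * ∑ i : Fin 3, if z = rot P hg i y then 1 else 0 := by
  haveI : Fact (Nat.Prime 2) := ⟨Nat.prime_two⟩
  have hord : ∀ w : (P : Subgroup G), ∃ k, orderOf (w : G) = 2 ^ k := fun w => by
    obtain ⟨k, hk⟩ := IsPGroup.iff_orderOf.1 P.isPGroup' w
    exact ⟨k, by rw [Subgroup.orderOf_coe, hk]⟩
  by_cases hc : IsConj (y : G) (z : G)
  · obtain ⟨i, hi⟩ := exists_rot_of_isConj P hg hc
    rw [Finset.sum_eq_single i (fun j _ hne => if_neg fun h => hne (Fin.ext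
      (rot_injective_idx P hg h4 j.2 i.2 hy (h.symm.trans hi.symm)))) (by simp), if_pos hi.symm,
      mul_one]
    have hn := pNilAt_of_mem P h4 y.2 (fun h => hy (Subtype.ext h))
    have hs := sum_sq_principal hM (hord y) hn
    obtain ⟨c, hc'⟩ := isConj_iff.1 hc
    rw [show blockKernel (principalBlock M G) (y : G) (z : G) =
      blockKernel (principalBlock M G) (y : G) (y : G) from finsum_mem_congr rfl fun χ _ => by
        rw [← hc', IsIrr.isClassFunction χ.2], hs, P.card_eq_multiplicity, Nat.cast_pow]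
    congr 1
    refine le_antisymm ?_ ?_
    · exact (Nat.factorization_le_iff_dvd Nat.card_pos.ne' Nat.card_pos.ne').2
        (Subgroup.card_subgroup_dvd_card _) 2
    · refine (Nat.Prime.pow_dvd_iff_le_factorization Nat.prime_two Nat.card_pos.ne').1 ?_
      rw [← P.card_eq_multiplicity]
      exact Subgroup.card_dvd_of_le fun w hw =>
        mem_centralizer_singleton_iff.2 (mul_comm_sylow P hw y.2)
  · rw [Finset.sum_eq_zero, mul_zero]
    · refine blockKernel_eq_zero hM (isPBlock_principalBlock M) ?_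
      rwa [(pPart_eq_self_iff _).2 (hord y), (pPart_eq_self_iff _).2 (hord z)]
    · intro i _
      refine if_neg fun h => hc ?_
      rw [h, rot_coe]
      exact isConj_iff.2 ⟨_, rfl⟩

include h4 in
open scoped Classical in
/-- The inner products of the vectors. -/
theorem gram [Fintype G] (hM : IsPModular 2 M) {a b : IrrCharacter (P : Subgroup G)}
    (ha : a ≠ triv P) (hb : b ≠ triv P) :
    ∑ χ : {χ : IrrCharacter G // χ ∈ principalBlock M G}, vec P a χ.1 * vec P b χ.1 =
      ∑ i : Fin 3, ((if rotIrr P hg i b = a then 1 else 0) + 1) := by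
  set q := (Nat.card (P : Subgroup G) : ℂ)
  have hq : q ≠ 0 := Nat.cast_ne_zero.2 Nat.card_pos.ne'
  have hvb : ∀ χ : IrrCharacter G, (vec P b χ : ℂ) =
      q⁻¹ * ∑ z : (P : Subgroup G), conj ((χ : G → ℂ) z) * ((b : ↥(P : Subgroup G) → ℂ) z - 1) := fun χ => by
    rw [show (vec P b χ : ℂ) = conj ((vec P b χ : ℤ) : ℂ) from (map_intCast _ _).symm, vec_spec, map_mul, map_inv₀, Complex.conj_natCast, map_sum]
    simp only [map_mul, map_sub, map_one, Complex.conj_conj]
    rfl
  have key : ∀ y : (P : Subgroup G), (conj ((a : ↥(P : Subgroup G) → ℂ) y) - 1) *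
      ∑ z : (P : Subgroup G), ((b : ↥(P : Subgroup G) → ℂ) z - 1) * blockKernel (principalBlock M G) (y : G) (z : G) =
      (conj ((a : ↥(P : Subgroup G) → ℂ) y) - 1) * (q * ∑ i : Fin 3, ((rotIrr P hg i b : ↥(P : Subgroup G) → ℂ) y - 1)) := by
    intro y
    rcases eq_or_ne y 1 with rfl | hy
    · simp [sylow_lin P a]
    congr 1
    rw [Finset.sum_congr rfl fun z _ => by rw [kernel_sylow P hg h4 hM hy]]
    simp only [Finset.mul_sum, mul_ite, mul_one, mul_zero]
    rw [Finset.sum_comm]
    refine Finset.sum_congr rfl fun i _ => ?_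
    rw [Finset.sum_ite_eq' Finset.univ (rot P hg i y), if_pos (Finset.mem_univ _), rotIrr_apply]
    exact mul_comm _ _
  have hinner : ∀ i : Fin 3, q⁻¹ * ∑ y : (P : Subgroup G),
      (conj ((a : ↥(P : Subgroup G) → ℂ) y) - 1) * ((rotIrr P hg i b : ↥(P : Subgroup G) → ℂ) y - 1) =
      (if rotIrr P hg i b = a then 1 else 0) + 1 := by
    intro i
    have hbi : rotIrr P hg i b ≠ triv P := fun h => hb (Subtype.ext (funext fun w => by
      obtain ⟨v, rfl⟩ := (rot P hg i).surjective w
      exact congrFun (congrArg Subtype.val h) v))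
    rw [← classInner_irrCharacter (rotIrr P hg i b) a, classInner_def]
    have h0 : ∑ y : (P : Subgroup G), (rotIrr P hg i b : ↥(P : Subgroup G) → ℂ) y = 0 :=
      H85.sum_apply_eq_zero _ fun h => hbi (Subtype.ext h)
    rw [Finset.sum_congr rfl (g := fun y => (rotIrr P hg i b : ↥(P : Subgroup G) → ℂ) y * conj ((a : ↥(P : Subgroup G) → ℂ) y) -
      (rotIrr P hg i b : ↥(P : Subgroup G) → ℂ) y - conj ((a : ↥(P : Subgroup G) → ℂ) y) + 1) (fun y _ => by ring),
      Finset.sum_add_distrib, Finset.sum_sub_distrib, Finset.sum_sub_distrib, h0,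
      sum_conj_apply P ha, sub_zero, sub_zero, Finset.sum_const, Finset.card_univ,
      ← Nat.card_eq_fintype_card, nsmul_eq_mul, mul_one, mul_add, inv_mul_cancel₀ hq]
  apply Int.cast_injective (α := ℂ)
  simp only [Int.cast_sum, Int.cast_mul, Int.cast_add, Int.cast_ite, Int.cast_one, Int.cast_zero,
    ← hinner]
  rw [← Finset.mul_sum, Finset.sum_comm]
  simp only [← Finset.mul_sum]
  calc ∑ χ : {χ : IrrCharacter G // χ ∈ principalBlock M G}, (vec P a χ.1 : ℂ) * (vec P b χ.1 : ℂ)
      = q⁻¹ * q⁻¹ * ∑ y : (P : Subgroup G), (conj ((a : ↥(P : Subgroup G) → ℂ) y) - 1) *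
          ∑ z : (P : Subgroup G),
            ((b : ↥(P : Subgroup G) → ℂ) z - 1) * blockKernel (principalBlock M G) (y : G) (z : G) := by
        simp only [vec_spec P a, hvb, blockKernel]
        have hker : ∀ y z : (P : Subgroup G), (∑ᶠ χ ∈ principalBlock M G,
            (χ : G → ℂ) y * conj ((χ : G → ℂ) z)) =
            ∑ χ : {χ : IrrCharacter G // χ ∈ principalBlock M G},
              (χ.1 : G → ℂ) y * conj ((χ.1 : G → ℂ) z) := fun y z => by
          rw [finsum_mem_eq_sum_ite, ← Finset.sum_filter]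
          exact Finset.sum_subtype _ (by simp) _
        simp only [hker, Finset.mul_sum, Finset.sum_mul]
        rw [Finset.sum_comm]
        refine (Finset.sum_congr rfl fun z _ => Finset.sum_comm).trans ?_
        rw [Finset.sum_comm]
        exact Finset.sum_congr rfl fun y _ => Finset.sum_congr rfl fun z _ =>
          Finset.sum_congr rfl fun χ _ => by ring
    _ = _ := by
        rw [Finset.sum_congr rfl fun y _ => key y, Finset.mul_sum, Finset.mul_sum]
        refine Finset.sum_congr rfl fun y _ => ?_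
        field_simp

open scoped Classical in
/-- The degree column is orthogonal to every vector. -/
theorem sum_degree_vec [Fintype G] (hM : IsPModular 2 M) {a : IrrCharacter (P : Subgroup G)} :
    ∑ χ : {χ : IrrCharacter G // χ ∈ principalBlock M G},
      (charDegree (χ.1 : G → ℂ) : ℤ) * vec P a χ.1 = 0 := by
  classical
  haveI : Fact (Nat.Prime 2) := ⟨Nat.prime_two⟩
  apply Int.cast_injective (α := ℂ)
  simp only [Int.cast_sum, Int.cast_mul, Int.cast_natCast, Int.cast_zero, vec_spec, Finset.mul_sum]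
  rw [Finset.sum_comm]
  refine Finset.sum_eq_zero fun y _ => ?_
  rcases eq_or_ne y 1 with rfl | hy
  · simp [sylow_lin P a]
  have h0 : blockKernel (principalBlock M G) (y : G) 1 = 0 := by
    refine blockKernel_eq_zero hM (isPBlock_principalBlock M) fun hc => hy (Subtype.ext ?_)
    obtain ⟨k, hk⟩ := IsPGroup.iff_orderOf.1 P.isPGroup' y
    rw [(pPart_eq_self_iff _).2 ⟨k, by rw [Subgroup.orderOf_coe, hk]⟩,
      (pPart_eq_one_iff (1 : G)).2 (by simp), isConj_one_left] at hc
    exact hc
  rw [blockKernel, finsum_mem_eq_sum_ite, ← Finset.sum_filter] at h0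
  have h1 : ∑ χ : {χ : IrrCharacter G // χ ∈ principalBlock M G},
      (χ.1 : G → ℂ) y * conj ((χ.1 : G → ℂ) 1) = 0 := by
    rw [← h0]
    exact (Finset.sum_subtype _ (fun χ => by simp) (fun χ : IrrCharacter G => (χ : G → ℂ) y * conj ((χ : G → ℂ) 1))).symm
  have hdeg : ∀ χ : IrrCharacter G, conj ((χ : G → ℂ) 1) = (charDegree (χ : G → ℂ) : ℂ) := fun χ => by
    rw [apply_one_eq_charDegree χ, Complex.conj_natCast]
  simp only [hdeg] at h1
  calc ∑ χ : {χ : IrrCharacter G // χ ∈ principalBlock M G}, (charDegree (χ.1 : G → ℂ) : ℂ) *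
        ((Nat.card (P : Subgroup G) : ℂ)⁻¹ * ((χ.1 : G → ℂ) y * (conj ((a : ↥(P : Subgroup G) → ℂ) y) - 1)))
      = (∑ χ : {χ : IrrCharacter G // χ ∈ principalBlock M G},
          (χ.1 : G → ℂ) y * (charDegree (χ.1 : G → ℂ) : ℂ)) *
          ((Nat.card (P : Subgroup G) : ℂ)⁻¹ * (conj ((a : ↥(P : Subgroup G) → ℂ) y) - 1)) := by
        rw [Finset.sum_mul]
        exact Finset.sum_congr rfl fun χ _ => by ring
    _ = 0 := by rw [h1, zero_mul]

end Cfsg.Agent.H86
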