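import Cfsg.Agent.H86.SectionFun
import Cfsg.Agent.H86.IrrOps
import Cfsg.Agent.H83.PrincipalPair
import Cfsg.Agent.H85.CharAux
import Cfsg.Agent.Fusion.Complements
import Cfsg.Agent.H86.HomocyclicVectors

/-!
# Columns of the principal block for an abelian Sylow subgroup with free fusion

`P` is an abelian Sylow `p`-subgroup such that an element of the normalizer fixing a nontrivial
element of `P` centralizes `P`.  For a linear character `a` of `P` the multiplicities of `a` in
the principal characters, minus those of the trivial character, form a vector; two such vectors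
have inner product `m + 1` or `m`, `m` being the index of the centralizer in the normalizer.
-/

set_option linter.unusedSectionVars false

open scoped ComplexConjugate

namespace Cfsg.Agent.H86.Abelian

open CharBasic BlockBasic Subgroup

universe u

variable {G : Type u} [Group G] [Finite G] {p : ℕ} [hp : Fact p.Prime]
variable (P : Sylow p G)

/-- The normalizer acts freely modulo the centralizer on `P \ {1}`. -/
def FreeFusion : Prop :=
  ∀ n ∈ normalizer (P : Set G), ∀ x ∈ (P : Subgroup G), x ≠ 1 → n * x * n⁻¹ = x →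
    n ∈ centralizer ((P : Subgroup G) : Set G)

variable [hab : IsMulCommutative (P : Subgroup G)]

theorem mul_comm_sylow {x y : G} (hx : x ∈ (P : Subgroup G)) (hy : y ∈ (P : Subgroup G)) :
    x * y = y * x :=
  congrArg Subtype.val (mul_comm' (⟨x, hx⟩ : (P : Subgroup G)) ⟨y, hy⟩)

theorem exists_orderOf (y : (P : Subgroup G)) : ∃ k, orderOf (y : G) = p ^ k := by
  obtain ⟨k, hk⟩ := IsPGroup.iff_orderOf.1 P.isPGroup' y
  exact ⟨k, by rw [Subgroup.orderOf_coe, hk]⟩

theorem pNilAt_of_mem (hfix : FreeFusion P) {x : G} (hx : x ∈ (P : Subgroup G)) (hx1 : x ≠ 1) :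
    PNilAt p x := by
  set C := centralizer ({x} : Set G)
  have hPC : (P : Subgroup G) ≤ C := fun y hy =>
    mem_centralizer_singleton_iff.2 (mul_comm_sylow P hy hx)
  set Q := P.subtype hPC
  have hmem : ∀ y : C, y ∈ (Q : Subgroup C) ↔ (y : G) ∈ (P : Subgroup G) := fun y => Iff.rfl
  have hle : normalizer ((Q : Subgroup C) : Set C) ≤ centralizer ((Q : Subgroup C) : Set C) := by
    intro c hc
    have hcN : (c : G) ∈ normalizer (P : Set G) := by
      refine mem_normalizer_iff.mpr fun y => ?_
      constructor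
      · intro hy
        exact (hmem _).1 ((mem_normalizer_iff.mp hc ⟨y, hPC hy⟩).1 ((hmem _).2 hy))
      · intro hy
        have hy' : y ∈ C := by
          have := C.mul_mem (C.mul_mem (C.inv_mem c.2) (hPC hy)) c.2
          simpa [mul_assoc] using this
        exact (hmem _).1 ((mem_normalizer_iff.mp hc ⟨y, hy'⟩).2 ((hmem _).2 hy))
    have h := hfix _ hcN x hx hx1
      (mul_inv_eq_iff_eq_mul.mpr (mem_centralizer_singleton_iff.1 c.2))
    exact mem_centralizer_iff.2 fun y hy => Subtype.ext (mem_centralizer_iff.1 h y ((hmem y).1 hy))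
  obtain ⟨Q', N, hN, hc⟩ := Fusion.hasNormalPComplement_of_normalizer_le_centralizer Q hle
  obtain ⟨k, hk⟩ := IsPGroup.iff_card.1 Q'.isPGroup'
  have hidx : N.index = p ^ k := by rw [hc.symm.index_eq_card]; exact hk
  have hNp : ¬ p ∣ Nat.card N := Fusion.not_dvd_card_of_isComplement' Q' hc
  have hle2 : N ≤ pPrimeCore p C :=
    Cores.le_pPrimeCore (Nat.Coprime.symm ((hp.out.coprime_iff_not_dvd).2 hNp))
  exact (Nat.dvd_prime_pow hp.out).1 (hidx ▸ Subgroup.index_dvd_of_le hle2) |>.imp fun _ h => h.2

/-- The trivial character of `P`. -/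
noncomputable def triv : IrrCharacter (P : Subgroup G) := trivialIrr

theorem triv_apply (y : (P : Subgroup G)) : (triv P : ↥(P : Subgroup G) → ℂ) y = 1 := rfl

theorem lin (a : IrrCharacter (P : Subgroup G)) : (a : ↥(P : Subgroup G) → ℂ) 1 = 1 :=
  H85.apply_one_eq_one_of_comm a

theorem lin_mul (a : IrrCharacter (P : Subgroup G)) (y z : (P : Subgroup G)) :
    (a : ↥(P : Subgroup G) → ℂ) (y * z) =
      (a : ↥(P : Subgroup G) → ℂ) y * (a : ↥(P : Subgroup G) → ℂ) z :=
  apply_mul_of_one a.2 (lin P a) y z

/-- Conjugation by an element of the normalizer. -/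
def act (n : normalizer (P : Set G)) : (P : Subgroup G) ≃* (P : Subgroup G) :=
  H62.conjAut (P : Subgroup G) n.2

theorem act_coe (n : normalizer (P : Set G)) (y : (P : Subgroup G)) :
    ((act P n y : (P : Subgroup G)) : G) = (n : G) * (y : G) * (n : G)⁻¹ :=
  H62.conjAut_coe _ _ _

theorem act_mul (n k : normalizer (P : Set G)) (y : (P : Subgroup G)) :
    act P (n * k) y = act P n (act P k y) :=
  Subtype.ext (by simp only [act_coe, Subgroup.coe_mul]; group)

theorem act_eq_self_of_mem {n : normalizer (P : Set G)}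
    (hn : (n : G) ∈ centralizer ((P : Subgroup G) : Set G)) (y : (P : Subgroup G)) :
    act P n y = y :=
  Subtype.ext (by rw [act_coe, ← mem_centralizer_iff.1 hn (y : G) y.2, mul_inv_cancel_right])

/-- The conjugate of a character. -/
noncomputable def actIrr (n : normalizer (P : Set G)) (a : IrrCharacter (P : Subgroup G)) :
    IrrCharacter (P : Subgroup G) :=
  H83.irrComp (act P n) a

theorem actIrr_apply (n : normalizer (P : Set G)) (a : IrrCharacter (P : Subgroup G))
    (y : (P : Subgroup G)) :
    (actIrr P n a : ↥(P : Subgroup G) → ℂ) y = (a : ↥(P : Subgroup G) → ℂ) (act P n y) := rfl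

theorem actIrr_mul (n k : normalizer (P : Set G)) (a : IrrCharacter (P : Subgroup G)) :
    actIrr P k (actIrr P n a) = actIrr P (n * k) a :=
  Subtype.ext (funext fun y => by simp only [actIrr_apply, act_mul])

theorem actIrr_one (a : IrrCharacter (P : Subgroup G)) : actIrr P 1 a = a :=
  Subtype.ext (funext fun y => by rw [actIrr_apply, act_eq_self_of_mem P (one_mem _)])

theorem actIrr_ne_triv {a : IrrCharacter (P : Subgroup G)} (ha : a ≠ triv P)
    (n : normalizer (P : Set G)) : actIrr P n a ≠ triv P := fun h =>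
  ha (Subtype.ext (funext fun w => by
    obtain ⟨v, rfl⟩ := (act P n).surjective w
    exact congrFun (congrArg Subtype.val h) v))

/-- Only the centralizer fixes a nontrivial linear character. -/
theorem mem_centralizer_of_fix (hfix : FreeFusion P) {a : IrrCharacter (P : Subgroup G)}
    (ha : a ≠ triv P) {n : normalizer (P : Set G)} (h : actIrr P n a = a) :
    (n : G) ∈ centralizer ((P : Subgroup G) : Set G) := by
  by_contra hn
  have hinj : Function.Injective fun z : (P : Subgroup G) => act P n z * z⁻¹ := by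
    intro z w hzw
    by_contra hzw'
    refine hn (hfix _ n.2 ((z * w⁻¹ : (P : Subgroup G)) : G) (z * w⁻¹).2 ?_ ?_)
    · exact fun e => hzw' (mul_inv_eq_one.1 (Subtype.ext e))
    · rw [← act_coe]
      refine congrArg Subtype.val ?_
      have h2 : act P n z = act P n w * (w⁻¹ * z) := by
        rw [← mul_assoc]; exact mul_inv_eq_iff_eq_mul.1 hzw
      rw [map_mul, map_inv, h2, mul_comm' (act P n w) (w⁻¹ * z), mul_assoc, mul_inv_cancel,
        mul_one, mul_comm' w⁻¹ z]
  apply ha
  refine Subtype.ext (funext fun z => ?_)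
  obtain ⟨w, rfl⟩ := Finite.surjective_of_injective hinj z
  rw [triv_apply, lin_mul, ← actIrr_apply, h, ← lin_mul, mul_inv_cancel, lin]

variable [Fintype (P : Subgroup G)] [Fintype (normalizer (P : Set G))]

open scoped Classical in
/-- The orbit of a character. -/
noncomputable def orb (a : IrrCharacter (P : Subgroup G)) :
    Finset (IrrCharacter (P : Subgroup G)) :=
  Finset.univ.image fun n : normalizer (P : Set G) => actIrr P n a

theorem mem_orb {a b : IrrCharacter (P : Subgroup G)} :
    b ∈ orb P a ↔ ∃ n : normalizer (P : Set G), actIrr P n a = b := by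
  classical simp [orb]

theorem self_mem_orb (a : IrrCharacter (P : Subgroup G)) : a ∈ orb P a :=
  (mem_orb P).2 ⟨1, actIrr_one P a⟩

open scoped Classical in
theorem card_fix (hfix : FreeFusion P) {a b : IrrCharacter (P : Subgroup G)}
    (ha : a ≠ triv P) (hb : b ∈ orb P a) :
    (Finset.univ.filter fun n : normalizer (P : Set G) => actIrr P n a = b).card =
      Nat.card (centralizer ((P : Subgroup G) : Set G)) := by
  obtain ⟨k, rfl⟩ := (mem_orb P).1 hb
  rw [← Fintype.card_subtype, ← Nat.card_eq_fintype_card]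
  have hCN : centralizer ((P : Subgroup G) : Set G) ≤ normalizer (P : Set G) :=
    centralizer_le_normalizer _
  refine Nat.card_congr
    { toFun := fun n => ⟨((n.1 * k⁻¹ : normalizer (P : Set G)) : G), ?_⟩
      invFun := fun c => ⟨⟨(c : G), hCN c.2⟩ * k, ?_⟩
      left_inv := fun n => Subtype.ext (Subtype.ext (by simp [mul_assoc]))
      right_inv := fun c => Subtype.ext (by simp [mul_assoc]) }
  · refine mem_centralizer_of_fix P hfix ha ?_
    rw [← actIrr_mul, n.2, actIrr_mul, mul_inv_cancel, actIrr_one]
  · rw [← actIrr_mul]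
    congr 1
    exact Subtype.ext (funext fun y => by rw [actIrr_apply, act_eq_self_of_mem P c.2])

theorem card_orb (hfix : FreeFusion P) {a : IrrCharacter (P : Subgroup G)} (ha : a ≠ triv P) :
    (orb P a).card =
      (centralizer ((P : Subgroup G) : Set G)).relIndex (normalizer (P : Set G)) := by
  classical
  have h := Finset.card_eq_sum_card_image
    (fun n : normalizer (P : Set G) => actIrr P n a) Finset.univ
  rw [Finset.sum_congr rfl (g := fun _ => Nat.card (centralizer ((P : Subgroup G) : Set G)))
      (fun b hb => by convert card_fix P hfix ha hb), Finset.sum_const, smul_eq_mul,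
    Finset.card_univ, ← Nat.card_eq_fintype_card,
    ← Subgroup.index_mul_card ((centralizer ((P : Subgroup G) : Set G)).subgroupOf (normalizer (P : Set G))),
    Nat.card_congr (Subgroup.subgroupOfEquivOfLe
      (show centralizer ((P : Subgroup G) : Set G) ≤ normalizer (P : Set G) from
        centralizer_le_normalizer _)).toEquiv] at h
  exact (Nat.eq_of_mul_eq_mul_right Nat.card_pos h).symm

theorem eq_orb_of_mem {a b : IrrCharacter (P : Subgroup G)} (hb : b ∈ orb P a) : orb P b = orb P a := by
  obtain ⟨k, rfl⟩ := (mem_orb P).1 hb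
  ext c
  simp only [mem_orb, actIrr_mul]
  constructor
  · rintro ⟨n, rfl⟩; exact ⟨k * n, rfl⟩
  · rintro ⟨n, rfl⟩; exact ⟨k⁻¹ * n, by rw [mul_inv_cancel_left]⟩

/-- Multiplicity of `a` in the restriction of `χ`. -/
noncomputable def pMult (χ : IrrCharacter G) (a : IrrCharacter (P : Subgroup G)) : ℕ :=
  (classInner_isChar_nat (isCharacter_comp (IsIrr.isCharacter χ.2) (P : Subgroup G).subtype)
    (IsIrr.isCharacter a.2)).choose

/-- The vector of `a`. -/
noncomputable def vec (a : IrrCharacter (P : Subgroup G)) (χ : IrrCharacter G) : ℤ :=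
  (pMult P χ a : ℤ) - (pMult P χ (triv P) : ℤ)

theorem pMult_spec (χ : IrrCharacter G) (a : IrrCharacter (P : Subgroup G)) :
    classInner (fun z : (P : Subgroup G) => (χ : G → ℂ) z) (a : ↥(P : Subgroup G) → ℂ) =
      (pMult P χ a : ℂ) :=
  (classInner_isChar_nat (isCharacter_comp (IsIrr.isCharacter χ.2) (P : Subgroup G).subtype)
    (IsIrr.isCharacter a.2)).choose_spec

theorem vec_spec (a : IrrCharacter (P : Subgroup G)) (χ : IrrCharacter G) :
    (vec P a χ : ℂ) = (Nat.card (P : Subgroup G) : ℂ)⁻¹ *
      ∑ y : (P : Subgroup G), (χ : G → ℂ) y * (conj ((a : ↥(P : Subgroup G) → ℂ) y) - 1) := by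
  simp only [vec, Int.cast_sub, Int.cast_natCast, ← pMult_spec, classInner_def, triv_apply, map_one,
    mul_one, mul_sub, Finset.sum_sub_distrib]

theorem vec_triv (χ : IrrCharacter G) : vec P (triv P) χ = 0 := sub_self _

theorem sum_irr_apply {y : (P : Subgroup G)} (hy : y ≠ 1) :
    ∑ a : IrrCharacter (P : Subgroup G), (a : ↥(P : Subgroup G) → ℂ) y = 0 := by
  classical
  have h := sum_degree_mul_apply (G := (P : Subgroup G)) y
  simp only [lin, one_mul, if_neg hy] at h
  exact h

/-- Values on `P \ {1}` from the vectors. -/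
theorem apply_eq_sum_vec (χ : IrrCharacter G) {y : (P : Subgroup G)} (hy : y ≠ 1) :
    (χ : G → ℂ) y =
      ∑ a : IrrCharacter (P : Subgroup G), (vec P a χ : ℂ) * (a : ↥(P : Subgroup G) → ℂ) y := by
  have hθ : IsClassFunction (P : Subgroup G) (fun z : (P : Subgroup G) => (χ : G → ℂ) z) :=
    fun z w => IsIrr.isClassFunction χ.2 (z : G) (w : G)
  have h := congrFun (classFunction_expansion hθ) y
  simp only [Finset.sum_apply, Pi.smul_apply, smul_eq_mul, pMult_spec] at h
  simp only [vec, Int.cast_sub, Int.cast_natCast, sub_mul, Finset.sum_sub_distrib, ← Finset.mul_sum,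
    sum_irr_apply P hy, mul_zero, sub_zero]
  exact h

theorem sum_conj_apply {a : IrrCharacter (P : Subgroup G)} (ha : a ≠ triv P) :
    ∑ y : (P : Subgroup G), conj ((a : ↥(P : Subgroup G) → ℂ) y) = 0 := by
  rw [← map_sum, H85.sum_apply_eq_zero a (fun h => ha (Subtype.ext h)), map_zero]

theorem vec_trivialIrr {a : IrrCharacter (P : Subgroup G)} (ha : a ≠ triv P) :
    vec P a trivialIrr = -1 := by
  have h := vec_spec P a trivialIrr
  simp only [trivialIrr, one_mul, Finset.sum_sub_distrib, sum_conj_apply P ha] at h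
  rw [Finset.sum_const, Finset.card_univ, ← Nat.card_eq_fintype_card, nsmul_eq_mul, mul_one,
    zero_sub, mul_neg, inv_mul_cancel₀ (Nat.cast_ne_zero.2 Nat.card_pos.ne')] at h
  exact_mod_cast h

variable {M : Ideal AlgInt}

/-- The principal kernel summed against a function on `P`. -/
theorem sum_kernel (hM : IsPModular p M) (hfix : FreeFusion P) {y : (P : Subgroup G)} (hy : y ≠ 1)
    (f : ↥(P : Subgroup G) → ℂ) :
    (Nat.card (centralizer ((P : Subgroup G) : Set G)) : ℂ) *
      ∑ z : (P : Subgroup G), f z * blockKernel (principalBlock M G) (y : G) (z : G) =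
      (Nat.card (P : Subgroup G) : ℂ) * ∑ n : normalizer (P : Set G), f (act P n y) := by
  classical
  have hy' : (y : G) ≠ 1 := fun h => hy (Subtype.ext h)
  have hn := pNilAt_of_mem P hfix y.2 hy'
  have hK : ∀ z : (P : Subgroup G), IsConj (y : G) (z : G) →
      blockKernel (principalBlock M G) (y : G) (z : G) = (Nat.card (P : Subgroup G) : ℂ) := by
    intro z hc
    obtain ⟨c, hc'⟩ := isConj_iff.1 hc
    rw [show blockKernel (principalBlock M G) (y : G) (z : G) =
      blockKernel (principalBlock M G) (y : G) (y : G) from finsum_mem_congr rfl fun χ _ => by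
        rw [← hc', IsIrr.isClassFunction χ.2], sum_sq_principal hM (exists_orderOf P y) hn,
      P.card_eq_multiplicity, Nat.cast_pow]
    congr 1
    refine le_antisymm ?_ ?_
    · exact (Nat.factorization_le_iff_dvd Nat.card_pos.ne' Nat.card_pos.ne').2
        (Subgroup.card_subgroup_dvd_card _) p
    · refine (Nat.Prime.pow_dvd_iff_le_factorization hp.out Nat.card_pos.ne').1 ?_
      rw [← P.card_eq_multiplicity]
      exact Subgroup.card_dvd_of_le fun w hw =>
        mem_centralizer_singleton_iff.2 (mul_comm_sylow P hw y.2)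
  rw [Finset.mul_sum, Finset.mul_sum,
    ← Finset.sum_fiberwise Finset.univ (fun n : normalizer (P : Set G) => act P n y)
      (fun n => (Nat.card (P : Subgroup G) : ℂ) * f (act P n y))]
  refine Finset.sum_congr rfl fun z _ => ?_
  by_cases hc : IsConj (y : G) (z : G)
  · obtain ⟨c, hc'⟩ := isConj_iff.1 hc
    obtain ⟨n₁, hn₁, hn₁eq⟩ := P.conj_eq_normalizer_conj_of_mem (y : G) c⁻¹ y.2 (by
      rw [inv_inv, hc']; exact z.2)
    rw [inv_inv, hc'] at hn₁eq
    let k : normalizer (P : Set G) := ⟨n₁⁻¹, inv_mem hn₁⟩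
    have hk : act P k y = z := Subtype.ext (by rw [act_coe, hn₁eq]; simp [k])
    have hcard : (Finset.univ.filter fun n : normalizer (P : Set G) => act P n y = z).card =
        Nat.card (centralizer ((P : Subgroup G) : Set G)) := by
      rw [← Fintype.card_subtype, ← Nat.card_eq_fintype_card]
      refine Nat.card_congr
        { toFun := fun n => ⟨((k⁻¹ * n.1 : normalizer (P : Set G)) : G), ?_⟩
          invFun := fun c => ⟨k * ⟨(c : G), centralizer_le_normalizer _ c.2⟩, ?_⟩
          left_inv := fun n => Subtype.ext (Subtype.ext (by simp [mul_assoc]))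
          right_inv := fun c => Subtype.ext (by simp [mul_assoc]) }
      · refine hfix _ (k⁻¹ * n.1).2 _ y.2 hy' ?_
        rw [← act_coe, act_mul, n.2, ← hk, ← act_mul, inv_mul_cancel,
          act_eq_self_of_mem P (one_mem _)]
      · rw [act_mul, act_eq_self_of_mem P (n := ⟨(c : G), centralizer_le_normalizer _ c.2⟩) c.2, hk]
    rw [Finset.sum_congr rfl (g := fun _ => (Nat.card (P : Subgroup G) : ℂ) * f z)
      (fun n hn => by rw [(Finset.mem_filter.1 hn).2]), Finset.sum_const, hcard, nsmul_eq_mul,
      hK z hc]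
    ring
  · rw [show blockKernel (principalBlock M G) (y : G) (z : G) = 0 from ?_, mul_zero, mul_zero]
    · refine (Finset.sum_eq_zero fun n hn => absurd ?_ hc).symm
      rw [← (Finset.mem_filter.1 hn).2, act_coe]
      exact isConj_iff.2 ⟨_, rfl⟩
    · refine blockKernel_eq_zero hM (isPBlock_principalBlock M) ?_
      rwa [(pPart_eq_self_iff _).2 (exists_orderOf P y), (pPart_eq_self_iff _).2 (exists_orderOf P z)]

open scoped Classical in
/-- The inner products of the vectors. -/
theorem gram [Fintype G] (hM : IsPModular p M) (hfix : FreeFusion P)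
    {a b : IrrCharacter (P : Subgroup G)} (ha : a ≠ triv P) (hb : b ≠ triv P) :
    ∑ χ : {χ : IrrCharacter G // χ ∈ principalBlock M G}, vec P a χ.1 * vec P b χ.1 =
      ((centralizer ((P : Subgroup G) : Set G)).relIndex (normalizer (P : Set G)) : ℤ) +
        if a ∈ orb P b then 1 else 0 := by
  set q := (Nat.card (P : Subgroup G) : ℂ)
  set C := (Nat.card (centralizer ((P : Subgroup G) : Set G)) : ℂ)
  have hq : q ≠ 0 := Nat.cast_ne_zero.2 Nat.card_pos.ne'
  have hC : C ≠ 0 := Nat.cast_ne_zero.2 Nat.card_pos.ne'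
  have hvb : ∀ χ : IrrCharacter G, (vec P b χ : ℂ) =
      q⁻¹ * ∑ z : (P : Subgroup G), conj ((χ : G → ℂ) z) *
        ((b : ↥(P : Subgroup G) → ℂ) z - 1) := fun χ => by
    rw [show (vec P b χ : ℂ) = conj ((vec P b χ : ℤ) : ℂ) from (map_intCast _ _).symm, vec_spec,
      map_mul, map_inv₀, Complex.conj_natCast, map_sum]
    simp only [map_mul, map_sub, map_one, Complex.conj_conj]
    rfl
  have key : ∀ y : (P : Subgroup G), (conj ((a : ↥(P : Subgroup G) → ℂ) y) - 1) *
      (C * ∑ z : (P : Subgroup G), ((b : ↥(P : Subgroup G) → ℂ) z - 1) *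
        blockKernel (principalBlock M G) (y : G) (z : G)) =
      (conj ((a : ↥(P : Subgroup G) → ℂ) y) - 1) *
        (q * ∑ n : normalizer (P : Set G), ((actIrr P n b : ↥(P : Subgroup G) → ℂ) y - 1)) := by
    intro y
    rcases eq_or_ne y 1 with rfl | hy
    · simp [lin P a]
    congr 1
    exact sum_kernel P hM hfix hy fun z => (b : ↥(P : Subgroup G) → ℂ) z - 1
  have hinner : ∀ n : normalizer (P : Set G), q⁻¹ * ∑ y : (P : Subgroup G),
      (conj ((a : ↥(P : Subgroup G) → ℂ) y) - 1) *
        ((actIrr P n b : ↥(P : Subgroup G) → ℂ) y - 1) =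
      (if actIrr P n b = a then 1 else 0) + 1 := by
    intro n
    have hbn := actIrr_ne_triv P hb n
    rw [← classInner_irrCharacter (actIrr P n b) a, classInner_def]
    have h0 : ∑ y : (P : Subgroup G), (actIrr P n b : ↥(P : Subgroup G) → ℂ) y = 0 :=
      H85.sum_apply_eq_zero _ fun h => hbn (Subtype.ext h)
    rw [Finset.sum_congr rfl (g := fun y => (actIrr P n b : ↥(P : Subgroup G) → ℂ) y *
      conj ((a : ↥(P : Subgroup G) → ℂ) y) - (actIrr P n b : ↥(P : Subgroup G) → ℂ) y -
        conj ((a : ↥(P : Subgroup G) → ℂ) y) + 1) (fun y _ => by ring),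
      Finset.sum_add_distrib, Finset.sum_sub_distrib, Finset.sum_sub_distrib, h0,
      sum_conj_apply P ha, sub_zero, sub_zero, Finset.sum_const, Finset.card_univ,
      ← Nat.card_eq_fintype_card, nsmul_eq_mul, mul_one, mul_add, inv_mul_cancel₀ hq]
  have hsum : C * ∑ χ : {χ : IrrCharacter G // χ ∈ principalBlock M G},
      (vec P a χ.1 : ℂ) * (vec P b χ.1 : ℂ) =
      ∑ n : normalizer (P : Set G), ((if actIrr P n b = a then (1 : ℂ) else 0) + 1) := by
    simp only [← hinner]
    rw [← Finset.mul_sum, Finset.sum_comm (s := (Finset.univ : Finset (normalizer (P : Set G))))]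
    simp only [← Finset.mul_sum]
    calc C * ∑ χ : {χ : IrrCharacter G // χ ∈ principalBlock M G}, (vec P a χ.1 : ℂ) * (vec P b χ.1 : ℂ)
        = q⁻¹ * q⁻¹ * ∑ y : (P : Subgroup G), (conj ((a : ↥(P : Subgroup G) → ℂ) y) - 1) *
            (C * ∑ z : (P : Subgroup G), ((b : ↥(P : Subgroup G) → ℂ) z - 1) *
              blockKernel (principalBlock M G) (y : G) (z : G)) := by
          simp only [vec_spec P a, hvb, blockKernel]
          have hker : ∀ y z : (P : Subgroup G), (∑ᶠ χ ∈ principalBlock M G,
              (χ : G → ℂ) y * conj ((χ : G → ℂ) z)) =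
              ∑ χ : {χ : IrrCharacter G // χ ∈ principalBlock M G},
                (χ.1 : G → ℂ) y * conj ((χ.1 : G → ℂ) z) := fun y z => by
            rw [finsum_mem_eq_sum_ite, ← Finset.sum_filter]
            exact Finset.sum_subtype _ (by simp)
              (fun χ : IrrCharacter G => (χ : G → ℂ) y * conj ((χ : G → ℂ) z))
          simp only [hker, Finset.mul_sum, Finset.sum_mul]
          rw [Finset.sum_comm]
          refine (Finset.sum_congr rfl fun z _ => Finset.sum_comm).trans ?_
          rw [Finset.sum_comm]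
          exact Finset.sum_congr rfl fun y _ => Finset.sum_congr rfl fun z _ =>
            Finset.sum_congr rfl fun χ _ => by ring
      _ = _ := by
          rw [Finset.sum_congr rfl fun y _ => key y, Finset.mul_sum, Finset.mul_sum]
          refine Finset.sum_congr rfl fun y _ => ?_
          field_simp
  have hN : (Fintype.card (normalizer (P : Set G)) : ℂ) =
      ((centralizer ((P : Subgroup G) : Set G)).relIndex (normalizer (P : Set G)) : ℂ) * C := by
    rw [← Nat.card_eq_fintype_card,
      ← Subgroup.index_mul_card ((centralizer ((P : Subgroup G) : Set G)).subgroupOf (normalizer (P : Set G))),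
      Nat.card_congr (Subgroup.subgroupOfEquivOfLe
        (show centralizer ((P : Subgroup G) : Set G) ≤ normalizer (P : Set G) from
          centralizer_le_normalizer _)).toEquiv, Nat.cast_mul]
    rfl
  apply Int.cast_injective (α := ℂ)
  simp only [Int.cast_sum, Int.cast_mul, Int.cast_add, Int.cast_natCast, Int.cast_ite, Int.cast_one,
    Int.cast_zero]
  refine mul_left_cancel₀ hC ?_
  rw [hsum, Finset.sum_add_distrib, Finset.sum_boole, Finset.sum_const, Finset.card_univ, nsmul_one,
    hN]
  split_ifs with h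
  · rw [card_fix P hfix hb h]; ring
  · rw [Finset.filter_eq_empty_iff.2 fun n _ e => h ((mem_orb P).2 ⟨n, e⟩)]
    simp [mul_comm]

open scoped Classical in
/-- The `p`-regular columns are orthogonal to every vector. -/
theorem sum_regular_vec [Fintype G] (hM : IsPModular p M) {g : G} (hg : ¬ p ∣ orderOf g)
    (a : IrrCharacter (P : Subgroup G)) :
    ∑ χ : {χ : IrrCharacter G // χ ∈ principalBlock M G},
      (χ.1 : G → ℂ) g * (vec P a χ.1 : ℂ) = 0 := by
  simp only [vec_spec, Finset.mul_sum]
  rw [Finset.sum_comm]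
  refine Finset.sum_eq_zero fun y _ => ?_
  rcases eq_or_ne y 1 with rfl | hy
  · simp [lin P a]
  have h0 : blockKernel (principalBlock M G) (y : G) g⁻¹ = 0 := by
    refine blockKernel_eq_zero hM (isPBlock_principalBlock M) fun hc => hy (Subtype.ext ?_)
    rw [(pPart_eq_self_iff _).2 (exists_orderOf P y),
      (pPart_eq_one_iff g⁻¹).2 (by rwa [orderOf_inv]), isConj_one_left] at hc
    exact hc
  rw [blockKernel, finsum_mem_eq_sum_ite, ← Finset.sum_filter] at h0
  have h1 : ∑ χ : {χ : IrrCharacter G // χ ∈ principalBlock M G},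
      (χ.1 : G → ℂ) y * conj ((χ.1 : G → ℂ) g⁻¹) = 0 := by
    rw [← h0]
    exact (Finset.sum_subtype _ (fun χ => by simp)
      (fun χ : IrrCharacter G => (χ : G → ℂ) y * conj ((χ : G → ℂ) g⁻¹))).symm
  simp only [conj_apply_eq_inv, inv_inv] at h1
  calc ∑ χ : {χ : IrrCharacter G // χ ∈ principalBlock M G}, (χ.1 : G → ℂ) g *
        ((Nat.card (P : Subgroup G) : ℂ)⁻¹ *
          ((χ.1 : G → ℂ) y * (conj ((a : ↥(P : Subgroup G) → ℂ) y) - 1)))
      = (∑ χ : {χ : IrrCharacter G // χ ∈ principalBlock M G}, (χ.1 : G → ℂ) y * (χ.1 : G → ℂ) g) *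
          ((Nat.card (P : Subgroup G) : ℂ)⁻¹ * (conj ((a : ↥(P : Subgroup G) → ℂ) y) - 1)) := by
        rw [Finset.sum_mul]
        exact Finset.sum_congr rfl fun χ _ => by ring
    _ = 0 := by rw [h1, zero_mul]

end Cfsg.Agent.H86.Abelian
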