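import Cfsg.Agent.H86.AbelianExceptional
import Cfsg.Agent.H82.PrincipalBlock

/-!
# The exceptional characters indexed by linear homomorphisms of `P`
-/

set_option linter.unusedSectionVars false

namespace Cfsg.Agent.H86.Abelian

open CharBasic BlockBasic Subgroup

universe u

variable {G : Type u} [Group G] [Finite G] {p : ℕ} [hp : Fact p.Prime]
variable (P : Sylow p G) [hab : IsMulCommutative (P : Subgroup G)]

/-- A linear homomorphism as an irreducible character. -/
noncomputable def toIrr (ψ : ↥(P : Subgroup G) →* ℂˣ) : IrrCharacter (P : Subgroup G) :=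
  ⟨fun y => (ψ y : ℂ), H82.isIrrCharacter_hom ((Units.coeHom ℂ).comp ψ)⟩

theorem toIrr_apply (ψ : ↥(P : Subgroup G) →* ℂˣ) (y : (P : Subgroup G)) :
    (toIrr P ψ : ↥(P : Subgroup G) → ℂ) y = (ψ y : ℂ) := rfl

theorem toIrr_injective : Function.Injective (toIrr P) := fun ψ φ h =>
  MonoidHom.ext fun y => Units.ext (congrFun (congrArg Subtype.val h) y)

theorem toIrr_surjective : Function.Surjective (toIrr P) := fun b =>
  ⟨MonoidHom.toHomUnits
    { toFun := (b : ↥(P : Subgroup G) → ℂ), map_one' := lin P b, map_mul' := lin_mul P b },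
    Subtype.ext rfl⟩

theorem toIrr_ne_triv {ψ : ↥(P : Subgroup G) →* ℂˣ} : toIrr P ψ ≠ triv P ↔ ψ ≠ 1 := by
  refine not_congr ⟨fun h => ?_, fun h => ?_⟩
  · exact MonoidHom.ext fun y => Units.ext (congrFun (congrArg Subtype.val h) y)
  · subst h; exact Subtype.ext (funext fun y => by simp [toIrr, triv, trivialIrr])

/-- The orbit of `ψ` under the normalizer. -/
def homOrbit (ψ : ↥(P : Subgroup G) →* ℂˣ) : Set (↥(P : Subgroup G) →* ℂˣ) :=
  {ψ' | ∃ n : G, n ∈ normalizer ((P : Subgroup G) : Set G) ∧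
    ∀ w w' : ↥(P : Subgroup G), (w' : G) = n * w * n⁻¹ → ψ' w' = ψ w}

variable [Fintype (P : Subgroup G)] [Fintype (normalizer (P : Set G))]

theorem mem_homOrbit {ψ ψ' : ↥(P : Subgroup G) →* ℂˣ} :
    ψ' ∈ homOrbit P ψ ↔ toIrr P ψ' ∈ orb P (toIrr P ψ) := by
  rw [mem_orb]
  constructor
  · rintro ⟨n, hn, h⟩
    refine ⟨(⟨n, hn⟩ : normalizer (P : Set G))⁻¹, Subtype.ext (funext fun y => ?_)⟩
    rw [actIrr_apply, toIrr_apply, toIrr_apply]
    refine congrArg Units.val (h _ y ?_).symm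
    rw [act_coe]
    simp only [Subgroup.coe_inv, inv_inv]
    group
  · rintro ⟨n, hn⟩
    refine ⟨(n : G)⁻¹, inv_mem n.2, fun w w' hw => Units.ext ?_⟩
    have h := congrFun (congrArg Subtype.val hn) w'
    rw [actIrr_apply, toIrr_apply, toIrr_apply] at h
    rw [← h]
    congr 2
    refine Subtype.ext ?_
    rw [act_coe, hw]
    group

theorem finsum_homOrbit (ψ : ↥(P : Subgroup G) →* ℂˣ) (f : IrrCharacter (P : Subgroup G) → ℂ) :
    ∑ᶠ ψ' ∈ homOrbit P ψ, f (toIrr P ψ') = ∑ b ∈ orb P (toIrr P ψ), f b := by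
  classical
  rw [← finsum_mem_image (f := f) (toIrr_injective P).injOn, ← finsum_mem_coe_finset]
  refine finsum_mem_congr (Set.ext fun b => ⟨?_, fun hb => ?_⟩) fun _ _ => rfl
  · rintro ⟨φ, hφ, rfl⟩
    exact (mem_homOrbit P).1 hφ
  · obtain ⟨φ, rfl⟩ := toIrr_surjective P b
    exact ⟨φ, (mem_homOrbit P).2 hb, rfl⟩

/-- A principal character is constant on the `p`-sections meeting `P \ {1}`. -/
theorem apply_eq_of_isPPart {M : Ideal AlgInt} (hM : IsPModular p M) (hfix : FreeFusion P)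
    {χ : IrrCharacter G} (hχ : χ ∈ principalBlock M G) {z y : G} (hzy : IsPPart p z y)
    (hy : y ∈ (P : Subgroup G)) (hy1 : y ≠ 1) : (χ : G → ℂ) z = (χ : G → ℂ) y := by
  obtain ⟨w, rfl, hc, hk, hw⟩ := hzy
  exact principal_apply_mul hM hk (pNilAt_of_mem P hfix hy hy1) hχ
    (c := ⟨w, mem_centralizer_singleton_iff.2 hc.eq.symm⟩) (by rwa [Subgroup.orderOf_mk])

end Cfsg.Agent.H86.Abelian
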