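import Mathlib.GroupTheory.GroupAction.Quotient
import Mathlib.GroupTheory.CommutingProbability
import Mathlib.GroupTheory.Perm.Basic
import Mathlib.Algebra.Group.Action.End

/-!
An elementary proof that a permutation group of degree `n` with `o` orbits has at most
`2 ^ (n - o)` conjugacy classes.

An element is normalised by following the cycle through a moved point. At every step the possible
next points split into `b` orbits of the new pointwise stabiliser, which therefore has at least
`b - 1` more orbits than the old one; when the cycle closes, the elements form a coset of the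
pointwise stabiliser, on which it has at most as many conjugation orbits as it has classes.
-/

namespace Cfsg.Agent.H86.ClassBound

open MulAction

/-- Twisted classes: a normalised coset `g * P` splits into at most `k(P)` orbits under
conjugation by `P`. -/
theorem exists_cover_coset {G : Type*} [Group G] [Finite G] (P : Subgroup G) (g : G)
    (hg : ∀ x ∈ P, g⁻¹ * x * g ∈ P) :
    ∃ T : Finset G, T.card ≤ Nat.card (ConjClasses P) ∧
      ∀ y ∈ P, ∃ x ∈ P, x * (g * y) * x⁻¹ ∈ T := by
  classical
  let X := {z : G // g⁻¹ * z ∈ P}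
  letI : MulAction P X :=
    { smul := fun x z => ⟨(x : G) * (z : G) * (x : G)⁻¹, by
        have := P.mul_mem (P.mul_mem (hg x x.2) z.2) (P.inv_mem x.2)
        simpa [mul_assoc] using this⟩
      one_smul := fun z => Subtype.ext (show ((1 : P) : G) * (z : G) * ((1 : P) : G)⁻¹ = z by simp)
      mul_smul := fun a b z => Subtype.ext
        (show ((a * b : P) : G) * (z : G) * ((a * b : P) : G)⁻¹ =
          (a : G) * ((b : G) * (z : G) * (b : G)⁻¹) * (a : G)⁻¹ by simp [mul_assoc]) }
  haveI : Fintype P := Fintype.ofFinite P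
  haveI : Fintype X := Fintype.ofFinite X
  haveI : Fintype (Quotient (MulAction.orbitRel P X)) := Fintype.ofFinite _
  haveI : ∀ a : P, Fintype (fixedBy X a) := fun a => Fintype.ofFinite _
  have hburn := MulAction.sum_card_fixedBy_eq_card_orbits_mul_card_group P X
  have hfix : ∀ x : P, Nat.card (fixedBy X x) ≤ Nat.card {y : P // Commute x y} := by
    intro x
    rcases isEmpty_or_nonempty (fixedBy X x) with he | ⟨⟨z₀, hz₀⟩⟩
    · simp
    have key : ∀ z : fixedBy X x, ((z₀ : G))⁻¹ * ((z : X) : G) ∈ P := fun z => by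
      have := P.mul_mem (P.inv_mem z₀.2) (z : X).2
      simpa [mul_assoc] using this
    refine Nat.card_le_card_of_injective
      (fun z => ⟨⟨_, key z⟩, ?_⟩) ?_
    · have h0 : (x : G) * (z₀ : G) * (x : G)⁻¹ = z₀ := congrArg Subtype.val hz₀
      have h1 : (x : G) * ((z : X) : G) * (x : G)⁻¹ = (z : X) := congrArg Subtype.val z.2
      have c0 : Commute (x : G) (z₀ : G) := mul_inv_eq_iff_eq_mul.1 h0
      have c1 : Commute (x : G) ((z : X) : G) := mul_inv_eq_iff_eq_mul.1 h1
      exact Subtype.ext (c0.inv_right.mul_right c1).eq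
    · intro a b hab
      exact Subtype.ext (Subtype.ext
        (mul_left_cancel (congrArg Subtype.val (congrArg Subtype.val hab))))
  have hk : Nat.card (Quotient (MulAction.orbitRel P X)) ≤ Nat.card (ConjClasses P) := by
    refine Nat.le_of_mul_le_mul_right ?_ (Nat.card_pos (α := P))
    rw [← card_comm_eq_card_conjClasses_mul_card P]
    calc Nat.card (Quotient (MulAction.orbitRel P X)) * Nat.card P
        = ∑ a : P, Fintype.card (fixedBy X a) := by
          rw [hburn, Nat.card_eq_fintype_card, Nat.card_eq_fintype_card]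
      _ ≤ ∑ a : P, Nat.card {y : P // Commute a y} :=
          Finset.sum_le_sum fun a _ => by
            rw [← Nat.card_eq_fintype_card]; exact hfix a
      _ = Nat.card (Σ a : P, {y : P // Commute a y}) := (Nat.card_sigma).symm
      _ = Nat.card {p : P × P // Commute p.1 p.2} :=
          Nat.card_congr (Equiv.subtypeProdEquivSigmaSubtype fun a y : P => Commute a y).symm
  refine ⟨Finset.univ.image fun q : Quotient (MulAction.orbitRel P X) => (q.out : G), ?_, ?_⟩
  · refine le_trans Finset.card_image_le ?_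
    rw [Finset.card_univ, ← Nat.card_eq_fintype_card]
    exact hk
  · intro y hy
    let z : X := ⟨g * y, by simpa using hy⟩
    let q : Quotient (MulAction.orbitRel P X) := Quotient.mk'' z
    obtain ⟨x, hx⟩ := MulAction.orbitRel_apply.1
      (Quotient.exact' (Quotient.out_eq' q) : (MulAction.orbitRel P X) q.out z)
    exact ⟨x, x.2, Finset.mem_image.2 ⟨q, Finset.mem_univ _, (congrArg Subtype.val hx).symm⟩⟩

variable {α : Type*} [Fintype α]

/-- The number of orbits. -/
noncomputable def orbitCount (P : Subgroup (Equiv.Perm α)) : ℕ :=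
  Nat.card (MulAction.orbitRel.Quotient P α)

theorem orbitCount_le (P : Subgroup (Equiv.Perm α)) : orbitCount P ≤ Fintype.card α := by
  rw [← Nat.card_eq_fintype_card]
  exact Nat.card_le_card_of_surjective (Quotient.mk'') Quotient.mk''_surjective

theorem orbitCount_pos [Nonempty α] (P : Subgroup (Equiv.Perm α)) : 0 < orbitCount P :=
  haveI : Nonempty (MulAction.orbitRel.Quotient P α) :=
    ⟨Quotient.mk'' (Classical.arbitrary α)⟩
  Nat.card_pos (α := MulAction.orbitRel.Quotient P α)

omit [Fintype α] in
theorem invApp (g : Equiv.Perm α) (a : α) : g⁻¹ (g a) = a :=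
  Equiv.symm_apply_apply g a

/-- The elements of `G` fixing the points `c i`, `i ∈ I`. -/
def fixOn (G : Subgroup (Equiv.Perm α)) (c : ℕ → α) (I : Set ℕ) : Subgroup (Equiv.Perm α) where
  carrier := {g | g ∈ G ∧ ∀ i ∈ I, g (c i) = c i}
  one_mem' := ⟨G.one_mem, fun _ _ => rfl⟩
  mul_mem' := fun {a b} ha hb => ⟨G.mul_mem ha.1 hb.1, fun i hi => by
    rw [Equiv.Perm.mul_apply, hb.2 i hi, ha.2 i hi]⟩
  inv_mem' := fun {a} ha => ⟨G.inv_mem ha.1, fun i hi => by
    rw [Equiv.Perm.inv_eq_iff_eq]; exact (ha.2 i hi).symm⟩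

theorem mem_fixOn {G : Subgroup (Equiv.Perm α)} {c : ℕ → α} {I : Set ℕ} {g : Equiv.Perm α} :
    g ∈ fixOn G c I ↔ g ∈ G ∧ ∀ i ∈ I, g (c i) = c i := Iff.rfl

/-- Splitting one orbit into `b` pieces gives at least `b - 1` more orbits. -/
theorem orbitCount_split {P E : Subgroup (Equiv.Perm α)} (hPE : P ≤ E) (x : α) :
    orbitCount E + Nat.card {q : MulAction.orbitRel.Quotient P α // q.out ∈ MulAction.orbit E x}
      ≤ orbitCount P + 1 := by
  classical
  haveI : Fintype (MulAction.orbitRel.Quotient P α) := Fintype.ofFinite _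
  haveI : Fintype (MulAction.orbitRel.Quotient E α) := Fintype.ofFinite _
  let e₀ : MulAction.orbitRel.Quotient E α := Quotient.mk'' x
  let f : {e : MulAction.orbitRel.Quotient E α // e ≠ e₀} →
      {q : MulAction.orbitRel.Quotient P α // ¬ q.out ∈ MulAction.orbit E x} := fun e =>
    ⟨Quotient.mk'' e.1.out, fun h => by
      have h1 : (MulAction.orbitRel P α)
          (Quotient.mk'' e.1.out : MulAction.orbitRel.Quotient P α).out e.1.out :=
        Quotient.exact' (Quotient.out_eq' _)
      obtain ⟨p, hp⟩ := MulAction.orbitRel_apply.1 h1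
      obtain ⟨e', he'⟩ := h
      apply e.2
      rw [← Quotient.out_eq' e.1]
      refine Quotient.sound' (MulAction.orbitRel_apply.2 ⟨⟨_, hPE p.2⟩⁻¹ * e', ?_⟩)
      change ((⟨_, hPE p.2⟩ : E)⁻¹ * e') • x = e.1.out
      rw [mul_smul, inv_smul_eq_iff]
      exact he'.trans hp.symm⟩
  have hf : Function.Injective f := by
    intro a b hab
    obtain ⟨p, hp⟩ := MulAction.orbitRel_apply.1
      (Quotient.exact' (congrArg Subtype.val hab) : (MulAction.orbitRel P α) a.1.out b.1.out)
    apply Subtype.ext
    rw [← Quotient.out_eq' a.1, ← Quotient.out_eq' b.1]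
    exact Quotient.sound' (MulAction.orbitRel_apply.2 ⟨⟨_, hPE p.2⟩, hp⟩)
  have h1 := Fintype.card_le_of_injective f hf
  rw [Fintype.card_subtype_compl, Fintype.card_subtype_compl, Fintype.card_subtype_eq] at h1
  have h2 : Fintype.card {q : MulAction.orbitRel.Quotient P α // q.out ∈ MulAction.orbit E x} ≤
      Fintype.card (MulAction.orbitRel.Quotient P α) := Fintype.card_subtype_le _
  have h3 : 1 ≤ Fintype.card (MulAction.orbitRel.Quotient E α) :=
    Fintype.card_pos_iff.2 ⟨e₀⟩
  simp only [orbitCount, Nat.card_eq_fintype_card]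
  omega

/-- The elements of `G` sending `c i` to `c (i + 1)` for `i < t`, up to conjugation by the
pointwise stabiliser of `c 0, …, c t`, given the bound for that stabiliser's classes. -/
theorem exists_cover_path (G : Subgroup (Equiv.Perm α)) :
    ∀ (d : ℕ) (c : ℕ → α) (t : ℕ), Fintype.card α - t ≤ d → Set.InjOn c (Set.Iic t) →
      (∀ t' c', t ≤ t' → (∀ i ≤ t, c' i = c i) →
        Nat.card (ConjClasses (fixOn G c' (Set.Iic t'))) ≤
          2 ^ (Fintype.card α - orbitCount (fixOn G c' (Set.Iic t')))) →
      ∃ T : Finset (Equiv.Perm α),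
        T.card ≤ 2 ^ (Fintype.card α - orbitCount (fixOn G c (Set.Iio t))) ∧
        ∀ g ∈ G, (∀ i < t, g (c i) = c (i + 1)) →
          ∃ x ∈ fixOn G c (Set.Iic t), x * g * x⁻¹ ∈ T := by
  classical
  intro d
  induction d with
  | zero =>
    intro c t hd hinj _
    exfalso
    have h := Finset.card_le_univ ((Finset.range (t + 1)).image c)
    rw [Finset.card_image_of_injOn (fun a ha b hb => hinj
      (Nat.lt_succ_iff.1 (Finset.mem_range.1 ha)) (Nat.lt_succ_iff.1 (Finset.mem_range.1 hb))),
      Finset.card_range] at h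
    omega
  | succ d ih =>
    intro c t hd hinj hcl
    by_cases hS : ∃ g ∈ G, ∀ i < t, g (c i) = c (i + 1)
    swap
    · exact ⟨∅, by simp, fun g hg h => absurd ⟨g, hg, h⟩ hS⟩
    obtain ⟨g₀, hg₀G, hg₀⟩ := hS
    set P := fixOn G c (Set.Iic t) with hP
    set D := fixOn G c (Set.Iio t) with hD
    set E := fixOn G c (Set.Icc 1 t) with hE
    have hPE : P ≤ E := fun g hg => ⟨hg.1, fun i hi => hg.2 i hi.2⟩
    have hDE : orbitCount D ≤ orbitCount E := by
      have hconj : ∀ e ∈ E, g₀⁻¹ * e * g₀ ∈ D := by
        intro e he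
        refine ⟨G.mul_mem (G.mul_mem (G.inv_mem hg₀G) he.1) hg₀G, fun i hi => ?_⟩
        have hi' : i < t := hi
        rw [Equiv.Perm.mul_apply, Equiv.Perm.mul_apply, hg₀ i hi',
          he.2 (i + 1) ⟨Nat.le_add_left 1 i, hi'⟩, ← hg₀ i hi', invApp]
      refine Nat.card_le_card_of_injective
        (fun q : MulAction.orbitRel.Quotient D α =>
          (Quotient.mk'' (g₀ q.out) : MulAction.orbitRel.Quotient E α)) ?_
      intro a b hab
      obtain ⟨e, he⟩ := MulAction.orbitRel_apply.1
        (Quotient.exact' hab : (MulAction.orbitRel E α) (g₀ a.out) (g₀ b.out))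
      rw [← Quotient.out_eq' a, ← Quotient.out_eq' b]
      refine Quotient.sound' (MulAction.orbitRel_apply.2 ⟨⟨_, hconj e e.2⟩, ?_⟩)
      change (g₀⁻¹ * (e : Equiv.Perm α) * g₀) b.out = a.out
      have he' : (e : Equiv.Perm α) (g₀ b.out) = g₀ a.out := he
      rw [Equiv.Perm.mul_apply, Equiv.Perm.mul_apply, he', invApp]
    let x₀ := g₀ (c t)
    let B := {q : MulAction.orbitRel.Quotient P α // q.out ∈ MulAction.orbit E x₀}
    haveI : Fintype B := Fintype.ofFinite B
    -- one cover for each piece
    have key : ∀ q : B, ∃ T : Finset (Equiv.Perm α),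
        T.card ≤ 2 ^ (Fintype.card α - orbitCount P) ∧
        ∀ g ∈ G, (∀ i < t, g (c i) = c (i + 1)) → g (c t) = q.1.out →
          ∃ x ∈ P, x * g * x⁻¹ ∈ T := by
      intro q
      set δ := q.1.out with hδ
      by_cases hS2 : ∃ g ∈ G, (∀ i < t, g (c i) = c (i + 1)) ∧ g (c t) = δ
      swap
      · exact ⟨∅, by simp, fun g hg h h' => absurd ⟨g, hg, h, h'⟩ hS2⟩
      obtain ⟨g₁, hg₁G, hg₁, hg₁t⟩ := hS2
      by_cases h0 : δ = c 0
      · have hn : ∀ x ∈ P, g₁⁻¹ * x * g₁ ∈ P := by
          intro x hx
          refine ⟨G.mul_mem (G.mul_mem (G.inv_mem hg₁G) hx.1) hg₁G, fun i hi => ?_⟩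
          have hi' : i ≤ t := hi
          rcases lt_or_eq_of_le hi' with hlt | heq
          · rw [Equiv.Perm.mul_apply, Equiv.Perm.mul_apply, hg₁ i hlt,
              hx.2 (i + 1) hlt, ← hg₁ i hlt, invApp]
          · rw [heq, Equiv.Perm.mul_apply, Equiv.Perm.mul_apply, hg₁t, h0,
              hx.2 0 (Nat.zero_le t), ← h0, ← hg₁t, invApp]
        obtain ⟨T, hT, hTc⟩ := exists_cover_coset P g₁ hn
        refine ⟨T, hT.trans (hcl t c le_rfl fun _ _ => rfl), fun g hg h h' => ?_⟩
        have hmem : g₁⁻¹ * g ∈ P := by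
          refine ⟨G.mul_mem (G.inv_mem hg₁G) hg, fun i hi => ?_⟩
          have hi' : i ≤ t := hi
          rcases lt_or_eq_of_le hi' with hlt | heq
          · rw [Equiv.Perm.mul_apply, h i hlt, ← hg₁ i hlt, invApp]
          · rw [heq, Equiv.Perm.mul_apply, h', ← hg₁t, invApp]
        obtain ⟨x, hx, hxT⟩ := hTc _ hmem
        exact ⟨x, hx, by rwa [mul_inv_cancel_left] at hxT⟩
      · have hfresh : ∀ i ≤ t, c i ≠ δ := by
          intro i hi hiδ
          rcases Nat.eq_zero_or_pos i with rfl | hpos
          · exact h0 hiδ.symm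
          obtain ⟨j, rfl⟩ := Nat.exists_eq_add_of_le hpos
          have hjt : j < t := by omega
          have e1 : g₁ (c j) = g₁ (c t) := by
            rw [hg₁ j hjt, hg₁t, ← hiδ, Nat.add_comm]
          have := hinj (Set.mem_Iic.2 hjt.le) (Set.mem_Iic.2 le_rfl) (g₁.injective e1)
          omega
        set c' := Function.update c (t + 1) δ with hc'
        have hold : ∀ i ≤ t, c' i = c i := fun i hi =>
          Function.update_of_ne (by omega) _ _
        have hnew : c' (t + 1) = δ := Function.update_self _ _ _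
        have hinj' : Set.InjOn c' (Set.Iic (t + 1)) := by
          intro a ha b hb hab
          rcases Nat.lt_or_eq_of_le (Set.mem_Iic.1 ha) with ha' | ha' <;>
            rcases Nat.lt_or_eq_of_le (Set.mem_Iic.1 hb) with hb' | hb'
          · rw [hold a (by omega), hold b (by omega)] at hab
            exact hinj (Set.mem_Iic.2 (by omega)) (Set.mem_Iic.2 (by omega)) hab
          · rw [hold a (by omega), hb', hnew] at hab
            exact absurd hab (hfresh a (by omega))
          · rw [hold b (by omega), ha', hnew] at hab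
            exact absurd hab.symm (hfresh b (by omega))
          · omega
        have hPeq : fixOn G c' (Set.Iio (t + 1)) = P := by
          ext g
          simp only [hP, mem_fixOn]
          refine and_congr_right fun _ => ⟨fun h i hi => ?_, fun h i hi => ?_⟩
          · have := h i (Nat.lt_succ_of_le hi); rwa [hold i hi] at this
          · have hi' : i ≤ t := Nat.lt_succ_iff.1 hi
            rw [hold i hi']; exact h i hi'
        obtain ⟨T, hT, hTc⟩ := ih c' (t + 1) (by omega) hinj'
          (fun t' c'' h1 h2 => hcl t' c'' (by omega) fun i hi => by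
            rw [h2 i (by omega), hold i hi])
        rw [hPeq] at hT
        refine ⟨T, hT, fun g hg h h' => ?_⟩
        obtain ⟨x, hx, hxT⟩ := hTc g hg (fun i hi => by
          rcases Nat.lt_or_eq_of_le (Nat.lt_succ_iff.1 hi) with hlt | heq
          · rw [hold i (by omega), hold (i + 1) hlt]; exact h i hlt
          · rw [heq, hnew, hold t le_rfl]; exact h')
        refine ⟨x, ⟨hx.1, fun i hi => ?_⟩, hxT⟩
        have hi' : i ≤ t := hi
        have := hx.2 i (Set.mem_Iic.2 (by omega))
        rwa [hold i hi'] at this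
    choose T hT hTc using key
    refine ⟨Finset.univ.biUnion T, ?_, ?_⟩
    · have hsplit : orbitCount E + Nat.card B ≤ orbitCount P + 1 := orbitCount_split hPE x₀
      have hPn := orbitCount_le P
      have hb : Fintype.card B ≤ 2 ^ (orbitCount P - orbitCount E) := by
        rw [← Nat.card_eq_fintype_card]
        calc Nat.card B ≤ (orbitCount P - orbitCount E) + 1 := by omega
          _ ≤ 2 ^ (orbitCount P - orbitCount E) :=
            Nat.succ_le_iff.2 (Nat.lt_two_pow_self)
      calc (Finset.univ.biUnion T).card ≤ ∑ q : B, (T q).card := Finset.card_biUnion_le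
        _ ≤ ∑ _q : B, 2 ^ (Fintype.card α - orbitCount P) := Finset.sum_le_sum fun q _ => hT q
        _ = Fintype.card B * 2 ^ (Fintype.card α - orbitCount P) := by
            rw [Finset.sum_const, Finset.card_univ, smul_eq_mul]
        _ ≤ 2 ^ (orbitCount P - orbitCount E) * 2 ^ (Fintype.card α - orbitCount P) :=
            Nat.mul_le_mul_right _ hb
        _ ≤ 2 ^ (Fintype.card α - orbitCount D) := by
            rw [← pow_add]
            refine Nat.pow_le_pow_right (by norm_num) ?_
            have hle : orbitCount E ≤ orbitCount P := by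
              refine Nat.card_le_card_of_surjective
                (fun q : MulAction.orbitRel.Quotient P α =>
                  (Quotient.mk'' q.out : MulAction.orbitRel.Quotient E α)) ?_
              intro e
              refine ⟨Quotient.mk'' e.out, ?_⟩
              obtain ⟨p, hp⟩ := MulAction.orbitRel_apply.1
                (Quotient.exact' (Quotient.out_eq'
                  (Quotient.mk'' e.out : MulAction.orbitRel.Quotient P α)) :
                  (MulAction.orbitRel P α) _ e.out)
              exact (Quotient.sound' (MulAction.orbitRel_apply.2 ⟨⟨_, hPE p.2⟩, hp⟩) :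
                (Quotient.mk'' (Quotient.mk'' e.out : MulAction.orbitRel.Quotient P α).out :
                  MulAction.orbitRel.Quotient E α) = Quotient.mk'' e.out).trans
                (Quotient.out_eq' e)
            omega
    · intro g hg h
      let q₀ : MulAction.orbitRel.Quotient P α := Quotient.mk'' (g (c t))
      obtain ⟨y, hy⟩ := MulAction.orbitRel_apply.1
        (Quotient.exact' (Quotient.out_eq' q₀) : (MulAction.orbitRel P α) q₀.out (g (c t)))
      have hy' : (y : Equiv.Perm α) (g (c t)) = q₀.out := hy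
      have hgE : g * g₀⁻¹ ∈ E := by
        refine ⟨G.mul_mem hg (G.inv_mem hg₀G), fun i hi => ?_⟩
        obtain ⟨j, rfl⟩ := Nat.exists_eq_add_of_le hi.1
        have hjt : j < t := by have := hi.2; omega
        rw [Equiv.Perm.mul_apply, Nat.add_comm, ← hg₀ j hjt, invApp]
        rw [h j hjt, hg₀ j hjt]
      have hq : q₀.out ∈ MulAction.orbit E x₀ := by
        refine ⟨(⟨(y : Equiv.Perm α), hPE y.2⟩ : E) * ⟨_, hgE⟩, ?_⟩
        change ((y : Equiv.Perm α) * (g * g₀⁻¹)) (g₀ (c t)) = q₀.out
        rw [Equiv.Perm.mul_apply, Equiv.Perm.mul_apply, invApp]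
        exact hy'
      set g' := (y : Equiv.Perm α) * g * (y : Equiv.Perm α)⁻¹ with hg'
      have hfix : ∀ i ≤ t, (y : Equiv.Perm α)⁻¹ (c i) = c i := fun i hi =>
        (P.inv_mem y.2).2 i hi
      obtain ⟨x, hx, hxT⟩ := hTc ⟨q₀, hq⟩ g'
        (G.mul_mem (G.mul_mem y.2.1 hg) (G.inv_mem y.2.1))
        (fun i hi => by
          rw [hg', Equiv.Perm.mul_apply, Equiv.Perm.mul_apply, hfix i hi.le, h i hi]
          exact y.2.2 (i + 1) hi)
        (by rw [hg', Equiv.Perm.mul_apply, Equiv.Perm.mul_apply, hfix t le_rfl]; exact hy')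
      refine ⟨x * y, P.mul_mem hx y.2, Finset.mem_biUnion.2 ⟨⟨q₀, hq⟩, Finset.mem_univ _, ?_⟩⟩
      have e : x * (y : Equiv.Perm α) * g * (x * (y : Equiv.Perm α))⁻¹ = x * g' * x⁻¹ := by
        rw [hg']; group
      rw [e]; exact hxT

/-- A permutation group of degree `n` with `o` orbits has at most `2 ^ (n - o)` classes. -/
theorem card_conjClasses_le (G : Subgroup (Equiv.Perm α)) :
    Nat.card (ConjClasses G) ≤ 2 ^ (Fintype.card α - orbitCount G) := by
  classical
  induction hm : Nat.card G using Nat.strong_induction_on generalizing G with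
  | _ m ih =>
  by_cases htriv : ∀ g ∈ G, ∀ a : α, g a = a
  · haveI : Subsingleton G := ⟨fun a b => Subtype.ext (Equiv.ext fun z => by
      rw [htriv a a.2 z, htriv b b.2 z])⟩
    haveI : Subsingleton (ConjClasses G) := ConjClasses.mk_surjective.subsingleton
    exact le_trans (Finite.card_le_one_iff_subsingleton.2 ‹_›) Nat.one_le_two_pow
  push Not at htriv
  obtain ⟨g₁, hg₁, a, hga⟩ := htriv
  let c : ℕ → α := fun _ => a
  obtain ⟨T, hT, hTc⟩ := exists_cover_path G (Fintype.card α) c 0 (by omega)
    (fun i hi j hj _ => by rw [Set.mem_Iic] at hi hj; omega)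
    (fun t' c' _ hc' => by
      have hlt : fixOn G c' (Set.Iic t') < G := by
        refine lt_of_le_of_ne (fun g hg => hg.1) fun heq => hga ?_
        have := ((SetLike.ext_iff.1 heq g₁).2 hg₁).2 0 (Set.mem_Iic.2 (Nat.zero_le _))
        rwa [hc' 0 le_rfl] at this
      refine ih _ ?_ _ rfl
      rw [← hm]
      exact lt_of_le_of_ne (Subgroup.card_le_of_le hlt.le)
        fun e => hlt.ne (Subgroup.eq_of_le_of_card_ge hlt.le e.ge))
  have hD : fixOn G c (Set.Iio 0) = G := by
    ext g
    simp [mem_fixOn]
  rw [hD] at hT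
  refine le_trans ?_ hT
  have hrep : ∀ C : ConjClasses G, ∃ z : G, ConjClasses.mk z = C ∧ (z : Equiv.Perm α) ∈ T := by
    intro C
    obtain ⟨g, rfl⟩ := ConjClasses.mk_surjective C
    obtain ⟨x, hx, hxT⟩ := hTc g g.2 (fun i hi => absurd hi (Nat.not_lt_zero i))
    exact ⟨⟨x, hx.1⟩ * g * ⟨x, hx.1⟩⁻¹, ConjClasses.mk_eq_mk_iff_isConj.2
      (IsConj.symm (isConj_iff.2 ⟨⟨x, hx.1⟩, rfl⟩)), hxT⟩
  choose z hz hzT using hrep
  calc Nat.card (ConjClasses G) ≤ Nat.card T :=
      Nat.card_le_card_of_injective (fun C => (⟨z C, hzT C⟩ : T)) fun A B hAB => by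
        rw [← hz A, ← hz B, Subtype.ext (Subtype.mk.inj hAB)]
    _ = T.card := by simp

end Cfsg.Agent.H86.ClassBound
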