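import Cfsg.Agent.H86.IrrOps
import Cfsg.Agent.Fusion.Tate
import Cfsg.Prelude.Def_Blocks

/-!
# Extendibility from the normalizer of a Sylow subgroup gives a normal complement
-/

open scoped ComplexConjugate
open Cfsg.Agent.CharBasic Subgroup
open scoped commutatorElement

namespace Cfsg.Agent.H86

variable {G : Type*} [Group G] [Finite G]

/-- The kernel of a character as a subgroup. -/
theorem exists_charKer {χ : G → ℂ} (h : Cfsg.IsCharacter G χ) :
    ∃ K : Subgroup G, K.Normal ∧ ∀ g, g ∈ K ↔ χ g = χ 1 := by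
  obtain ⟨n, ρ, rfl⟩ := h
  refine ⟨MonoidHom.ker ρ, inferInstance, fun g => ?_⟩
  rw [MonoidHom.mem_ker, Representation.char_one, character_eq_finrank_iff]
  rfl

theorem charDegree_comp {H : Type*} [Group H] (η : H → ℂ) (f : G →* H) :
    Cfsg.charDegree (fun x => η (f x)) = Cfsg.charDegree η := by
  simp [Cfsg.charDegree]

variable {p : ℕ} [Fact p.Prime]

theorem extend_of_complement {N K : Subgroup G} [K.Normal] (h1 : K ⊔ N = ⊤) (h2 : K ⊓ N = ⊥)
    (θ : Cfsg.IrrCharacter N) :
    ∃ χ : Cfsg.IrrCharacter G, ∀ x : N, (χ : G → ℂ) x = (θ : N → ℂ) x := by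
  let f : N →* G ⧸ K := (QuotientGroup.mk' K).comp N.subtype
  have hf : Function.Bijective f := by
    refine ⟨(injective_iff_map_eq_one f).2 fun x hx => ?_, fun y => ?_⟩
    · have : (x : G) ∈ K ⊓ N := ⟨(QuotientGroup.eq_one_iff (x : G)).1 hx, x.2⟩
      rw [h2] at this
      exact Subtype.ext (mem_bot.1 this)
    · obtain ⟨g, rfl⟩ := QuotientGroup.mk'_surjective K y
      have hg : g ∈ N ⊔ K := by rw [sup_comm, h1]; trivial
      rw [← SetLike.mem_coe, mul_normal] at hg
      obtain ⟨n, hn, k, hk, rfl⟩ := Set.mem_mul.1 hg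
      refine ⟨⟨n, hn⟩, ?_⟩
      show QuotientGroup.mk' K n = QuotientGroup.mk' K (n * k)
      rw [map_mul, show QuotientGroup.mk' K k = 1 from (QuotientGroup.eq_one_iff k).2 hk, mul_one]
  let e := (MulEquiv.ofBijective f hf).symm
  refine ⟨⟨_, isIrr_comp_surjective θ.2 (e.toMonoidHom.comp (QuotientGroup.mk' K))
    (e.surjective.comp (QuotientGroup.mk'_surjective K))⟩, fun x => ?_⟩
  show (θ : N → ℂ) (e (f x)) = _
  rw [show f x = MulEquiv.ofBijective f hf x from rfl, MulEquiv.symm_apply_apply]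

/-- Separation: a normal subgroup is cut out by the characters trivial on it. -/
theorem exists_separating (R : Subgroup G) [R.Normal] {x : G} (hx : x ∉ R) :
    ∃ η : Cfsg.IrrCharacter (G ⧸ R), (η : G ⧸ R → ℂ) (x : G ⧸ R) ≠ (η : G ⧸ R → ℂ) 1 := by
  by_contra hcon
  have hc := (isConj_iff_forall_irr (x : G ⧸ R) 1).2 fun η => by
    by_contra h; exact hcon ⟨η, h⟩
  rw [isConj_one_left] at hc
  exact hx ((QuotientGroup.eq_one_iff x).1 hc)

theorem complement_of_extend (P : Sylow p G) (N : Subgroup G)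
    (hN : N = normalizer ((P : Subgroup G) : Set G))
    (hIto : ∀ (R : Subgroup N) [R.Normal],
      ⁅(P : Subgroup G).subgroupOf N, (P : Subgroup G).subgroupOf N⁆ ≤ R →
      ∀ η : Cfsg.IrrCharacter (N ⧸ R), ¬ p ∣ Cfsg.charDegree (η : N ⧸ R → ℂ))
    (hext : ∀ θ : Cfsg.IrrCharacter N, ¬ p ∣ Cfsg.charDegree (θ : N → ℂ) →
      ∃ χ : Cfsg.IrrCharacter G, ∀ x : N, (χ : G → ℂ) x = (θ : N → ℂ) x) :
    ∃ K : Subgroup G, K.Normal ∧ K ⊔ N = ⊤ ∧ K ⊓ N = ⊥ := by
  have hPN : (P : Subgroup G) ≤ N := hN ▸ le_normalizer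
  haveI hPn : ((P : Subgroup G).subgroupOf N).Normal := by
    subst hN; exact normal_in_normalizer
  set P₀ := (P : Subgroup G).subgroupOf N with hP₀
  -- extensions of characters trivial on a normal subgroup of N above P'
  have hcut : ∀ R : Subgroup N, R.Normal → ⁅P₀, P₀⁆ ≤ R →
      ∃ J : Subgroup G, J.Normal ∧ R.map N.subtype ≤ J ∧ J ⊓ N = R.map N.subtype := by
    intro R hR hle
    have hE : ∀ η : Cfsg.IrrCharacter (N ⧸ R), ∃ K : Subgroup G, K.Normal ∧
        ∀ x : N, (x : G) ∈ K ↔ (η : N ⧸ R → ℂ) x = (η : N ⧸ R → ℂ) 1 := by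
      intro η
      have hdeg := hIto R hle η
      rw [← charDegree_comp (η : N ⧸ R → ℂ) (QuotientGroup.mk' R)] at hdeg
      obtain ⟨χ, hχ⟩ := hext ⟨_, isIrr_comp_surjective η.2 _ (QuotientGroup.mk'_surjective R)⟩ hdeg
      obtain ⟨K, hK, hmem⟩ := exists_charKer (IsIrr.isCharacter χ.2)
      refine ⟨K, hK, fun x => ?_⟩
      rw [hmem]
      have h1 : (χ : G → ℂ) 1 = (η : N ⧸ R → ℂ) 1 := by simpa using hχ 1
      rw [hχ x, h1]
      rfl
    choose K hKn hKm using hE
    haveI := hKn
    refine ⟨⨅ η, K η, normal_iInf_normal hKn, ?_, ?_⟩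
    · rintro _ ⟨r, hr, rfl⟩
      rw [mem_iInf]
      intro η
      rw [coe_subtype, hKm η r, (QuotientGroup.eq_one_iff r).2 hr]
    · refine le_antisymm ?_ (le_inf ?_ (map_subtype_le R))
      · rintro x ⟨hxJ, hxN⟩
        refine ⟨⟨x, hxN⟩, ?_, rfl⟩
        by_contra hx
        obtain ⟨η, hη⟩ := exists_separating R hx
        exact hη ((hKm η ⟨x, hxN⟩).1 (mem_iInf.1 hxJ η))
      · rintro _ ⟨r, hr, rfl⟩
        rw [mem_iInf]
        intro η
        rw [coe_subtype, hKm η r, (QuotientGroup.eq_one_iff r).2 hr]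
  -- the normal closure L of P
  obtain ⟨J₁, hJ₁n, hPJ₁, hJ₁⟩ := hcut P₀ hPn (commutator_le_left _ _)
  rw [hP₀, map_subgroupOf_eq_of_le hPN] at hPJ₁ hJ₁
  set L := J₁ with hLdef
  haveI := hJ₁n
  -- the kernel K with K ∩ N = P'
  obtain ⟨J₂, hJ₂n, -, hJ₂⟩ := hcut ⁅P₀, P₀⁆ inferInstance le_rfl
  haveI := hJ₂n
  rw [map_commutator, hP₀, map_subgroupOf_eq_of_le hPN] at hJ₂
  let PL : Sylow p L := P.subtype hPJ₁
  -- N_L(P) = P
  have hNLP : normalizer ((PL : Subgroup L) : Set L) = PL := by
    refine le_antisymm (fun x hx => ?_) le_normalizer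
    have : (x : G) ∈ L ⊓ N := by
      refine ⟨x.2, ?_⟩
      show (x : G) ∈ N
      rw [hN, mem_normalizer_iff]
      intro h
      rw [mem_normalizer_iff] at hx
      constructor
      · intro hh
        exact (hx ⟨h, hPJ₁ hh⟩).1 hh
      · intro hh
        have hmem : h ∈ L := by
          have := mul_mem (mul_mem (inv_mem x.2) (hPJ₁ hh)) x.2
          simpa [mul_assoc] using this
        exact (hx ⟨h, hmem⟩).2 hh
    rw [hJ₁] at this
    exact this
  -- the commutator of L meets P in P'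
  let f : L →* L ⧸ (J₂.subgroupOf L) := QuotientGroup.mk' _
  have hfs : Function.Surjective f := QuotientGroup.mk'_surjective _
  have hfocal : commutator L ⊓ (PL : Subgroup L) ≤ ⁅(PL : Subgroup L), (PL : Subgroup L)⁆ := by
    let Q : Sylow p (L ⧸ J₂.subgroupOf L) := PL.mapSurjective hfs
    have hQc : ∀ a ∈ (PL : Subgroup L), ∀ b ∈ (PL : Subgroup L), f ⁅a, b⁆ = 1 := by
      intro a ha b hb
      refine (QuotientGroup.eq_one_iff _).2 ?_
      rw [mem_subgroupOf]
      have h1 : (⁅(a : G), (b : G)⁆ : G) ∈ J₂ ⊓ N := by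
        rw [hJ₂]; exact commutator_mem_commutator ha hb
      exact h1.1
    have hQ : (Q : Subgroup (L ⧸ J₂.subgroupOf L)) = (PL : Subgroup L).map f := rfl
    have hQcomm : IsMulCommutative (Q : Subgroup (L ⧸ J₂.subgroupOf L)) := by
      refine ⟨⟨fun u v => Subtype.ext ?_⟩⟩
      obtain ⟨a, ha, ha'⟩ := mem_map.1 (hQ.le u.2)
      obtain ⟨b, hb, hb'⟩ := mem_map.1 (hQ.le v.2)
      have := hQc a ha b hb
      rw [map_commutatorElement, commutatorElement_eq_one_iff_mul_comm] at this
      show (u : L ⧸ J₂.subgroupOf L) * v = v * u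
      rw [← ha', ← hb', this]
    have hNQ : normalizer ((Q : Subgroup (L ⧸ J₂.subgroupOf L)) : Set _) ≤ (Q : Subgroup (L ⧸ J₂.subgroupOf L)) := by
      intro y hy
      obtain ⟨x, rfl⟩ := hfs y
      -- Frattini in the preimage of Q
      set M := (Q : Subgroup (L ⧸ J₂.subgroupOf L)).comap f with hM
      have hPM : (PL : Subgroup L) ≤ M := by rw [hM, hQ]; exact le_comap_map f _
      have hxM : x ∈ normalizer (M : Set L) := by
        rw [mem_normalizer_iff]
        intro h
        rw [hM, mem_comap, mem_comap, map_mul, map_mul, map_inv]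
        exact mem_normalizer_iff.1 hy (f h)
      haveI : (M.subgroupOf (normalizer (M : Set L))).Normal := normal_in_normalizer
      have key : x ∈ M ⊔ normalizer ((PL : Subgroup L) : Set L) := by
        have hPM' : (PL : Subgroup L) ≤ normalizer (M : Set L) := hPM.trans le_normalizer
        let S : Sylow p (M.subgroupOf (normalizer (M : Set L))) :=
          (PL.subtype hPM').subtype (by intro z hz; exact hPM hz)
        have h := Sylow.normalizer_sup_eq_top S
        have hx' : (⟨x, hxM⟩ : normalizer (M : Set L)) ∈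
            normalizer (((S : Subgroup (M.subgroupOf (normalizer (M : Set L)))).map
              (M.subgroupOf (normalizer (M : Set L))).subtype : Subgroup (normalizer (M : Set L))) :
              Set (normalizer (M : Set L))) ⊔ M.subgroupOf (normalizer (M : Set L)) := by
          rw [h]; trivial
        rw [← SetLike.mem_coe, mul_normal] at hx'
        obtain ⟨a, ha, b, hb, hab⟩ := Set.mem_mul.1 hx'
        have hab' : (a : L) * b = x := congrArg Subtype.val hab
        rw [← hab', sup_comm]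
        refine mul_mem_sup ?_ hb
        rw [SetLike.mem_coe, mem_normalizer_iff] at ha
        rw [mem_normalizer_iff]
        intro z
        constructor
        · intro hz
          obtain ⟨w, hw, hwe⟩ := (ha ⟨z, hPM' hz⟩).1 ⟨⟨⟨z, hPM' hz⟩, hPM hz⟩, hz, rfl⟩
          rw [show (a : L) * z * (a : L)⁻¹ = ((w : normalizer (M : Set L)) : L) from
            (congrArg Subtype.val hwe).symm]
          exact hw
        · intro hz
          have hzM : z ∈ normalizer (M : Set L) := by
            have := mul_mem (mul_mem (inv_mem a.2) (hPM' hz)) a.2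
            simpa [mul_assoc] using this
          obtain ⟨w, hw, hwe⟩ := (ha ⟨z, hzM⟩).2
            ⟨⟨⟨(a : L) * z * (a : L)⁻¹, hPM' hz⟩, hPM hz⟩, hz, Subtype.ext rfl⟩
          rw [show z = ((w : normalizer (M : Set L)) : L) from
            (congrArg Subtype.val hwe).symm]
          exact hw
      rw [hNLP, sup_eq_left.2 hPM, hM, mem_comap] at key
      exact key
    have h0 := Fusion.commutator_inf_eq_of_controls Q le_normalizer
      (Fusion.controlsElementFusion_normalizer_of_commutative Q hQcomm)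
    intro x hx
    have hfx : f x ∈ commutator (L ⧸ J₂.subgroupOf L) ⊓ (Q : Subgroup (L ⧸ J₂.subgroupOf L)) := by
      refine ⟨?_, by rw [hQ]; exact mem_map_of_mem f hx.2⟩
      have : f x ∈ (commutator L).map f := mem_map_of_mem f hx.1
      rw [_root_.commutator_def, map_commutator] at this
      exact commutator_mono le_top le_top this
    rw [h0] at hfx
    have hbot : ⁅normalizer ((Q : Subgroup (L ⧸ J₂.subgroupOf L)) : Set (L ⧸ J₂.subgroupOf L)),
        normalizer ((Q : Subgroup (L ⧸ J₂.subgroupOf L)) : Set (L ⧸ J₂.subgroupOf L))⁆ ≤ ⊥ := by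
      rw [commutator_le]
      intro u hu v hv
      rw [mem_bot, commutatorElement_eq_one_iff_mul_comm]
      haveI := hQcomm
      exact congrArg Subtype.val (mul_comm' (⟨u, hNQ hu⟩ : (Q : Subgroup (L ⧸ J₂.subgroupOf L))) ⟨v, hNQ hv⟩)
    have hfx1 : f x = 1 := mem_bot.1 (hbot hfx.1)
    have h2 : (x : G) ∈ ⁅(P : Subgroup G), (P : Subgroup G)⁆ := by
      rw [← hJ₂]
      exact ⟨(QuotientGroup.eq_one_iff x).1 hfx1, hPN hx.2⟩
    have h3 : ⁅(PL : Subgroup L), (PL : Subgroup L)⁆.map L.subtype =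
        ⁅(P : Subgroup G), (P : Subgroup G)⁆ := by
      rw [map_commutator, Sylow.coe_subtype, map_subgroupOf_eq_of_le hPJ₁]
    rw [← h3] at h2
    obtain ⟨z, hz, hzx⟩ := h2
    rwa [← Subtype.ext hzx]
  have hLp : Cfsg.HasNormalPComplement p L :=
    Fusion.hasNormalPComplement_of_commutator_eq PL le_rfl hfocal
      (Fusion.hasNormalPComplement_of_isPGroup PL.isPGroup')
  have hXP := (Fusion.hasNormalPComplement_iff_inf_eq_bot PL).1 hLp
  haveI hchar : (Cfsg.pResidual p L).Characteristic := by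
    rw [characteristic_iff_map_eq]
    exact fun e => Fusion.map_pResidual_equiv e
  refine ⟨(Cfsg.pResidual p L).map L.subtype, inferInstance, ?_, ?_⟩
  · rw [eq_top_iff, ← Sylow.normalizer_sup_eq_top PL]
    refine sup_le ?_ ?_
    · rw [show (PL : Subgroup L).map L.subtype = (P : Subgroup G) from
        map_subgroupOf_eq_of_le hPJ₁, ← hN]
      exact le_sup_right
    · intro x hx
      have : (⟨x, hx⟩ : L) ∈ (PL : Subgroup L) ⊔ Cfsg.pResidual p L := by
        rw [Fusion.sylow_sup_pResidual PL]; trivial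
      have h' := mem_map_of_mem L.subtype this
      rw [Subgroup.map_sup, Sylow.coe_subtype, map_subgroupOf_eq_of_le hPJ₁] at h'
      exact sup_le (hPN.trans le_sup_right) le_sup_left h'
  · rw [eq_bot_iff]
    rintro _ ⟨⟨z, hz, rfl⟩, hzN⟩
    have h1 : (z : G) ∈ (P : Subgroup G) := by rw [← hJ₁]; exact ⟨z.2, hzN⟩
    have : z ∈ (PL : Subgroup L) ⊓ Cfsg.pResidual p L := ⟨h1, hz⟩
    rw [hXP, mem_bot] at this
    rw [this]; simp

end Cfsg.Agent.H86
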