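import Mathlib.Data.Nat.Prime.Basic
import Mathlib.Data.Int.ModEq
import Mathlib.Tactic.LinearCombination
import Mathlib.Tactic.Linarith
import Mathlib.Tactic.Ring
import Mathlib.RingTheory.Int.Basic

/-!
# The arithmetic of degrees with few Sylow subgroups

`Rep p n` is Brauer's representation `n = (h u p + u ^ 2 + u + h) / (u + 1)`.
-/

namespace Cfsg.Agent.H86.FewSylowArith

variable {p e g n d : ℕ}

/-- Brauer's representation of `n`. -/
def Rep (p n : ℕ) : Prop :=
  ∃ h u : ℕ, 0 < h ∧ 0 < u ∧ n * (u + 1) = h * u * p + u ^ 2 + u + h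

theorem two_mul_n_le (hg : g = 1 + n * p) (hn : 2 * g < (p + 1) * (p + 2)) : 2 * n ≤ p + 2 := by
  by_contra h
  push Not at h
  have : (p + 3) * p ≤ 2 * n * p := Nat.mul_le_mul_right p h
  subst hg
  ring_nf at hn this
  omega

/-- Few Sylow subgroups exclude the representation. -/
theorem not_rep_of_few (hg : g = 1 + n * p) (hn : 2 * g < (p + 1) * (p + 2)) : ¬ Rep p n := by
  rintro ⟨h, u, hh, hu, he⟩
  have h2 := two_mul_n_le hg hn
  have h3 : 2 * n * (u + 1) ≤ (p + 2) * (u + 1) := Nat.mul_le_mul_right _ h2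
  have h4 : u * p ≤ h * u * p := by
    rw [mul_assoc]; exact Nat.le_mul_of_pos_left _ hh
  have h5 : p ≤ u * p := Nat.le_mul_of_pos_left _ hu
  have h6 : u ≤ u ^ 2 := Nat.le_self_pow two_ne_zero u
  have h7 : 1 ≤ u ^ 2 := Nat.one_le_pow _ _ hu
  linarith

/-- A divisor `D ≡ 1` of `(p - 1) g` strictly between `1` and `g` gives a representation. -/
theorem rep_of_dvd (hp : p.Prime) (hg : g = 1 + n * p) {D : ℕ} (hD : p ∣ D - 1)
    (h1 : 1 < D) (h2 : D < g) (hdvd : D ∣ (p - 1) * g) : Rep p n := by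
  obtain ⟨u, hu⟩ := hD
  have hp2 := hp.two_le
  have hu1 : 1 ≤ u := Nat.pos_of_ne_zero (by rintro rfl; simp at hu; omega)
  have hDu : (D : ℤ) = u * p + 1 := by
    have : ((D - 1 : ℕ) : ℤ) = ((p * u : ℕ) : ℤ) := by exact_mod_cast congrArg (Nat.cast (R := ℤ)) hu
    push_cast [Nat.cast_sub (show 1 ≤ D by omega)] at this
    linarith
  have hgn : (g : ℤ) = 1 + n * p := by exact_mod_cast hg
  have hdvd' : (D : ℤ) ∣ ((p : ℤ) - 1) * g := by
    have h' : (D : ℤ) ∣ (((p - 1) * g : ℕ) : ℤ) := Int.natCast_dvd_natCast.2 hdvd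
    push_cast [Nat.cast_sub (show 1 ≤ p by omega)] at h'
    exact h'
  obtain ⟨r, hr⟩ : (D : ℤ) ∣ ((u : ℤ) + 1) * g := by
    have h' : ((u : ℤ) + 1) * g = D * g - u * (((p : ℤ) - 1) * g) := by rw [hDu]; ring
    rw [h']
    exact Int.dvd_sub (dvd_mul_right _ _) (hdvd'.mul_left _)
  have hrgt : (u : ℤ) + 1 < r := by
    by_contra h
    push Not at h
    have ha : (D : ℤ) * r ≤ D * ((u : ℤ) + 1) := mul_le_mul_of_nonneg_left h (by positivity)
    have hb : ((u : ℤ) + 1) * D < ((u : ℤ) + 1) * g :=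
      mul_lt_mul_of_pos_left (by exact_mod_cast h2) (by positivity)
    linarith
  obtain ⟨w, hw⟩ : (p : ℤ) ∣ r - ((u : ℤ) + 1) := by
    refine ⟨((u : ℤ) + 1) * n - u * r, ?_⟩
    rw [hgn, hDu] at hr
    linear_combination -hr
  have hw1 : 1 ≤ w := by
    by_contra h
    push Not at h
    have : (p : ℤ) * w ≤ 0 := mul_nonpos_of_nonneg_of_nonpos (by positivity) (by omega)
    omega
  refine ⟨w.toNat, u, by omega, hu1, ?_⟩
  apply Int.natCast_inj.1
  push_cast
  rw [Int.toNat_of_nonneg (by omega)]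
  refine mul_left_cancel₀ (show (p : ℤ) ≠ 0 by omega) ?_
  rw [hgn, hDu] at hr
  linear_combination hr + ((u : ℤ) * p + 1) * hw

theorem deg_plus (hp : p.Prime) (hg : g = 1 + n * p) (he : e ∣ p - 1) (hd : p ∣ d - 1) (hd1 : 1 < d)
    (hdvd : d ∣ e * g) (hn : ¬ Rep p n) : d = g := by
  obtain ⟨u, hu⟩ := hd
  obtain ⟨t, ht⟩ := he
  have hp2 := hp.two_le
  rcases le_or_gt g d with hle | hlt
  · obtain ⟨q, hq⟩ := hdvd
    have hdu : d = u * p + 1 := by rw [mul_comm]; omega
    have hg0 : 0 < g := by omega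
    have he0 : 0 < e := Nat.pos_of_ne_zero (by rintro rfl; simp at ht; omega)
    have hqe : q ≤ e := by
      refine Nat.le_of_mul_le_mul_left ?_ hg0
      calc g * q ≤ d * q := Nat.mul_le_mul_right q hle
        _ = g * e := by rw [← hq, mul_comm]
    have hep : e ≤ p - 1 := Nat.le_of_dvd (by omega) ⟨t, ht⟩
    have h : (p : ℤ) ∣ (e : ℤ) - q := by
      refine ⟨(q : ℤ) * u - (e : ℤ) * n, ?_⟩
      have hq' : (e : ℤ) * g = d * q := by exact_mod_cast hq
      rw [hg, hdu] at hq'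
      push_cast at hq'
      linear_combination hq'
    have h2 : (e : ℤ) - q = 0 := Int.eq_zero_of_dvd_of_nonneg_of_lt (by omega) (by omega) h
    rw [show q = e by omega, mul_comm d e] at hq
    exact (Nat.eq_of_mul_eq_mul_left he0 hq).symm
  · exact absurd (rep_of_dvd hp hg ⟨u, hu⟩ hd1 hlt
      (hdvd.trans (mul_dvd_mul_right ⟨t, ht⟩ g))) hn

theorem deg_minus (hp : p.Prime) (hp3 : 3 ≤ p) (hg : g = 1 + n * p) (hn1 : 1 ≤ n) (he : e ∣ p - 1)
    (hd : p ∣ d + 1) (hdvd : d ∣ e * g) (hsq : d ^ 2 < p * e * g)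
    (hn : ¬ Rep p n) : d = p - 1 := by
  obtain ⟨t, ht⟩ := he
  have hdvd' : d ∣ (p - 1) * g := hdvd.trans (mul_dvd_mul_right ⟨t, ht⟩ g)
  obtain ⟨q, hq⟩ := hdvd'
  have hg1 : p + 1 ≤ g := by
    have : 1 * p ≤ n * p := Nat.mul_le_mul_right p hn1
    omega
  have hd0 : 0 < d := by
    rcases Nat.eq_zero_or_pos d with h | h
    · rw [h, zero_mul] at hq
      have : 0 < (p - 1) * g := Nat.mul_pos (by omega) (by omega)
      omega
    · exact h
  have hq0 : 0 < q := by
    rcases Nat.eq_zero_or_pos q with h | h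
    · rw [h, mul_zero] at hq
      have : 0 < (p - 1) * g := Nat.mul_pos (by omega) (by omega)
      omega
    · exact h
  have hqmod : p ∣ q - 1 := by
    obtain ⟨u, hu⟩ := hd
    have hq' : ((p : ℤ) - 1) * g = d * q := by
      have : (((p - 1) * g : ℕ) : ℤ) = ((d * q : ℕ) : ℤ) := congrArg _ hq
      push_cast [Nat.cast_sub (show 1 ≤ p by omega)] at this
      exact this
    have hu' : (d : ℤ) + 1 = p * u := by exact_mod_cast hu
    refine Int.natCast_dvd_natCast.1 ?_
    rw [Nat.cast_sub hq0, Nat.cast_one]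
    refine ⟨(u : ℤ) * q - (g : ℤ) + n, ?_⟩
    have hgn : (g : ℤ) = 1 + n * p := by exact_mod_cast hg
    linear_combination hq' + (q : ℤ) * hu' + hgn
  rcases (show q = 1 ∨ 1 < q by omega) with rfl | hq1
  · exfalso
    rw [mul_one] at hq
    have he' : e ≤ p - 1 := Nat.le_of_dvd (by omega) ⟨t, ht⟩
    have h1 : d * g ≤ d ^ 2 := by
      rw [pow_two]
      refine Nat.mul_le_mul_left _ ?_
      rw [← hq]; exact Nat.le_mul_of_pos_left _ (by omega)
    have h2 : p * e * g ≤ p * d := by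
      rw [← hq, mul_assoc]
      exact Nat.mul_le_mul_left _ (Nat.mul_le_mul_right _ he')
    have h3 : d * p < d * g := Nat.mul_lt_mul_of_pos_left (by omega) hd0
    rw [mul_comm p d] at h2
    omega
  · rcases le_or_gt g q with hle | hlt
    · have h1 : d * g ≤ (p - 1) * g := by
        rw [hq]; exact Nat.mul_le_mul_left _ hle
      have h2 : d ≤ p - 1 := Nat.le_of_mul_le_mul_right h1 (by omega)
      have h3 := Nat.le_of_dvd (by omega) hd
      omega
    · exact absurd (rep_of_dvd hp hg hqmod hq1 hlt ⟨d, by rw [hq, mul_comm]⟩) hn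

end Cfsg.Agent.H86.FewSylowArith
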