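import Cfsg.Agent.H86.FewSylowDegrees

/-!
# Few Sylow subgroups of prime order: the case division
-/

set_option linter.unusedSectionVars false
set_option linter.style.haveILetI false

open scoped ComplexConjugate Classical

namespace Cfsg.Agent.H86.FewSylow

open CharBasic Subgroup BlockBasic

universe u

variable {G : Type u} [Group G] [Fintype G] {p : ℕ} [hp : Fact p.Prime]

theorem E_comm (S : SC G p) {x y : G} (hx : x ∈ S.E) (hy : y ∈ S.E) : x * y = y * x := by
  haveI := comm_E S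
  exact congrArg Subtype.val (mul_comm' (⟨x, hx⟩ : S.E) ⟨y, hy⟩)

theorem E_le_centralizer (S : SC G p) {y : G} (hy : y ∈ S.E) :
    S.E ≤ centralizer ({y} : Set G) := fun _ hx =>
  mem_centralizer_singleton_iff.2 (E_comm S hx hy)

/-- An element without a conjugate in the normalizer is orthogonal to the multiplicities. -/
theorem sum_conj_apply_mul_mlt (S : SC G p) {y : G}
    (hy : ∀ m : G, m ∈ S.N → ¬ IsConj y m) (l : IrrCharacter S.E) :
    ∑ χ : IrrCharacter G, conj ((χ : G → ℂ) y) * (mlt S χ l : ℂ) = 0 := by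
  simp only [mlt_spec, classInner_def, fixFun, Finset.mul_sum, Finset.sum_mul]
  rw [Finset.sum_comm]
  refine Finset.sum_eq_zero fun z _ => ?_
  rw [Finset.sum_comm]
  refine Finset.sum_eq_zero fun u _ => ?_
  have h0 : ∑ χ : IrrCharacter G, (χ : G → ℂ) ((u : G) * (z : G)) * conj ((χ : G → ℂ) y) = 0 :=
    second_orthogonality_not_isConj fun hc =>
      hy _ (mul_mem (P_le S u.2) (S.E_le z.2)) hc.symm
  have e : ∀ a b c d f : ℂ, a * (b * (c * d * f)) = b * c * f * (d * a) := fun a b c d f => by ring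
  simp only [e, ← Finset.mul_sum, h0, mul_zero]

namespace Data

variable (D : Data G p)

include D

theorem card_fix {y : G} (hy : y ∈ D.S.E) (hy1 : y ≠ 1) : (fixPts p y).card = D.n + 1 :=
  card_fixPts D.S D.sum_mlt_trivial hy hy1

theorem card_NE : Nat.card (normalizer (D.S.E : Set G)) = D.e * (D.n + 1) :=
  card_normalizer_E D.S D.sum_mlt_trivial D.n_pos D.two_le_e

theorem centralizer_le {y : G} (hy : y ∈ D.S.E) (hy1 : y ≠ 1) :
    centralizer ({y} : Set G) ≤ normalizer (D.S.E : Set G) :=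
  centralizer_le_normalizer_E D.S D.sum_mlt_trivial D.n_pos hy hy1

theorem card_pos_eq (h : D.ε = 1) : D.Xp.card * (D.n + 1) + 1 = D.e ∧ D.d = D.e := by
  have h1 := D.k_relation
  have h2 := D.d_eq
  rw [h, D.k_eq_zero_of_pos h] at h1 h2
  simp only [Nat.cast_zero, mul_zero, one_mul] at h1 h2
  have he : (D.e : ℤ) = 1 + ((D.Xp.card : ℤ) + D.Xm.card) := by exact_mod_cast D.card_eq
  constructor
  · have : (((D.Xp.card * (D.n + 1) + 1 : ℕ)) : ℤ) = (D.e : ℤ) := by push_cast; linarith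
    exact_mod_cast this
  · have : (D.d : ℤ) = (D.e : ℤ) := by linarith
    exact_mod_cast this

theorem n_succ_lt : D.n + 1 < p := by
  have he := D.e_lt
  rcases D.hε with h | h
  · obtain ⟨h1, -⟩ := D.card_pos_eq h
    have ha : 1 ≤ D.Xp.card := by
      by_contra h0
      rw [show D.Xp.card = 0 by omega] at h1
      have := D.two_le_e
      omega
    have : 1 * (D.n + 1) ≤ D.Xp.card * (D.n + 1) := Nat.mul_le_mul_right _ ha
    omega
  · obtain ⟨h1, -⟩ := D.n_succ_eq h
    have h2 : D.k * D.t < D.e * D.t := Nat.mul_lt_mul_of_pos_right D.k_lt D.t_pos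
    rw [D.e_mul_t] at h2
    omega

theorem n_succ_dvd : D.n + 1 ∣ D.e * D.t := by
  have h1 : D.e * (D.n + 1) ∣ D.e * (p * D.g) := by
    rw [show D.e * (p * D.g) = Nat.card G by rw [D.card_G_eq]; ring, ← D.card_NE]
    exact Subgroup.card_subgroup_dvd_card _
  have h2 : D.n + 1 ∣ p * D.g :=
    Nat.dvd_of_mul_dvd_mul_left (by have := D.two_le_e; omega) h1
  have h3 : Nat.Coprime (D.n + 1) p := (hp.out.coprime_iff_not_dvd.2 fun h =>
    absurd (Nat.le_of_dvd (Nat.succ_pos _) h) (by have := D.n_succ_lt; omega)).symm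
  have h4 : ((D.n + 1 : ℕ) : ℤ) ∣ (D.g : ℤ) :=
    Int.natCast_dvd_natCast.2 (h3.dvd_of_dvd_mul_left h2)
  have h5 : ((D.n + 1 : ℕ) : ℤ) ∣ ((D.e * D.t : ℕ) : ℤ) := by
    have hg : (D.g : ℤ) = 1 + D.n * p := by exact_mod_cast D.g_eq
    have hp1 : ((p - 1 : ℕ) : ℤ) = (p : ℤ) - 1 := by have := hp.out.two_le; omega
    rw [D.e_mul_t, hp1]
    have h6 : (p : ℤ) - 1 = ((D.n + 1 : ℕ) : ℤ) * (p : ℤ) - (D.g : ℤ) := by
      rw [hg]; push_cast; ring
    rw [h6]
    exact Int.dvd_sub (dvd_mul_right _ _) h4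
  exact Int.natCast_dvd_natCast.1 h5

theorem n_succ_dvd_t (h : D.ε = 1) : D.n + 1 ∣ D.t := by
  obtain ⟨h1, -⟩ := D.card_pos_eq h
  have hco : Nat.Coprime (D.n + 1) D.e := by
    refine Nat.coprime_of_dvd' fun k _ hk1 hk2 => ?_
    rw [← h1] at hk2
    exact (Nat.dvd_add_right (dvd_mul_of_dvd_right hk1 _)).1 hk2
  exact hco.dvd_of_dvd_mul_left D.n_succ_dvd

theorem minus_eq (h : D.ε = -1) : D.k = 1 ∧ D.t = D.n + 1 ∧ D.e = D.Xp.card * D.t + 2 := by
  obtain ⟨h1, -⟩ := D.n_succ_eq h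
  have h2 := D.k_add_eq h
  have h3 := D.n_succ_dvd
  rw [h1] at h3
  have hke : D.k ∣ D.e := Nat.dvd_of_mul_dvd_mul_right D.t_pos h3
  have hk : D.k = 1 := by
    rw [← h2, h1] at hke
    exact Nat.dvd_one.1 ((Nat.dvd_add_right
      (dvd_add (dvd_mul_of_dvd_right (dvd_mul_right _ _) _) dvd_rfl)).1 hke)
  rw [hk, one_mul] at h1
  refine ⟨hk, h1.symm, ?_⟩
  rw [← h2, hk, h1]

theorem two_le_t : 2 ≤ D.t := by
  have := D.n_pos
  rcases D.hε with h | h
  · have := Nat.le_of_dvd D.t_pos (D.n_succ_dvd_t h)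
    omega
  · have := (D.minus_eq h).2.1
    omega

theorem theta_apply_E_pos (h : D.ε = 1) {y : D.S.E} (hy : y ≠ 1) :
    (D.θ : G → ℂ) (y : G) = 0 := by
  rw [← fixFun_ne D.S (IsIrr.isClassFunction D.θ.2) hy, fixFun_expand]
  refine Finset.sum_eq_zero fun l _ => ?_
  have h0 : fixDim D.S D.θ = 0 := D.k_eq_zero_of_pos h
  have hz : mlt D.S D.θ l = 0 := by have := mlt_le_fixDim D.S D.θ l; omega
  rw [hz, Nat.cast_zero, zero_mul]

/-- The square of the modulus of an exceptional character bounds the large characters. -/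
theorem pos_sq_ge (h : D.ε = 1) : 1 + D.Xp.card * D.g ≤ D.e ^ 2 := by
  haveI := comm_E D.S
  set ψ : G → ℂ := fun g => (D.θ : G → ℂ) g * conj ((D.θ : G → ℂ) g) with hψdef
  have hψ : IsCharacter G ψ := CharInduce.IsChar.mul (IsIrr.isCharacter D.θ.2)
    (CharInduce.IsChar.conj (IsIrr.isCharacter D.θ.2))
  have hψc : IsClassFunction G ψ := fun a b => by
    simp only [hψdef, IsIrr.isClassFunction D.θ.2 a b]
  have hm : ∀ χ : IrrCharacter G, ∃ n : ℕ, classInner ψ (χ : G → ℂ) = n := fun χ =>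
    classInner_isChar_nat hψ (IsIrr.isCharacter χ.2)
  choose m hm using hm
  have hexp : ∀ g, ψ g = ∑ χ : IrrCharacter G, (m χ : ℂ) * (χ : G → ℂ) g := fun g => by
    have h' := congrFun (classFunction_expansion hψc) g
    simpa [Finset.sum_apply, hm] using h'
  set c := (Nat.card D.S.E : ℂ)⁻¹ * fixFun D.S ψ 1 with hc
  have hl : ∀ l : IrrCharacter D.S.E, classInner (fixFun D.S ψ) (l : D.S.E → ℂ) = c := by
    intro l
    rw [classInner_def, ← Finset.add_sum_erase _ _ (Finset.mem_univ (1 : D.S.E)),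
      Finset.sum_eq_zero (fun y hy => by
        rw [fixFun_ne D.S hψc (Finset.ne_of_mem_erase hy)]
        simp [hψdef, D.theta_apply_E_pos h (Finset.ne_of_mem_erase hy)]),
      H85.apply_one_eq_one_of_comm l, map_one, mul_one, add_zero]
  have hlin : ∀ l : IrrCharacter D.S.E, classInner (fixFun D.S ψ) (l : D.S.E → ℂ) =
      ∑ χ : IrrCharacter G, (m χ : ℂ) * (mlt D.S χ l : ℂ) := by
    intro l
    simp only [mlt_spec, classInner_def, fixFun, hexp, Finset.mul_sum, Finset.sum_mul]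
    conv_lhs => arg 2; intro z; rw [Finset.sum_comm]
    rw [Finset.sum_comm]
    exact Finset.sum_congr rfl fun χ _ => Finset.sum_congr rfl fun z _ =>
      Finset.sum_congr rfl fun u _ => by ring
  have hc0 : c ≠ 0 := by
    refine mul_ne_zero (inv_ne_zero (Nat.cast_ne_zero.2 Nat.card_pos.ne')) ?_
    rw [fixFun_one]
    refine mul_ne_zero (inv_ne_zero (Nat.cast_ne_zero.2 hp.out.ne_zero)) ?_
    have hsum : ∑ u : (D.S.P : Subgroup G), ψ (u : G) =
        ((∑ u : (D.S.P : Subgroup G), Complex.normSq ((D.θ : G → ℂ) (u : G)) : ℝ) : ℂ) := by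
      rw [Complex.ofReal_sum]
      exact Finset.sum_congr rfl fun u _ => by simp only [hψdef, Complex.mul_conj]
    rw [hsum]
    exact_mod_cast (Finset.sum_pos' (fun u _ => Complex.normSq_nonneg _)
      ⟨1, Finset.mem_univ _, by
        rw [Subgroup.coe_one]
        exact Complex.normSq_pos.2 (irr_one_ne_zero D.θ.2)⟩).ne'
  have hmX : ∀ χ ∈ D.Xp, 1 ≤ m χ := by
    intro χ hχ
    obtain ⟨h1, h2, h3⟩ := Finset.mem_filter.1 hχ
    have hfd := D.fixDim_pos h1 h3 h2
    obtain ⟨l, -, hl0⟩ := Finset.exists_ne_zero_of_sum_ne_zero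
      (show ∑ l, mlt D.S χ l ≠ 0 by
        have : fixDim D.S χ ≠ 0 := by omega
        exact this)
    have hlne : l ≠ trivialIrr := fun e => hl0 (e ▸ Finset.sum_eq_zero_iff.1 D.A_one χ hχ)
    have hsum : ∑ χ' : IrrCharacter G, (m χ' : ℂ) * (mlt D.S χ' l : ℂ) =
        (m χ : ℂ) * (mlt D.S χ l : ℂ) := by
      refine Finset.sum_eq_single χ (fun χ' _ hne => ?_) fun h => absurd (Finset.mem_univ _) h
      suffices h0 : mlt D.S χ' l = 0 by rw [h0, Nat.cast_zero, mul_zero]
      by_cases hX : χ' ∈ D.X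
      · rw [D.X_eq] at hX
        simp only [Finset.mem_insert, Finset.mem_union] at hX
        rcases hX with rfl | hX | hX
        · exact D.mlt_triv hlne
        · by_contra h0
          have hle : ∑ x ∈ ({χ, χ'} : Finset (IrrCharacter G)), mlt D.S x l ≤ D.A l :=
            Finset.sum_le_sum_of_subset (by
              intro x hx
              simp only [Finset.mem_insert, Finset.mem_singleton] at hx
              rcases hx with rfl | rfl <;> assumption)
          rw [Finset.sum_pair (Ne.symm hne)] at hle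
          have := D.A_le l
          omega
        · exact D.mlt_Xm hX l
      · by_cases hY : χ' ∈ D.Y
        · rw [D.mlt_Y hY]
          have h0 : fixDim D.S D.θ = 0 := D.k_eq_zero_of_pos h
          have := mlt_le_fixDim D.S D.θ l
          omega
        · exact D.mlt_out hX hY hlne
    rw [← hlin, hl] at hsum
    by_contra h0
    rw [show m χ = 0 by omega, Nat.cast_zero, zero_mul] at hsum
    exact hc0 hsum
  have htriv : m trivialIrr = 1 := by
    have h' := hm (trivialIrr : IrrCharacter G)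
    have h1 : classInner ψ ((trivialIrr : IrrCharacter G) : G → ℂ) = 1 := by
      rw [← classInner_irr_self D.θ.2]
      simp [classInner_def, hψdef, trivialIrr]
    rw [h1] at h'
    exact_mod_cast h'.symm
  have hdeg : D.e ^ 2 = ∑ χ : IrrCharacter G, m χ * charDegree (χ : G → ℂ) := by
    apply Nat.cast_injective (R := ℂ)
    have h1 := hexp 1
    simp only [hψdef, apply_one_eq_charDegree, Complex.conj_natCast] at h1
    push_cast
    rw [← h1]
    have hd : charDegree (D.θ : G → ℂ) = D.e := (D.card_pos_eq h).2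
    rw [hd]; ring
  rw [hdeg]
  have hone : charDegree ((trivialIrr : IrrCharacter G) : G → ℂ) = 1 := by
    have h' := apply_one_eq_charDegree (trivialIrr : IrrCharacter G)
    exact_mod_cast (h'.symm.trans rfl : (charDegree ((trivialIrr : IrrCharacter G) : G → ℂ) : ℂ) = 1)
  calc 1 + D.Xp.card * D.g
      ≤ m trivialIrr * charDegree ((trivialIrr : IrrCharacter G) : G → ℂ) +
          ∑ χ ∈ D.Xp, m χ * charDegree (χ : G → ℂ) := by
        rw [htriv, hone, one_mul]
        refine Nat.add_le_add_left ?_ 1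
        rw [← smul_eq_mul, ← Finset.sum_const]
        refine Finset.sum_le_sum fun χ hχ => ?_
        obtain ⟨h1, h2, h3⟩ := Finset.mem_filter.1 hχ
        rw [D.degree_pos h1 h3 h2]
        exact Nat.le_mul_of_pos_left _ (hmX χ hχ)
    _ = ∑ χ ∈ insert trivialIrr D.Xp, m χ * charDegree (χ : G → ℂ) := by
        rw [Finset.sum_insert fun hh => D.triv_notMem (Finset.mem_union_left _ hh)]
    _ ≤ _ := Finset.sum_le_sum_of_subset (Finset.subset_univ _)

theorem n_eq_one_of_pos (h : D.ε = 1) : D.n = 1 := by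
  by_contra hne
  have hn : 2 ≤ D.n := by have := D.n_pos; omega
  have h1 := D.pos_sq_ge h
  obtain ⟨h2, -⟩ := D.card_pos_eq h
  have h3 := Nat.le_of_dvd D.t_pos (D.n_succ_dvd_t h)
  have h4 : D.e * 3 + 1 ≤ p := by
    have h5 : D.e * 3 ≤ D.e * D.t := Nat.mul_le_mul_left _ (by omega)
    rw [D.e_mul_t] at h5
    have := hp.out.two_le
    omega
  rw [D.g_eq] at h1
  have h6 : 2 * (D.e - 1) ≤ 3 * (D.Xp.card * D.n) := by
    have : D.e - 1 = D.Xp.card * D.n + D.Xp.card := by rw [← h2]; simp [mul_add]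
    have : D.Xp.card * 2 ≤ D.Xp.card * D.n := Nat.mul_le_mul_left _ hn
    omega
  have h7 : 2 * (D.e - 1) * (D.e * 3 + 1) ≤ 3 * (D.Xp.card * D.n) * p := Nat.mul_le_mul h6 h4
  have h8 : 2 ≤ D.e := D.two_le_e
  have h9 : ((2 * (D.e - 1) * (D.e * 3 + 1) : ℕ) : ℤ) ≤ ((3 * (D.Xp.card * D.n) * p : ℕ) : ℤ) := by
    exact_mod_cast h7
  have h10 : ((1 + D.Xp.card * (1 + D.n * p) : ℕ) : ℤ) ≤ ((D.e ^ 2 : ℕ) : ℤ) := by exact_mod_cast h1
  push_cast [Nat.cast_sub (show 1 ≤ D.e by omega)] at h9 h10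
  have h11 : (2 : ℤ) ≤ (D.e : ℤ) := by exact_mod_cast h8
  have h12 : (0 : ℤ) ≤ (D.Xp.card : ℤ) := by positivity
  nlinarith [mul_le_mul_of_nonneg_left h11 (by positivity : (0 : ℤ) ≤ (D.e : ℤ))]

/-- Either `p + 1` Sylow subgroups, or the exceptional case. -/
theorem cases : D.n = 1 ∨ (D.ε = -1 ∧ D.t = D.n + 1 ∧ 3 ≤ D.t) := by
  rcases D.hε with h | h
  · exact Or.inl (D.n_eq_one_of_pos h)
  · obtain ⟨-, h1, -⟩ := D.minus_eq h
    have := D.n_pos
    rcases (show D.n = 1 ∨ 2 ≤ D.n by omega) with h2 | h2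
    · exact Or.inl h2
    · exact Or.inr ⟨h, h1, by omega⟩

end Data

end Cfsg.Agent.H86.FewSylow
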