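import Cfsg.Agent.H86.SelfCentralPoints
import Cfsg.Agent.H86.FewSylowArith
import Cfsg.Agent.H85.Gallagher

/-!
# Few Sylow subgroups of prime order in a perfect group: degrees and multiplicities

After R. Brauer, *On permutation groups of prime degree and related classes of groups* (1943).
-/

set_option linter.unusedSectionVars false
set_option linter.style.haveILetI false

open scoped ComplexConjugate Classical

namespace Cfsg.Agent.H86.FewSylow

open CharBasic Subgroup BlockBasic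

universe u

variable {G : Type u} [Group G] [Fintype G] {p : ℕ} [hp : Fact p.Prime]

theorem hom_eq_one_of_perfect (hperf : commutator G = ⊤) {A : Type*} [Monoid A] (f : G →* A)
    (hcomm : ∀ x y, f x * f y = f y * f x) (g : G) : f g = 1 := by
  have h : commutator G ≤ f.ker := by
    rw [commutator_def, Subgroup.commutator_le]
    intro a _ b _
    rw [MonoidHom.mem_ker, commutatorElement_def, map_mul, map_mul, map_mul, hcomm a b, mul_assoc,
      mul_assoc, ← mul_assoc (f a) (f a⁻¹), ← map_mul, mul_inv_cancel, map_one, one_mul, ← map_mul,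
      mul_inv_cancel, map_one]
  rw [hperf] at h
  exact h (mem_top g)

theorem nn_pos (S : SC G p) (hperf : commutator G = ⊤) : 1 ≤ nn S := by
  by_contra h
  have hg : Nat.card (Sylow p G) = 1 := by
    rw [card_sylow_eq S, show nn S = 0 by omega, zero_mul, add_zero]
  have hN : ∀ g : G, g ∈ S.N := by
    intro g
    haveI := (Nat.card_eq_one_iff_unique.1 hg).1
    exact (smul_P_eq S).1 (Subsingleton.elim _ _)
  haveI := comm_E S
  let f : G →* S.E := (proj S).comp
    { toFun := fun g => (⟨g, hN g⟩ : S.N), map_one' := rfl, map_mul' := fun _ _ => rfl }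
  have hf := hom_eq_one_of_perfect hperf f fun _ _ => mul_comm' _ _
  have hP : ∀ g : G, g ∈ (S.P : Subgroup G) := by
    intro g
    obtain ⟨⟨u, y⟩, hu⟩ := (decEquiv S).surjective ⟨g, hN g⟩
    have hy : proj S ⟨g, hN g⟩ = 1 := hf g
    rw [← hu, proj_decEquiv] at hy
    have he := congrArg Subtype.val hu
    rw [decEquiv_apply, show y = 1 from hy] at he
    simp only [Subgroup.coe_one, mul_one] at he
    exact he ▸ u.2
  haveI : IsCyclic (S.P : Subgroup G) := isCyclic_of_prime_card (p := p) S.card_P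
  haveI : IsMulCommutative (S.P : Subgroup G) := IsCyclic.isMulCommutative
  let f' : G →* (S.P : Subgroup G) :=
    { toFun := fun g => ⟨g, hP g⟩, map_one' := rfl, map_mul' := fun _ _ => rfl }
  have hf' := hom_eq_one_of_perfect hperf f' fun _ _ => mul_comm' _ _
  have h2 := S.card_P
  have hbot : (S.P : Subgroup G) = ⊥ :=
    Subgroup.eq_bot_iff_forall _ |>.2 fun x _ => congrArg Subtype.val (hf' x)
  rw [hbot, Subgroup.card_bot] at h2
  exact hp.out.ne_one h2.symm

theorem two_le_card_E (S : SC G p) (hperf : commutator G = ⊤) : 2 ≤ Nat.card S.E := by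
  by_contra h
  have h1 : Nat.card S.E = 1 := le_antisymm (by omega) Nat.card_pos
  have hle : S.N ≤ centralizer ((S.P : Subgroup G) : Set G) := by
    intro g hg
    obtain ⟨u, hu, y, hy, rfl⟩ := S.dec g hg
    have : (⟨y, hy⟩ : S.E) = 1 := by
      haveI := (Nat.card_eq_one_iff_unique.1 h1).1
      exact Subsingleton.elim _ _
    rw [show y = 1 from congrArg Subtype.val this, mul_one, S.hC]
    exact hu
  have hc := MonoidHom.ker_transferSylow_isComplement' S.P hle
  haveI : IsCyclic (S.P : Subgroup G) := isCyclic_of_prime_card (p := p) S.card_P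
  haveI : IsMulCommutative (S.P : Subgroup G) := IsCyclic.isMulCommutative
  have hker : (MonoidHom.transferSylow S.P hle).ker = ⊤ := eq_top_iff.2 fun g _ =>
    MonoidHom.mem_ker.2 (hom_eq_one_of_perfect hperf _ (fun _ _ => mul_comm' _ _) g)
  rw [hker] at hc
  have := Subgroup.isComplement'_top_left.1 hc
  have h2 := S.card_P
  rw [this, Subgroup.card_bot] at h2
  exact hp.out.ne_one h2.symm

/-- The data of Brauer's theorem. -/
structure Data (G : Type u) [Group G] [Fintype G] (p : ℕ) [Fact p.Prime] where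
  S : SC G p
  perf : commutator G = ⊤
  noRep : ¬ FewSylowArith.Rep p (nn S)
  X : Finset (IrrCharacter G)
  Y : Finset (IrrCharacter G)
  εX : IrrCharacter G → ℤ
  ε : ℤ
  disj : Disjoint X Y
  cardX : X.card = Nat.card S.E
  cardY : Y.card = (p - 1) / Nat.card S.E
  signX : ∀ χ ∈ X, εX χ = 1 ∨ εX χ = -1
  degX : ∀ χ ∈ X, (charDegree (χ : G → ℂ) : ℤ) ≡ εX χ [ZMOD p]
  valX : ∀ χ ∈ X, ∀ x : G, x ∈ (S.P : Subgroup G) → x ≠ 1 → (χ : G → ℂ) x = (εX χ : ℂ)
  trivX : trivialIrr ∈ X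
  hε : ε = 1 ∨ ε = -1
  degY : ∀ θ ∈ Y, (charDegree (θ : G → ℂ) : ℤ) ≡ ε * (Nat.card S.E : ℤ) [ZMOD p]
  agree : ∀ θ ∈ Y, ∀ θ' ∈ Y, ∀ g : G, ¬ p ∣ orderOf g → (θ : G → ℂ) g = (θ' : G → ℂ) g
  rel : ∀ θ ∈ Y, ∀ g : G, ¬ p ∣ orderOf g →
    (ε : ℂ) * (θ : G → ℂ) g = ∑ χ ∈ X, (εX χ : ℂ) * (χ : G → ℂ) g
  sumY : ∀ θ ∈ Y, ∑ y : (S.P : Subgroup G), (θ : G → ℂ) y =
    (θ : G → ℂ) 1 - (ε : ℂ) * (Nat.card S.E : ℂ)
  vanish : ∀ χ : IrrCharacter G, χ ∉ X → χ ∉ Y → ∀ x : G, x ∈ (S.P : Subgroup G) → x ≠ 1 →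
    (χ : G → ℂ) x = 0

theorem centralizer_singleton_eq (S : SC G p) {x : G} (hx : x ∈ (S.P : Subgroup G)) (hx1 : x ≠ 1) :
    centralizer ({x} : Set G) = (S.P : Subgroup G) := by
  have hle : zpowers x = (S.P : Subgroup G) := by
    refine eq_of_le_of_card_ge (zpowers_le.2 hx) ?_
    have h := S.card_P ▸ orderOf_dvd_natCard (G := (S.P : Subgroup G)) ⟨x, hx⟩
    rw [Subgroup.orderOf_mk] at h
    rw [Nat.card_zpowers, S.card_P]
    rcases (Nat.dvd_prime hp.out).1 h with e | e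
    · exact absurd (orderOf_eq_one_iff.1 e) hx1
    · exact e.ge
  refine le_antisymm (fun c hc => ?_) fun c hc => ?_
  · rw [← S.hC]
    refine mem_centralizer_iff.2 fun v hv => ?_
    rw [SetLike.mem_coe, ← hle] at hv
    obtain ⟨i, rfl⟩ := hv
    exact (Commute.zpow_left ((mem_centralizer_singleton_iff.1 hc).symm : Commute x c) i).eq
  · rw [← S.hC] at hc
    exact mem_centralizer_singleton_iff.2 (mem_centralizer_iff.1 hc x hx).symm

theorem exists_data (S : SC G p) (hperf : commutator G = ⊤)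
    (hn : ¬ FewSylowArith.Rep p (nn S)) : Nonempty (Data G p) := by
  obtain ⟨M, hM⟩ := exists_isPModular hp.out
  obtain ⟨X, Y, εX, ε, hB, hd, hX, hY, hXp, hε, hYd, hag, hrel, ht, hsum⟩ :=
    Abelian.exists_structure_full S.P S.card_P hM
  have hidx : (centralizer ((S.P : Subgroup G) : Set G)).relIndex
      (normalizer (S.P : Set G)) = Nat.card S.E := relIndex_eq S
  rw [hidx] at hX hY hYd
  refine ⟨⟨S, hperf, hn, X, Y, εX, ε, hd, hX, hY, fun χ h => (hXp χ h).1, fun χ h => (hXp χ h).2.1,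
    fun χ h x hx hx1 => ?_, ht, hε, hYd, hag, hrel, fun θ h => ?_, fun χ h1 h2 x hx hx1 => ?_⟩⟩
  · have h' := (hXp χ h).2.2 x hx hx1 1 (one_mem _) (by rw [orderOf_one, Nat.dvd_one]; exact hp.out.ne_one)
    rwa [mul_one] at h'
  · rw [hsum θ h, hidx]
  · haveI := Abelian.isMulCommutative_sylow S.P S.card_P
    have hpn := Abelian.pNilAt_of_mem S.P (Abelian.freeFusion S.P S.card_P) hx hx1
    have hk := sum_sq_principal hM ⟨1, by
      have h := S.card_P ▸ orderOf_dvd_natCard (G := (S.P : Subgroup G)) ⟨x, hx⟩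
      rw [Subgroup.orderOf_mk] at h
      rw [pow_one]
      exact ((Nat.dvd_prime hp.out).1 h).resolve_left fun e => hx1 (orderOf_eq_one_iff.1 e)⟩ hpn
    rw [blockKernel, centralizer_singleton_eq S hx hx1, S.card_P, hp.out.factorization_self,
      pow_one, finsum_mem_eq_finite_toFinset_sum _ (Set.toFinite _)] at hk
    have htot := second_orthogonality_self (G := G) x
    rw [centralizer_singleton_eq S hx hx1, S.card_P] at htot
    have hz : ∑ ψ ∈ Finset.univ \ (Set.toFinite (principalBlock M G)).toFinset,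
        Complex.normSq ((ψ : G → ℂ) x) = 0 := by
      have h' : ∑ ψ ∈ Finset.univ \ (Set.toFinite (principalBlock M G)).toFinset,
          (ψ : G → ℂ) x * conj ((ψ : G → ℂ) x) = 0 := by
        rw [Finset.sum_sdiff_eq_sub (Finset.subset_univ _), htot, hk, sub_self]
      simp only [Complex.mul_conj] at h'
      exact_mod_cast h'
    have := (Finset.sum_eq_zero_iff_of_nonneg fun ψ _ => Complex.normSq_nonneg _).1 hz χ
      (Finset.mem_sdiff.2 ⟨Finset.mem_univ _, fun h => by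
        rw [Set.Finite.mem_toFinset] at h; rcases (hB χ).1 h with h | h <;> contradiction⟩)
    exact Complex.normSq_eq_zero.1 this

namespace Data

variable (D : Data G p)

include D

/-- The order of the complement. -/
noncomputable abbrev e : ℕ := Nat.card D.S.E

/-- The number of exceptional characters. -/
noncomputable def t : ℕ := (p - 1) / D.e

theorem cardY' : D.Y.card = D.t := D.cardY

/-- The number of Sylow subgroups. -/
noncomputable abbrev g (_D : Data G p) : ℕ := Nat.card (Sylow p G)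

/-- The number `n`. -/
noncomputable abbrev n : ℕ := nn D.S

theorem g_eq : D.g = 1 + D.n * p := card_sylow_eq D.S

theorem n_pos : 1 ≤ D.n := nn_pos D.S D.perf

theorem two_le_e : 2 ≤ D.e := two_le_card_E D.S D.perf

theorem e_mul_t : D.e * D.t = p - 1 := Nat.mul_div_cancel' (card_E_dvd D.S)

theorem three_le_p : 3 ≤ p := by
  have h := Nat.le_of_dvd (by have := hp.out.two_le; omega) (card_E_dvd D.S)
  have := two_le_card_E D.S D.perf
  omega

theorem e_lt : D.e < p := by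
  have h := Nat.le_of_dvd (by have := hp.out.two_le; omega) (card_E_dvd D.S)
  have := hp.out.two_le
  show Nat.card D.S.E < p
  omega

theorem t_pos : 1 ≤ D.t := Nat.pos_of_ne_zero fun h => by
  have := D.e_mul_t
  rw [h, mul_zero] at this
  have := hp.out.two_le
  omega

theorem card_G_eq : Nat.card G = p * D.e * D.g := card_G D.S

theorem exists_ne_one : ∃ x : G, x ∈ (D.S.P : Subgroup G) ∧ x ≠ 1 := by
  haveI : Nontrivial (D.S.P : Subgroup G) :=
    Finite.one_lt_card_iff_nontrivial.1 (by rw [D.S.card_P]; exact hp.out.one_lt)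
  obtain ⟨⟨x, hx⟩, h⟩ := exists_ne (1 : (D.S.P : Subgroup G))
  exact ⟨x, hx, fun e => h (Subtype.ext e)⟩

theorem εX_triv : D.εX trivialIrr = 1 := by
  obtain ⟨x, hx, hx1⟩ := D.exists_ne_one
  have h := D.valX trivialIrr D.trivX x hx hx1
  have h' : ((D.εX trivialIrr : ℤ) : ℂ) = ((1 : ℤ) : ℂ) := by rw [← h, Int.cast_one]; rfl
  exact Int.cast_injective h'

theorem sum_P_eq (χ : IrrCharacter G) {c : ℂ}
    (h : ∀ x : G, x ∈ (D.S.P : Subgroup G) → x ≠ 1 → (χ : G → ℂ) x = c) :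
    (p : ℂ) * (fixDim D.S χ : ℂ) = (charDegree (χ : G → ℂ) : ℂ) + ((p : ℂ) - 1) * c := by
  rw [mul_fixDim, ← Finset.add_sum_erase _ _ (Finset.mem_univ (1 : (D.S.P : Subgroup G))),
    Subgroup.coe_one, apply_one_eq_charDegree,
    Finset.sum_congr rfl fun (u : (D.S.P : Subgroup G)) hu =>
      h u u.2 fun e => Finset.ne_of_mem_erase hu (Subtype.ext e), Finset.sum_const,
    Finset.card_erase_of_mem (Finset.mem_univ _), Finset.card_univ, ← Nat.card_eq_fintype_card,
    D.S.card_P, nsmul_eq_mul, Nat.cast_sub hp.out.one_le, Nat.cast_one]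

theorem fixDim_X {χ : IrrCharacter G} (hχ : χ ∈ D.X) :
    (p : ℤ) * fixDim D.S χ = charDegree (χ : G → ℂ) + ((p : ℤ) - 1) * D.εX χ := by
  have h := D.sum_P_eq χ (D.valX χ hχ)
  exact_mod_cast h

theorem fixDim_out {χ : IrrCharacter G} (h1 : χ ∉ D.X) (h2 : χ ∉ D.Y) :
    charDegree (χ : G → ℂ) = p * fixDim D.S χ := by
  have h := D.sum_P_eq χ (D.vanish χ h1 h2)
  rw [mul_zero, add_zero] at h
  exact_mod_cast h.symm

theorem fixDim_Y {θ : IrrCharacter G} (hθ : θ ∈ D.Y) :
    (p : ℤ) * fixDim D.S θ = charDegree (θ : G → ℂ) - D.ε * D.e := by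
  have h := mul_fixDim D.S θ
  rw [D.sumY θ hθ, apply_one_eq_charDegree] at h
  exact_mod_cast h

theorem degree_ne_one {χ : IrrCharacter G} (hχ : χ ≠ trivialIrr) :
    charDegree (χ : G → ℂ) ≠ 1 := by
  intro h
  obtain ⟨l, hl⟩ := CharInduce.IsChar.exists_hom_of_degree_one (IsIrr.isCharacter χ.2)
    (by rw [apply_one_eq_charDegree, h, Nat.cast_one])
  refine hχ (Subtype.ext (funext fun x => ?_))
  rw [hl x, hom_eq_one_of_perfect D.perf l (fun _ _ => mul_comm _ _) x, Units.val_one]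
  rfl

theorem one_lt_degree {χ : IrrCharacter G} (hχ : χ ≠ trivialIrr) :
    1 < charDegree (χ : G → ℂ) := by
  have := D.degree_ne_one hχ
  have := charDegree_pos χ
  omega

theorem degree_dvd {χ : IrrCharacter G} (h : ¬ p ∣ charDegree (χ : G → ℂ)) :
    charDegree (χ : G → ℂ) ∣ D.e * D.g := by
  refine ((hp.out.coprime_iff_not_dvd.2 h).symm).dvd_of_dvd_mul_left ?_
  rw [← mul_assoc, ← D.card_G_eq]
  exact charDegree_dvd χ

theorem sq_lt {χ : IrrCharacter G} (hχ : χ ≠ trivialIrr) :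
    charDegree (χ : G → ℂ) ^ 2 < p * D.e * D.g := by
  have hs : ∑ ψ : IrrCharacter G, charDegree (ψ : G → ℂ) ^ 2 = p * D.e * D.g := by
    rw [← D.card_G_eq]
    have := sum_sq_degree (G := G)
    simp only [apply_one_eq_charDegree] at this
    exact_mod_cast this
  rw [← hs]
  exact Finset.single_lt_sum (f := fun ψ : IrrCharacter G => charDegree (ψ : G → ℂ) ^ 2) hχ.symm (Finset.mem_univ _) (Finset.mem_univ _)
    (pow_pos (charDegree_pos trivialIrr) 2) fun _ _ _ => Nat.zero_le _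

theorem not_dvd_degX {χ : IrrCharacter G} (hχ : χ ∈ D.X) : ¬ p ∣ charDegree (χ : G → ℂ) := by
  intro h
  have h1 : (p : ℤ) ∣ D.εX χ :=
    (Int.ModEq.dvd_iff (D.degX χ hχ)).1 (by exact_mod_cast h)
  rcases D.signX χ hχ with e | e <;> rw [e] at h1
  · exact hp.out.ne_one (by exact_mod_cast Int.eq_one_of_dvd_one (by positivity) h1)
  · exact hp.out.ne_one (by exact_mod_cast Int.eq_one_of_dvd_one (by positivity) (dvd_neg.1 h1))

theorem degree_pos {χ : IrrCharacter G} (hχ : χ ∈ D.X) (hne : χ ≠ trivialIrr) (h : D.εX χ = 1) :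
    charDegree (χ : G → ℂ) = D.g := by
  refine FewSylowArith.deg_plus hp.out D.g_eq (card_E_dvd D.S) ?_ (D.one_lt_degree hne)
    (D.degree_dvd (D.not_dvd_degX hχ)) D.noRep
  have h1 := (D.degX χ hχ).symm.dvd
  rw [h] at h1
  have := charDegree_pos χ
  refine Int.natCast_dvd_natCast.1 ?_
  rwa [Nat.cast_sub (by omega), Nat.cast_one]

theorem degree_neg {χ : IrrCharacter G} (hχ : χ ∈ D.X) (h : D.εX χ = -1) :
    charDegree (χ : G → ℂ) = p - 1 := by
  have hne : χ ≠ trivialIrr := fun e => by rw [e, D.εX_triv] at h; omega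
  refine FewSylowArith.deg_minus hp.out D.three_le_p D.g_eq D.n_pos (card_E_dvd D.S) ?_
    (D.degree_dvd (D.not_dvd_degX hχ)) (D.sq_lt hne) D.noRep
  have h1 := (D.degX χ hχ).symm.dvd
  rw [h, sub_neg_eq_add] at h1
  exact_mod_cast h1

theorem fixDim_pos {χ : IrrCharacter G} (hχ : χ ∈ D.X) (hne : χ ≠ trivialIrr) (h : D.εX χ = 1) :
    fixDim D.S χ = D.n + 1 := by
  have h1 := D.fixDim_X hχ
  rw [h, D.degree_pos hχ hne h, D.g_eq] at h1
  push_cast at h1
  have : (fixDim D.S χ : ℤ) = (D.n : ℤ) + 1 :=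
    mul_left_cancel₀ (Nat.cast_ne_zero.2 hp.out.ne_zero) (by linarith)
  exact_mod_cast this

theorem fixDim_neg {χ : IrrCharacter G} (hχ : χ ∈ D.X) (h : D.εX χ = -1) : fixDim D.S χ = 0 := by
  have h1 := D.fixDim_X hχ
  rw [h, D.degree_neg hχ h, Nat.cast_sub hp.out.one_le] at h1
  push_cast at h1
  have : (fixDim D.S χ : ℤ) = 0 :=
    mul_left_cancel₀ (Nat.cast_ne_zero.2 hp.out.ne_zero) (by linarith)
  exact_mod_cast this

theorem fixFun_triv (y : D.S.E) : fixFun D.S ((trivialIrr : IrrCharacter G) : G → ℂ) y = 1 := by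
  show (p : ℂ)⁻¹ * ∑ _u : (D.S.P : Subgroup G), (1 : ℂ) = 1
  rw [Finset.sum_const, Finset.card_univ, ← Nat.card_eq_fintype_card, D.S.card_P, nsmul_eq_mul,
    mul_one, inv_mul_cancel₀ (Nat.cast_ne_zero.2 hp.out.ne_zero)]

theorem mlt_triv_triv : mlt D.S (trivialIrr : IrrCharacter G) trivialIrr = 1 := by
  have h := mlt_trivialIrr D.S (trivialIrr : IrrCharacter G)
  simp only [D.fixFun_triv, Finset.sum_const, Finset.card_univ, nsmul_eq_mul,
    ← Nat.card_eq_fintype_card] at h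
  exact_mod_cast mul_left_cancel₀ (Nat.cast_ne_zero.2 (Nat.card_pos (α := D.S.E)).ne') h

theorem fixDim_triv : fixDim D.S (trivialIrr : IrrCharacter G) = 1 := by
  have h := fixDim_spec D.S (trivialIrr : IrrCharacter G)
  rw [D.fixFun_triv] at h
  exact_mod_cast h

theorem mlt_triv {l : IrrCharacter D.S.E} (hl : l ≠ trivialIrr) :
    mlt D.S (trivialIrr : IrrCharacter G) l = 0 := by
  have h : ∑ l ∈ ({trivialIrr, l} : Finset (IrrCharacter D.S.E)),
      mlt D.S (trivialIrr : IrrCharacter G) l ≤ fixDim D.S (trivialIrr : IrrCharacter G) :=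
    Finset.sum_le_sum_of_subset (Finset.subset_univ _)
  rw [Finset.sum_pair (Ne.symm hl), D.mlt_triv_triv, D.fixDim_triv] at h
  omega

/-- The nontrivial characters of sign `1`. -/
noncomputable def Xp : Finset (IrrCharacter G) :=
  D.X.filter fun χ => D.εX χ = 1 ∧ χ ≠ trivialIrr

/-- The characters of sign `-1`. -/
noncomputable def Xm : Finset (IrrCharacter G) := D.X.filter fun χ => D.εX χ = -1

theorem X_eq : D.X = insert trivialIrr (D.Xp ∪ D.Xm) := by
  ext χ
  simp only [Xp, Xm, Finset.mem_insert, Finset.mem_union, Finset.mem_filter]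
  constructor
  · intro h
    rcases eq_or_ne χ trivialIrr with e | e
    · exact Or.inl e
    · rcases D.signX χ h with e' | e' <;> tauto
  · rintro (rfl | ⟨h, -⟩ | ⟨h, -⟩)
    · exact D.trivX
    all_goals exact h

theorem triv_notMem : (trivialIrr : IrrCharacter G) ∉ D.Xp ∪ D.Xm := by
  simp [Xp, Xm, D.εX_triv]

theorem disj_pm : Disjoint D.Xp D.Xm :=
  Finset.disjoint_filter.2 fun χ _ h h' => by omega

theorem sum_X {β : Type*} [AddCommMonoid β] (f : IrrCharacter G → β) :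
    ∑ χ ∈ D.X, f χ = f trivialIrr + (∑ χ ∈ D.Xp, f χ + ∑ χ ∈ D.Xm, f χ) := by
  rw [D.X_eq, Finset.sum_insert D.triv_notMem, Finset.sum_union D.disj_pm]

theorem card_eq : D.e = 1 + (D.Xp.card + D.Xm.card) := by
  rw [e, ← D.cardX]
  simpa using D.sum_X (fun _ => (1 : ℕ))

theorem Y_nonempty : D.Y.Nonempty := Finset.card_pos.1 (D.cardY'.symm ▸ D.t_pos)

/-- An exceptional character. -/
noncomputable def θ : IrrCharacter G := D.Y_nonempty.choose

theorem θ_mem : D.θ ∈ D.Y := D.Y_nonempty.choose_spec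

/-- The exceptional degree. -/
noncomputable abbrev d : ℕ := charDegree (D.θ : G → ℂ)

/-- The fixed points of `P` on an exceptional module. -/
noncomputable abbrev k : ℕ := fixDim D.S D.θ

theorem degree_Y {θ : IrrCharacter G} (hθ : θ ∈ D.Y) : charDegree (θ : G → ℂ) = D.d := by
  have h := D.agree θ hθ D.θ D.θ_mem 1 (by rw [orderOf_one, Nat.dvd_one]; exact hp.out.ne_one)
  rw [apply_one_eq_charDegree, apply_one_eq_charDegree] at h
  exact_mod_cast h

theorem fixDim_Y_eq {θ : IrrCharacter G} (hθ : θ ∈ D.Y) : fixDim D.S θ = D.k := by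
  have h1 := D.fixDim_Y hθ
  rw [D.degree_Y hθ, ← D.fixDim_Y D.θ_mem] at h1
  have := mul_left_cancel₀ (Nat.cast_ne_zero.2 hp.out.ne_zero) h1
  exact_mod_cast this

theorem mlt_Y {θ : IrrCharacter G} (hθ : θ ∈ D.Y) (l : IrrCharacter D.S.E) :
    mlt D.S θ l = mlt D.S D.θ l := by
  apply Nat.cast_injective (R := ℂ)
  rw [mlt_spec, mlt_spec]
  congr 1
  funext y
  rcases eq_or_ne y 1 with rfl | hy
  · rw [← fixDim_spec, ← fixDim_spec, D.fixDim_Y_eq hθ]
  · rw [fixFun_ne D.S (IsIrr.isClassFunction θ.2) hy,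
      fixFun_ne D.S (IsIrr.isClassFunction D.θ.2) hy]
    exact D.agree θ hθ D.θ D.θ_mem y (not_dvd_orderOf D.S y.2)

theorem d_eq : (D.d : ℤ) = D.ε * D.e + p * D.k := by
  have := D.fixDim_Y D.θ_mem
  linarith

theorem not_dvd_d : ¬ p ∣ D.d := by
  intro h
  have h' : (p : ℤ) ∣ (D.d : ℤ) := by exact_mod_cast h
  rw [D.d_eq] at h'
  have h2 : (p : ℤ) ∣ D.ε * D.e := by
    have := Int.dvd_sub h' (dvd_mul_right (p : ℤ) D.k)
    rwa [add_sub_cancel_right] at this
  have h3 : (p : ℤ) ∣ (D.e : ℤ) := by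
    rcases D.hε with e | e <;> rw [e] at h2 <;> simpa using h2
  have := Nat.le_of_dvd (by have := D.two_le_e; omega) (Int.natCast_dvd_natCast.1 h3)
  have := D.e_lt
  omega

theorem k_relation : D.ε * D.k = (D.Xp.card : ℤ) * D.n - D.Xm.card := by
  have h := D.rel D.θ D.θ_mem 1 (by rw [orderOf_one, Nat.dvd_one]; exact hp.out.ne_one)
  simp only [apply_one_eq_charDegree] at h
  rw [D.sum_X] at h
  have hp' : ∀ χ ∈ D.Xp, ((D.εX χ : ℂ) * (charDegree (χ : G → ℂ) : ℂ)) = (D.g : ℂ) := by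
    intro χ hχ
    obtain ⟨h1, h2, h3⟩ := Finset.mem_filter.1 hχ
    rw [h2, D.degree_pos h1 h3 h2]; simp
  have hm' : ∀ χ ∈ D.Xm, ((D.εX χ : ℂ) * (charDegree (χ : G → ℂ) : ℂ)) = -((p - 1 : ℕ) : ℂ) := by
    intro χ hχ
    obtain ⟨h1, h2⟩ := Finset.mem_filter.1 hχ
    rw [h2, D.degree_neg h1 h2]; simp
  have htriv : charDegree ((trivialIrr : IrrCharacter G) : G → ℂ) = 1 := by
    have h' := apply_one_eq_charDegree (trivialIrr : IrrCharacter G)
    exact_mod_cast (h'.symm.trans rfl : (charDegree ((trivialIrr : IrrCharacter G) : G → ℂ) : ℂ) = 1)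
  rw [Finset.sum_congr rfl hp', Finset.sum_congr rfl hm', Finset.sum_const, Finset.sum_const,
    D.εX_triv, htriv, nsmul_eq_mul, nsmul_eq_mul, Nat.cast_sub hp.out.one_le] at h
  have h' : D.ε * (D.d : ℤ) = 1 + ((D.Xp.card : ℤ) * D.g + D.Xm.card * -((p : ℤ) - 1)) := by
    apply Int.cast_injective (α := ℂ)
    push_cast at h ⊢
    linear_combination h
  rw [D.d_eq] at h'
  have he : (D.e : ℤ) = 1 + ((D.Xp.card : ℤ) + D.Xm.card) := by exact_mod_cast D.card_eq
  have hg : (D.g : ℤ) = 1 + D.n * p := by exact_mod_cast D.g_eq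
  have hε2 : D.ε * D.ε = 1 := by rcases D.hε with e | e <;> rw [e] <;> norm_num
  refine mul_left_cancel₀ (show (p : ℤ) ≠ 0 by exact_mod_cast hp.out.ne_zero) ?_
  rw [hg] at h'
  linear_combination h' - he - (D.e : ℤ) * hε2

theorem card_irr_E : Fintype.card (IrrCharacter D.S.E) = D.e := by
  haveI := comm_E D.S
  have h := sum_sq_degree (G := D.S.E)
  simp only [H85.apply_one_eq_one_of_comm, one_pow, Finset.sum_const, Finset.card_univ,
    nsmul_eq_mul, mul_one, Nat.cast_inj] at h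
  exact h

/-- The multiplicities at the characters of degree `g`. -/
noncomputable def A (l : IrrCharacter D.S.E) : ℕ := ∑ χ ∈ D.Xp, mlt D.S χ l

/-- The characters outside the principal block. -/
noncomputable def Out : Finset (IrrCharacter G) := Finset.univ \ (D.X ∪ D.Y)

theorem mlt_Xm {χ : IrrCharacter G} (hχ : χ ∈ D.Xm) (l : IrrCharacter D.S.E) :
    mlt D.S χ l = 0 := by
  obtain ⟨h1, h2⟩ := Finset.mem_filter.1 hχ
  exact Nat.eq_zero_of_le_zero ((mlt_le_fixDim D.S χ l).trans (D.fixDim_neg h1 h2).le)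

theorem mult_identity (l : IrrCharacter D.S.E) :
    D.g = mlt D.S (trivialIrr : IrrCharacter G) l + D.g * D.A l + D.t * D.d * mlt D.S D.θ l +
      p * ∑ χ ∈ D.Out, fixDim D.S χ * mlt D.S χ l := by
  conv_lhs => rw [g, ← sum_degree_mul_mlt D.S l]
  rw [← Finset.sum_sdiff (Finset.subset_univ (D.X ∪ D.Y)), Finset.sum_union D.disj, D.sum_X]
  have hY : ∑ χ ∈ D.Y, charDegree (χ : G → ℂ) * mlt D.S χ l = D.t * D.d * mlt D.S D.θ l := by
    rw [Finset.sum_congr rfl fun χ hχ => by rw [D.degree_Y hχ, D.mlt_Y hχ], Finset.sum_const,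
      D.cardY', smul_eq_mul, mul_assoc]
  have hO : ∑ χ ∈ Finset.univ \ (D.X ∪ D.Y), charDegree (χ : G → ℂ) * mlt D.S χ l =
      p * ∑ χ ∈ D.Out, fixDim D.S χ * mlt D.S χ l := by
    rw [Finset.mul_sum]
    refine Finset.sum_congr rfl fun χ hχ => ?_
    simp only [Out, Finset.mem_sdiff, Finset.mem_union, not_or] at hχ
    rw [D.fixDim_out hχ.2.1 hχ.2.2, mul_assoc]
  have hp' : ∑ χ ∈ D.Xp, charDegree (χ : G → ℂ) * mlt D.S χ l = D.g * D.A l := by
    rw [A, Finset.mul_sum]
    refine Finset.sum_congr rfl fun χ hχ => ?_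
    obtain ⟨h1, h2, h3⟩ := Finset.mem_filter.1 hχ
    rw [D.degree_pos h1 h3 h2]
  have hm' : ∑ χ ∈ D.Xm, charDegree (χ : G → ℂ) * mlt D.S χ l = 0 :=
    Finset.sum_eq_zero fun χ hχ => by rw [D.mlt_Xm hχ l, mul_zero]
  have htriv : charDegree ((trivialIrr : IrrCharacter G) : G → ℂ) = 1 := by
    have h' := apply_one_eq_charDegree (trivialIrr : IrrCharacter G)
    exact_mod_cast (h'.symm.trans rfl : (charDegree ((trivialIrr : IrrCharacter G) : G → ℂ) : ℂ) = 1)
  rw [hY, hO, hp', hm', htriv]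
  ring

theorem A_one : D.A trivialIrr = 0 := by
  by_contra h
  have h1 := D.mult_identity trivialIrr
  rw [D.mlt_triv_triv] at h1
  have : D.g * 1 ≤ D.g * D.A trivialIrr := Nat.mul_le_mul_left _ (Nat.pos_of_ne_zero h)
  omega

theorem A_le (l : IrrCharacter D.S.E) : D.A l ≤ 1 := by
  have h1 := D.mult_identity l
  by_contra h
  have : D.g * 2 ≤ D.g * D.A l := Nat.mul_le_mul_left _ (by omega)
  have : 0 < D.g := Nat.card_pos
  omega

theorem mult_modEq {l : IrrCharacter D.S.E} (hl : l ≠ trivialIrr) :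
    (p : ℤ) ∣ 1 - D.A l + D.ε * mlt D.S D.θ l := by
  have h1 := D.mult_identity l
  rw [D.mlt_triv hl, zero_add] at h1
  have h2 : (D.g : ℤ) = (D.g : ℤ) * D.A l + (D.t : ℤ) * D.d * mlt D.S D.θ l +
      (p : ℤ) * ((∑ χ ∈ D.Out, fixDim D.S χ * mlt D.S χ l : ℕ) : ℤ) := by exact_mod_cast h1
  have het : (D.e : ℤ) * D.t = (p : ℤ) - 1 := by
    rw [show (p : ℤ) - 1 = ((p - 1 : ℕ) : ℤ) by have := hp.out.two_le; omega]
    exact_mod_cast D.e_mul_t
  rw [show (D.g : ℤ) = 1 + D.n * p by exact_mod_cast D.g_eq, D.d_eq] at h2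
  refine ⟨(D.n : ℤ) * D.A l - D.n + D.ε * mlt D.S D.θ l + (D.t : ℤ) * D.k * mlt D.S D.θ l +
    ((∑ χ ∈ D.Out, fixDim D.S χ * mlt D.S χ l : ℕ) : ℤ), ?_⟩
  linear_combination h2 + D.ε * (mlt D.S D.θ l : ℤ) * het

theorem sum_A : ∑ l : IrrCharacter D.S.E, D.A l = D.Xp.card * (D.n + 1) := by
  simp only [A]
  rw [Finset.sum_comm, ← smul_eq_mul, ← Finset.sum_const]
  refine Finset.sum_congr rfl fun χ hχ => ?_
  obtain ⟨h1, h2, h3⟩ := Finset.mem_filter.1 hχ
  exact D.fixDim_pos h1 h3 h2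

theorem sum_A_le : D.Xp.card * (D.n + 1) + 1 ≤ D.e := by
  have h := Finset.sum_le_sum (s := Finset.univ.erase (trivialIrr : IrrCharacter D.S.E))
    (fun l _ => D.A_le l)
  rw [Finset.sum_erase _ D.A_one, D.sum_A, Finset.sum_const,
    Finset.card_erase_of_mem (Finset.mem_univ _), Finset.card_univ, D.card_irr_E, smul_eq_mul,
    mul_one] at h
  have := D.two_le_e
  omega

theorem k_eq_zero_of_pos (h : D.ε = 1) : D.k = 0 := by
  have h1 := D.k_relation
  rw [h, one_mul] at h1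
  have h2 : ((D.Xp.card * (D.n + 1) + 1 : ℕ) : ℤ) ≤ (D.e : ℤ) := by exact_mod_cast D.sum_A_le
  have he : (D.e : ℤ) = 1 + ((D.Xp.card : ℤ) + D.Xm.card) := by exact_mod_cast D.card_eq
  push_cast at h2
  nlinarith

theorem k_add_eq (h : D.ε = -1) : D.Xp.card * (D.n + 1) + D.k + 1 = D.e := by
  have h1 := D.k_relation
  rw [h] at h1
  have he : (D.e : ℤ) = 1 + ((D.Xp.card : ℤ) + D.Xm.card) := by exact_mod_cast D.card_eq
  have : (((D.Xp.card * (D.n + 1) + D.k + 1 : ℕ)) : ℤ) = (D.e : ℤ) := by push_cast; linarith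
  exact_mod_cast this

theorem k_pos (h : D.ε = -1) : 1 ≤ D.k := by
  by_contra h0
  have h1 := D.d_eq
  rw [h, show D.k = 0 by omega] at h1
  have := D.two_le_e
  omega

theorem k_lt : D.k < D.e := by
  rcases D.hε with h | h
  · rw [D.k_eq_zero_of_pos h]; exact D.two_le_e.trans_lt' (by omega)
  · have := D.k_add_eq h; omega

theorem m_one : mlt D.S D.θ trivialIrr = 0 := by
  by_contra h
  have h1 := D.mult_identity trivialIrr
  rw [D.mlt_triv_triv, D.A_one, mul_zero, add_zero] at h1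
  have h2 : p ∣ D.t * D.d * mlt D.S D.θ trivialIrr := by
    have h3 : p ∣ D.t * D.d * mlt D.S D.θ trivialIrr +
        p * ∑ χ ∈ D.Out, fixDim D.S χ * mlt D.S χ trivialIrr := ⟨D.n, by
      have := D.g_eq; rw [mul_comm p D.n]; omega⟩
    exact (Nat.dvd_add_left (dvd_mul_right _ _)).1 h3
  rcases hp.out.dvd_mul.1 h2 with h3 | h3
  · rcases hp.out.dvd_mul.1 h3 with h4 | h4
    · have := Nat.le_of_dvd D.t_pos h4
      have h5 := D.e_mul_t
      have : 2 * D.t ≤ D.e * D.t := Nat.mul_le_mul_right _ D.two_le_e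
      have := D.t_pos
      have := hp.out.two_le
      omega
    · exact D.not_dvd_d h4
  · have := Nat.le_of_dvd (Nat.pos_of_ne_zero h) h3
    have := mlt_le_fixDim D.S D.θ trivialIrr
    have : fixDim D.S D.θ < D.e := D.k_lt
    have := D.e_lt
    omega

theorem A_add_m {l : IrrCharacter D.S.E} (hl : l ≠ trivialIrr) :
    D.A l + mlt D.S D.θ l = 1 := by
  have h1 := D.mult_modEq hl
  have h2 := mlt_le_fixDim D.S D.θ l
  have h3 := D.A_le l
  rcases D.hε with h | h
  · have hk := D.k_eq_zero_of_pos h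
    rw [h, one_mul, show mlt D.S D.θ l = 0 by
      have : fixDim D.S D.θ = 0 := hk
      omega, Nat.cast_zero, add_zero] at h1
    have h4 := Int.eq_zero_of_dvd_of_nonneg_of_lt (by omega) (by have := hp.out.two_le; omega) h1
    have : fixDim D.S D.θ = 0 := hk
    omega
  · rw [h, neg_one_mul, ← sub_eq_add_neg] at h1
    have hk : mlt D.S D.θ l < D.e := lt_of_le_of_lt h2 D.k_lt
    have he := D.e_lt
    have := Int.eq_zero_of_abs_lt_dvd h1 (by rw [abs_lt]; constructor <;> omega)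
    omega

theorem n_succ_eq (h : D.ε = -1) : D.n + 1 = D.k * D.t ∧ D.t * D.d = D.g := by
  have hd := D.d_eq
  rw [h, neg_one_mul] at hd
  have het : (D.e : ℤ) * D.t = (p : ℤ) - 1 := by
    rw [show (p : ℤ) - 1 = ((p - 1 : ℕ) : ℤ) by have := hp.out.two_le; omega]
    exact_mod_cast D.e_mul_t
  have hg : (D.g : ℤ) = 1 + D.n * p := by exact_mod_cast D.g_eq
  suffices hn : D.n + 1 = D.k * D.t by
    refine ⟨hn, ?_⟩
    have hn' : (D.n : ℤ) + 1 = D.k * D.t := by exact_mod_cast hn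
    have : (((D.t * D.d : ℕ)) : ℤ) = (D.g : ℤ) := by
      push_cast
      rw [hd, hg]
      linear_combination -het - (p : ℤ) * hn'
    exact_mod_cast this
  -- the number `t d` is a divisor of `(p - 1) g` congruent to one, and at most `g`
  obtain ⟨l, -, hl⟩ := Finset.exists_ne_zero_of_sum_ne_zero
    (show ∑ l, mlt D.S D.θ l ≠ 0 by
      have h0 : fixDim D.S D.θ ≠ 0 := by
        have : 1 ≤ fixDim D.S D.θ := D.k_pos h
        omega
      exact h0)
  have htd : D.t * D.d ≤ D.g := by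
    have hm := D.mult_identity l
    have : D.t * D.d * 1 ≤ D.t * D.d * mlt D.S D.θ l :=
      Nat.mul_le_mul_left _ (Nat.pos_of_ne_zero hl)
    omega
  have hmod : (p : ℤ) ∣ ((D.t * D.d : ℕ) : ℤ) - 1 := ⟨(D.t : ℤ) * D.k - 1, by
    push_cast
    rw [hd]
    linear_combination -het⟩
  have htd1 : 1 < D.t * D.d := by
    have hne : D.θ ≠ trivialIrr := fun e =>
      Finset.disjoint_left.1 D.disj D.trivX (e ▸ D.θ_mem)
    have h1 := D.one_lt_degree hne
    exact lt_of_lt_of_le h1 (Nat.le_mul_of_pos_left _ D.t_pos)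
  have heq : D.t * D.d = D.g := by
    refine le_antisymm htd ?_
    by_contra hlt
    push Not at hlt
    refine D.noRep (FewSylowArith.rep_of_dvd hp.out D.g_eq ?_ htd1 hlt ?_)
    · refine Int.natCast_dvd_natCast.1 ?_
      rwa [Nat.cast_sub (by omega), Nat.cast_one]
    · rw [← D.e_mul_t, mul_comm D.e D.t, mul_assoc]
      exact mul_dvd_mul_left _ (D.degree_dvd D.not_dvd_d)
  have h5 : ((D.t * D.d : ℕ) : ℤ) = (D.g : ℤ) := by exact_mod_cast heq
  push_cast at h5
  rw [hd, hg] at h5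
  have h6 : (p : ℤ) * ((D.n : ℤ) + 1) = p * ((D.k : ℤ) * D.t) := by linear_combination -h5 - het
  have h7 := mul_left_cancel₀ (show (p : ℤ) ≠ 0 by exact_mod_cast hp.out.ne_zero) h6
  exact_mod_cast h7

theorem mlt_out {χ : IrrCharacter G} (h1 : χ ∉ D.X) (h2 : χ ∉ D.Y) {l : IrrCharacter D.S.E}
    (hl : l ≠ trivialIrr) : mlt D.S χ l = 0 := by
  have hs : ∑ χ ∈ D.Out, fixDim D.S χ * mlt D.S χ l = 0 := by
    have hm := D.mult_identity l
    rw [D.mlt_triv hl, zero_add] at hm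
    have h3 := D.A_add_m hl
    have : p * ∑ χ ∈ D.Out, fixDim D.S χ * mlt D.S χ l = 0 := by
      rcases (show D.A l = 1 ∧ mlt D.S D.θ l = 0 ∨ D.A l = 0 ∧ mlt D.S D.θ l = 1 by omega) with
        ⟨ha, hb⟩ | ⟨ha, hb⟩
      · rw [ha, hb, mul_one, mul_zero, add_zero] at hm; omega
      · have hε : D.ε = -1 := D.hε.resolve_left fun h => by
          have hk := D.k_eq_zero_of_pos h
          have := mlt_le_fixDim D.S D.θ l
          have : fixDim D.S D.θ = 0 := hk
          omega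
        rw [ha, hb, mul_zero, zero_add, mul_one, (D.n_succ_eq hε).2] at hm
        omega
    exact (mul_eq_zero.1 this).resolve_left hp.out.ne_zero
  rcases mul_eq_zero.1 (Finset.sum_eq_zero_iff.1 hs χ (by simp [Out, h1, h2])) with h | h
  · exact Nat.eq_zero_of_le_zero (h ▸ mlt_le_fixDim D.S χ l)
  · exact h

theorem sum_mlt_trivial : ∑ χ : IrrCharacter G, mlt D.S χ trivialIrr ^ 2 = D.n + 1 := by
  rw [n, ← sum_fixDim_mlt D.S trivialIrr]
  refine Finset.sum_congr rfl fun χ _ => ?_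
  by_cases hX : χ ∈ D.X
  · rw [D.X_eq] at hX
    simp only [Finset.mem_insert, Finset.mem_union] at hX
    rcases hX with rfl | hX | hX
    · rw [D.mlt_triv_triv, D.fixDim_triv]; rfl
    · have : mlt D.S χ trivialIrr = 0 := Finset.sum_eq_zero_iff.1 D.A_one χ hX
      rw [this]; rfl
    · rw [D.mlt_Xm hX]; rfl
  by_cases hY : χ ∈ D.Y
  · rw [D.mlt_Y hY, D.m_one]; rfl
  · rw [sq]
    congr 1
    rw [fixDim, Finset.sum_eq_single trivialIrr (fun l _ hl => D.mlt_out hX hY hl)
      (fun h => absurd (Finset.mem_univ _) h)]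

end Data

end Cfsg.Agent.H86.FewSylow
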