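import Cfsg.Agent.H86.FewSylowCases
import Cfsg.Agent.H86.PerfectSylow

/-!
# Few Sylow subgroups of prime order: the involution of the complement in the exceptional case
-/

set_option linter.unusedSectionVars false
set_option linter.style.haveILetI false

open scoped ComplexConjugate Classical

namespace Cfsg.Agent.H86.FewSylow

open CharBasic Subgroup BlockBasic

universe u

variable {G : Type u} [Group G] [Fintype G] {p : ℕ} [hp : Fact p.Prime]

theorem exists_E_orderOf (S : SC G p) {r : ℕ} (hr : r.Prime) (h : r ∣ Nat.card S.E) :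
    ∃ y ∈ S.E, orderOf y = r := by
  haveI := Fact.mk hr
  obtain ⟨y, hy⟩ := exists_prime_orderOf_dvd_card' r h
  exact ⟨y, y.2, (Subgroup.orderOf_coe y).trans hy⟩

theorem eq_of_two (S : SC G p) {y z : G} (hy : y ∈ S.E) (hz : z ∈ S.E) (h1 : orderOf y = 2)
    (h2 : orderOf z = 2) : y = z := by
  haveI := isCyclic_E S
  have h := IsCyclic.card_orderOf_eq_totient (α := S.E) (d := 2) (by
    rw [← Nat.card_eq_fintype_card, ← h1, show orderOf y = orderOf (⟨y, hy⟩ : S.E) from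
      (Subgroup.orderOf_mk y hy).symm]
    exact orderOf_dvd_natCard _)
  rw [Nat.totient_two, Finset.card_eq_one] at h
  obtain ⟨w, hw⟩ := h
  have ha : (⟨y, hy⟩ : S.E) = w := Finset.mem_singleton.1 (hw ▸ Finset.mem_filter.2
    ⟨Finset.mem_univ _, by rw [Subgroup.orderOf_mk, h1]⟩)
  have hb : (⟨z, hz⟩ : S.E) = w := Finset.mem_singleton.1 (hw ▸ Finset.mem_filter.2
    ⟨Finset.mem_univ _, by rw [Subgroup.orderOf_mk, h2]⟩)
  exact congrArg Subtype.val (ha.trans hb.symm)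

namespace Data

variable (D : Data G p)

include D

theorem exists_l (h : D.ε = -1) :
    ∃ l₀ : IrrCharacter D.S.E, l₀ ≠ trivialIrr ∧ mlt D.S D.θ l₀ = 1 ∧
      ∀ l, l ≠ l₀ → mlt D.S D.θ l = 0 := by
  have hk : fixDim D.S D.θ = 1 := (D.minus_eq h).1
  obtain ⟨l₀, -, hl⟩ := Finset.exists_ne_zero_of_sum_ne_zero
    (show ∑ l, mlt D.S D.θ l ≠ 0 by rw [← fixDim, hk]; exact one_ne_zero)
  have hle := mlt_le_fixDim D.S D.θ l₀
  refine ⟨l₀, fun e => hl (e ▸ D.m_one), by omega, fun l hne => ?_⟩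
  have h2 : ∑ x ∈ ({l, l₀} : Finset _), mlt D.S D.θ x ≤ fixDim D.S D.θ :=
    Finset.sum_le_sum_of_subset (Finset.subset_univ _)
  rw [Finset.sum_pair hne] at h2
  omega

/-- The multiplicity of the exceptional characters. -/
noncomputable def l₀ (h : D.ε = -1) : IrrCharacter D.S.E := (D.exists_l h).choose

theorem l₀_ne (h : D.ε = -1) : D.l₀ h ≠ trivialIrr := (D.exists_l h).choose_spec.1

theorem mlt_l₀ (h : D.ε = -1) : mlt D.S D.θ (D.l₀ h) = 1 := (D.exists_l h).choose_spec.2.1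

theorem mlt_ne_l₀ (h : D.ε = -1) {l : IrrCharacter D.S.E} (hl : l ≠ D.l₀ h) :
    mlt D.S D.θ l = 0 := (D.exists_l h).choose_spec.2.2 l hl

theorem theta_apply_E (h : D.ε = -1) {y : D.S.E} (hy : y ≠ 1) :
    (D.θ : G → ℂ) (y : G) = (D.l₀ h : D.S.E → ℂ) y := by
  rw [← fixFun_ne D.S (IsIrr.isClassFunction D.θ.2) hy, fixFun_expand,
    Finset.sum_eq_single (D.l₀ h)
      (fun l _ hl => by rw [D.mlt_ne_l₀ h hl, Nat.cast_zero, zero_mul])
      (fun hh => absurd (Finset.mem_univ _) hh), D.mlt_l₀, Nat.cast_one, one_mul]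

/-- A character of degree `d` is exceptional. -/
theorem mem_Y_of_degree (h : D.ε = -1) {χ : IrrCharacter G}
    (hχ : charDegree (χ : G → ℂ) = D.d) : χ ∈ D.Y := by
  have hd := D.d_eq
  rw [h, (D.minus_eq h).1, Nat.cast_one, mul_one, neg_one_mul] at hd
  obtain ⟨-, htd⟩ := D.n_succ_eq h
  by_cases hX : χ ∈ D.X
  · exfalso
    rw [D.X_eq] at hX
    simp only [Finset.mem_insert, Finset.mem_union] at hX
    rcases hX with rfl | hX | hX
    · have hne : D.θ ≠ trivialIrr := fun e =>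
        Finset.disjoint_left.1 D.disj D.trivX (e ▸ D.θ_mem)
      have h1 := D.one_lt_degree hne
      have h' := apply_one_eq_charDegree (trivialIrr : IrrCharacter G)
      have h2 : charDegree ((trivialIrr : IrrCharacter G) : G → ℂ) = 1 := by
        exact_mod_cast (h'.symm.trans rfl :
          (charDegree ((trivialIrr : IrrCharacter G) : G → ℂ) : ℂ) = 1)
      have h3 : charDegree (D.θ : G → ℂ) = 1 := hχ.symm.trans h2
      omega
    · obtain ⟨h1, h2, h3⟩ := Finset.mem_filter.1 hX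
      rw [D.degree_pos h1 h3 h2] at hχ
      rw [← hχ] at htd
      have h4 : 2 * D.g ≤ D.t * D.g := Nat.mul_le_mul_right _ D.two_le_t
      have h5 : 0 < D.g := Nat.card_pos
      omega
    · obtain ⟨h1, h2⟩ := Finset.mem_filter.1 hX
      rw [D.degree_neg h1 h2] at hχ
      have := D.two_le_e
      have := D.e_lt
      omega
  · by_contra hY
    exact D.not_dvd_d (hχ ▸ D.fixDim_out hX hY ▸ dvd_mul_right p _)

theorem l₀_real (h : D.ε = -1) (y : D.S.E) :
    conj ((D.l₀ h : D.S.E → ℂ) y) = (D.l₀ h : D.S.E → ℂ) y := by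
  haveI := comm_E D.S
  rcases eq_or_ne y 1 with rfl | hy
  · rw [H85.apply_one_eq_one_of_comm, map_one]
  let c : IrrCharacter G := ⟨fun g => conj ((D.θ : G → ℂ) g), CharInduce.IsIrr.conj D.θ.2⟩
  have hc : charDegree (c : G → ℂ) = D.d := by
    have h1 := apply_one_eq_charDegree c
    rw [show (c : G → ℂ) 1 = conj ((D.θ : G → ℂ) 1) from rfl, apply_one_eq_charDegree,
      Complex.conj_natCast] at h1
    exact_mod_cast h1.symm
  have h2 := D.agree c (D.mem_Y_of_degree h hc) D.θ D.θ_mem (y : G) (not_dvd_orderOf D.S y.2)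
  rw [show (c : G → ℂ) (y : G) = conj ((D.θ : G → ℂ) (y : G)) from rfl] at h2
  rw [← D.theta_apply_E h hy]
  exact h2

theorem l₀_mul (h : D.ε = -1) (y y' : D.S.E) :
    (D.l₀ h : D.S.E → ℂ) (y * y') = (D.l₀ h : D.S.E → ℂ) y * (D.l₀ h : D.S.E → ℂ) y' := by
  haveI := comm_E D.S
  obtain ⟨l, hl⟩ := CharInduce.IsChar.exists_hom_of_degree_one (IsIrr.isCharacter (D.l₀ h).2)
    (H85.apply_one_eq_one_of_comm _)
  simp only [hl, map_mul, Units.val_mul]

theorem two_dvd_e (h : D.ε = -1) : 2 ∣ D.e := by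
  by_contra h2
  haveI := comm_E D.S
  refine D.l₀_ne h (Subtype.ext (funext fun y => ?_))
  show _ = (1 : ℂ)
  obtain ⟨l, hl⟩ := CharInduce.IsChar.exists_hom_of_degree_one (IsIrr.isCharacter (D.l₀ h).2)
    (H85.apply_one_eq_one_of_comm _)
  have h1 := D.l₀_real h y
  rw [hl y] at h1 ⊢
  have h3 : orderOf (l y) ∣ D.e := (orderOf_map_dvd l y).trans (orderOf_dvd_natCard y)
  have hsq : (l y : ℂ) * (l y : ℂ) = 1 := by
    have hn : Complex.normSq (l y : ℂ) = 1 := by
      have hpow : (l y : ℂ) ^ orderOf (l y) = 1 := by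
        rw [← Units.val_pow_eq_pow_val, pow_orderOf_eq_one, Units.val_one]
      have := Complex.norm_eq_one_of_pow_eq_one hpow (Nat.pos_of_dvd_of_pos h3 (Nat.card_pos (α := D.S.E))).ne'
      rw [Complex.normSq_eq_norm_sq, this, one_pow]
    have := Complex.mul_conj (l y : ℂ)
    rw [h1, hn] at this
    exact_mod_cast this
  have h4 : orderOf (l y) ∣ 2 := orderOf_dvd_of_pow_eq_one (Units.ext (by simpa [pow_two] using hsq))
  rcases (Nat.dvd_prime Nat.prime_two).1 h4 with e1 | e1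
  · rw [orderOf_eq_one_iff.1 e1, Units.val_one]
  · exact absurd (e1 ▸ h3) h2

theorem exists_z (h : D.ε = -1) : ∃ z ∈ D.S.E, orderOf z = 2 :=
  exists_E_orderOf D.S Nat.prime_two (D.two_dvd_e h)

theorem z_central {z : G} (hz : z ∈ D.S.E) (hz2 : orderOf z = 2) :
    normalizer (D.S.E : Set G) ≤ centralizer ({z} : Set G) := by
  intro x hx
  have h1 : x * z * x⁻¹ ∈ D.S.E := (mem_normalizer_iff.1 hx z).1 hz
  have h2 : x * z * x⁻¹ = z := eq_of_two D.S h1 hz
    ((MulEquiv.orderOf_eq (MulAut.conj x) z).trans hz2) hz2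
  exact mem_centralizer_singleton_iff.2 (mul_inv_eq_iff_eq_mul.1 h2)

theorem ne_one_of_two {z : G} (hz2 : orderOf z = 2) : z ≠ 1 := by
  intro e; rw [e, orderOf_one] at hz2; exact absurd hz2 (by norm_num)

theorem centralizer_z_eq {z : G} (hz : z ∈ D.S.E) (hz2 : orderOf z = 2) :
    centralizer ({z} : Set G) = normalizer (D.S.E : Set G) :=
  le_antisymm (D.centralizer_le hz (D.ne_one_of_two hz2)) (D.z_central hz hz2)

theorem card_centralizer_z (h : D.ε = -1) {z : G} (hz : z ∈ D.S.E) (hz2 : orderOf z = 2) :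
    Nat.card (centralizer ({z} : Set G)) = D.e * D.t := by
  rw [D.centralizer_z_eq hz hz2, D.card_NE, (D.minus_eq h).2.1]

theorem sum_sq_l (h : D.ε = -1) :
    ∑ χ : IrrCharacter G, ∑ l : IrrCharacter D.S.E, (mlt D.S χ l) ^ 2 + 2 = 2 * D.t + D.e := by
  obtain ⟨hk, ht, -⟩ := D.minus_eq h
  have hl1 : ∀ l : IrrCharacter D.S.E, l ≠ trivialIrr → ∑ χ : IrrCharacter G, mlt D.S χ l ^ 2 =
      D.A l + D.t * mlt D.S D.θ l := by
    intro l hl
    rw [← Finset.sum_sdiff (Finset.subset_univ (D.X ∪ D.Y)), Finset.sum_union D.disj, D.sum_X,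
      Finset.sum_eq_zero (fun χ hχ => by
        simp only [Finset.mem_sdiff, Finset.mem_union, not_or] at hχ
        rw [D.mlt_out hχ.2.1 hχ.2.2 hl]; rfl),
      Finset.sum_eq_zero (s := D.Xm) (fun χ hχ => by rw [D.mlt_Xm hχ l]; rfl), D.mlt_triv hl]
    have hm : mlt D.S D.θ l ^ 2 = mlt D.S D.θ l := by
      rcases eq_or_ne l (D.l₀ h) with e | e
      · rw [e, D.mlt_l₀ h, one_pow]
      · rw [D.mlt_ne_l₀ h e]; rfl
    have hY : ∑ χ ∈ D.Y, mlt D.S χ l ^ 2 = D.t * mlt D.S D.θ l := by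
      rw [Finset.sum_congr rfl fun χ hχ => by rw [D.mlt_Y hχ, hm], Finset.sum_const, D.cardY',
        smul_eq_mul]
    have hA : ∑ χ ∈ D.Xp, mlt D.S χ l ^ 2 = D.A l := Finset.sum_congr rfl fun χ hχ => by
      have h1 : mlt D.S χ l ≤ 1 := (Finset.single_le_sum (f := fun χ => mlt D.S χ l)
        (fun _ _ => Nat.zero_le _) hχ).trans (D.A_le l)
      interval_cases (mlt D.S χ l) <;> rfl
    rw [hY, hA]
    simp
  rw [Finset.sum_comm, ← Finset.add_sum_erase _ _
    (Finset.mem_univ (trivialIrr : IrrCharacter D.S.E)), D.sum_mlt_trivial,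
    Finset.sum_congr rfl fun l hl => hl1 l (Finset.ne_of_mem_erase hl), ← ht,
    Finset.sum_add_distrib, ← Finset.mul_sum, Finset.sum_erase _ D.A_one,
    Finset.sum_erase _ D.m_one, D.sum_A, ← fixDim]
  have hfd : fixDim D.S D.θ = 1 := hk
  have := D.k_add_eq h
  rw [hfd, ← ht]
  rw [hk, ← ht] at this
  omega

theorem sum_centralizers (h : D.ε = -1) :
    D.e * D.t + ∑ y ∈ (Finset.univ : Finset D.S.E).erase 1,
      Nat.card (centralizer ({(y : G)} : Set G)) + 2 * D.e = 2 * D.e * D.t + D.e * D.e := by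
  have h1 := sum_mlt_sq D.S
  have h2 : D.e * ∑ χ : IrrCharacter G, ∑ l : IrrCharacter D.S.E, mlt D.S χ l ^ 2 =
      D.e * (D.n + 1) + ∑ y ∈ (Finset.univ : Finset D.S.E).erase 1,
        Nat.card (centralizer ({(y : G)} : Set G)) := by
    exact_mod_cast h1
  have h3 := D.sum_sq_l h
  rw [← (D.minus_eq h).2.1] at h2
  rw [← h2]
  calc D.e * (∑ χ : IrrCharacter G, ∑ l : IrrCharacter D.S.E, mlt D.S χ l ^ 2) + 2 * D.e
      = D.e * (∑ χ : IrrCharacter G, ∑ l : IrrCharacter D.S.E, mlt D.S χ l ^ 2 + 2) := by ring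
    _ = _ := by rw [h3]; ring

theorem centralizer_eq_E (h : D.ε = -1) {z : G} (hz : z ∈ D.S.E) (hz2 : orderOf z = 2) {y : G}
    (hy : y ∈ D.S.E) (hy1 : y ≠ 1) (hyz : y ≠ z) : centralizer ({y} : Set G) = D.S.E := by
  have h1 := D.sum_centralizers h
  let z' : D.S.E := ⟨z, hz⟩
  have hz'1 : z' ≠ 1 := fun e => D.ne_one_of_two hz2 (congrArg Subtype.val e)
  have hmz : z' ∈ (Finset.univ : Finset D.S.E).erase 1 :=
    Finset.mem_erase.2 ⟨hz'1, Finset.mem_univ _⟩
  rw [← Finset.add_sum_erase _ _ hmz, show ((z' : G)) = z from rfl, D.card_centralizer_z h hz hz2]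
    at h1
  set T := ((Finset.univ : Finset D.S.E).erase 1).erase z' with hT
  have hTc : T.card + 2 = D.e := by
    rw [hT, Finset.card_erase_of_mem hmz, Finset.card_erase_of_mem (Finset.mem_univ _),
      Finset.card_univ, ← Nat.card_eq_fintype_card]
    have : 2 ≤ Nat.card D.S.E := D.two_le_e
    show Nat.card D.S.E - 1 - 1 + 2 = Nat.card D.S.E
    omega
  have hge : ∀ w ∈ T, D.e ≤ Nat.card (centralizer ({(w : G)} : Set G)) := fun w _ =>
    Subgroup.card_le_of_le (E_le_centralizer D.S w.2)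
  have hsum : ∑ _w ∈ T, D.e = ∑ w ∈ T, Nat.card (centralizer ({(w : G)} : Set G)) := by
    rw [Finset.sum_const, smul_eq_mul]
    have h2 : T.card * D.e + 2 * D.e = D.e * D.e := by rw [← add_mul, hTc]
    have h3 : 2 * D.e * D.t = D.e * D.t + D.e * D.t := by ring
    omega
  have hyT : (⟨y, hy⟩ : D.S.E) ∈ T := Finset.mem_erase.2 ⟨fun e => hyz (congrArg Subtype.val e),
    Finset.mem_erase.2 ⟨fun e => hy1 (congrArg Subtype.val e), Finset.mem_univ _⟩⟩
  have h2 := (Finset.sum_eq_sum_iff_of_le hge).1 hsum ⟨y, hy⟩ hyT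
  exact (Subgroup.eq_of_le_of_card_ge (E_le_centralizer D.S hy) h2.ge).symm

end Data

end Cfsg.Agent.H86.FewSylow
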