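import Mathlib

/-!
# Fixed points of p-group actions through invertible equivariant tables in characteristic p
-/

namespace Cfsg.Agent.H86

variable {R : Type*} [CommRing R] {A : Type*} [Group A] {p : ℕ} [Fact p.Prime]

open scoped Classical in
/-- The sum of an invariant function is the sum over the fixed points, in characteristic `p`. -/
theorem sum_eq_sum_fixed [CharP R p] (hA : IsPGroup p A) {Ω : Type*} [MulAction A Ω] [Fintype Ω]
    (f : Ω → R) (hf : ∀ (a : A) x, f (a • x) = f x) :
    ∑ x, f x = ∑ x ∈ Finset.univ.filter (fun x => x ∈ MulAction.fixedPoints A Ω), f x := by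
  rw [← Finset.sum_fiberwise_of_maps_to (t := Finset.univ.image f) (g := f)
      (fun x _ => Finset.mem_image_of_mem f (Finset.mem_univ x)) f,
    ← Finset.sum_fiberwise_of_maps_to (t := Finset.univ.image f) (g := f)
      (s := Finset.univ.filter (fun x => x ∈ MulAction.fixedPoints A Ω))
      (fun x _ => Finset.mem_image_of_mem f (Finset.mem_univ x)) f]
  refine Finset.sum_congr rfl fun v _ => ?_
  rw [Finset.sum_congr rfl (fun x hx => (Finset.mem_filter.1 hx).2),
    Finset.sum_congr rfl (fun x hx => (Finset.mem_filter.1 hx).2), Finset.sum_const,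
    Finset.sum_const, nsmul_eq_mul, nsmul_eq_mul]
  congr 1
  rw [CharP.natCast_eq_natCast R p]
  letI : MulAction A {x // f x = v} :=
    { smul := fun a x => ⟨a • x.1, (hf a x.1).trans x.2⟩
      one_smul := fun x => Subtype.ext (one_smul A x.1)
      mul_smul := fun a b x => Subtype.ext (mul_smul a b x.1) }
  have h := hA.card_modEq_card_fixedPoints {x // f x = v}
  have e2 : Nat.card (MulAction.fixedPoints A {x // f x = v}) =
      ((Finset.univ.filter (fun x => x ∈ MulAction.fixedPoints A Ω)).filter (fun x => f x = v)).card := by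
    rw [Finset.filter_filter, ← Fintype.card_subtype, ← Nat.card_eq_fintype_card]
    refine Nat.card_congr
      { toFun := fun x => ⟨x.1.1, fun a => congrArg Subtype.val (x.2 a), x.1.2⟩
        invFun := fun x => ⟨⟨x.1, x.2.2⟩, fun a => Subtype.ext (x.2.1 a)⟩
        left_inv := fun x => rfl
        right_inv := fun x => rfl }
  rw [e2, Nat.card_eq_fintype_card, Fintype.card_subtype] at h
  exact h

open scoped Classical in
/-- The product of equivariant tables restricts to fixed points. -/
theorem mul_restrict [CharP R p] (hA : IsPGroup p A) {I J K : Type*} [MulAction A I] [MulAction A J]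
    [MulAction A K] [Fintype J] (X : Matrix I J R) (Y : Matrix J K R)
    (hX : ∀ (a : A) i j, X (a • i) (a • j) = X i j) (hY : ∀ (a : A) i j, Y (a • i) (a • j) = Y i j)
    (i : MulAction.fixedPoints A I) (k : MulAction.fixedPoints A K) :
    (X * Y) i k = ∑ j : MulAction.fixedPoints A J, X i j * Y j k := by
  rw [Matrix.mul_apply, sum_eq_sum_fixed hA (fun j => X i j * Y j k) (fun a j => ?_)]
  · exact Finset.sum_subtype _ (fun x => by simp) (fun j => X i j * Y j k)
  · have h1 := hX a i j
    have h2 := hY a j k
    rw [i.2 a] at h1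
    rw [k.2 a] at h2
    rw [h1, h2]

/-- The points fixed by an involutive permutation are counted by its fixed functions. -/
theorem two_mul_finrank_fixed {k : Type*} [Field k] {Ω : Type*} [Fintype Ω] (σ : Ω → Ω)
    (hσ : Function.Involutive σ) :
    ∀ S : Submodule k (Ω → k), (∀ a, a ∈ S ↔ ∀ x, a (σ x) = a x) →
    2 * Module.finrank k S = Fintype.card Ω + Nat.card {x // σ x = x} := by
  classical
  intro S hS
  let e := Fintype.equivFin Ω
  let Rep : Finset Ω := Finset.univ.filter (fun a => e a ≤ e (σ a))
  let res : S →ₗ[k] (↥Rep → k) :=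
    { toFun := fun a x => a.1 x.1
      map_add' := fun _ _ => rfl
      map_smul' := fun _ _ => rfl }
  have hrep : ∀ x, x ∈ Rep ∨ σ x ∈ Rep := by
    intro x
    simp only [Rep, Finset.mem_filter, Finset.mem_univ, true_and, hσ x]
    exact le_total _ _
  have hboth : ∀ x, x ∈ Rep → σ x ∈ Rep → σ x = x := by
    intro x h1 h2
    simp only [Rep, Finset.mem_filter, Finset.mem_univ, true_and, hσ x] at h1 h2
    exact e.injective (le_antisymm h2 h1)
  have hinj : Function.Injective res := by
    intro a b h
    apply Subtype.ext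
    funext x
    rcases hrep x with hx | hx
    · exact congrFun h ⟨x, hx⟩
    · rw [← (hS a.1).1 a.2 x, ← (hS b.1).1 b.2 x]
      exact congrFun h ⟨σ x, hx⟩
  have hsurj : Function.Surjective res := by
    intro f
    refine ⟨⟨fun x => if hx : x ∈ Rep then f ⟨x, hx⟩ else
      f ⟨σ x, (hrep x).resolve_left hx⟩, (hS _).2 fun x => ?_⟩, ?_⟩
    · by_cases h1 : x ∈ Rep
      · by_cases h2 : σ x ∈ Rep
        · simp only [hboth x h1 h2]
        · simp only [dif_neg h2, dif_pos h1, hσ x]
      · simp only [dif_neg h1, dif_pos ((hrep x).resolve_left h1)]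
    · funext x
      show dite _ _ _ = _
      rw [dif_pos x.2]
  rw [(LinearEquiv.ofBijective res ⟨hinj, hsurj⟩).finrank_eq, Module.finrank_fintype_fun_eq_card,
    Fintype.card_coe, Nat.card_eq_fintype_card, Fintype.card_subtype, ← Finset.card_univ]
  have h1 := Finset.card_union_add_card_inter Rep (Rep.image σ)
  rw [Finset.card_image_of_injective _ hσ.injective] at h1
  have h2 : Rep ∪ Rep.image σ = Finset.univ := by
    refine Finset.eq_univ_iff_forall.2 fun x => ?_
    rcases hrep x with h | h
    · exact Finset.mem_union_left _ h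
    · exact Finset.mem_union_right _ (Finset.mem_image.2 ⟨σ x, h, hσ x⟩)
  have h3 : Rep ∩ Rep.image σ = Finset.univ.filter (fun x => σ x = x) := by
    ext x
    simp only [Finset.mem_inter, Finset.mem_image, Finset.mem_filter, Finset.mem_univ, true_and]
    constructor
    · rintro ⟨h, y, hy, rfl⟩
      rw [hboth y hy h, hboth y hy h]
    · intro h
      have : x ∈ Rep := by simp [Rep, h]
      exact ⟨this, x, this, h⟩
  rw [h2, h3] at h1
  omega

/-- Invertible equivariant tables: equal numbers of symmetric fixed points. -/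
theorem card_fixed_eq {k : Type*} [Field k] [CharP k p] (hA : IsPGroup p A) {I J : Type*}
    [MulAction A I] [MulAction A J] [Fintype I] [Fintype J] (X : Matrix I J k) (Y : Matrix J I k)
    [DecidableEq I] [DecidableEq J] (hXY : X * Y = 1) (hYX : Y * X = 1)
    (hX : ∀ (a : A) i j, X (a • i) (a • j) = X i j) (hY : ∀ (a : A) i j, Y (a • i) (a • j) = Y i j)
    (σ : I → I) (τ : J → J) (hσ : Function.Involutive σ) (hτ : Function.Involutive τ)
    (hσA : ∀ (a : A) i, σ (a • i) = a • σ i) (hτA : ∀ (a : A) j, τ (a • j) = a • τ j)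
    (hXs : ∀ i j, X (σ i) (τ j) = X i j) (hYs : ∀ i j, Y (τ j) (σ i) = Y j i) :
    Nat.card {i : I // σ i = i ∧ ∀ a : A, a • i = i} =
      Nat.card {j : J // τ j = j ∧ ∀ a : A, a • j = j} := by
  classical
  let σ' : MulAction.fixedPoints A I → MulAction.fixedPoints A I :=
    fun i => ⟨σ i.1, fun a => by rw [← hσA, i.2 a]⟩
  let τ' : MulAction.fixedPoints A J → MulAction.fixedPoints A J :=
    fun i => ⟨τ i.1, fun a => by rw [← hτA, i.2 a]⟩
  have hσ' : Function.Involutive σ' := fun i => Subtype.ext (hσ i.1)
  have hτ' : Function.Involutive τ' := fun i => Subtype.ext (hτ i.1)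
  let X' : Matrix (MulAction.fixedPoints A I) (MulAction.fixedPoints A J) k := fun i j => X i j
  let Y' : Matrix (MulAction.fixedPoints A J) (MulAction.fixedPoints A I) k := fun i j => Y i j
  have h1 : X' * Y' = 1 := by
    ext i i'
    rw [Matrix.mul_apply]
    show ∑ j : MulAction.fixedPoints A J, X i j * Y j i' = _
    rw [← mul_restrict hA X Y hX hY, hXY]
    by_cases h : i = i'
    · subst h; simp
    · simp [h, Subtype.coe_injective.ne h]
  have h2 : Y' * X' = 1 := by
    ext i i'
    rw [Matrix.mul_apply]
    show ∑ j : MulAction.fixedPoints A I, Y i j * X j i' = _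
    rw [← mul_restrict hA Y X hY hX, hYX]
    by_cases h : i = i'
    · subst h; simp
    · simp [h, Subtype.coe_injective.ne h]
  let Φ : (MulAction.fixedPoints A J → k) ≃ₗ[k] (MulAction.fixedPoints A I → k) :=
    Matrix.toLin'OfInv h2 h1
  have hn : Fintype.card (MulAction.fixedPoints A J) = Fintype.card (MulAction.fixedPoints A I) := by
    simpa using Φ.finrank_eq
  let S : Submodule k (MulAction.fixedPoints A I → k) :=
    { carrier := {a | ∀ x, a (σ' x) = a x}
      add_mem' := fun ha hb x => by simp [ha x, hb x]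
      zero_mem' := fun x => rfl
      smul_mem' := fun c a ha x => by simp [ha x] }
  let T : Submodule k (MulAction.fixedPoints A J → k) :=
    { carrier := {a | ∀ x, a (τ' x) = a x}
      add_mem' := fun ha hb x => by simp [ha x, hb x]
      zero_mem' := fun x => rfl
      smul_mem' := fun c a ha x => by simp [ha x] }
  have hmap : T.map (Φ : _ →ₗ[k] _) = S := by
    refine le_antisymm ?_ ?_
    · rintro _ ⟨a, ha, rfl⟩ x
      show (X'.mulVec a) (σ' x) = (X'.mulVec a) x
      simp only [Matrix.mulVec, dotProduct]
      refine Fintype.sum_equiv hτ'.toPerm _ _ fun j => ?_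
      show X (σ x.1) j.1 * a j = X x.1 (τ j.1) * a (τ' j)
      have e : X (σ x.1) j.1 = X x.1 (τ j.1) := by
        have := hXs x.1 (τ j.1); rwa [hτ j.1] at this
      rw [ha j, e]
    · intro b hb
      refine ⟨Φ.symm b, fun x => ?_, Φ.apply_symm_apply b⟩
      show (Y'.mulVec b) (τ' x) = (Y'.mulVec b) x
      simp only [Matrix.mulVec, dotProduct]
      refine Fintype.sum_equiv hσ'.toPerm _ _ fun j => ?_
      show Y (τ x.1) j.1 * b j = Y x.1 (σ j.1) * b (σ' j)
      have e : Y (τ x.1) j.1 = Y x.1 (σ j.1) := by
        have := hYs (σ j.1) x.1; rwa [hσ j.1] at this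
      rw [hb j, e]
  have hdim : Module.finrank k S = Module.finrank k T := by
    rw [← hmap, LinearEquiv.finrank_map_eq]
  have hS := two_mul_finrank_fixed σ' hσ' S (fun a => Iff.rfl)
  have hT := two_mul_finrank_fixed τ' hτ' T (fun a => Iff.rfl)
  have key : Nat.card {i // σ' i = i} = Nat.card {j // τ' j = j} := by omega
  refine Eq.trans ?_ (key.trans ?_)
  · exact Nat.card_congr
      { toFun := fun i => ⟨⟨i.1, i.2.2⟩, Subtype.ext i.2.1⟩
        invFun := fun i => ⟨i.1.1, congrArg Subtype.val i.2, i.1.2⟩
        left_inv := fun _ => rfl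
        right_inv := fun _ => rfl }
  · exact Nat.card_congr
      { toFun := fun i => ⟨i.1.1, congrArg Subtype.val i.2, i.1.2⟩
        invFun := fun i => ⟨⟨i.1, i.2.2⟩, Subtype.ext i.2.1⟩
        left_inv := fun _ => rfl
        right_inv := fun _ => rfl }

end Cfsg.Agent.H86
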