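import Mathlib
import Cfsg.Agent.H43.Galois

/-!
# Galois-equivariant vectors: the sum of squared norms is at least the number of conjugates
-/

open scoped ComplexConjugate

namespace Cfsg.Agent.H86

/-- The additive group of Galois-equivariant vectors over the primitive residues mod `o`. -/
def galVec (o : ℕ) : AddSubgroup ((ZMod o)ˣ → ℂ) :=
  AddSubgroup.closure {x | ∃ ω : ℂ, ω ^ o = 1 ∧ x = fun u : (ZMod o)ˣ => ω ^ (u : ZMod o).val}

theorem galVec_pow {o : ℕ} {ω : ℂ} (hω : ω ^ o = 1) :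
    (fun u : (ZMod o)ˣ => ω ^ (u : ZMod o).val) ∈ galVec o :=
  AddSubgroup.subset_closure ⟨ω, hω, rfl⟩

theorem galVec_isIntegral {o : ℕ} (ho : 0 < o) {x : (ZMod o)ˣ → ℂ} (hx : x ∈ galVec o)
    (u : (ZMod o)ˣ) : IsIntegral ℤ (x u) := by
  induction hx using AddSubgroup.closure_induction with
  | mem y hy =>
    obtain ⟨ω, hω, rfl⟩ := hy
    exact (IsIntegral.of_pow ho (by rw [hω]; exact isIntegral_one)).pow _
  | zero => exact isIntegral_zero
  | add a b _ _ ha hb => exact ha.add hb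
  | neg a _ ha => exact ha.neg

theorem galVec_aut {o : ℕ} [NeZero o] {k : ℕ} (hk : k.Coprime o) (σ : ℂ ≃+* ℂ)
    (hσ : ∀ z : ℂ, z ^ o = 1 → σ z = z ^ k) {x : (ZMod o)ˣ → ℂ} (hx : x ∈ galVec o)
    (u : (ZMod o)ˣ) : σ (x u) = x (ZMod.unitOfCoprime k hk * u) := by
  induction hx using AddSubgroup.closure_induction with
  | mem y hy =>
    obtain ⟨ω, hω, rfl⟩ := hy
    show σ (ω ^ (u : ZMod o).val) =
      ω ^ ((ZMod.unitOfCoprime k hk * u : (ZMod o)ˣ) : ZMod o).val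
    rw [map_pow, hσ ω hω, ← pow_mul, pow_eq_pow_mod _ hω, Units.val_mul,
      ZMod.coe_unitOfCoprime, ZMod.val_mul, ZMod.val_natCast]
    congr 1
    rw [Nat.mod_mul_mod]
  | zero => simp
  | add a b _ _ ha hb => simp [ha, hb]
  | neg a _ ha => simp [ha]

/-- The squared norms of a nonzero equivariant vector sum to at least the number of entries. -/
theorem card_le_sum_norm_sq_galVec {o : ℕ} [NeZero o] {x : (ZMod o)ˣ → ℂ} (hx : x ∈ galVec o)
    (h0 : x ≠ 0) : (Fintype.card (ZMod o)ˣ : ℝ) ≤ ∑ u, ‖x u‖ ^ 2 := by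
  classical
  have ho : 0 < o := NeZero.pos o
  have hall : ∀ u, x u ≠ 0 := by
    intro u hu
    apply h0
    funext w
    obtain ⟨σ, hσ⟩ := H43.exists_aut_pow (k := ((w * u⁻¹ : (ZMod o)ˣ) : ZMod o).val) ho.ne'
      (ZMod.val_coe_unit_coprime (w * u⁻¹))
    have e := galVec_aut (ZMod.val_coe_unit_coprime (w * u⁻¹)) σ hσ hx u
    rw [hu, map_zero] at e
    have hval : ZMod.unitOfCoprime _ (ZMod.val_coe_unit_coprime (w * u⁻¹)) * u = w := by
      have : ZMod.unitOfCoprime _ (ZMod.val_coe_unit_coprime (w * u⁻¹)) = w * u⁻¹ :=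
        Units.ext (by rw [ZMod.coe_unitOfCoprime, ZMod.natCast_zmod_val])
      rw [this, inv_mul_cancel_right]
    rw [hval] at e
    exact e.symm
  set P : ℂ := ∏ u, x u with hP
  have hfix : ∀ σ : ℂ ≃+* ℂ, σ P = P := by
    intro σ
    obtain ⟨k, hk, hσ⟩ := H43.aut_eq_pow σ ho.ne'
    rw [hP, map_prod]
    exact Fintype.prod_equiv (Equiv.mulLeft (ZMod.unitOfCoprime k hk)) _ _
      fun u => galVec_aut hk σ hσ hx u
  have hint : IsIntegral ℤ P := IsIntegral.prod _ fun u _ => galVec_isIntegral ho hx u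
  obtain ⟨q, hq⟩ := H43.rat_of_fixed hint.tower_top hfix
  obtain ⟨n, hn⟩ := H43.int_of_rat_integral hint hq
  have hn0 : n ≠ 0 := by
    intro h
    rw [h, Int.cast_zero, hP, Finset.prod_eq_zero_iff] at hn
    obtain ⟨u, -, hu⟩ := hn
    exact hall u hu
  have hone : (1 : ℝ) ≤ ∏ u, ‖x u‖ := by
    rw [← norm_prod, ← hP, hn, Complex.norm_intCast]
    exact_mod_cast Int.one_le_abs hn0
  have hlog : 0 ≤ ∑ u, Real.log (‖x u‖ ^ 2) := by
    rw [← Real.log_prod fun u _ => (pow_pos (norm_pos_iff.2 (hall u)) 2).ne', Finset.prod_pow]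
    exact Real.log_nonneg (one_le_pow₀ hone)
  have hle : ∑ u, Real.log (‖x u‖ ^ 2) ≤ ∑ u, (‖x u‖ ^ 2 - 1) :=
    Finset.sum_le_sum fun u _ => Real.log_le_sub_one_of_pos (pow_pos (norm_pos_iff.2 (hall u)) 2)
  simp only [Finset.sum_sub_distrib, Finset.sum_const, nsmul_eq_mul, mul_one, Finset.card_univ] at hle
  linarith

end Cfsg.Agent.H86
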