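import Cfsg.Agent.H86.SectionFun
import Cfsg.Agent.Fusion.Complements

/-!
# Fusion in a group with abelian Sylow 2-subgroup of rank two with three conjugate involutions
-/

set_option linter.unusedSectionVars false

namespace Cfsg.Agent.H86

open Subgroup

universe u

variable {G : Type u} [Group G] [Finite G]

theorem card_sq_eq_one_le {A : Type*} [Group A] (m : ℕ)
    (e : A ≃* Multiplicative (ZMod (2 ^ m) × ZMod (2 ^ m))) :
    Nat.card {x : A // x ^ 2 = 1} ≤ 4 := by
  haveI : NeZero (2 ^ m) := ⟨by positivity⟩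
  have hz : ∀ u v : ZMod (2 ^ m), u + u = 0 → v + v = 0 → (u = 0 ↔ v = 0) → u = v := by
    intro u v hu hv huv
    rcases (ZMod.neg_eq_self_iff u).mp (neg_eq_of_add_eq_zero_left hu) with h5 | h5
    · rw [h5, huv.mp h5]
    rcases (ZMod.neg_eq_self_iff v).mp (neg_eq_of_add_eq_zero_left hv) with h6 | h6
    · rw [h6, huv.mpr h6]
    · exact ZMod.val_injective _ (by omega)
  have hh : ∀ x : {x : A // x ^ 2 = 1},
      (Multiplicative.toAdd (e x.1)).1 + (Multiplicative.toAdd (e x.1)).1 = 0 ∧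
      (Multiplicative.toAdd (e x.1)).2 + (Multiplicative.toAdd (e x.1)).2 = 0 := by
    intro x
    have h5 : e x.1 * e x.1 = 1 := by rw [← map_mul, ← sq, x.2, map_one]
    have h6 := congrArg Multiplicative.toAdd h5
    exact ⟨congrArg Prod.fst h6, congrArg Prod.snd h6⟩
  haveI : Finite A := Finite.of_equiv _ e.toEquiv.symm
  refine (Nat.card_le_card_of_injective (β := Bool × Bool)
    (fun x => (decide ((Multiplicative.toAdd (e x.1)).1 = 0),
      decide ((Multiplicative.toAdd (e x.1)).2 = 0))) fun x y hxy => ?_).trans (by simp)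
  simp only [Prod.mk.injEq, decide_eq_decide] at hxy
  exact Subtype.ext (e.injective (congrArg Multiplicative.ofAdd
    (Prod.ext (hz _ _ (hh x).1 (hh y).1 hxy.1) (hz _ _ (hh x).2 (hh y).2 hxy.2))))

variable (P : Sylow 2 G) [IsMulCommutative (P : Subgroup G)]

theorem mul_comm_sylow {x y : G} (hx : x ∈ (P : Subgroup G)) (hy : y ∈ (P : Subgroup G)) :
    x * y = y * x :=
  congrArg Subtype.val (mul_comm' (⟨x, hx⟩ : (P : Subgroup G)) ⟨y, hy⟩)

/-- Two involutions and their product are all the involutions. -/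
theorem invol_cases (h4 : Nat.card {x : (P : Subgroup G) // x ^ 2 = 1} ≤ 4) {a b : G}
    (ha : a ∈ (P : Subgroup G)) (hb : b ∈ (P : Subgroup G)) (ha2 : a ^ 2 = 1) (hb2 : b ^ 2 = 1)
    (ha1 : a ≠ 1) (hb1 : b ≠ 1) (hab : a ≠ b) {s : G} (hs : s ∈ (P : Subgroup G)) (hs2 : s ^ 2 = 1) :
    s = 1 ∨ s = a ∨ s = b ∨ s = a * b := by
  by_contra hcon
  simp only [not_or] at hcon
  obtain ⟨hs1, hsa, hsb, hsab⟩ := hcon
  have hab2 : (a * b) ^ 2 = 1 := by
    rw [(show Commute a b from mul_comm_sylow P ha hb).mul_pow, ha2, hb2, one_mul]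
  have hinv : ∀ {z : G}, z ^ 2 = 1 → z⁻¹ = z := fun {z} hz =>
    inv_eq_of_mul_eq_one_right (by rwa [← sq])
  have hab1 : a * b ≠ 1 := fun h => hab (by rw [mul_eq_one_iff_eq_inv.1 h, hinv hb2])
  let F : Fin 5 → {x : (P : Subgroup G) // x ^ 2 = 1} :=
    ![⟨1, one_pow 2⟩, ⟨⟨a, ha⟩, Subtype.ext ha2⟩, ⟨⟨b, hb⟩, Subtype.ext hb2⟩,
      ⟨⟨a * b, mul_mem ha hb⟩, Subtype.ext hab2⟩, ⟨⟨s, hs⟩, Subtype.ext hs2⟩]
  have hF : Function.Injective F := by
    intro i j hij
    have h7 : ((F i).1 : G) = ((F j).1 : G) := by rw [hij]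
    fin_cases i <;> fin_cases j <;>
      first
      | rfl
      | (exfalso; simp only [F] at h7; simp [ha1, hb1, hab, hab1, hs1, hsa, hsb, hsab, Ne.symm ha1,
          Ne.symm hb1, Ne.symm hab, Ne.symm hab1, Ne.symm hs1, Ne.symm hsa, Ne.symm hsb,
          Ne.symm hsab] at h7)
  have := (Nat.card_le_card_of_injective F hF).trans h4
  simp at this

theorem conj_mem_sylow {n x : G} (hn : n ∈ normalizer (P : Set G)) (hx : x ∈ (P : Subgroup G)) :
    n * x * n⁻¹ ∈ (P : Subgroup G) :=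
  (mem_normalizer_iff.mp hn x).mp hx

/-- An element of odd order of the normalizer that fixes a nontrivial element centralizes `P`. -/
theorem fix_of_odd (h4 : Nat.card {x : (P : Subgroup G) // x ^ 2 = 1} ≤ 4) {g : G}
    (hg : g ∈ normalizer (P : Set G)) (hgp : (orderOf g).Coprime 2) {x : G}
    (hx : x ∈ (P : Subgroup G)) (hx1 : x ≠ 1) (hfix : g * x * g⁻¹ = x) :
    g ∈ centralizer ((P : Subgroup G) : Set G) := by
  haveI : Fact (Nat.Prime 2) := ⟨Nat.prime_two⟩
  obtain ⟨k, hk⟩ := IsPGroup.iff_orderOf.1 P.isPGroup' ⟨x, hx⟩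
  rw [Subgroup.orderOf_mk] at hk
  obtain ⟨j, rfl⟩ : ∃ j, k = j + 1 := Nat.exists_eq_succ_of_ne_zero fun h0 => hx1 (by simpa [h0] using hk)
  set t := x ^ (2 ^ j)
  have htP : t ∈ (P : Subgroup G) := pow_mem hx _
  have ht2 : t ^ 2 = 1 := by rw [← pow_mul, ← pow_succ, ← hk, pow_orderOf_eq_one]
  have ht1 : t ≠ 1 := pow_ne_one_of_lt_orderOf (by positivity) (by rw [hk]; exact Nat.pow_lt_pow_right (by norm_num) (by omega))
  have htfix : g * t * g⁻¹ = t := by rw [← conj_pow, hfix]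
  refine Fusion.mem_centralizer_of_fix_abelian P.isPGroup' hg hgp fun u hu hu2 => ?_
  rcases eq_or_ne u 1 with rfl | hu1
  · group
  rcases eq_or_ne u t with rfl | hut
  · exact htfix
  set v := g * u * g⁻¹
  have hv2 : v ^ 2 = 1 := by rw [conj_pow, hu2, mul_one, mul_inv_cancel]
  rcases invol_cases P h4 htP hu ht2 hu2 ht1 hu1 (Ne.symm hut) (conj_mem_sylow P hg hu) hv2 with
    h | h | h | h
  · exact absurd (conj_eq_one_iff.mp h) hu1
  · exact absurd (mul_left_cancel (mul_right_cancel (h.trans htfix.symm))) hut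
  · exact h
  · have h2 : g ^ 2 * u * (g ^ 2)⁻¹ = u := by
      calc g ^ 2 * u * (g ^ 2)⁻¹ = (g * t * g⁻¹) * (g * u * g⁻¹) := by
            rw [show g * t * g⁻¹ * (g * u * g⁻¹) = g * (t * u) * g⁻¹ by group, ← h, sq]; group
        _ = t * (t * u) := by rw [htfix]; exact congrArg _ h
        _ = u := by rw [← mul_assoc, ← sq, ht2, one_mul]
    obtain ⟨i, hi⟩ : Odd (orderOf g) := Nat.coprime_two_right.mp hgp
    have h5 := Commute.pow_left (mul_inv_eq_iff_eq_mul.mp h2 : Commute (g ^ 2) u) (i + 1)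
    rw [← pow_mul, show 2 * (i + 1) = orderOf g + 1 by omega, pow_succ, pow_orderOf_eq_one,
      one_mul] at h5
    exact mul_inv_eq_iff_eq_mul.mpr h5.eq

/-- An element of the normalizer that fixes a nontrivial element centralizes `P`. -/
theorem fix_of_normalizer (h4 : Nat.card {x : (P : Subgroup G) // x ^ 2 = 1} ≤ 4) {n : G}
    (hn : n ∈ normalizer (P : Set G)) {x : G}
    (hx : x ∈ (P : Subgroup G)) (hx1 : x ≠ 1) (hfix : n * x * n⁻¹ = x) :
    n ∈ centralizer ((P : Subgroup G) : Set G) := by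
  haveI : Fact (Nat.Prime 2) := ⟨Nat.prime_two⟩
  obtain ⟨a, b, rfl, ha, hb, ⟨k, hak⟩, hbp⟩ := Fusion.exists_mul_eq_pPart (p := 2) n
  have haN : a ∈ normalizer (P : Set G) := zpowers_le.mpr hn ha
  have haP : a ∈ (P : Subgroup G) := by
    have hA : IsPGroup 2 (zpowers a) := by
      refine IsPGroup.of_card_dvd_pow (n := k) ?_
      rw [Nat.card_zpowers]; exact hak
    have hle : (P : Subgroup G) ⊔ zpowers a = (P : Subgroup G) :=
      P.is_maximal' (P.isPGroup'.to_sup_of_normal_left' hA (zpowers_le.mpr haN)) le_sup_left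
    exact hle ▸ mem_sup_right (mem_zpowers a)
  refine mul_mem (le_centralizer_iff_isMulCommutative.mpr inferInstance haP)
    (fix_of_odd P h4 (zpowers_le.mpr hn hb) hbp hx hx1 ?_)
  have hbx : b * x * b⁻¹ ∈ (P : Subgroup G) := conj_mem_sylow P (zpowers_le.mpr hn hb) hx
  calc b * x * b⁻¹ = a⁻¹ * (a * b * x * (a * b)⁻¹) * a := by group
    _ = a⁻¹ * (a * x) := by rw [hfix, mul_assoc, mul_comm_sylow P hx haP]
    _ = x := by group

/-- The centraliser of a nontrivial element of `P` has a normal 2-complement. -/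
theorem pNilAt_of_mem (h4 : Nat.card {x : (P : Subgroup G) // x ^ 2 = 1} ≤ 4) {x : G}
    (hx : x ∈ (P : Subgroup G)) (hx1 : x ≠ 1) : PNilAt 2 x := by
  haveI : Fact (Nat.Prime 2) := ⟨Nat.prime_two⟩
  set C := centralizer ({x} : Set G)
  have hPC : (P : Subgroup G) ≤ C := fun y hy =>
    mem_centralizer_singleton_iff.2 (mul_comm_sylow P hy hx)
  set Q := P.subtype hPC
  have hmem : ∀ y : C, y ∈ (Q : Subgroup C) ↔ (y : G) ∈ (P : Subgroup G) := fun y => Iff.rfl
  have hle : normalizer ((Q : Subgroup C) : Set C) ≤ centralizer ((Q : Subgroup C) : Set C) := by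
    intro c hc
    have hcN : (c : G) ∈ normalizer (P : Set G) := by
      refine mem_normalizer_iff.mpr fun y => ?_
      constructor
      · intro hy
        exact (hmem _).1 ((mem_normalizer_iff.mp hc ⟨y, hPC hy⟩).1 ((hmem _).2 hy))
      · intro hy
        have hy' : y ∈ C := by
          have := C.mul_mem (C.mul_mem (C.inv_mem c.2) (hPC hy)) c.2
          simpa [mul_assoc] using this
        exact (hmem _).1 ((mem_normalizer_iff.mp hc ⟨y, hy'⟩).2 ((hmem _).2 hy))
    have h := fix_of_normalizer P h4 hcN hx hx1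
      (mul_inv_eq_iff_eq_mul.mpr (mem_centralizer_singleton_iff.1 c.2))
    exact mem_centralizer_iff.2 fun y hy => Subtype.ext (mem_centralizer_iff.1 h y ((hmem y).1 hy))
  obtain ⟨Q', N, hN, hc⟩ := Fusion.hasNormalPComplement_of_normalizer_le_centralizer Q hle
  obtain ⟨k, hk⟩ := IsPGroup.iff_card.1 Q'.isPGroup'
  have hidx : N.index = 2 ^ k := by rw [hc.symm.index_eq_card]; exact hk
  have hNodd : ¬ 2 ∣ Nat.card N := Fusion.not_dvd_card_of_isComplement' Q' hc
  have hle2 : N ≤ pPrimeCore 2 C :=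
    Cores.le_pPrimeCore (Nat.Coprime.symm ((Nat.prime_two.coprime_iff_not_dvd).2 hNodd))
  exact (Nat.dvd_prime_pow Nat.prime_two).1 (hidx ▸ Subgroup.index_dvd_of_le hle2) |>.imp fun _ h => h.2

/-- An element inducing a fixed point free action of order three. -/
structure Rotor (g : G) : Prop where
  mem : g ∈ normalizer (P : Set G)
  not_mem : g ∉ centralizer ((P : Subgroup G) : Set G)
  cube : g ^ 3 ∈ centralizer ((P : Subgroup G) : Set G)
  cover : ∀ n ∈ normalizer (P : Set G), ∃ i : Fin 3,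
    (g ^ (i : ℕ))⁻¹ * n ∈ centralizer ((P : Subgroup G) : Set G)

/-- Either `P` has a normal complement or the normalizer induces a group of order three. -/
theorem exists_rotor (h4 : Nat.card {x : (P : Subgroup G) // x ^ 2 = 1} ≤ 4)
    (hnc : ¬ HasNormalPComplement 2 G) : ∃ g : G, Rotor P g := by
  haveI : Fact (Nat.Prime 2) := ⟨Nat.prime_two⟩
  have hex : ∃ g ∈ normalizer (P : Set G), (orderOf g).Coprime 2 ∧
      g ∉ centralizer ((P : Subgroup G) : Set G) := by
    by_contra h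
    push Not at h
    exact hnc (Fusion.hasNormalPComplement_of_abelian P h)
  obtain ⟨g, hg, hgp, hgC⟩ := hex
  obtain ⟨t, htP, ht2, ht⟩ : ∃ t ∈ (P : Subgroup G), t ^ 2 = 1 ∧ g * t * g⁻¹ ≠ t := by
    by_contra h
    push Not at h
    exact hgC (Fusion.mem_centralizer_of_fix_abelian P.isPGroup' hg hgp h)
  have ht1 : t ≠ 1 := by rintro rfl; simp at ht
  set u := g * t * g⁻¹
  have huP : u ∈ (P : Subgroup G) := conj_mem_sylow P hg htP
  have hu2 : u ^ 2 = 1 := by rw [conj_pow, ht2, mul_one, mul_inv_cancel]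
  have hu1 : u ≠ 1 := fun h => ht1 (conj_eq_one_iff.mp h)
  set w := g * u * g⁻¹
  have hwP : w ∈ (P : Subgroup G) := conj_mem_sylow P hg huP
  have hw2 : w ^ 2 = 1 := by rw [conj_pow, hu2, mul_one, mul_inv_cancel]
  have hwt : w ≠ t := by
    intro h
    have h2 : g ^ 2 * t * (g ^ 2)⁻¹ = t := by rw [sq]; refine Eq.trans ?_ h; simp only [w, u]; group
    obtain ⟨i, hi⟩ : Odd (orderOf g) := Nat.coprime_two_right.mp hgp
    have h5 := Commute.pow_left (mul_inv_eq_iff_eq_mul.mp h2 : Commute (g ^ 2) t) (i + 1)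
    rw [← pow_mul, show 2 * (i + 1) = orderOf g + 1 by omega, pow_succ, pow_orderOf_eq_one,
      one_mul] at h5
    exact ht (mul_inv_eq_iff_eq_mul.mpr h5.eq)
  have hwu : w ≠ u := fun h => ht (mul_left_cancel (mul_right_cancel h))
  have hw1 : w ≠ 1 := fun h => hu1 (conj_eq_one_iff.mp h)
  have hwtu : w = t * u := by
    rcases invol_cases P h4 htP huP ht2 hu2 ht1 hu1 (Ne.symm ht) hwP hw2 with h | h | h | h
    · exact absurd h hw1
    · exact absurd h hwt
    · exact absurd h hwu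
    · exact h
  have hall : ∀ n ∈ normalizer (P : Set G),
      n * t * n⁻¹ = t ∨ n * t * n⁻¹ = u ∨ n * t * n⁻¹ = w := by
    intro n hn
    rcases invol_cases P h4 htP huP ht2 hu2 ht1 hu1 (Ne.symm ht) (conj_mem_sylow P hn htP)
      (by rw [conj_pow, ht2, mul_one, mul_inv_cancel]) with h | h | h | h
    · exact absurd (conj_eq_one_iff.mp h) ht1
    · exact Or.inl h
    · exact Or.inr (Or.inl h)
    · exact Or.inr (Or.inr (h.trans hwtu.symm))
  have hcover : ∀ n ∈ normalizer (P : Set G), ∃ i : Fin 3,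
      (g ^ (i : ℕ))⁻¹ * n ∈ centralizer ((P : Subgroup G) : Set G) := by
    intro n hn
    have key : ∀ i : ℕ, n * t * n⁻¹ = g ^ i * t * (g ^ i)⁻¹ →
        (g ^ i)⁻¹ * n ∈ centralizer ((P : Subgroup G) : Set G) := by
      intro i hi
      refine fix_of_normalizer P h4 (mul_mem (inv_mem (pow_mem hg i)) hn) htP ht1 ?_
      calc (g ^ i)⁻¹ * n * t * ((g ^ i)⁻¹ * n)⁻¹ = (g ^ i)⁻¹ * (n * t * n⁻¹) * g ^ i := by group
        _ = t := by rw [hi]; group
    rcases hall n hn with h | h | h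
    · exact ⟨0, key 0 (by rw [h]; simp)⟩
    · exact ⟨1, key 1 (by rw [h, pow_one])⟩
    · exact ⟨2, key 2 (by rw [h, sq]; simp only [w, u]; group)⟩
  refine ⟨g, hg, hgC, fix_of_normalizer P h4 (pow_mem hg 3) htP ht1 ?_, hcover⟩
  have e : g ^ 3 * t * (g ^ 3)⁻¹ = g * w * g⁻¹ := by simp only [w, u, pow_succ, pow_zero]; group
  rw [e]
  rcases hall _ (pow_mem hg 3) with h | h | h <;> rw [e] at h
  · exact h
  · exact absurd (mul_left_cancel (mul_right_cancel h)) hwt
  · exact absurd (mul_left_cancel (mul_right_cancel h)) hwu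

end Cfsg.Agent.H86
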