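import Cfsg.Agent.S0169
import Cfsg.Agent.H85.ModP
import Cfsg.Agent.H86.IrrOps
import Cfsg.Agent.CharInduce.Ops

/-!
# Characters of a coprime semidirect product with abelian normal subgroup
-/

open scoped ComplexConjugate
open Cfsg.Agent.CharBasic

namespace Cfsg.Agent.H86.KGV

variable {X : Type*} [Group X] [Finite X] {V G : Subgroup X}

/-- The projection onto a complement. -/
theorem exists_proj [hV : V.Normal] (hGV : Subgroup.IsComplement' V G) :
    ∃ f : X →* ↥G, f.ker = V ∧ ∀ g : ↥G, f g = g := by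
  let e := (Subgroup.IsComplement'.QuotientMulEquiv (hGV.symm) : X ⧸ V ≃* ↥G)
  refine ⟨e.toMonoidHom.comp (QuotientGroup.mk' V), ?_, fun g => ?_⟩
  · ext x
    simp [MonoidHom.mem_ker]
  · show e (QuotientGroup.mk' V g) = g
    apply e.symm.injective
    rw [MulEquiv.symm_apply_apply]
    rfl

/-- The characters trivial on `V` are those of the complement. -/
theorem trivial_iff [hV : V.Normal] {f : X →* ↥G} (hker : f.ker = V) (hid : ∀ g : ↥G, f g = g)
    (χ : Cfsg.IrrCharacter X) :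
    (∀ u ∈ V, (χ : X → ℂ) u = (χ : X → ℂ) 1) ↔
      ∃ η : Cfsg.IrrCharacter ↥G, ∀ x, (χ : X → ℂ) x = (η : ↥G → ℂ) (f x) := by
  constructor
  · intro h
    obtain ⟨ψ, -, hψ, hirr⟩ := CharInduce.IsChar.exists_deflate (IsIrr.isCharacter χ.2) V h
    let e := (QuotientGroup.quotientMulEquivOfEq hker.symm).trans
      (QuotientGroup.quotientKerEquivOfSurjective f (fun g => ⟨g, hid g⟩))
    refine ⟨⟨_, isIrr_comp_equiv (hirr χ.2) e.symm⟩, fun x => ?_⟩
    rw [hψ x]
    show ψ x = ψ (e.symm (f x))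
    congr 1
    apply e.injective
    rw [MulEquiv.apply_symm_apply]
    rfl
  · rintro ⟨η, hη⟩ u hu
    rw [hη, hη, map_one, show f u = 1 from by rwa [← MonoidHom.mem_ker, hker]]

/-- The centralizer of an element of `V`. -/
theorem card_centralizer (hab : ∀ a ∈ V, ∀ b ∈ V, a * b = b * a) (hGV : Subgroup.IsComplement' V G)
    {v : X} (hv : v ∈ V) :
    Nat.card (Subgroup.centralizer ({v} : Set X)) =
      Nat.card V * Nat.card ↥(G ⊓ Subgroup.centralizer ({v} : Set X)) := by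
  rw [← Nat.card_prod]
  refine (Nat.card_congr (Equiv.ofBijective (fun q : ↥V × ↥(G ⊓ Subgroup.centralizer ({v} : Set X)) =>
    (⟨(q.1 : X) * q.2, mul_mem (Subgroup.mem_centralizer_singleton_iff.2 (hab _ q.1.2 _ hv)) q.2.2.2⟩ :
      ↥(Subgroup.centralizer ({v} : Set X)))) ⟨?_, ?_⟩)).symm
  · intro a b hab'
    have h2 := congrArg Subtype.val hab'
    have h3 := hGV.1 (a₁ := (a.1, ⟨(a.2 : X), a.2.2.1⟩)) (a₂ := (b.1, ⟨(b.2 : X), b.2.2.1⟩)) h2
    exact Prod.ext (Prod.ext_iff.1 h3).1 (Subtype.ext (congrArg Subtype.val (Prod.ext_iff.1 h3).2 :))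
  · rintro ⟨x, hx⟩
    obtain ⟨⟨a, g⟩, hag⟩ := hGV.2 x
    have hg : (g : X) ∈ Subgroup.centralizer ({v} : Set X) := by
      have hA : (a : X) ∈ Subgroup.centralizer ({v} : Set X) :=
        Subgroup.mem_centralizer_singleton_iff.2 (hab _ a.2 _ hv)
      have := mul_mem (inv_mem hA) hx
      rwa [← hag, inv_mul_cancel_left] at this
    exact ⟨(a, ⟨g, g.2, hg⟩), Subtype.ext hag⟩

variable {p : ℕ} [Fact p.Prime]

omit [Finite X] in
theorem pPow_orderOf' (hVp : IsPGroup p V) {v : X} (hv : v ∈ V) : ∃ k, orderOf v = p ^ k := by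
  obtain ⟨k, hk⟩ := IsPGroup.iff_orderOf.1 hVp ⟨v, hv⟩
  exact ⟨k, (Subgroup.orderOf_mk v hv ▸ hk :)⟩

/-- Degrees are prime to `p`. -/
theorem not_dvd_degree [hV : V.Normal] (hidx : ¬ p ∣ V.index) (hab : ∀ a ∈ V, ∀ b ∈ V, a * b = b * a)
    (χ : Cfsg.IrrCharacter X) : ¬ p ∣ Cfsg.charDegree (χ : X → ℂ) := by
  obtain ⟨n, ρ, hρ, hχ⟩ := χ.2
  have hdeg : Cfsg.charDegree (χ : X → ℂ) = Module.finrank ℂ (Fin n → ℂ) := by
    simp [Cfsg.charDegree, ← hχ, Representation.char_one]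
  rw [hdeg]
  exact fun h => hidx (h.trans (S0169.result ρ V hab))

/-- Values at elements of `V` do not vanish mod `M`. -/
theorem not_memLocalIdeal_value [hV : V.Normal] {M : Ideal Cfsg.AlgInt} (hM : Cfsg.IsPModular p M)
    (hVp : IsPGroup p V) (hidx : ¬ p ∣ V.index) (hab : ∀ a ∈ V, ∀ b ∈ V, a * b = b * a)
    (χ : Cfsg.IrrCharacter X) {v : X} (hv : v ∈ V) :
    ¬ Cfsg.MemLocalIdeal M ((χ : X → ℂ) v) := by
  intro h
  have h1 := BlockBasic.memLocalIdeal_sub hM h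
    (H85.memLocalIdeal_apply_sub_one hM (IsIrr.isCharacter χ.2) (pPow_orderOf' hVp hv))
  rw [sub_sub_cancel, BlockBasic.apply_one_eq_charDegree, BlockBasic.memLocalIdeal_natCast_iff hM] at h1
  exact not_dvd_degree hidx hab χ h1

theorem value_ne_zero [hV : V.Normal] (hVp : IsPGroup p V) (hidx : ¬ p ∣ V.index)
    (hab : ∀ a ∈ V, ∀ b ∈ V, a * b = b * a) (χ : Cfsg.IrrCharacter X) {v : X} (hv : v ∈ V) :
    (χ : X → ℂ) v ≠ 0 := by
  obtain ⟨M, hM⟩ := BlockBasic.exists_isPModular (p := p) Fact.out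
  intro h
  apply not_memLocalIdeal_value hM hVp hidx hab χ hv
  rw [h]
  exact BlockBasic.memLocalIdeal_zero hM

omit [Finite X] in
theorem centralizer_pow_eq {v : X} {k : ℕ} (hk : Nat.Coprime k (orderOf v)) :
    Subgroup.centralizer ({v ^ k} : Set X) = Subgroup.centralizer ({v} : Set X) := by
  ext x
  simp only [Subgroup.mem_centralizer_singleton_iff]
  refine ⟨fun h => ?_, fun h => (Commute.pow_right h k).eq⟩
  obtain ⟨m, hm⟩ := exists_pow_eq_self_of_coprime hk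
  have h' : Commute x ((v ^ k) ^ m) := (show Commute x (v ^ k) from h).pow_right m
  rw [hm] at h'
  exact h'.eq

end Cfsg.Agent.H86.KGV
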