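import Cfsg.Agent.H86.KnorrWeights
import Cfsg.Agent.H86.KGV
import Cfsg.Agent.CharBasic.Kernel

/-!
# Knörr's bound on the class number for an abelian stabilizer
-/

open scoped ComplexConjugate
open Cfsg.Agent.CharBasic

namespace Cfsg.Agent.H86

section List

variable {X : Type*} [Group X] [Finite X] {C : Type*} [CommGroup C] [Finite C]

theorem card_eq_relIndex_mul {A B : Subgroup X} (h : A ≤ B) :
    Nat.card B = Nat.card A * A.relIndex B := by
  rw [← Subgroup.relIndex_bot_left, ← Subgroup.relIndex_bot_left,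
    Subgroup.relIndex_mul_relIndex _ _ _ bot_le h]

/-- The elements of `C` acting trivially on the section `U / U'`. -/
def sectionKer (f : C →* X) (U U' : Subgroup X)
    (hU : ∀ c, ∀ x ∈ U, f c * x * (f c)⁻¹ ∈ U) : Subgroup C where
  carrier := {h | ∀ x ∈ U, f h * x * (f h)⁻¹ * x⁻¹ ∈ U'}
  one_mem' x _ := by simp
  mul_mem' {a b} ha hb x hx := by
    have h1 := ha _ (hU b x hx)
    have h2 := hb x hx
    have := mul_mem h1 h2
    convert this using 1
    rw [map_mul]
    group
  inv_mem' {a} ha x hx := by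
    have h1 := inv_mem (ha _ (hU a⁻¹ x hx))
    convert h1 using 1
    rw [map_inv]
    group

theorem exists_weights [Fintype (C →* ℂˣ)] (f : C →* X) {V : Subgroup X}
    (hV : ∀ c, ∀ x ∈ V, f c * x * (f c)⁻¹ ∈ V) (habV : ∀ a ∈ V, ∀ b ∈ V, a * b = b * a)
    (hcop : (Nat.card C).Coprime (Nat.card V)) :
    ∀ U : Subgroup X, U ≤ V → (∀ c, ∀ x ∈ U, f c * x * (f c)⁻¹ ∈ U) →
      ∃ Ms : List (Subgroup (C →* ℂˣ)), ∀ h : C,
        weight Ms h * Nat.card ↥(U ⊓ Subgroup.centralizer ({f h} : Set X)) ≤ Nat.card U ∧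
        ((∀ M ∈ Ms, ∀ μ ∈ M, μ h = 1) → U ≤ Subgroup.centralizer ({f h} : Set X)) := by
  intro U
  induction hn : Nat.card U using Nat.strong_induction_on generalizing U with
  | _ n ih =>
  subst hn
  intro hUV hU
  classical
  by_cases hbot : U = ⊥
  · subst hbot
    refine ⟨[], fun h => ⟨?_, fun _ => bot_le⟩⟩
    simp [weight]
  obtain ⟨U', hU'⟩ := Set.Finite.exists_maximal
    (s := {W : Subgroup X | W < U ∧ ∀ c, ∀ x ∈ W, f c * x * (f c)⁻¹ ∈ W}) (Set.toFinite _)
    ⟨⊥, bot_lt_iff_ne_bot.2 hbot, fun c x hx => by simp [Subgroup.mem_bot.1 hx]⟩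
  obtain ⟨hlt, hU'inv⟩ := hU'.prop
  have hU'V : U' ≤ V := hlt.le.trans hUV
  obtain ⟨Ms, hMs⟩ := ih (Nat.card U') (lt_of_le_of_ne (Subgroup.card_le_of_le hlt.le)
    (fun e => hlt.ne (Subgroup.eq_of_le_of_card_ge hlt.le e.ge))) U' rfl hU'V hU'inv
  set K := sectionKer f U U' hU with hK
  let M : Subgroup (C →* ℂˣ) :=
    { carrier := {μ | ∀ k ∈ K, μ k = 1}
      one_mem' := fun k _ => rfl
      mul_mem' := fun {a b} ha hb k hk => by simp [MonoidHom.mul_apply, ha k hk, hb k hk]
      inv_mem' := fun {a} ha k hk => by simp [MonoidHom.inv_apply, ha k hk] }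
  have hkill : ∀ h : C, (∀ μ ∈ M, μ h = 1) ↔ h ∈ K := by
    refine fun h => ⟨fun hh => ?_, fun hh μ hμ => hμ h hh⟩
    by_contra hhK
    obtain ⟨φ, hφ⟩ := CommGroup.exists_apply_ne_one_of_hasEnoughRootsOfUnity (C ⧸ K) ℂ
      (a := (h : C ⧸ K)) (fun e => hhK ((QuotientGroup.eq_one_iff h).1 e))
    refine hφ (hh (φ.comp (QuotientGroup.mk' K)) fun k hk => ?_)
    rw [MonoidHom.comp_apply, QuotientGroup.mk'_apply, (QuotientGroup.eq_one_iff k).2 hk, map_one]
  have hMcard : Nat.card M = Nat.card (C ⧸ K) := by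
    rw [← CommGroup.card_monoidHom_of_hasEnoughRootsOfUnity (C ⧸ K) ℂ]
    exact Nat.card_congr
      { toFun := fun μ => QuotientGroup.lift K μ.1 fun k hk => MonoidHom.mem_ker.2 (μ.2 k hk)
        invFun := fun φ => ⟨φ.comp (QuotientGroup.mk' K), fun k hk => by
          rw [MonoidHom.comp_apply, QuotientGroup.mk'_apply, (QuotientGroup.eq_one_iff k).2 hk,
            map_one]⟩
        left_inv := fun μ => by ext; rfl
        right_inv := fun φ => by ext; rfl }
  -- a single element of `U` outside `U'` detects `K`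
  have hdetect : ∀ k : C, ∀ x ∈ U, x ∉ U' → f k * x * (f k)⁻¹ * x⁻¹ ∈ U' → k ∈ K := by
    intro k x hx hx' hkx
    let F : Subgroup X :=
      { carrier := {y | y ∈ U ∧ f k * y * (f k)⁻¹ * y⁻¹ ∈ U'}
        one_mem' := ⟨one_mem _, by simp⟩
        mul_mem' := fun {a b} ha hb => ⟨mul_mem ha.1 hb.1, by
          convert mul_mem ha.2 hb.2 using 1
          have e1 : (f k * b * (f k)⁻¹) * a⁻¹ = a⁻¹ * (f k * b * (f k)⁻¹) :=
            habV _ (hV k b (hUV hb.1)) _ (inv_mem (hUV ha.1))
          calc f k * (a * b) * (f k)⁻¹ * (a * b)⁻¹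
              = (f k * a * (f k)⁻¹) * ((f k * b * (f k)⁻¹) * b⁻¹ * a⁻¹) := by group
            _ = (f k * a * (f k)⁻¹) * ((f k * b * (f k)⁻¹) * a⁻¹ * b⁻¹) := by
              rw [mul_assoc (f k * b * (f k)⁻¹) b⁻¹, habV _ (inv_mem (hUV hb.1)) _
                (inv_mem (hUV ha.1)), ← mul_assoc (f k * b * (f k)⁻¹)]
            _ = _ := by rw [e1]; group⟩
        inv_mem' := fun {a} ha => ⟨inv_mem ha.1, by
          convert inv_mem ha.2 using 1
          have e1 := habV _ (inv_mem (hV k a (hUV ha.1))) _ (hUV ha.1)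
          calc f k * a⁻¹ * (f k)⁻¹ * a⁻¹⁻¹ = (f k * a * (f k)⁻¹)⁻¹ * a := by group
            _ = _ := by rw [e1]; group⟩ }
    have hF : U' < F := by
      refine lt_of_le_of_ne (fun y hy => ⟨hlt.le hy, mul_mem (hU'inv k y hy) (inv_mem hy)⟩) ?_
      exact fun e => hx' (e.symm ▸ (show x ∈ F from ⟨hx, hkx⟩))
    have hFinv : ∀ c, ∀ y ∈ F, f c * y * (f c)⁻¹ ∈ F := by
      refine fun c y hy => ⟨hU c y hy.1, ?_⟩
      convert hU'inv c _ hy.2 using 1
      have e1 : f k * f c = f c * f k := by rw [← map_mul, ← map_mul, mul_comm]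
      calc f k * (f c * y * (f c)⁻¹) * (f k)⁻¹ * (f c * y * (f c)⁻¹)⁻¹
          = (f k * f c) * y * (f k * f c)⁻¹ * (f c * y⁻¹ * (f c)⁻¹) := by group
        _ = _ := by rw [e1]; group
    have hFU : F = U := by
      by_contra hne
      exact hF.not_ge (hU'.le_of_ge ⟨lt_of_le_of_ne (fun y hy => hy.1) hne, hFinv⟩ hF.le)
    exact fun y hy => (hFU.symm ▸ hy : y ∈ F).2
  -- the index of `U'` in `U`
  have hindex : Nat.card (C ⧸ K) + 1 ≤ U'.relIndex U := by
    obtain ⟨x, hx, hx'⟩ := SetLike.exists_of_lt hlt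
    let ψ : Option (C ⧸ K) → ↥U ⧸ U'.subgroupOf U := fun o =>
      o.elim (QuotientGroup.mk 1) fun q => QuotientGroup.mk ⟨_, hU q.out x hx⟩
    have hψ : Function.Injective ψ := by
      have hne : ∀ q : C ⧸ K, (QuotientGroup.mk 1 : ↥U ⧸ U'.subgroupOf U) ≠
          QuotientGroup.mk ⟨_, hU q.out x hx⟩ := by
        intro q e
        rw [QuotientGroup.eq, inv_one, one_mul, Subgroup.mem_subgroupOf] at e
        have := hU'inv q.out⁻¹ _ e
        rw [map_inv] at this
        exact hx' (by convert this using 1; group)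
      intro a b e
      rcases a with _ | q <;> rcases b with _ | r
      · rfl
      · exact absurd e (hne r)
      · exact absurd e.symm (hne q)
      · simp only [ψ, Option.elim, QuotientGroup.eq, Subgroup.mem_subgroupOf, Subgroup.coe_mul,
          Subgroup.coe_inv] at e
        have h1 := hU'inv q.out⁻¹ _ e
        rw [map_inv] at h1
        have hk : q.out⁻¹ * r.out ∈ K := by
          refine hdetect _ x hx hx' ?_
          rw [habV _ (hV _ x (hUV hx)) _ (inv_mem (hUV hx))]
          convert h1 using 1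
          rw [map_mul, map_inv]
          group
        rw [← QuotientGroup.eq, QuotientGroup.out_eq', QuotientGroup.out_eq'] at hk
        rw [hk]
    have := Nat.card_le_card_of_injective ψ hψ
    rw [Finite.card_option] at this
    exact this
  refine ⟨M :: Ms, fun h => ?_⟩
  obtain ⟨hw, hker⟩ := hMs h
  have hweight : weight (M :: Ms) h = (1 + halfGap M h) * weight Ms h := by
    simp [weight]
  have hgap := halfGap_eq M h
  rw [if_congr (hkill h) rfl rfl] at hgap
  have hU'card : (Nat.card U : ℝ) = Nat.card U' * U'.relIndex U := by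
    exact_mod_cast card_eq_relIndex_mul hlt.le
  have hcapcard : Nat.card ↥(U ⊓ Subgroup.centralizer ({f h} : Set X)) =
      Nat.card ↥(U' ⊓ Subgroup.centralizer ({f h} : Set X)) *
        U'.relIndex (U ⊓ Subgroup.centralizer ({f h} : Set X)) := by
    rw [← Subgroup.inf_relIndex_right, card_eq_relIndex_mul (inf_le_right : _ ≤
      U ⊓ Subgroup.centralizer ({f h} : Set X)), ← inf_assoc, inf_eq_left.2 hlt.le]
  have hw0 : 0 ≤ weight Ms h * Nat.card ↥(U' ⊓ Subgroup.centralizer ({f h} : Set X)) := by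
    refine mul_nonneg (List.prod_nonneg fun y hy => ?_) (Nat.cast_nonneg _)
    obtain ⟨N, -, rfl⟩ := List.mem_map.1 hy
    unfold halfGap
    positivity
  constructor
  · rw [hweight, hgap, hcapcard, hU'card, Nat.cast_mul]
    split_ifs with hh
    · rw [add_zero, one_mul, ← mul_assoc]
      refine mul_le_mul hw (Nat.cast_le.2 ?_) (Nat.cast_nonneg _) (Nat.cast_nonneg _)
      refine Subgroup.relIndex_le_of_le_right inf_le_left fun e => ?_
      omega
    · have h1 : U'.relIndex (U ⊓ Subgroup.centralizer ({f h} : Set X)) = 1 := by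
        rw [Subgroup.relIndex_eq_one]
        rintro y ⟨hy, hyc⟩
        by_contra hy'
        refine hh (hdetect h y hy hy' ?_)
        rw [← Subgroup.mem_centralizer_singleton_iff.1 hyc]
        simp
      rw [h1, Nat.cast_one, mul_one, mul_comm (Nat.card U' : ℝ),
        mul_assoc]
      refine mul_le_mul ?_ hw hw0 (Nat.cast_nonneg _)
      rw [hMcard]
      calc (1 : ℝ) + (Nat.card (C ⧸ K) : ℕ) = ((Nat.card (C ⧸ K) + 1 : ℕ) : ℝ) := by
            push_cast; ring
        _ ≤ _ := Nat.cast_le.2 hindex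
  · intro hall
    have hh : h ∈ K := (hkill h).1 (hall M List.mem_cons_self)
    have hc := hker fun N hN => hall N (List.mem_cons_of_mem _ hN)
    have hnorm : Subgroup.zpowers (f h) ≤ Subgroup.normalizer (U : Set X) := by
      rw [Subgroup.zpowers_le, Subgroup.mem_normalizer_iff]
      refine fun y => ⟨hU h y, fun hy => ?_⟩
      have := hU h⁻¹ _ hy
      rw [map_inv] at this
      convert this using 1
      group
    have hle : Subgroup.zpowers (f h) ≤ Subgroup.centralizer (U : Set X) := by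
      refine Coprime.le_centralizer_of_commutator_le (N := U') hnorm ?_ ?_ ?_
      · rw [Nat.card_zpowers]
        exact (hcop.coprime_dvd_left ((orderOf_map_dvd f h).trans (orderOf_dvd_natCard h))).coprime_dvd_right
          (Subgroup.card_dvd_of_le hUV)
      · rw [Subgroup.commutator_le]
        rintro y hy a ⟨i, rfl⟩
        rw [commutatorElement_def]
        have hi := (Subgroup.zpow_mem K hh i) y⁻¹ (inv_mem hy)
        rw [inv_inv] at hi
        have h1 := hU (h ^ i) y⁻¹ (inv_mem hy)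
        rw [map_zpow] at hi h1
        rw [habV _ (hUV h1) _ (hUV hy)] at hi
        show y * f h ^ i * y⁻¹ * (f h ^ i)⁻¹ ∈ U'
        convert hi using 1
        group
      · rw [Subgroup.zpowers_le, Subgroup.mem_centralizer_iff]
        exact fun y hy => Subgroup.mem_centralizer_singleton_iff.1 (hc hy)
    intro y hy
    rw [Subgroup.mem_centralizer_singleton_iff]
    exact Subgroup.mem_centralizer_iff.1 (hle (Subgroup.mem_zpowers _)) y hy

end List

section Bound

universe u

variable {X : Type u} [Group X] [Finite X] {C : Type u} [CommGroup C] [Finite C]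

omit [Finite X] in
theorem sum_dual_apply [Fintype (C →* ℂˣ)] [DecidableEq C] (h : C) :
    ∑ μ : C →* ℂˣ, (μ h : ℂ) = if h = 1 then (Fintype.card (C →* ℂˣ) : ℂ) else 0 := by
  split_ifs with hh
  · subst hh; simp
  · obtain ⟨ν, hν⟩ := CommGroup.exists_apply_ne_one_of_hasEnoughRootsOfUnity C ℂ hh
    have e : ((ν h : ℂˣ) : ℂ) * ∑ μ : C →* ℂˣ, (μ h : ℂ) = ∑ μ : C →* ℂˣ, (μ h : ℂ) := by
      rw [Finset.mul_sum]
      exact Fintype.sum_equiv (Equiv.mulLeft ν) _ _ fun μ => by simp
    have hne : ((ν h : ℂˣ) : ℂ) - 1 ≠ 0 := sub_ne_zero.2 (by simpa using hν)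
    exact (mul_eq_zero.1 (by rw [sub_mul, e, one_mul, sub_self] :
      (((ν h : ℂˣ) : ℂ) - 1) * ∑ μ : C →* ℂˣ, (μ h : ℂ) = 0)).resolve_left hne

/-- The Fourier coefficients of a character along `⟨v⟩ × C`. -/
theorem coeff_mem_galVec [Fintype C] {χ : X → ℂ} (hχ : Cfsg.IsCharacter X χ) (f : C →* X) {v : X}
    (hcomm : ∀ c, Commute v (f c)) (μ : C →* ℂˣ) :
    (fun u : (ZMod (orderOf v))ˣ => (Fintype.card C : ℂ)⁻¹ *
      ∑ h, χ (v ^ (u : ZMod (orderOf v)).val * f h) * (μ⁻¹ h : ℂ)) ∈ galVec (orderOf v) := by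
  classical
  let P := ↥(Subgroup.zpowers v) × C
  have hab : ∀ a b : P, a * b = b * a := by
    intro a b
    refine Prod.ext (Subtype.ext ?_) (mul_comm _ _)
    obtain ⟨i, hi⟩ := a.1.2
    obtain ⟨j, hj⟩ := b.1.2
    show (a.1 : X) * b.1 = b.1 * a.1
    rw [← hi, ← hj, ← zpow_add, ← zpow_add, add_comm]
  let Φ : P →* X := MonoidHom.noncommCoprod (Subgroup.zpowers v).subtype f (by
    rintro ⟨_, i, rfl⟩ c
    exact (hcomm c).zpow_left i)
  let g : P := (⟨v, Subgroup.mem_zpowers v⟩, 1)
  suffices H : ∀ φ : P → ℂ, Cfsg.IsCharacter P φ →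
      (fun u : (ZMod (orderOf v))ˣ => (Fintype.card C : ℂ)⁻¹ *
        ∑ h, φ (g ^ (u : ZMod (orderOf v)).val * (1, h)) * (μ⁻¹ h : ℂ)) ∈ galVec (orderOf v) by
    have := H _ (isCharacter_comp hχ Φ)
    have e : ∀ (a : ↥(Subgroup.zpowers v)) (b : C), Φ (a, b) = (a : X) * f b := fun a b => rfl
    convert this using 4 with u h
    rw [map_mul, map_pow, e, e, map_one, mul_one, Subgroup.coe_one, one_mul]
  intro φ hφ
  refine IsChar.induction_on (p := fun φ : P → ℂ =>
    (fun u : (ZMod (orderOf v))ˣ => (Fintype.card C : ℂ)⁻¹ *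
      ∑ h, φ (g ^ (u : ZMod (orderOf v)).val * (1, h)) * (μ⁻¹ h : ℂ)) ∈ galVec (orderOf v))
    hφ ?_ ?_
  · simp only [Pi.zero_apply, zero_mul, Finset.sum_const_zero, mul_zero]
    exact zero_mem _
  · intro φ ψ hφ' _ hψ
    have h1 := commutative_iff_forall_linear.1 hab ⟨φ, hφ'⟩
    obtain ⟨l, hl⟩ := CharInduce.IsChar.exists_hom_of_degree_one (IsIrr.isCharacter hφ') h1
    simp only [Pi.add_apply, add_mul, Finset.sum_add_distrib, mul_add]
    refine add_mem ?_ hψ
    simp only [hl, map_mul, map_pow, Units.val_mul, Units.val_pow_eq_pow_val, mul_assoc,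
      ← Finset.mul_sum]
    set ν : C →* ℂˣ := l.comp (MonoidHom.inr _ _) * μ⁻¹
    have hν : ∑ h, (l (1, h) : ℂ) * (μ⁻¹ h : ℂ) = ∑ h, (ν h : ℂ) := by simp [ν]; rfl
    rw [hν, sum_dual ν]
    split_ifs
    · simp only [mul_left_comm (_ : ℂ)⁻¹,
        inv_mul_cancel₀ (Nat.cast_ne_zero.2 Fintype.card_ne_zero : (Fintype.card C : ℂ) ≠ 0),
        mul_one]
      refine galVec_pow ?_
      rw [← Units.val_pow_eq_pow_val, ← map_pow]
      have : g ^ orderOf v = 1 := by
        exact Prod.ext (Subtype.ext (pow_orderOf_eq_one v)) (one_pow _)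
      rw [this, map_one, Units.val_one]
    · simp only [mul_zero]
      exact zero_mem _

variable {p : ℕ} [Fact p.Prime] {V G : Subgroup X}

theorem card_centralizer_mul (hab : ∀ a ∈ V, ∀ b ∈ V, a * b = b * a)
    (hGV : Subgroup.IsComplement' V G) (hcop : (Nat.card C).Coprime (Nat.card V)) (f : C →* X)
    (hf : Function.Injective f) {v : X} (hv : v ∈ V)
    (hrange : f.range = G ⊓ Subgroup.centralizer ({v} : Set X))
    (u : (ZMod (orderOf v))ˣ) (h : C) :
    Nat.card (Subgroup.centralizer ({v ^ (u : ZMod (orderOf v)).val * f h} : Set X)) =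
      Nat.card ↥(V ⊓ Subgroup.centralizer ({f h} : Set X)) * Nat.card C := by
  have hmem : ∀ c, f c ∈ G ⊓ Subgroup.centralizer ({v} : Set X) := fun c => hrange ▸ ⟨c, rfl⟩
  have hcv : ∀ c, Commute v (f c) := fun c =>
    (Subgroup.mem_centralizer_singleton_iff.1 (hmem c).2).symm
  haveI : NeZero (orderOf v) := ⟨(orderOf_pos v).ne'⟩
  set w := v ^ (u : ZMod (orderOf v)).val with hwdef
  have hu : Nat.Coprime (u : ZMod (orderOf v)).val (orderOf v) := ZMod.val_coe_unit_coprime u
  have hcop' : Nat.Coprime (Nat.card C) (orderOf v) :=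
    hcop.coprime_dvd_right (Subgroup.orderOf_dvd_natCard V hv)
  have hcw : Commute w (f h) := (hcv h).pow_left _
  have hC : Subgroup.centralizer ({w * f h} : Set X) =
      Subgroup.centralizer ({v} : Set X) ⊓ Subgroup.centralizer ({f h} : Set X) := by
    ext x
    simp only [Subgroup.mem_inf, Subgroup.mem_centralizer_singleton_iff]
    constructor
    · intro hx
      have hpow : (w * f h) ^ Nat.card C = v ^ ((u : ZMod (orderOf v)).val * Nat.card C) := by
        rw [hcw.mul_pow, ← map_pow, pow_card_eq_one', map_one, mul_one, hwdef, pow_mul]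
      have hx1 : Commute x (v ^ ((u : ZMod (orderOf v)).val * Nat.card C)) :=
        hpow ▸ (show Commute x (w * f h) from hx).pow_right _
      have hx2 : x ∈ Subgroup.centralizer ({v} : Set X) := by
        rw [← KGV.centralizer_pow_eq (hu.mul_left hcop')]
        exact Subgroup.mem_centralizer_singleton_iff.2 hx1.eq
      have hx3 : Commute x v := Subgroup.mem_centralizer_singleton_iff.1 hx2
      refine ⟨hx3.eq, ?_⟩
      have hx4 : Commute x (w⁻¹ * (w * f h)) :=
        ((hx3.pow_right _).inv_right).mul_right hx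
      rwa [inv_mul_cancel_left] at hx4
    · rintro ⟨hx1, hx2⟩
      exact ((show Commute x v from hx1).pow_right _).mul_right (show Commute x (f h) from hx2)
  rw [hC, ← Nat.card_prod]
  refine (Nat.card_congr (Equiv.ofBijective
    (fun q : ↥(V ⊓ Subgroup.centralizer ({f h} : Set X)) × C =>
      (⟨(q.1 : X) * f q.2, ?_⟩ :
        ↥(Subgroup.centralizer ({v} : Set X) ⊓ Subgroup.centralizer ({f h} : Set X)))) ⟨?_, ?_⟩)).symm
  · refine ⟨mul_mem (Subgroup.mem_centralizer_singleton_iff.2 (hab _ q.1.2.1 _ hv)) (hmem q.2).2,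
      mul_mem q.1.2.2 (Subgroup.mem_centralizer_singleton_iff.2 ?_)⟩
    rw [← map_mul, ← map_mul, mul_comm]
  · intro a b hab'
    have h2 := congrArg Subtype.val hab'
    have h3 := hGV.1 (a₁ := (⟨(a.1 : X), a.1.2.1⟩, ⟨f a.2, (hmem a.2).1⟩))
      (a₂ := (⟨(b.1 : X), b.1.2.1⟩, ⟨f b.2, (hmem b.2).1⟩)) h2
    exact Prod.ext (Subtype.ext (congrArg Subtype.val (Prod.ext_iff.1 h3).1 :))
      (hf (congrArg Subtype.val (Prod.ext_iff.1 h3).2 :))
  · rintro ⟨x, hx1, hx2⟩
    obtain ⟨⟨a, g⟩, hag⟩ := hGV.2 x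
    have hg : (g : X) ∈ Subgroup.centralizer ({v} : Set X) := by
      have hA : (a : X) ∈ Subgroup.centralizer ({v} : Set X) :=
        Subgroup.mem_centralizer_singleton_iff.2 (hab _ a.2 _ hv)
      have := mul_mem (inv_mem hA) hx1
      rwa [← hag, inv_mul_cancel_left] at this
    obtain ⟨c, hc⟩ : (g : X) ∈ f.range := hrange ▸ ⟨g.2, hg⟩
    have ha : (a : X) ∈ Subgroup.centralizer ({f h} : Set X) := by
      have h1 : f c ∈ Subgroup.centralizer ({f h} : Set X) := by
        rw [Subgroup.mem_centralizer_singleton_iff, ← map_mul, ← map_mul, mul_comm]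
      have := mul_mem (show x ∈ Subgroup.centralizer ({f h} : Set X) from hx2) (inv_mem h1)
      rwa [← hag, hc, mul_inv_cancel_right] at this
    exact ⟨(⟨a, a.2, ha⟩, c), Subtype.ext (show (a : X) * f c = x by rw [hc]; exact hag)⟩

/-- Knörr's bound. -/
theorem knorr_bound [hVn : V.Normal] (hVp : IsPGroup p V) (hidx : ¬ p ∣ V.index)
    (hab : ∀ a ∈ V, ∀ b ∈ V, a * b = b * a) (hfaith : Subgroup.centralizer (V : Set X) = V)
    (hGV : Subgroup.IsComplement' V G) (f : C →* X) (hf : Function.Injective f) {v : X}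
    (hv : v ∈ V) (hrange : f.range = G ⊓ Subgroup.centralizer ({v} : Set X)) :
    Nat.card (ConjClasses X) ≤ Nat.card V := by
  classical
  haveI := finite_dual (C := C)
  letI := Fintype.ofFinite (C →* ℂˣ)
  letI := Fintype.ofFinite C
  letI := Fintype.ofFinite X
  haveI : NeZero (orderOf v) := ⟨(orderOf_pos v).ne'⟩
  have hmem : ∀ c, f c ∈ G ⊓ Subgroup.centralizer ({v} : Set X) := fun c => hrange ▸ ⟨c, rfl⟩
  have hcv : ∀ c, Commute v (f c) := fun c =>
    (Subgroup.mem_centralizer_singleton_iff.1 (hmem c).2).symm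
  have hcop : (Nat.card C).Coprime (Nat.card V) := by
    obtain ⟨k, hk⟩ := IsPGroup.iff_card.1 hVp
    rw [hk]
    refine Nat.Coprime.pow_right _ (((Fact.out : p.Prime).coprime_iff_not_dvd.2 fun hd => hidx ?_).symm)
    rw [hGV.symm.index_eq_card]
    refine hd.trans ?_
    rw [Nat.card_congr (MonoidHom.ofInjective hf).toEquiv, hrange]
    exact Subgroup.card_dvd_of_le inf_le_left
  obtain ⟨Ms, hMs⟩ := exists_weights f (fun c x hx => hVn.conj_mem x hx (f c)) hab hcop V le_rfl
    (fun c x hx => hVn.conj_mem x hx (f c))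
  -- the dual subgroups generate the dual group
  have htop : joinList Ms = ⊤ := by
    have hsep : ∀ h : C, (∀ μ ∈ joinList Ms, μ h = 1) → h = 1 := by
      intro h hh
      have hc := (hMs h).2 fun M hM μ hμ => hh μ (le_joinList hM hμ)
      have h1 : f h ∈ Subgroup.centralizer (V : Set X) :=
        Subgroup.mem_centralizer_iff.2 fun y hy => Subgroup.mem_centralizer_singleton_iff.1 (hc hy)
      rw [hfaith] at h1
      have h3 := hGV.disjoint.le_bot ⟨h1, (hmem h).1⟩
      exact hf ((Subgroup.mem_bot.1 h3).trans (map_one f).symm)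
    have hcard : Nat.card C ≤ Nat.card ↥(joinList Ms) := by
      let L := joinList Ms
      let ev : C → (↥L →* ℂˣ) := fun c =>
        { toFun := fun μ => (μ : C →* ℂˣ) c
          map_one' := rfl
          map_mul' := fun _ _ => rfl }
      have hev : Function.Injective ev := by
        intro a b e
        refine eq_of_mul_inv_eq_one (hsep _ fun μ hμ => ?_)
        have := DFunLike.congr_fun e ⟨μ, hμ⟩
        rw [map_mul, map_inv, mul_inv_eq_one]
        exact this
      have hfin : Finite (↥L →* ℂˣ) := finite_dual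
      have := Nat.card_le_card_of_injective ev hev
      rwa [CommGroup.card_monoidHom_of_hasEnoughRootsOfUnity] at this
    refine Subgroup.eq_top_of_le_card _ ?_
    rwa [CommGroup.card_monoidHom_of_hasEnoughRootsOfUnity]
  have hdual : Fintype.card (C →* ℂˣ) = Fintype.card C := by
    rw [← Nat.card_eq_fintype_card, CommGroup.card_monoidHom_of_hasEnoughRootsOfUnity,
      Nat.card_eq_fintype_card]
  -- the inequality for a single character
  have key : ∀ χ : Cfsg.IrrCharacter X,
      (Fintype.card (ZMod (orderOf v))ˣ : ℝ) * Fintype.card C * Fintype.card C ≤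
        ∑ h : C, weight Ms h * ∑ u : (ZMod (orderOf v))ˣ,
          ‖(χ : X → ℂ) (v ^ (u : ZMod (orderOf v)).val * f h)‖ ^ 2 := by
    intro χ
    let a : (C →* ℂˣ) → (ZMod (orderOf v))ˣ → ℂ := fun μ u => (Fintype.card C : ℂ)⁻¹ *
      ∑ h, (χ : X → ℂ) (v ^ (u : ZMod (orderOf v)).val * f h) * (μ⁻¹ h : ℂ)
    have ha : ∀ μ, a μ ∈ galVec (orderOf v) :=
      fun μ => coeff_mem_galVec (IsIrr.isCharacter χ.2) f hcv μ
    have hinv : ∀ (u : (ZMod (orderOf v))ˣ) (h : C), ∑ μ, a μ u * (μ h : ℂ) =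
        (χ : X → ℂ) (v ^ (u : ZMod (orderOf v)).val * f h) := by
      intro u h
      simp only [a, Finset.mul_sum, Finset.sum_mul]
      rw [Finset.sum_comm]
      have e : ∀ k : C, ∑ μ : C →* ℂˣ, (Fintype.card C : ℂ)⁻¹ *
          ((χ : X → ℂ) (v ^ (u : ZMod (orderOf v)).val * f k) * (μ⁻¹ k : ℂ)) * (μ h : ℂ) =
          (Fintype.card C : ℂ)⁻¹ * (χ : X → ℂ) (v ^ (u : ZMod (orderOf v)).val * f k) *
            if k⁻¹ * h = 1 then (Fintype.card C : ℂ) else 0 := by
        intro k
        rw [← hdual, ← sum_dual_apply, Finset.mul_sum]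
        refine Finset.sum_congr rfl fun μ _ => ?_
        simp only [MonoidHom.inv_apply, map_mul, map_inv, Units.val_mul]
        ring
      rw [Finset.sum_congr rfl fun k _ => e k, Finset.sum_eq_single h]
      · rw [if_pos (inv_mul_cancel h)]
        field_simp
      · intro k _ hk
        rw [if_neg (fun e' => hk (inv_mul_eq_one.1 e')), mul_zero]
      · simp
    have hsupp : (suppMul (joinList Ms) a).card = Fintype.card C := by
      rw [← hdual, ← Finset.card_univ]
      congr 1
      rw [Finset.eq_univ_iff_forall]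
      intro x
      simp only [suppMul, Finset.mem_filter, Finset.mem_univ, true_and]
      obtain ⟨μ, hμ⟩ : ∃ μ, a μ ≠ 0 := by
        by_contra hall
        push Not at hall
        refine KGV.value_ne_zero hVp hidx hab χ hv ?_
        have h1 := hinv 1 1
        simp only [hall, Pi.zero_apply, zero_mul, Finset.sum_const_zero, map_one, mul_one,
          Units.val_one, ZMod.val_one_eq_one_mod, pow_mod_orderOf, pow_one] at h1
        exact h1.symm
      refine ⟨x⁻¹ * μ, htop ▸ Subgroup.mem_top _, ?_⟩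
      exact fun e => hμ ((congrArg a (mul_inv_cancel_left x μ)).symm.trans e)
    have h1 := weighted_bound Ms a ha
    rw [hsupp] at h1
    simpa only [hinv] using h1
  have hsum := Finset.sum_le_sum (s := Finset.univ) fun χ _ => key χ
  rw [Finset.sum_comm] at hsum
  simp only [← Finset.mul_sum] at hsum
  have hcol : ∀ (h : C) (u : (ZMod (orderOf v))ˣ),
      ∑ χ : Cfsg.IrrCharacter X, ‖(χ : X → ℂ) (v ^ (u : ZMod (orderOf v)).val * f h)‖ ^ 2 =
        (Nat.card ↥(V ⊓ Subgroup.centralizer ({f h} : Set X)) : ℝ) * Nat.card C := by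
    intro h u
    apply Complex.ofReal_injective
    rw [Complex.ofReal_sum]
    simp only [Complex.ofReal_pow, ← Complex.mul_conj']
    rw [second_orthogonality_self, card_centralizer_mul hab hGV hcop f hf hv hrange u h]
    push_cast
    rfl
  have hinner : ∀ h : C, ∑ χ : Cfsg.IrrCharacter X, ∑ u : (ZMod (orderOf v))ˣ,
      ‖(χ : X → ℂ) (v ^ (u : ZMod (orderOf v)).val * f h)‖ ^ 2 =
      (Fintype.card (ZMod (orderOf v))ˣ : ℝ) *
        ((Nat.card ↥(V ⊓ Subgroup.centralizer ({f h} : Set X)) : ℝ) * Nat.card C) := by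
    intro h
    rw [Finset.sum_comm, Finset.sum_congr rfl fun u _ => hcol h u, Finset.sum_const,
      Finset.card_univ, nsmul_eq_mul]
  simp only [hinner, Finset.sum_const, Finset.card_univ, nsmul_eq_mul] at hsum
  have hW : ∑ h : C, weight Ms h * ((Fintype.card (ZMod (orderOf v))ˣ : ℝ) *
        ((Nat.card ↥(V ⊓ Subgroup.centralizer ({f h} : Set X)) : ℝ) * Nat.card C)) ≤
      (Fintype.card (ZMod (orderOf v))ˣ : ℝ) * Fintype.card C * Fintype.card C * Nat.card V := by
    calc _ ≤ ∑ _h : C, (Fintype.card (ZMod (orderOf v))ˣ : ℝ) * Fintype.card C * Nat.card V := by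
          refine Finset.sum_le_sum fun h _ => ?_
          rw [Nat.card_eq_fintype_card (α := C)]
          nlinarith [mul_le_mul_of_nonneg_left (hMs h).1
            (by positivity : (0 : ℝ) ≤ (Fintype.card (ZMod (orderOf v))ˣ : ℝ) * Fintype.card C)]
      _ = _ := by rw [Finset.sum_const, Finset.card_univ, nsmul_eq_mul]; ring
  have hpos : (0 : ℝ) < (Fintype.card (ZMod (orderOf v))ˣ : ℝ) * Fintype.card C * Fintype.card C := by
    have h1 : 0 < Fintype.card (ZMod (orderOf v))ˣ := Fintype.card_pos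
    have h2 : 0 < Fintype.card C := Fintype.card_pos
    positivity
  have hk : (Nat.card (Cfsg.IrrCharacter X) : ℝ) ≤ Nat.card V := by
    rw [Nat.card_eq_fintype_card]
    refine le_of_mul_le_mul_left ?_ hpos
    linarith [hsum.trans hW]
  rw [← card_irrCharacter]
  exact_mod_cast hk

end Bound

end Cfsg.Agent.H86
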