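import Cfsg.Agent.H86.GaloisVector
import Cfsg.Agent.Coprime.Centralize
import Cfsg.Agent.Cores.Basic

/-!
# Fourier weights of an abelian group and the supports of equivariant coefficient vectors
-/

open scoped ComplexConjugate

namespace Cfsg.Agent.H86

section Dual

variable {C : Type*} [CommGroup C] [Finite C]

theorem finite_dual : Finite (C →* ℂˣ) :=
  Finite.of_equiv C (CommGroup.monoidHom_mulEquiv_of_hasEnoughRootsOfUnity C ℂ).some.symm.toEquiv

theorem norm_dual (μ : C →* ℂˣ) (h : C) : ‖(μ h : ℂ)‖ = 1 := by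
  refine Complex.norm_eq_one_of_pow_eq_one ?_ (orderOf_pos h).ne'
  rw [← Units.val_pow_eq_pow_val, ← map_pow, pow_orderOf_eq_one, map_one, Units.val_one]

theorem conj_dual (μ : C →* ℂˣ) (h : C) : conj (μ h : ℂ) = (μ⁻¹ h : ℂ) := by
  rw [MonoidHom.inv_apply, Units.val_inv_eq_inv_val, Complex.inv_eq_conj (norm_dual μ h)]

open scoped Classical in
omit [Finite C] in
theorem sum_dual [Fintype C] (μ : C →* ℂˣ) :
    ∑ h : C, (μ h : ℂ) = if μ = 1 then (Fintype.card C : ℂ) else 0 := by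
  split_ifs with hμ
  · subst hμ; simp
  · obtain ⟨g, hg⟩ : ∃ g, μ g ≠ 1 := by
      by_contra h; exact hμ (MonoidHom.ext fun g => by_contra fun hg => h ⟨g, hg⟩)
    have e : (μ g : ℂ) * ∑ h : C, (μ h : ℂ) = ∑ h : C, (μ h : ℂ) := by
      rw [Finset.mul_sum]
      exact Fintype.sum_equiv (Equiv.mulLeft g) _ _ fun h => by simp [map_mul]
    have hne : (μ g : ℂ) - 1 ≠ 0 := sub_ne_zero.2 (by simpa using hg)
    exact (mul_eq_zero.1 (by rw [sub_mul, e, one_mul, sub_self] :
      ((μ g : ℂ) - 1) * ∑ h : C, (μ h : ℂ) = 0)).resolve_left hne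

open scoped Classical in
theorem sum_norm_sq_dual [Fintype C] [Fintype (C →* ℂˣ)] (b : (C →* ℂˣ) → ℂ) :
    ∑ h : C, ‖∑ μ, b μ * (μ h : ℂ)‖ ^ 2 = (Fintype.card C : ℝ) * ∑ μ, ‖b μ‖ ^ 2 := by
  have key : ∀ z : ℂ, ((‖z‖ ^ 2 : ℝ) : ℂ) = z * conj z := fun z => by
    rw [Complex.mul_conj']; push_cast; ring
  apply Complex.ofReal_injective
  rw [Complex.ofReal_sum, Complex.ofReal_mul, Complex.ofReal_sum, Complex.ofReal_natCast]
  simp only [key, map_sum, map_mul, Finset.mul_sum, Finset.sum_mul, conj_dual]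
  rw [Finset.sum_comm]
  refine Finset.sum_congr rfl fun μ _ => ?_
  rw [Finset.sum_comm]
  have e : ∀ ν : C →* ℂˣ, ∑ h : C, b ν * (ν h : ℂ) * (conj (b μ) * (μ⁻¹ h : ℂ)) =
      b ν * conj (b μ) * if ν * μ⁻¹ = 1 then (Fintype.card C : ℂ) else 0 := by
    intro ν
    rw [← sum_dual, Finset.mul_sum]
    refine Finset.sum_congr rfl fun h _ => ?_
    simp only [MonoidHom.mul_apply, Units.val_mul]
    ring
  rw [Finset.sum_congr rfl fun ν _ => e ν, Finset.sum_eq_single μ]
  · rw [if_pos (mul_inv_cancel μ)]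
    ring
  · intro ν _ hν
    rw [if_neg (fun h => hν (mul_inv_eq_one.1 h)), mul_zero]
  · simp

section Abstract

variable {D : Type*} [CommGroup D]

open scoped Classical in
/-- The points of the dual lying in a translate by `L` of the support of `a`. -/
noncomputable def suppMul [Fintype D] {α : Type*} [Zero α] (L : Subgroup D)
    (a : D → α) : Finset D :=
  Finset.univ.filter (fun x => ∃ l ∈ L, a (x * l) ≠ 0)

theorem card_suppMul_sup [Fintype D] {α : Type*} [AddGroup α]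
    (L M : Subgroup D) [Fintype M] (a : D → α) :
    2 * (suppMul (L ⊔ M) a).card ≤
      2 * (suppMul L a).card + ∑ μ : M, (suppMul L (fun x => a x - a (x * μ))).card := by
  classical
  set E := suppMul L a
  set E' := suppMul (L ⊔ M) a
  have hsub : E ⊆ E' := by
    intro x hx
    simp only [E, E', suppMul, Finset.mem_filter, Finset.mem_univ, true_and] at hx ⊢
    obtain ⟨l, hl, h⟩ := hx
    exact ⟨l, Subgroup.mem_sup_left hl, h⟩
  have hstep : ∀ y ∈ E' \ E, ∃ μ : M, y * μ ∈ E := by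
    intro y hy
    obtain ⟨hy', -⟩ := Finset.mem_sdiff.1 hy
    simp only [E, E', suppMul, Finset.mem_filter, Finset.mem_univ, true_and] at hy' ⊢
    obtain ⟨l', hl', h⟩ := hy'
    obtain ⟨l, hl, m, hm, rfl⟩ := Subgroup.mem_sup.1 hl'
    exact ⟨⟨m, hm⟩, l, hl, by rwa [mul_assoc, mul_comm m l]⟩
  choose f hf using hstep
  let S : Finset (Σ _ : M, D) :=
    (Finset.univ : Finset M).sigma fun μ => suppMul L (fun x => a x - a (x * μ))
  let T := (E' \ E).attach
  have hout : ∀ y ∈ E' \ E, ∀ l ∈ L, a (y * l) = 0 := by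
    intro y hy l hl
    by_contra h
    refine (Finset.mem_sdiff.1 hy).2 ?_
    simp only [E, suppMul, Finset.mem_filter, Finset.mem_univ, true_and]
    exact ⟨l, hl, h⟩
  let g₁ : {y // y ∈ E' \ E} → Σ _ : M, D := fun y => ⟨f y.1 y.2, y.1⟩
  let g₂ : {y // y ∈ E' \ E} → Σ _ : M, D := fun y => ⟨(f y.1 y.2)⁻¹, y.1 * f y.1 y.2⟩
  have h1 : T.image g₁ ⊆ S := by
    intro z hz
    obtain ⟨⟨y, hy⟩, -, rfl⟩ := Finset.mem_image.1 hz
    simp only [S, Finset.mem_sigma, Finset.mem_univ, true_and, g₁]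
    have := hf y hy
    simp only [E, suppMul, Finset.mem_filter, Finset.mem_univ, true_and] at this ⊢
    obtain ⟨l, hl, h⟩ := this
    refine ⟨l, hl, ?_⟩
    rw [hout y hy l hl, mul_right_comm, zero_sub, neg_ne_zero]
    exact h
  have h2 : T.image g₂ ⊆ S := by
    intro z hz
    obtain ⟨⟨y, hy⟩, -, rfl⟩ := Finset.mem_image.1 hz
    simp only [S, Finset.mem_sigma, Finset.mem_univ, true_and, g₂]
    have := hf y hy
    simp only [E, suppMul, Finset.mem_filter, Finset.mem_univ, true_and] at this ⊢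
    obtain ⟨l, hl, h⟩ := this
    refine ⟨l, hl, ?_⟩
    rw [Subgroup.coe_inv, show y * (f y hy : D) * l * (f y hy : D)⁻¹ = y * l by
      rw [mul_right_comm y, mul_inv_cancel_right], hout y hy l hl, sub_zero]
    exact h
  have hd : Disjoint (T.image g₁) (T.image g₂) := by
    rw [Finset.disjoint_left]
    rintro z hz1 hz2
    obtain ⟨⟨y, hy⟩, -, rfl⟩ := Finset.mem_image.1 hz1
    obtain ⟨⟨y', hy'⟩, -, e⟩ := Finset.mem_image.1 hz2
    have e2 : y' * (f y' hy' : D) = y := (Sigma.ext_iff.1 e).2 |> eq_of_heq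
    exact (Finset.mem_sdiff.1 hy).2 (e2 ▸ hf y' hy')
  have i1 : (T.image g₁).card = (E' \ E).card := by
    rw [Finset.card_image_of_injective, Finset.card_attach]
    intro y y' e
    exact Subtype.ext (eq_of_heq (Sigma.ext_iff.1 e).2)
  have i2 : (T.image g₂).card = (E' \ E).card := by
    rw [Finset.card_image_of_injective, Finset.card_attach]
    intro y y' e
    obtain ⟨e1, e2⟩ := Sigma.ext_iff.1 e
    have e2' : y.1 * (f y.1 y.2 : D) = y'.1 * f y'.1 y'.2 := eq_of_heq e2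
    rw [show f y.1 y.2 = f y'.1 y'.2 from inv_injective e1] at e2'
    exact Subtype.ext (mul_right_cancel e2')
  have hle := Finset.card_le_card (Finset.union_subset h1 h2)
  rw [Finset.card_union_of_disjoint hd, i1, i2, Finset.card_sigma] at hle
  have := Finset.card_sdiff_add_card_eq_card hsub
  omega

/-- The join of a list of subgroups. -/
def joinList (Ms : List (Subgroup D)) : Subgroup D := Ms.foldr (· ⊔ ·) ⊥

theorem le_joinList {Ms : List (Subgroup D)} {M : Subgroup D} (hM : M ∈ Ms) :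
    M ≤ joinList Ms := by
  induction Ms with
  | nil => simp at hM
  | cons a t ih =>
    rcases List.mem_cons.1 hM with rfl | h
    · exact le_sup_left
    · exact (ih h).trans le_sup_right

end Abstract

/-- Half the sum of `|1 - μ(h)⁻¹|^2` over a subgroup of the dual. -/
noncomputable def halfGap [Fintype (C →* ℂˣ)] (M : Subgroup (C →* ℂˣ)) (h : C) : ℝ :=
  haveI := Fintype.ofFinite M
  (∑ μ : M, ‖1 - (((μ : C →* ℂˣ) h : ℂˣ) : ℂ)⁻¹‖ ^ 2) / 2

theorem halfGap_def [Fintype (C →* ℂˣ)] (M : Subgroup (C →* ℂˣ)) [Fintype M] (h : C) :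
    halfGap M h = (∑ μ : M, ‖1 - (((μ : C →* ℂˣ) h : ℂˣ) : ℂ)⁻¹‖ ^ 2) / 2 := by
  unfold halfGap
  congr! 2
  ext
  exact ⟨fun _ => Finset.mem_univ _, fun _ => @Finset.mem_univ _ (_) _⟩

/-- The weight attached to a list of subgroups of the dual. -/
noncomputable def weight [Fintype (C →* ℂˣ)] (Ms : List (Subgroup (C →* ℂˣ))) (h : C) : ℝ :=
  (Ms.map fun M => 1 + halfGap M h).prod

theorem weighted_bound [Fintype C] [Fintype (C →* ℂˣ)] {o : ℕ} [NeZero o]
    (Ms : List (Subgroup (C →* ℂˣ))) : ∀ (a : (C →* ℂˣ) → (ZMod o)ˣ → ℂ), (∀ μ, a μ ∈ galVec o) →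
    (Fintype.card (ZMod o)ˣ : ℝ) * Fintype.card C * (suppMul (joinList Ms) a).card ≤
      ∑ h : C, weight Ms h * ∑ u, ‖∑ μ, a μ u * (μ h : ℂ)‖ ^ 2 := by
  classical
  induction Ms with
  | nil =>
    intro a ha
    simp only [weight, List.map_nil, List.prod_nil, one_mul]
    rw [Finset.sum_comm, Finset.sum_congr rfl fun u _ => sum_norm_sq_dual (fun μ => a μ u),
      ← Finset.mul_sum, Finset.sum_comm, mul_comm (Fintype.card (ZMod o)ˣ : ℝ), mul_assoc]
    refine mul_le_mul_of_nonneg_left ?_ (Nat.cast_nonneg _)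
    calc (Fintype.card (ZMod o)ˣ : ℝ) * (suppMul (joinList []) a).card
        = ∑ _μ ∈ suppMul (joinList []) a, (Fintype.card (ZMod o)ˣ : ℝ) := by
          rw [Finset.sum_const, nsmul_eq_mul, mul_comm]
      _ ≤ ∑ μ ∈ suppMul (joinList []) a, ∑ u, ‖a μ u‖ ^ 2 := by
          refine Finset.sum_le_sum fun μ hμ => card_le_sum_norm_sq_galVec (ha μ) ?_
          simp only [suppMul, joinList, List.foldr_nil, Finset.mem_filter, Subgroup.mem_bot] at hμ
          obtain ⟨-, l, rfl, h⟩ := hμ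
          exact fun e => h ((congrArg a (mul_one μ)).trans e)
      _ ≤ _ := Finset.sum_le_sum_of_subset_of_nonneg (Finset.subset_univ _)
          (fun _ _ _ => Finset.sum_nonneg fun _ _ => sq_nonneg _)
  | cons M Ms ih =>
    intro a ha
    have := Fintype.ofFinite M
    have h0 := ih a ha
    have hμ := fun μ : M => ih (fun x => a x - a (x * μ)) (fun x => sub_mem (ha _) (ha _))
    have hval : ∀ (μ : M) (h : C) (u : (ZMod o)ˣ),
        ‖∑ x : C →* ℂˣ, (a x - a (x * μ)) u * (x h : ℂ)‖ ^ 2 =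
        ‖1 - (((μ : C →* ℂˣ) h : ℂˣ) : ℂ)⁻¹‖ ^ 2 * ‖∑ x : C →* ℂˣ, a x u * (x h : ℂ)‖ ^ 2 := by
      intro μ h u
      rw [← mul_pow, ← norm_mul, sub_mul, one_mul, Finset.mul_sum, ← Finset.sum_sub_distrib]
      congr 2
      simp only [Pi.sub_apply, sub_mul, Finset.sum_sub_distrib]
      congr 1
      refine Fintype.sum_equiv (Equiv.mulRight (μ : C →* ℂˣ)) _ _ fun x => ?_
      simp only [Equiv.coe_mulRight, MonoidHom.mul_apply, Units.val_mul]
      have hne : ((((μ : C →* ℂˣ) h : ℂˣ)) : ℂ) ≠ 0 := Units.ne_zero _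
      field_simp
    have hexp : ∑ h : C, weight (M :: Ms) h * ∑ u, ‖∑ x, a x u * (x h : ℂ)‖ ^ 2 =
        (∑ h : C, weight Ms h * ∑ u, ‖∑ x, a x u * (x h : ℂ)‖ ^ 2) +
          (∑ μ : M, ∑ h : C, weight Ms h *
            ∑ u, ‖∑ x : C →* ℂˣ, (a x - a (x * μ)) u * (x h : ℂ)‖ ^ 2) / 2 := by
      rw [Finset.sum_comm, Finset.sum_div, ← Finset.sum_add_distrib]
      refine Finset.sum_congr rfl fun h _ => ?_
      simp only [hval, ← Finset.mul_sum, ← Finset.sum_mul]
      show (List.map _ (M :: Ms)).prod * _ = _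
      rw [List.map_cons, List.prod_cons, halfGap_def]
      simp only [weight]
      ring
    rw [hexp]
    have hc := card_suppMul_sup (joinList Ms) M a
    have hj : joinList (M :: Ms) = joinList Ms ⊔ M := sup_comm _ _
    rw [hj]
    set K : ℝ := (Fintype.card (ZMod o)ˣ : ℝ) * Fintype.card C
    have hK : 0 ≤ K := by positivity
    have hsum := Finset.sum_le_sum (s := Finset.univ) fun μ _ => hμ μ
    rw [← Finset.mul_sum] at hsum
    have hc' : (2 : ℝ) * (suppMul (joinList Ms ⊔ M) a).card ≤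
        2 * (suppMul (joinList Ms) a).card +
          ∑ μ : M, ((suppMul (joinList Ms) (fun x => a x - a (x * μ))).card : ℝ) := by
      exact_mod_cast hc
    nlinarith [mul_le_mul_of_nonneg_left hc' hK]

/-- The gap of a subgroup of the dual. -/
theorem halfGap_eq [Fintype (C →* ℂˣ)] (M : Subgroup (C →* ℂˣ)) (h : C)
    [Decidable (∀ μ ∈ M, μ h = 1)] :
    halfGap M h = if ∀ μ ∈ M, μ h = 1 then 0 else (Nat.card M : ℝ) := by
  classical
  let _ := Fintype.ofFinite M
  rw [halfGap_def]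
  split_ifs with hh
  · rw [Finset.sum_eq_zero fun μ _ => by rw [hh μ μ.2]; simp, zero_div]
  · have hs : ∑ μ : M, (((μ : C →* ℂˣ) h : ℂˣ) : ℂ) = 0 := by
      obtain ⟨ν, hν, hν'⟩ : ∃ ν ∈ M, ν h ≠ 1 := by
        by_contra hcon; exact hh fun μ hμ => by_contra fun e => hcon ⟨μ, hμ, e⟩
      have e : ((ν h : ℂˣ) : ℂ) * ∑ μ : M, (((μ : C →* ℂˣ) h : ℂˣ) : ℂ) =
          ∑ μ : M, (((μ : C →* ℂˣ) h : ℂˣ) : ℂ) := by
        rw [Finset.mul_sum]
        exact Fintype.sum_equiv (Equiv.mulLeft (⟨ν, hν⟩ : M)) _ _ fun μ => by simp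
      have hne : ((ν h : ℂˣ) : ℂ) - 1 ≠ 0 := sub_ne_zero.2 (by simpa using hν')
      exact (mul_eq_zero.1 (by rw [sub_mul, e, one_mul, sub_self] :
        (((ν h : ℂˣ) : ℂ) - 1) * ∑ μ : M, (((μ : C →* ℂˣ) h : ℂˣ) : ℂ) = 0)).resolve_left hne
    have hterm : ∀ μ : M, ‖1 - (((μ : C →* ℂˣ) h : ℂˣ) : ℂ)⁻¹‖ ^ 2 =
        2 - 2 * ((((μ : C →* ℂˣ) h : ℂˣ) : ℂ)).re := by
      intro μ
      have h1 := norm_dual (μ : C →* ℂˣ) h
      rw [Complex.inv_eq_conj h1, ← Complex.normSq_eq_norm_sq, Complex.normSq_sub]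
      simp [Complex.normSq_eq_norm_sq, h1]
      ring
    rw [Finset.sum_congr rfl fun μ _ => hterm μ, Finset.sum_sub_distrib, ← Finset.mul_sum,
      ← Complex.re_sum, hs]
    simp [Nat.card_eq_fintype_card]

end Dual

end Cfsg.Agent.H86
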