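import Mathlib.Data.Nat.Prime.Basic
import Mathlib.Data.Int.ModEq
import Mathlib.RingTheory.Int.Basic
import Mathlib.Tactic.LinearCombination
import Mathlib.Tactic.Linarith
import Mathlib.Tactic.Ring

/-!
# Arithmetic for simple groups of order `p q^b g₀`
-/

namespace Cfsg.Agent.H86.PQArith

theorem eq_of_dvd_sub {p a b : ℕ} (h : (p : ℤ) ∣ (a : ℤ) - b) (ha : a < p) (hb : b < p) : a = b := by
  have := Int.eq_zero_of_abs_lt_dvd h (by rw [abs_lt]; omega)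
  omega

/-- `2 ^ B ≡ -1` and `M ≤ B < 2 M` force `B = M`, where `2 ^ M ≡ -1`. -/
theorem eq_of_pow_modEq {p M B : ℕ} (hpM : p = 2 ^ M + 1) (h1 : M ≤ B) (h2 : B < 2 * M)
    (hB : (p : ℤ) ∣ (2 : ℤ) ^ B + 1) : B = M := by
  obtain ⟨u, rfl⟩ : ∃ u, B = M + u := ⟨B - M, by omega⟩
  have hM : (p : ℤ) = (2 : ℤ) ^ M + 1 := by rw [hpM]; push_cast; ring
  have h3 : (p : ℤ) ∣ ((2 ^ u : ℕ) : ℤ) - ((1 : ℕ) : ℤ) := by
    have h4 : ((2 ^ u : ℕ) : ℤ) - ((1 : ℕ) : ℤ) =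
        (2 : ℤ) ^ u * (p : ℤ) - ((2 : ℤ) ^ (M + u) + 1) := by
      rw [hM, pow_add]; push_cast; ring
    rw [h4]
    exact Int.dvd_sub (dvd_mul_left _ _) hB
  have hlt : 2 ^ u < p := by
    have : 2 ^ u ≤ 2 ^ M := Nat.pow_le_pow_right two_pos (by omega)
    omega
  have hu := eq_of_dvd_sub h3 hlt (by have : 0 < 2 ^ M := pow_pos two_pos M; omega)
  have : u = 0 := by
    rcases Nat.eq_zero_or_pos u with h | h
    · exact h
    · have : 2 ≤ 2 ^ u := Nat.le_self_pow (by omega) 2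
      omega
  omega

/-- The possible degrees when `p = 2 ^ (c + 1) + 1` and `θ = 2 ^ c + 1`. -/
theorem deg_fermat {p c θ i δ : ℕ} (hc : 2 ≤ c) (hp : p = 2 ^ (c + 1) + 1) (hθ : θ = 2 ^ c + 1)
    (hδ : δ ∣ θ) (hi : 1 ≤ i) (hle : 2 ^ i * δ ≤ θ ^ 2) (hmod : (p : ℤ) ∣ ((2 ^ i * δ : ℕ) : ℤ) - 1 ∨
      (p : ℤ) ∣ ((2 ^ i * δ : ℕ) : ℤ) + 1) : 2 ^ i * δ = p - 1 ∨ 2 ^ i * δ = p + 1 := by
  have hδ0 : 0 < δ := Nat.pos_of_dvd_of_pos hδ (by omega)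
  have hδθ : δ ≤ θ := Nat.le_of_dvd (by omega) hδ
  have hpow : 2 ^ (c + 1) = 2 * 2 ^ c := by rw [pow_succ, mul_comm]
  have h2c : 4 ≤ 2 ^ c := by
    calc 4 = 2 ^ 2 := rfl
      _ ≤ _ := Nat.pow_le_pow_right two_pos hc
  have hδodd : ¬ 2 ∣ δ := fun h => by
    have h' := h.trans hδ
    have : 2 ∣ 2 ^ c := dvd_pow_self 2 (by omega)
    omega
  -- the exponent is below `2 (c + 1)`
  have hi2 : i < 2 * (c + 1) := by
    by_contra h
    push Not at h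
    have h1 : 2 ^ (2 * (c + 1)) ≤ 2 ^ i := Nat.pow_le_pow_right two_pos h
    have h2 : 2 ^ i ≤ 2 ^ i * δ := Nat.le_mul_of_pos_right _ hδ0
    have h3 : 2 ^ (2 * (c + 1)) = (2 * 2 ^ c) * (2 * 2 ^ c) := by rw [two_mul, pow_add, hpow]
    have h4 : θ ^ 2 < (2 * 2 ^ c) * (2 * 2 ^ c) := by rw [hθ]; nlinarith
    omega
  obtain ⟨u, k, hu, hik, hk⟩ : ∃ u k, u ≤ c ∧ i = u + k * (c + 1) ∧ k ≤ 1 := by
    rcases le_or_gt i c with h | h
    · exact ⟨i, 0, h, by omega, by omega⟩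
    · exact ⟨i - (c + 1), 1, by omega, by omega, le_rfl⟩
  have hP : (p : ℤ) = (2 : ℤ) ^ (c + 1) + 1 := by rw [hp]; push_cast; ring
  -- multiply by `2 ^ (c + 1 - u)`
  set v := c + 1 - u with hv
  have hmod' : (p : ℤ) ∣ (δ : ℤ) - ((2 : ℕ) ^ v : ℕ) ∨ (p : ℤ) ∣ (δ : ℤ) + ((2 : ℕ) ^ v : ℕ) := by
    have hsum : i + v = (k + 1) * (c + 1) := by rw [add_mul, one_mul]; omega
    rcases (show k = 0 ∨ k = 1 by omega) with rfl | rfl
    · have hpv : (2 : ℤ) ^ i * (2 : ℤ) ^ v = (p : ℤ) - 1 := by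
        rw [← pow_add, hsum, hP]; ring
      rcases hmod with h | h
      · right
        have h' : (δ : ℤ) + ((2 : ℕ) ^ v : ℕ) = (δ : ℤ) * (p : ℤ) -
            (2 : ℤ) ^ v * (((2 ^ i * δ : ℕ) : ℤ) - 1) := by
          push_cast; linear_combination (δ : ℤ) * hpv
        rw [h']; exact Int.dvd_sub (dvd_mul_left _ _) (h.mul_left _)
      · left
        have h' : (δ : ℤ) - ((2 : ℕ) ^ v : ℕ) = (δ : ℤ) * (p : ℤ) -
            (2 : ℤ) ^ v * (((2 ^ i * δ : ℕ) : ℤ) + 1) := by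
          push_cast; linear_combination (δ : ℤ) * hpv
        rw [h']; exact Int.dvd_sub (dvd_mul_left _ _) (h.mul_left _)
    · have hpv : (2 : ℤ) ^ i * (2 : ℤ) ^ v = ((p : ℤ) - 1) * ((p : ℤ) - 1) := by
        rw [← pow_add, hsum, hP, show (1 + 1) * (c + 1) = (c + 1) + (c + 1) by ring, pow_add]; ring
      rcases hmod with h | h
      · left
        have h' : (δ : ℤ) - ((2 : ℕ) ^ v : ℕ) = (p : ℤ) * ((δ : ℤ) * (2 - (p : ℤ))) +
            (2 : ℤ) ^ v * (((2 ^ i * δ : ℕ) : ℤ) - 1) := by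
          push_cast; linear_combination -(δ : ℤ) * hpv
        rw [h']; exact dvd_add (dvd_mul_right _ _) (h.mul_left _)
      · right
        have h' : (δ : ℤ) + ((2 : ℕ) ^ v : ℕ) = (p : ℤ) * ((δ : ℤ) * (2 - (p : ℤ))) +
            (2 : ℤ) ^ v * (((2 ^ i * δ : ℕ) : ℤ) + 1) := by
          push_cast; linear_combination -(δ : ℤ) * hpv
        rw [h']; exact dvd_add (dvd_mul_right _ _) (h.mul_left _)
  have hvle : 2 ^ v ≤ 2 * 2 ^ c := hpow ▸ Nat.pow_le_pow_right two_pos (by omega)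
  have hv2 : 2 ∣ 2 ^ v := dvd_pow_self 2 (by omega)
  rcases hmod' with h | h
  · have heq := eq_of_dvd_sub h (by omega) (by omega)
    exact absurd (heq ▸ hv2) hδodd
  · have heq : δ + 2 ^ v = p := by
      obtain ⟨w, hw⟩ := h
      have h1 : w = 1 := by
        rcases (show w ≤ 0 ∨ w = 1 ∨ 2 ≤ w by omega) with h | h | h
        · have : (p : ℤ) * w ≤ 0 := mul_nonpos_of_nonneg_of_nonpos (by positivity) h
          have h0 : (0 : ℤ) < (δ : ℤ) + ((2 : ℕ) ^ v : ℕ) := by positivity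
          omega
        · exact h
        · have : (p : ℤ) * 2 ≤ (p : ℤ) * w := mul_le_mul_of_nonneg_left h (by positivity)
          omega
      rw [h1, mul_one] at hw
      omega
    rcases (show v = c + 1 ∨ v = c ∨ v + 1 ≤ c by omega) with h1 | h1 | h1
    · rw [h1] at heq
      have hδ1 : δ = 1 := by omega
      subst hδ1
      rw [mul_one] at hle ⊢
      rcases (show k = 0 ∨ k = 1 by omega) with rfl | rfl
      · omega
      · left; rw [show i = c + 1 by omega]; omega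
    · rw [h1] at heq
      have hδ1 : δ = θ := by omega
      subst hδ1
      rw [pow_two] at hle
      have h5 : 2 ^ i ≤ δ := Nat.le_of_mul_le_mul_right hle hδ0
      rcases (show k = 0 ∨ k = 1 by omega) with rfl | rfl
      · right; rw [show i = 1 by omega, pow_one]; omega
      · exfalso
        have : 2 ^ (c + 1) ≤ 2 ^ i := Nat.pow_le_pow_right two_pos (by omega)
        omega
    · exfalso
      have : 2 ^ (v + 1) ≤ 2 ^ c := Nat.pow_le_pow_right two_pos h1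
      rw [pow_succ] at this
      omega

/-- The power of two in the Fermat case. -/
theorem bound_fermat {c B x : ℕ} (hc : 2 ≤ c) (hx : x + 1 ≤ 2 ^ (c - 1))
    (h : ((2 ^ B : ℕ) : ℤ) ∣ 4 * ((2 : ℤ) ^ (c - 1) + 1 + ((2 : ℤ) ^ c + 1) * x)) : B ≤ 2 * c + 1 := by
  by_contra hB
  push Not at hB
  have hdvd : ((2 : ℤ) ^ (2 * c + 2)) ∣ 4 * ((2 : ℤ) ^ (c - 1) + 1 + ((2 : ℤ) ^ c + 1) * x) := by
    refine dvd_trans ?_ h
    push_cast
    exact pow_dvd_pow 2 (by omega)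
  rw [pow_add, show (2 : ℤ) ^ 2 = 4 by norm_num, mul_comm] at hdvd
  have hdvd' := Int.dvd_of_mul_dvd_mul_left (show (4 : ℤ) ≠ 0 by norm_num) hdvd
  obtain ⟨c', rfl⟩ : ∃ c', c = c' + 1 := ⟨c - 1, by omega⟩
  rw [Nat.add_sub_cancel] at hdvd' hx
  have h1 : (2 : ℤ) ^ c' ∣ ((x : ℤ) + 1) := by
    have h2 : (x : ℤ) + 1 = ((2 : ℤ) ^ c' + 1 + ((2 : ℤ) ^ (c' + 1) + 1) * x) -
        (2 : ℤ) ^ c' * (1 + 2 * x) := by rw [pow_succ]; ring
    rw [h2]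
    exact Int.dvd_sub ((pow_dvd_pow 2 (by omega)).trans hdvd') (dvd_mul_right _ _)
  have h3 : x + 1 = 2 ^ c' := by
    refine le_antisymm hx (Nat.le_of_dvd (Nat.succ_pos _) ?_)
    exact_mod_cast h1
  have h4 : (x : ℤ) + 1 = (2 : ℤ) ^ c' := by exact_mod_cast h3
  have h5 : (2 : ℤ) ^ c' + 1 + ((2 : ℤ) ^ (c' + 1) + 1) * x = (2 : ℤ) ^ (c' + 1) * 2 ^ c' := by
    rw [← h4, show (x : ℤ) = (2 : ℤ) ^ c' - 1 by linarith, pow_succ]; ring
  rw [h5, ← pow_add] at hdvd'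
  have h6 := Int.le_of_dvd (pow_pos two_pos _) hdvd'
  have := (pow_le_pow_iff_right₀ (show (1 : ℤ) < 2 by norm_num)).1 h6
  omega

/-- The power of two in the Mersenne case. -/
theorem bound_mersenne {M B x : ℕ} (hM : 3 ≤ M) (hx : x + 1 ≤ 2 ^ (M - 2))
    (h : ((2 ^ B : ℕ) : ℤ) ∣
      4 * (1 - (2 : ℤ) ^ (M - 2) - ((2 : ℤ) ^ (M - 1) - 1) * x)) : B ≤ M + 1 := by
  by_contra hB
  push Not at hB
  have hdvd : ((2 : ℤ) ^ (M + 2)) ∣ 4 * (1 - (2 : ℤ) ^ (M - 2) - ((2 : ℤ) ^ (M - 1) - 1) * x) := by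
    refine dvd_trans ?_ h
    push_cast
    exact pow_dvd_pow 2 (by omega)
  rw [pow_add, show (2 : ℤ) ^ 2 = 4 by norm_num, mul_comm] at hdvd
  have hdvd' := Int.dvd_of_mul_dvd_mul_left (show (4 : ℤ) ≠ 0 by norm_num) hdvd
  obtain ⟨L, rfl⟩ : ∃ L, M = L + 2 := ⟨M - 2, by omega⟩
  rw [Nat.add_sub_cancel, show L + 2 - 1 = L + 1 by omega] at hdvd'
  rw [Nat.add_sub_cancel] at hx
  have h1 : (2 : ℤ) ^ L ∣ ((x : ℤ) + 1) := by
    have h2 : (x : ℤ) + 1 = (1 - (2 : ℤ) ^ L - ((2 : ℤ) ^ (L + 1) - 1) * x) +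
        (2 : ℤ) ^ L * (1 + 2 * x) := by rw [pow_succ]; ring
    rw [h2]
    exact dvd_add ((pow_dvd_pow 2 (by omega)).trans hdvd') (dvd_mul_right _ _)
  have h3 : x + 1 = 2 ^ L := by
    refine le_antisymm hx (Nat.le_of_dvd (Nat.succ_pos _) ?_)
    exact_mod_cast h1
  have h4 : (x : ℤ) + 1 = (2 : ℤ) ^ L := by exact_mod_cast h3
  have h5 : 1 - (2 : ℤ) ^ L - ((2 : ℤ) ^ (L + 1) - 1) * x = (2 : ℤ) ^ (L + 1) * -(x : ℤ) := by
    rw [← h4, pow_succ, ← h4]; ring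
  rw [h5, show L + 2 = (L + 1) + 1 by omega, pow_succ _ (L + 1)] at hdvd'
  have h6 := Int.dvd_of_mul_dvd_mul_left (pow_ne_zero _ two_ne_zero) hdvd'
  have h7 : 2 ∣ x := by exact_mod_cast (dvd_neg.1 h6)
  have h8 : 2 ∣ 2 ^ L := dvd_pow_self 2 (by omega)
  omega

end Cfsg.Agent.H86.PQArith
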