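import Cfsg.Agent.H86.SmallExcBlocks
import Cfsg.Agent.H86.PQArith

/-!
# Simple groups of order `p q^B g₀` with `g₀ < p - 1`: the exceptional degree

After R. Brauer and H. F. Tuan, *On simple groups of finite order I* (1945).
-/

set_option linter.unusedSectionVars false
set_option linter.style.haveILetI false

open scoped ComplexConjugate Classical commutatorElement

namespace Cfsg.Agent.H86.PQ

open CharBasic Subgroup BlockBasic SmallExc

universe u

variable {G : Type u} [Group G] [Fintype G] [IsSimpleGroup G] {p : ℕ} [hp : Fact p.Prime]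

/-- The data: `|G| = p q^B g₀` with `q ∤ g₀ < p - 1`, and the principal `p`-block. -/
structure Data (G : Type u) [Group G] [Fintype G] (p : ℕ) [Fact p.Prime] where
  na : ∃ a b : G, a * b ≠ b * a
  perf : commutator G = ⊤
  q : ℕ
  B : ℕ
  g₀ : ℕ
  hq : q.Prime
  hqp : q ≠ p
  hg : g₀ < p - 1
  hqg : ¬ q ∣ g₀
  card_G : Nat.card G = p * q ^ B * g₀
  D : PBlk G p

theorem commutator_eq_top (hna : ∃ a b : G, a * b ≠ b * a) : commutator G = ⊤ := by
  refine (Subgroup.Normal.eq_bot_or_eq_top (inferInstance : (commutator G).Normal)).resolve_left fun h => ?_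
  obtain ⟨a, b, hab⟩ := hna
  refine hab (commutatorElement_eq_one_iff_mul_comm.1 ?_)
  have hm : ⁅a, b⁆ ∈ commutator G := by
    rw [_root_.commutator_def]; exact Subgroup.commutator_mem_commutator (mem_top a) (mem_top b)
  rwa [h, mem_bot] at hm

theorem exists_data (hna : ∃ a b : G, a * b ≠ b * a) {q B g₀ : ℕ} (hq : q.Prime) (hqp : q ≠ p)
    (hg : g₀ < p - 1) (hqg : ¬ q ∣ g₀) (hG : Nat.card G = p * q ^ B * g₀) :
    ∃ T : Data G p, True := by
  have hg0 : 0 < g₀ := Nat.pos_of_ne_zero (by rintro rfl; exact hqg (dvd_zero _))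
  have hnd : ¬ p ∣ q ^ B * g₀ := by
    intro h
    rcases hp.out.dvd_mul.1 h with h | h
    · exact hqp ((Nat.prime_dvd_prime_iff_eq hp.out hq).1 (hp.out.dvd_of_dvd_pow h)).symm
    · have := Nat.le_of_dvd hg0 h; omega
  obtain ⟨P⟩ := (inferInstance : Nonempty (Sylow p G))
  have hP : Nat.card P = p := by
    rw [show Nat.card P = Nat.card (P : Subgroup G) from rfl, P.card_eq_multiplicity, hG, mul_assoc,
      Nat.factorization_mul hp.out.ne_zero (mul_ne_zero (pow_ne_zero _ hq.ne_zero) hg0.ne'),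
      Finsupp.add_apply, hp.out.factorization_self, Nat.factorization_eq_zero_of_not_dvd hnd,
      add_zero, pow_one]
  obtain ⟨D, -⟩ := exists_pblk P hP
  exact ⟨⟨hna, commutator_eq_top hna, q, B, g₀, hq, hqp, hg, hqg, hG, D⟩, trivial⟩

namespace Data

variable (T : Data G p)

include T

theorem g₀_pos : 0 < T.g₀ :=
  Nat.pos_of_ne_zero fun h => T.hqg (h ▸ dvd_zero _)

theorem three_le_p : 3 ≤ p := by
  have := T.hg
  have := T.g₀_pos
  omega

theorem not_dvd_g₀ : ¬ p ∣ T.g₀ := fun h => by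
  have := Nat.le_of_dvd T.g₀_pos h
  have := T.hg
  omega

theorem factorization_q : (Nat.card G).factorization T.q = T.B := by
  rw [T.card_G, Nat.factorization_mul
      (mul_ne_zero hp.out.ne_zero (pow_ne_zero _ T.hq.ne_zero)) T.g₀_pos.ne', Finsupp.add_apply,
    Nat.factorization_mul hp.out.ne_zero (pow_ne_zero _ T.hq.ne_zero), Finsupp.add_apply,
    Nat.factorization_eq_zero_of_not_dvd (fun h => T.hqp
      ((Nat.prime_dvd_prime_iff_eq T.hq hp.out).1 h)),
    T.hq.factorization_pow, Finsupp.single_eq_same, Nat.factorization_eq_zero_of_not_dvd T.hqg]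
  simp

theorem two_le_e : 2 ≤ T.D.e := by
  have := T.D.e_pos
  have h : T.D.e ≠ 1 := FewSylowReduce.relIndex_ne_one T.perf T.D.P T.D.card_P
  omega

theorem one_lt_degree {χ : IrrCharacter G} (hχ : χ ≠ trivialIrr) :
    1 < charDegree (χ : G → ℂ) := by
  refine lt_of_le_of_ne (charDegree_pos χ) fun h => hχ (Subtype.ext (funext fun x => ?_))
  obtain ⟨l, hl⟩ := CharInduce.IsChar.exists_hom_of_degree_one (IsIrr.isCharacter χ.2)
    (by rw [apply_one_eq_charDegree, ← h, Nat.cast_one])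
  rw [hl x, FewSylow.hom_eq_one_of_perfect T.perf l (fun _ _ => mul_comm _ _) x, Units.val_one]
  rfl

/-- A degree prime to `p` and `q` divides `g₀`. -/
theorem dvd_g₀ {d : ℕ} (hd : d ∣ Nat.card G) (h1 : ¬ p ∣ d) (h2 : ¬ T.q ∣ d) : d ∣ T.g₀ := by
  rw [T.card_G] at hd
  refine Nat.Coprime.dvd_of_dvd_mul_left ?_ hd
  exact Nat.Coprime.mul_right (hp.out.coprime_iff_not_dvd.2 h1).symm
    ((T.hq.coprime_iff_not_dvd.2 h2).symm.pow_right _)

theorem dvd_deg_X {χ : IrrCharacter G} (hχ : χ ∈ T.D.X) (hne : χ ≠ trivialIrr) :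
    T.q ∣ charDegree (χ : G → ℂ) := by
  by_contra h2
  have h1 := T.one_lt_degree hne
  have h3 := (T.D.degX χ hχ).symm.dvd
  have hnp : ¬ p ∣ charDegree (χ : G → ℂ) := fun h => by
    have hp' : (p : ℤ) ∣ (charDegree (χ : G → ℂ) : ℤ) := by exact_mod_cast h
    have h4 := Int.dvd_sub hp' h3
    rw [sub_sub_cancel] at h4
    rcases T.D.sign χ hχ with e | e <;> rw [e] at h4
    · exact hp.out.ne_one (by exact_mod_cast Int.eq_one_of_dvd_one (by positivity) h4)
    · exact hp.out.ne_one (by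
        exact_mod_cast Int.eq_one_of_dvd_one (by positivity) (dvd_neg.1 h4))
  have hle := Nat.le_of_dvd T.g₀_pos (T.dvd_g₀ (charDegree_dvd χ) hnp h2)
  have := T.hg
  rcases T.D.sign χ hχ with e | e <;> rw [e] at h3
  · have := Int.eq_zero_of_abs_lt_dvd h3 (by rw [abs_lt]; omega)
    omega
  · rw [sub_neg_eq_add] at h3
    have := Int.eq_zero_of_abs_lt_dvd h3 (by rw [abs_lt]; omega)
    omega

/-- An exceptional character. -/
noncomputable def θ : IrrCharacter G := T.D.Y_nonempty.choose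

theorem θ_mem : T.θ ∈ T.D.Y := T.D.Y_nonempty.choose_spec

/-- The exceptional degree. -/
noncomputable abbrev d : ℕ := charDegree (T.θ : G → ℂ)

theorem θ_ne : T.θ ≠ trivialIrr := fun h =>
  Finset.disjoint_left.1 T.D.disj T.D.trivX (h ▸ T.θ_mem)

theorem dvd_rel : (T.q : ℤ) ∣ T.D.ε * (T.d : ℤ) - 1 := by
  rw [T.D.rel_one T.θ_mem, T.D.sum_X, T.D.εX_triv, T.D.charDegree_triv, Nat.cast_one, mul_one,
    add_sub_cancel_left]
  refine dvd_add (Finset.dvd_sum fun χ hχ => ?_) (Finset.dvd_sum fun χ hχ => ?_) <;>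
    exact dvd_mul_of_dvd_right (Int.natCast_dvd_natCast.2
      (T.dvd_deg_X (T.D.mem_Xs.1 hχ).1 (T.D.mem_Xs.1 hχ).2.2)) _

theorem not_q_dvd_d : ¬ T.q ∣ T.d := by
  intro h
  have h1 := Int.dvd_sub ((Int.natCast_dvd_natCast.2 h).mul_left T.D.ε) T.dvd_rel
  rw [sub_sub_cancel] at h1
  exact T.hq.ne_one (by exact_mod_cast Int.eq_one_of_dvd_one (by positivity) h1)

theorem not_p_dvd_d : ¬ p ∣ T.d := by
  intro h
  have h3 := (T.D.degY T.θ T.θ_mem).symm.dvd
  have hp' : (p : ℤ) ∣ (T.d : ℤ) := by exact_mod_cast h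
  have h4 := Int.dvd_sub hp' h3
  rw [sub_sub_cancel] at h4
  have h5 : (p : ℤ) ∣ (T.D.e : ℤ) := by
    rcases T.D.hε with e | e <;> rw [e] at h4
    · rwa [one_mul] at h4
    · rwa [neg_one_mul, dvd_neg] at h4
  have := Nat.le_of_dvd T.D.e_pos (Int.natCast_dvd_natCast.1 h5)
  have := T.D.e_le
  have := T.three_le_p
  omega

theorem d_dvd : T.d ∣ T.g₀ := T.dvd_g₀ (charDegree_dvd _) T.not_p_dvd_d T.not_q_dvd_d

theorem d_lt : T.d < p - 1 := lt_of_le_of_lt (Nat.le_of_dvd T.g₀_pos T.d_dvd) T.hg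

theorem d_cases : (T.D.ε = 1 ∧ T.d = T.D.e) ∨ (T.D.ε = -1 ∧ T.d + T.D.e = p) := by
  have h3 := (T.D.degY T.θ T.θ_mem).symm.dvd
  have := T.d_lt
  have := T.D.e_le
  have := T.three_le_p
  have := charDegree_pos T.θ
  have := T.D.e_pos
  rcases T.D.hε with h | h <;> rw [h] at h3
  · rw [one_mul] at h3
    exact Or.inl ⟨h, PQArith.eq_of_dvd_sub h3 (by omega) (by omega)⟩
  · refine Or.inr ⟨h, ?_⟩
    rw [neg_one_mul, sub_neg_eq_add] at h3
    obtain ⟨w, hw⟩ := h3
    have hw1 : w = 1 := by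
      rcases (show w ≤ 0 ∨ w = 1 ∨ 2 ≤ w by omega) with h' | h' | h'
      · have : (p : ℤ) * w ≤ 0 := mul_nonpos_of_nonneg_of_nonpos (by positivity) h'
        omega
      · exact h'
      · have : (p : ℤ) * 2 ≤ (p : ℤ) * w := mul_le_mul_of_nonneg_left h' (by positivity)
        dsimp only [Data.d, PBlk.e] at *
        omega
    rw [hw1, mul_one] at hw
    dsimp only [Data.d, PBlk.e] at *
    omega

theorem two_le_t : 2 ≤ T.D.t := by
  by_contra h
  have ht : T.D.t = 1 := by have := T.D.t_pos; omega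
  have he := T.D.e_mul_t
  rw [ht, mul_one] at he
  have := T.d_lt
  have := T.one_lt_degree T.θ_ne
  rcases T.d_cases with ⟨-, h1⟩ | ⟨-, h1⟩ <;> dsimp only [Data.d, PBlk.e] at * <;> omega

theorem hC : centralizer ((T.D.P : Subgroup G) : Set G) = T.D.P :=
  T.D.centralizer_eq_of_small T.θ_mem
    (fun _ hv => eq_one_of_apply_eq_one_deg (T.one_lt_degree T.θ_ne) hv) T.d_cases

theorem e_mul_g : T.D.e * T.D.g = T.q ^ T.B * T.g₀ := by
  have h := Subgroup.card_mul_index (centralizer ((T.D.P : Subgroup G) : Set G))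
  have h2 : Nat.card (centralizer ((T.D.P : Subgroup G) : Set G)) = p := by
    rw [T.hC]; exact T.D.card_P
  rw [FewSylowReduce.index_centralizer T.D.P, h2, T.card_G, mul_assoc p (T.q ^ T.B)] at h
  exact Nat.eq_of_mul_eq_mul_left hp.out.pos h

theorem deg_ge_minus {χ : IrrCharacter G} (hχ : χ ∈ T.D.Xs (-1)) :
    p - 1 ≤ charDegree (χ : G → ℂ) := by
  obtain ⟨h1, h2, -⟩ := T.D.mem_Xs.1 hχ
  have h := (T.D.degX χ h1).symm.dvd
  rw [h2, sub_neg_eq_add] at h
  have := Int.le_of_dvd (by omega) h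
  omega

theorem deg_ge_plus {χ : IrrCharacter G} (hχ : χ ∈ T.D.Xs 1) :
    p + 1 ≤ charDegree (χ : G → ℂ) := by
  obtain ⟨h1, h2, h3⟩ := T.D.mem_Xs.1 hχ
  have h := (T.D.degX χ h1).symm.dvd
  rw [h2] at h
  have := T.one_lt_degree h3
  have := Int.le_of_dvd (by omega) h
  omega

theorem exists_pair : ∃ θ₂ ∈ T.D.Y, T.θ ≠ θ₂ := by
  obtain ⟨θ₂, h1, h2⟩ := Finset.exists_mem_ne
    (show 1 < T.D.Y.card by rw [T.D.cardY]; exact T.two_le_t) T.θ
  exact ⟨θ₂, h1, h2.symm⟩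

/-- The basic numerical facts. -/
theorem numerics :
    (T.D.Xs (-1)).card * (p - 1) ≤ ∑ χ ∈ T.D.Xs (-1), charDegree (χ : G → ℂ) ∧
    (T.D.Xs 1).card * (p + 1) ≤ ∑ χ ∈ T.D.Xs 1, charDegree (χ : G → ℂ) ∧
    ∑ χ ∈ T.D.Xs (-1), charDegree (χ : G → ℂ) ≤ T.d ^ 2 ∧
    1 + ∑ χ ∈ T.D.Xs 1, charDegree (χ : G → ℂ) ≤ T.d ^ 2 := by
  obtain ⟨θ₂, h2, hne⟩ := T.exists_pair
  obtain ⟨h3, h4⟩ := T.D.tensor_bounds T.hC T.θ_mem h2 hne
  refine ⟨?_, ?_, h3, h4⟩ <;> rw [← smul_eq_mul, ← Finset.sum_const]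
  · exact Finset.sum_le_sum fun χ hχ => T.deg_ge_minus hχ
  · exact Finset.sum_le_sum fun χ hχ => T.deg_ge_plus hχ

theorem qcong' {M : Ideal AlgInt} (hM : IsPModular T.q M) :
    ((T.q ^ T.B : ℕ) : ℤ) ∣
      (T.D.t : ℤ) * (1 + ∑ χ ∈ (T.D.Xs 1 ∪ T.D.Xs (-1)).filter (fun χ => χ ∈ principalBlock M G),
          T.D.εX χ * (charDegree (χ : G → ℂ) : ℤ)) -
        T.D.ε * (((T.D.Y.filter fun χ => χ ∈ principalBlock M G).card : ℕ) : ℤ) * (T.d : ℤ) := by
  haveI := Fact.mk T.hq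
  have h := T.D.qcong T.hC T.hqp hM T.θ_mem
  rwa [T.factorization_q] at h

/-- The characters with a power of `q` as degree are outside the principal `q`-block. -/
theorem not_mem_pow {M : Ideal AlgInt} (hM : IsPModular T.q M) {χ : IrrCharacter G} {i : ℕ}
    (hi : 1 ≤ i) (hd : charDegree (χ : G → ℂ) = T.q ^ i) : χ ∉ principalBlock M G := by
  haveI := Fact.mk T.hq
  exact not_mem_principal_of_pow T.na hM hi hd

end Data

end Cfsg.Agent.H86.PQ
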