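import Cfsg.Agent.H86.PQBasic

/-!
# Simple groups of order `p q^B g₀`: the exceptional degree `p - e`
-/

set_option linter.unusedSectionVars false
set_option linter.style.haveILetI false

open scoped ComplexConjugate Classical

namespace Cfsg.Agent.H86.PQ

open CharBasic Subgroup BlockBasic SmallExc

universe u

variable {G : Type u} [Group G] [Fintype G] [IsSimpleGroup G] {p : ℕ} [hp : Fact p.Prime]

/-- The common facts of the case: `q = 2`, `e = 2 ^ c`. -/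
theorem minus_basic (T : Data G p) (hd : T.d + T.D.e = p) (hε : T.D.ε = -1) :
    T.q = 2 ∧ T.g₀ = T.d ∧ ∃ c, 1 ≤ c ∧ T.D.e = 2 ^ c := by
  have he2 := T.two_le_e
  have ht := T.two_le_t
  have het := T.D.e_mul_t
  have hp2 := T.three_le_p
  have h2e : T.D.e * 2 ≤ T.D.e * T.D.t := Nat.mul_le_mul_left _ ht
  rw [het] at h2e
  have hg0 : T.g₀ = T.d := by
    obtain ⟨k, hk⟩ := T.d_dvd
    have h1 := T.hg
    have h2 := T.g₀_pos
    rcases (show k = 0 ∨ k = 1 ∨ 2 ≤ k by omega) with rfl | rfl | h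
    · omega
    · omega
    · have : T.d * 2 ≤ T.d * k := Nat.mul_le_mul_left _ h
      dsimp only [Data.d, PBlk.e] at *
      omega
  have hco : Nat.Coprime T.D.e T.d := by
    refine Nat.coprime_of_dvd' fun k hk h1 h2 => ?_
    have h3 : k ∣ p := hd ▸ dvd_add h2 h1
    have h4 := (Nat.prime_dvd_prime_iff_eq hk hp.out).1 h3
    have h5 := Nat.le_of_dvd T.D.e_pos h1
    omega
  have heq : T.D.e ∣ T.q ^ T.B := by
    refine hco.dvd_of_dvd_mul_right ?_
    rw [← hg0, ← T.e_mul_g]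
    exact dvd_mul_right _ _
  obtain ⟨c, -, hc⟩ := (Nat.dvd_prime_pow T.hq).1 heq
  have hc1 : 1 ≤ c := Nat.pos_of_ne_zero fun h => by rw [h, pow_zero] at hc; omega
  have hqe : (T.q : ℤ) ∣ (T.D.e : ℤ) := Int.natCast_dvd_natCast.2 (hc ▸ dvd_pow_self T.q (by omega))
  have hq2 : T.q = 2 := by
    have h1 := T.dvd_rel
    rw [hε, neg_one_mul] at h1
    have hpet : (p : ℤ) = (T.D.e : ℤ) * T.D.t + 1 := by
      have : p = T.D.e * T.D.t + 1 := by dsimp only [Data.d, PBlk.e] at *; omega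
      exact_mod_cast this
    have hdi : (T.d : ℤ) + (T.D.e : ℤ) = (p : ℤ) := by exact_mod_cast hd
    have h2 : (T.q : ℤ) ∣ 2 := by
      have h' : (2 : ℤ) = (T.D.e : ℤ) * (1 - T.D.t) - (-(T.d : ℤ) - 1) := by
        linear_combination -hdi - hpet
      rw [h']
      exact Int.dvd_sub (hqe.mul_right _) h1
    have h3 : T.q ∣ 2 := by exact_mod_cast h2
    exact (Nat.prime_dvd_prime_iff_eq T.hq Nat.prime_two).1 h3
  exact ⟨hq2, hg0, c, hc1, hq2 ▸ hc⟩

/-- The congruence `2 ^ B ≡ -1` modulo `p`. -/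
theorem pow_two_modEq (T : Data G p) (hd : T.d + T.D.e = p) (hq : T.q = 2) (hg0 : T.g₀ = T.d) :
    (p : ℤ) ∣ (2 : ℤ) ^ T.B + 1 := by
  have h1 := T.e_mul_g
  rw [hg0, hq] at h1
  have h2 : (T.D.e : ℤ) * (T.D.g : ℤ) = (2 : ℤ) ^ T.B * (T.d : ℤ) := by exact_mod_cast h1
  have hdi : (T.d : ℤ) + (T.D.e : ℤ) = (p : ℤ) := by exact_mod_cast hd
  have hgn : (p : ℤ) ∣ (T.D.g : ℤ) - 1 := (card_sylow_modEq_one p G).symm.dvd.trans (dvd_of_eq (by rw [Nat.cast_one]))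
  obtain ⟨n, hn⟩ := hgn
  have h3 : (p : ℤ) ∣ (T.D.e : ℤ) * ((2 : ℤ) ^ T.B + 1) := by
    refine ⟨(2 : ℤ) ^ T.B - (T.D.e : ℤ) * n, ?_⟩
    linear_combination h2 + (2 : ℤ) ^ T.B * hdi - (T.D.e : ℤ) * hn
  rcases Int.Prime.dvd_mul' hp.out h3 with h | h
  · exfalso
    have := Nat.le_of_dvd T.D.e_pos (Int.natCast_dvd_natCast.1 h)
    have := T.D.e_le
    have := T.three_le_p
    omega
  · exact h

/-- The case `e = 2`. -/
theorem minus_two (T : Data G p) (hd : T.d + T.D.e = p) (hε : T.D.ε = -1) (hq : T.q = 2)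
    (hg0 : T.g₀ = T.d) (he : T.D.e = 2) :
    ∃ m, (p = 2 ^ m + 1 ∨ p = 2 ^ m - 1) ∧ 2 * T.D.g < (p + 1) * (p + 2) := by
  have het := T.D.e_mul_t
  rw [he] at het hd
  have ht := T.two_le_t
  set t := T.D.t with htdef
  have hd' : T.d = 2 * t - 1 := by omega
  have hcard := T.D.card_X
  have hrel := T.D.rel_split T.θ_mem
  rw [hε, neg_one_mul, show charDegree (T.θ : G → ℂ) = T.d from rfl] at hrel
  have hb : (T.D.Xs (-1)).card = 1 ∧ (T.D.Xs 1).card = 0 := by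
    rcases (show (T.D.Xs (-1)).card = 1 ∧ (T.D.Xs 1).card = 0 ∨
      (T.D.Xs (-1)).card = 0 ∧ (T.D.Xs 1).card = 1 by omega) with h | ⟨h1, -⟩
    · exact h
    · exfalso
      rw [Finset.card_eq_zero.1 h1, Finset.sum_empty, Nat.cast_zero, sub_zero] at hrel
      omega
  obtain ⟨ψ, hψ⟩ := Finset.card_eq_one.1 hb.1
  have hXp : T.D.Xs 1 = ∅ := Finset.card_eq_zero.1 hb.2
  rw [hψ, hXp, Finset.sum_empty, Finset.sum_singleton, Nat.cast_zero, add_zero] at hrel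
  have hψd : charDegree (ψ : G → ℂ) = 2 * t := by omega
  have hψmem : ψ ∈ T.D.Xs (-1) := by rw [hψ]; exact Finset.mem_singleton_self ψ
  have heg := T.e_mul_g
  rw [hg0, hq, he] at heg
  have hdvd : 2 * t ∣ 2 ^ T.B := by
    have h1 := T.D.deg_dvd_X (T.D.mem_Xs.1 hψmem).1
    rw [hψd, he, heg] at h1
    refine Nat.Coprime.dvd_of_dvd_mul_right ?_ h1
    rw [hd']
    refine Nat.coprime_of_dvd' fun k hk h2 h3 => ?_
    have h4 : k ∣ 2 * t - (2 * t - 1) := Nat.dvd_sub h2 h3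
    rwa [show 2 * t - (2 * t - 1) = 1 by omega] at h4
  obtain ⟨M, hMB, hM⟩ := (Nat.dvd_prime_pow Nat.prime_two).1 hdvd
  have hM2 : 2 ≤ M := by
    by_contra h
    have : 2 ^ M ≤ 2 ^ 1 := Nat.pow_le_pow_right two_pos (by omega)
    omega
  have hpM : p = 2 ^ M + 1 := by omega
  obtain ⟨M₂, hM₂⟩ := exists_isPModular T.hq
  have hcong := T.qcong' hM₂
  have hfilter : (T.D.Xs 1 ∪ T.D.Xs (-1)).filter (fun χ => χ ∈ principalBlock M₂ G) = ∅ := by
    rw [Finset.filter_eq_empty_iff, hXp, hψ, Finset.empty_union]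
    intro χ hχ
    rw [Finset.mem_singleton] at hχ
    subst hχ
    exact T.not_mem_pow hM₂ (i := M) (by omega) (by rw [hψd, hM, hq])
  rw [hfilter, Finset.sum_empty, add_zero, mul_one, hε, hq, ← htdef] at hcong
  set j := (T.D.Y.filter fun χ => χ ∈ principalBlock M₂ G).card with hjdef
  have hj : j ≤ t := (Finset.card_filter_le _ _).trans (le_of_eq T.D.cardY)
  have htM : (2 : ℤ) * t = (2 : ℤ) ^ M := by exact_mod_cast hM
  have hd2 : (T.d : ℤ) = 2 * (t : ℤ) - 1 := by omega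
  have hjt : j = t := by
    have h1 : ((2 * t : ℕ) : ℤ) ∣ ((2 ^ T.B : ℕ) : ℤ) := Int.natCast_dvd_natCast.2 hdvd
    have h2 := h1.trans hcong
    push_cast at h2
    have h3 : (2 * (t : ℤ)) ∣ (t : ℤ) - j := by
      have h' : (t : ℤ) - j = ((t : ℤ) - (-1 : ℤ) * (j : ℤ) * (T.d : ℤ)) - 2 * (t : ℤ) * j := by
        rw [hd2]; ring
      rw [h']
      exact Int.dvd_sub h2 (dvd_mul_right _ _)
    have := Int.eq_zero_of_abs_lt_dvd h3 (by rw [abs_lt]; omega)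
    omega
  have hB : T.B < 2 * M := by
    have h2 : ((2 ^ T.B : ℕ) : ℤ) ∣ ((t * (2 * t) : ℕ) : ℤ) := by
      refine hcong.trans (dvd_of_eq ?_)
      rw [hjt, hd2]; push_cast; ring
    have h3 := Nat.le_of_dvd (Nat.mul_pos (by omega) (by omega)) (Int.natCast_dvd_natCast.1 h2)
    have h4 : 2 * (t * (2 * t)) = 2 ^ (2 * M) := by
      rw [two_mul M, pow_add, ← hM]; ring
    by_contra h
    push Not at h
    have h5 : 2 ^ (2 * M) ≤ 2 ^ T.B := Nat.pow_le_pow_right two_pos h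
    have h6 : 0 < t * (2 * t) := Nat.mul_pos (by omega) (by omega)
    omega
  have hBM := PQArith.eq_of_pow_modEq hpM hMB hB
    (pow_two_modEq T (by rw [he]; exact hd) hq hg0)
  refine ⟨M, Or.inl hpM, ?_⟩
  rw [hBM, ← hM, hd'] at heg
  obtain ⟨u, hu⟩ : ∃ u, t = u + 1 := ⟨t - 1, by omega⟩
  have hg' : T.D.g = t * (2 * t - 1) :=
    Nat.eq_of_mul_eq_mul_left two_pos (by rw [heg, mul_assoc])
  rw [hg', show p = 2 * t + 1 by omega, hu, show 2 * (u + 1) - 1 = 2 * u + 1 by omega]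
  ring_nf
  omega

/-- The case `e = 2 ^ c`, `c ≥ 2`. -/
theorem minus_fermat (T : Data G p) (hd : T.d + T.D.e = p) (hε : T.D.ε = -1) (hq : T.q = 2)
    (hg0 : T.g₀ = T.d) {c : ℕ} (hc : 2 ≤ c) (he : T.D.e = 2 ^ c) :
    ∃ m, (p = 2 ^ m + 1 ∨ p = 2 ^ m - 1) ∧ 2 * T.D.g < (p + 1) * (p + 2) := by
  obtain ⟨hSm, hSp, hm, hpl⟩ := T.numerics
  have ht2 := T.two_le_t
  have het := T.D.e_mul_t
  rw [he] at het hd
  have hpow4 : (2 : ℕ) ^ c = 4 * 2 ^ (c - 2) := by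
    rw [show (4 : ℕ) = 2 ^ 2 from rfl, ← pow_add, Nat.add_sub_cancel' hc]
  have he4 : 4 ≤ 2 ^ c := by
    have : 0 < 2 ^ (c - 2) := pow_pos two_pos _
    omega
  have h2e : 2 ^ c * 2 ≤ 2 ^ c * T.D.t := Nat.mul_le_mul_left _ ht2
  -- the degrees divide `2 ^ B θ`
  have heg := T.e_mul_g
  rw [hg0, hq] at heg
  have hshape : ∀ χ ∈ T.D.X, χ ≠ trivialIrr → ∃ i δ, 1 ≤ i ∧ δ ∣ T.d ∧ ¬ 2 ∣ δ ∧
      charDegree (χ : G → ℂ) = 2 ^ i * δ := by
    intro χ hχ hne
    have h1 := T.D.deg_dvd_X hχ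
    rw [heg] at h1
    have hpos := charDegree_pos χ
    obtain ⟨i, δ, hδ, hdec⟩ := Nat.exists_eq_pow_mul_and_not_dvd hpos.ne' 2 (by norm_num)
    refine ⟨i, δ, ?_, ?_, hδ, hdec⟩
    · by_contra h0
      rw [show i = 0 by omega, pow_zero, one_mul] at hdec
      exact hδ (hdec ▸ hq ▸ T.dvd_deg_X hχ hne)
    · refine ((Nat.prime_two.coprime_iff_not_dvd.2 hδ).symm.pow_right T.B).dvd_of_dvd_mul_left ?_
      exact (dvd_mul_left δ (2 ^ i)).trans (hdec ▸ h1)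
  -- a character of degree `2 δ`
  obtain ⟨χ₀, hχ₀X, hχ₀ne, hχ₀4⟩ :
      ∃ χ ∈ T.D.X, χ ≠ trivialIrr ∧ ¬ 4 ∣ charDegree (χ : G → ℂ) := by
    by_contra hno
    push Not at hno
    have h1 := T.D.rel_split T.θ_mem
    rw [hε, neg_one_mul] at h1
    have h4 : ∀ s : ℤ, (4 : ℤ) ∣ ((∑ χ ∈ T.D.Xs s, charDegree (χ : G → ℂ) : ℕ) : ℤ) := fun s => by
      rw [Nat.cast_sum]
      exact Finset.dvd_sum fun χ hχ => Int.natCast_dvd_natCast.2
        (hno χ (T.D.mem_Xs.1 hχ).1 (T.D.mem_Xs.1 hχ).2.2)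
    obtain ⟨u, hu⟩ := h4 1
    obtain ⟨v, hv⟩ := h4 (-1)
    have hd1 : T.d + 2 ^ c = 2 ^ c * T.D.t + 1 := by omega
    have h6 : 2 ^ c * T.D.t = 4 * (2 ^ (c - 2) * T.D.t) := by rw [hpow4]; ring
    rw [hu, hv, show charDegree (T.θ : G → ℂ) = T.d from rfl] at h1
    omega
  obtain ⟨i₀, δ₀, hi₀, hδ₀, hδ₀odd, hdec₀⟩ := hshape χ₀ hχ₀X hχ₀ne
  have hi1 : i₀ = 1 := by
    by_contra h
    exact hχ₀4 (hdec₀ ▸ dvd_mul_of_dvd_left (pow_dvd_pow 2 (show 2 ≤ i₀ by omega)) _)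
  rw [hi1, pow_one] at hdec₀
  have hd0pos : 0 < T.d := charDegree_pos T.θ
  have hδle : δ₀ ≤ T.d := Nat.le_of_dvd hd0pos hδ₀
  have hmodd := (T.D.degX χ₀ hχ₀X).symm.dvd
  have h1lt := T.one_lt_degree hχ₀ne
  have hd0 : charDegree (χ₀ : G → ℂ) = p + 1 := by
    rcases T.D.sign χ₀ hχ₀X with e | e <;> rw [e] at hmodd
    · obtain ⟨w, hw⟩ := hmodd
      have hw1 : w = 1 := by
        rcases (show w ≤ 0 ∨ w = 1 ∨ 2 ≤ w by omega) with h | h | h
        · have : (p : ℤ) * w ≤ 0 := mul_nonpos_of_nonneg_of_nonpos (by positivity) h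
          omega
        · exact h
        · have : (p : ℤ) * 2 ≤ (p : ℤ) * w := mul_le_mul_of_nonneg_left h (by positivity)
          omega
      rw [hw1, mul_one] at hw
      omega
    · exfalso
      rw [sub_neg_eq_add] at hmodd
      obtain ⟨w, hw⟩ := hmodd
      have hw1 : w = 1 := by
        rcases (show w ≤ 0 ∨ w = 1 ∨ 2 ≤ w by omega) with h | h | h
        · have : (p : ℤ) * w ≤ 0 := mul_nonpos_of_nonneg_of_nonpos (by positivity) h
          omega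
        · exact h
        · have : (p : ℤ) * 2 ≤ (p : ℤ) * w := mul_le_mul_of_nonneg_left h (by positivity)
          omega
      rw [hw1, mul_one] at hw
      refine hχ₀4 ?_
      rw [show charDegree (χ₀ : G → ℂ) = 2 ^ c * T.D.t by omega]
      exact dvd_mul_of_dvd_left ⟨_, hpow4⟩ _
  have hδd : δ₀ = T.d := by
    obtain ⟨k, hk⟩ := hδ₀
    rcases (show k = 0 ∨ k = 1 ∨ 2 ≤ k by omega) with rfl | rfl | h
    · omega
    · omega
    · have : δ₀ * 2 ≤ δ₀ * k := Nat.mul_le_mul_left _ h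
      omega
  have hp2c : p = 2 ^ (c + 1) + 1 := by rw [pow_succ]; omega
  have htt : T.D.t = 2 :=
    Nat.eq_of_mul_eq_mul_left (show 0 < 2 ^ c by omega) (by rw [het, hp2c, pow_succ]; omega)
  have hdθ : T.d = 2 ^ c + 1 := by rw [pow_succ] at hp2c; omega
  -- all degrees
  have hdeg : ∀ s : ℤ, ∀ χ ∈ T.D.Xs s, charDegree (χ : G → ℂ) ≤ T.d ^ 2 →
      (s = 1 ∨ s = -1) ∧ (charDegree (χ : G → ℂ) : ℤ) = (p : ℤ) + s := by
    intro s χ hχ hle
    obtain ⟨h1, h2, h3⟩ := T.D.mem_Xs.1 hχ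
    obtain ⟨i, δ, hi, hδ, -, hdec⟩ := hshape χ h1 h3
    have hm' := (T.D.degX χ h1).symm.dvd
    have hp1 := T.three_le_p
    have hcase : charDegree (χ : G → ℂ) = p - 1 ∨ charDegree (χ : G → ℂ) = p + 1 := by
      rw [hdec] at hle ⊢
      refine PQArith.deg_fermat hc hp2c hdθ hδ hi hle ?_
      rcases T.D.sign χ h1 with e | e <;> rw [e, hdec] at hm'
      · exact Or.inl hm'
      · rw [sub_neg_eq_add] at hm'; exact Or.inr hm'
    rcases T.D.sign χ h1 with e | e <;> rw [e] at hm' <;> rw [e] at h2 <;> subst h2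
    · refine ⟨Or.inl rfl, ?_⟩
      rcases hcase with h | h
      · exfalso
        rw [h, Nat.cast_sub (by omega), Nat.cast_one] at hm'
        have := Int.eq_zero_of_abs_lt_dvd (dvd_sub_self_left.2 hm') (by rw [abs_lt]; omega)
        omega
      · rw [h]; push_cast; ring
    · refine ⟨Or.inr rfl, ?_⟩
      rcases hcase with h | h
      · rw [h, Nat.cast_sub (by omega), Nat.cast_one]; ring
      · exfalso
        rw [h, sub_neg_eq_add] at hm'
        push_cast at hm'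
        rw [add_assoc] at hm'
        have := Int.eq_zero_of_abs_lt_dvd ((dvd_add_right (dvd_refl (p : ℤ))).1 hm')
          (by rw [abs_lt]; omega)
        omega
  have hdp : ∀ χ ∈ T.D.Xs 1, charDegree (χ : G → ℂ) = p + 1 := fun χ hχ => by
    have h := (hdeg 1 χ hχ (le_trans (Finset.single_le_sum (f := fun χ : IrrCharacter G =>
      charDegree (χ : G → ℂ)) (fun _ _ => Nat.zero_le _) hχ) (by omega))).2
    omega
  have hdm : ∀ χ ∈ T.D.Xs (-1), charDegree (χ : G → ℂ) = p - 1 := fun χ hχ => by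
    have h := (hdeg (-1) χ hχ (le_trans (Finset.single_le_sum (f := fun χ : IrrCharacter G =>
      charDegree (χ : G → ℂ)) (fun _ _ => Nat.zero_le _) hχ) hm)).2
    omega
  have hcard := T.D.card_X
  rw [he] at hcard
  have hrel := T.D.rel_split T.θ_mem
  rw [hε, neg_one_mul, Finset.sum_congr rfl hdp, Finset.sum_congr rfl hdm, Finset.sum_const,
    Finset.sum_const, smul_eq_mul, smul_eq_mul, show charDegree (T.θ : G → ℂ) = T.d from rfl,
    hdθ] at hrel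
  set a := (T.D.Xs 1).card with ha
  set b := (T.D.Xs (-1)).card with hb
  set E := (2 : ℕ) ^ (c - 1) with hE
  have hEc : 2 ^ c = 2 * E := by rw [hE, ← pow_succ', Nat.sub_add_cancel (by omega)]
  have hab : a + 1 = E ∧ b = E := by
    have hp' : p = 4 * E + 1 := by rw [pow_succ] at hp2c; omega
    rw [hp', hEc, Nat.add_sub_cancel] at hrel
    rw [hEc] at hcard
    push_cast at hrel
    have hE2 : 2 ≤ E := by omega
    have hcardZ : 2 * (E : ℤ) = 1 + ((a : ℤ) + b) := by exact_mod_cast hcard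
    have h1 : ((a : ℤ) + 1 - E) * (8 * (E : ℤ) + 2) = 0 := by
      linear_combination (-1 : ℤ) * hrel - 4 * (E : ℤ) * hcardZ
    rcases mul_eq_zero.1 h1 with h | h <;> omega
  obtain ⟨χ₁, hχ₁⟩ := Finset.card_pos.1 (show 0 < (T.D.Xs (-1)).card by omega)
  have hBc : c + 1 ≤ T.B := by
    have h1 := T.D.deg_dvd_X (T.D.mem_Xs.1 hχ₁).1
    rw [hdm χ₁ hχ₁, show p - 1 = 2 ^ (c + 1) by omega, heg] at h1
    have hdodd : ¬ 2 ∣ T.d := hq ▸ hg0 ▸ T.hqg
    exact (Nat.pow_dvd_pow_iff_le_right (by norm_num)).1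
      (Nat.Coprime.dvd_of_dvd_mul_right ((Nat.prime_two.coprime_iff_not_dvd.2 hdodd).pow_left _) h1)
  obtain ⟨M₂, hM₂⟩ := exists_isPModular T.hq
  have hcong := T.qcong' hM₂
  have hfilter : (T.D.Xs 1 ∪ T.D.Xs (-1)).filter (fun χ => χ ∈ principalBlock M₂ G) =
      (T.D.Xs 1).filter (fun χ => χ ∈ principalBlock M₂ G) := by
    ext χ
    simp only [Finset.mem_filter, Finset.mem_union]
    refine ⟨fun ⟨h, h'⟩ => ⟨h.resolve_right fun h1 => ?_, h'⟩, fun ⟨h, h'⟩ => ⟨Or.inl h, h'⟩⟩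
    refine T.not_mem_pow hM₂ (i := c + 1) (by omega) ?_ h'
    rw [hdm χ h1, hq]; omega
  rw [hfilter, Finset.sum_congr rfl (g := fun _ => ((p + 1 : ℕ) : ℤ)) (fun χ hχ => by
      have h1 := (Finset.mem_filter.1 hχ).1
      rw [(T.D.mem_Xs.1 h1).2.1, hdp χ h1, one_mul]),
    Finset.sum_const, nsmul_eq_mul, hε, htt, hdθ, hq] at hcong
  set x := ((T.D.Xs 1).filter (fun χ => χ ∈ principalBlock M₂ G)).card with hxdef
  set j := (T.D.Y.filter fun χ => χ ∈ principalBlock M₂ G).card with hjdef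
  have hx : x ≤ a := Finset.card_filter_le _ _
  have hj : j ≤ 2 := (Finset.card_filter_le _ _).trans (le_of_eq (T.D.cardY.trans htt))
  have hpE : (p : ℤ) = 4 * (E : ℤ) + 1 := by
    have : p = 4 * E + 1 := by rw [pow_succ] at hp2c; omega
    exact_mod_cast this
  have hEc' : (2 : ℤ) ^ c = 2 * (E : ℤ) := by exact_mod_cast hEc
  push_cast at hcong
  rw [hpE, hEc'] at hcong
  have hj2 : j = 2 := by
    have h4 : (4 : ℤ) ∣ (2 : ℤ) ^ T.B := by
      rw [show (4 : ℤ) = 2 ^ 2 by norm_num]; exact pow_dvd_pow 2 (by omega)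
    obtain ⟨k, hk⟩ := h4.trans hcong
    obtain ⟨E', hE'⟩ : 2 ∣ E := by rw [hE]; exact dvd_pow_self 2 (by omega)
    rw [hE'] at hk
    push_cast at hk
    rcases (show j = 0 ∨ j = 1 ∨ j = 2 by omega) with h | h | h
    · rw [h] at hk; push_cast at hk; ring_nf at hk; omega
    · rw [h] at hk; push_cast at hk; ring_nf at hk; omega
    · exact h
  have hB : T.B ≤ 2 * c + 1 := by
    refine PQArith.bound_fermat (x := x) hc (by omega) ?_
    push_cast
    refine hcong.trans (dvd_of_eq ?_)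
    rw [hj2, show (2 : ℤ) ^ (c - 1) = (E : ℤ) by rw [hE]; push_cast; rfl, hEc']
    push_cast; ring
  have hBc' := PQArith.eq_of_pow_modEq hp2c hBc (by omega)
    (pow_two_modEq T (by rw [he]; exact hd) hq hg0)
  refine ⟨c + 1, Or.inl hp2c, ?_⟩
  rw [hBc', he, hdθ, pow_succ, mul_assoc] at heg
  have hg' : T.D.g = 2 * (2 ^ c + 1) := Nat.eq_of_mul_eq_mul_left (pow_pos two_pos c) heg
  rw [hg', show p = 2 * 2 ^ c + 1 by rw [pow_succ] at hp2c; omega]
  nlinarith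

theorem minus_case (T : Data G p) (hd : T.d + T.D.e = p) (hε : T.D.ε = -1) :
    ∃ m, (p = 2 ^ m + 1 ∨ p = 2 ^ m - 1) ∧ 2 * T.D.g < (p + 1) * (p + 2) := by
  obtain ⟨hq, hg0, c, hc1, hc⟩ := minus_basic T hd hε
  rcases (show c = 1 ∨ 2 ≤ c by omega) with rfl | hc2
  · exact minus_two T hd hε hq hg0 (by rw [hc, pow_one])
  · exact minus_fermat T hd hε hq hg0 hc2 hc

end Cfsg.Agent.H86.PQ
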