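import Cfsg.Agent.H86.PQBasic

/-!
# Simple groups of order `p q^B g₀`: the exceptional degree `e`
-/

set_option linter.unusedSectionVars false
set_option linter.style.haveILetI false

open scoped ComplexConjugate Classical

namespace Cfsg.Agent.H86.PQ

open CharBasic Subgroup BlockBasic SmallExc

universe u

variable {G : Type u} [Group G] [Fintype G] [IsSimpleGroup G] {p : ℕ} [hp : Fact p.Prime]

theorem t_eq_two_arith {p e t a b Sp Sm : ℕ} (hp : p = e * t + 1) (he : 2 ≤ e) (ht : 2 ≤ t)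
    (hab : e = 1 + (a + b)) (hrel : e + Sm = 1 + Sp) (hSm : b * (p - 1) ≤ Sm)
    (hSp : a * (p + 1) ≤ Sp) (hm : Sm ≤ e ^ 2) (hpl : 1 + Sp ≤ e ^ 2) : t = 2 := by
  by_contra hne
  have ht3 : 3 ≤ t := by omega
  have h1 : e * 3 ≤ e * t := Nat.mul_le_mul_left e ht3
  rw [show p - 1 = e * t by omega] at hSm
  rw [hp] at hSp
  have h2 : (a + b) * (e * t) + a * 2 = b * (e * t) + a * (e * t + 1 + 1) := by ring
  have h3 : (a + b) * (e * 3) ≤ (a + b) * (e * t) := Nat.mul_le_mul_left _ h1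
  have h4 : (a + b) * (e * t) + a * 2 + 1 ≤ 2 * e ^ 2 := by
    rw [h2]
    omega
  rcases (show e = 2 ∨ 3 ≤ e by omega) with rfl | he3
  · have hab1 : a + b = 1 := by omega
    rcases (show (a = 1 ∧ b = 0) ∨ (a = 0 ∧ b = 1) by omega) with ⟨rfl, rfl⟩ | ⟨rfl, rfl⟩ <;>
      omega
  · obtain ⟨f, rfl⟩ : ∃ f, e = f + 3 := ⟨e - 3, by omega⟩
    have hab1 : a + b = f + 2 := by omega
    rw [hab1] at h4 h3
    nlinarith

theorem plus_case (T : Data G p) (hε : T.D.ε = 1) (hd : T.d = T.D.e) :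
    ∃ m, (p = 2 ^ m + 1 ∨ p = 2 ^ m - 1) ∧ 2 * T.D.g < (p + 1) * (p + 2) := by
  obtain ⟨hSm, hSp, hm, hpl⟩ := T.numerics
  set a := (T.D.Xs 1).card with ha
  set b := (T.D.Xs (-1)).card with hb
  set Sp := ∑ χ ∈ T.D.Xs 1, charDegree (χ : G → ℂ) with hSpdef
  set Sm := ∑ χ ∈ T.D.Xs (-1), charDegree (χ : G → ℂ) with hSmdef
  rw [hd] at hm hpl
  have hrel : T.D.e + Sm = 1 + Sp := by
    have h := T.D.rel_split T.θ_mem
    rw [hε, one_mul, show charDegree (T.θ : G → ℂ) = T.D.e from hd, ← hSpdef, ← hSmdef] at h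
    omega
  have hab : T.D.e = 1 + (a + b) := T.D.card_X
  have hp3 := T.three_le_p
  have het := T.D.e_mul_t
  have hpet : p = T.D.e * T.D.t + 1 := by omega
  have he2 := T.two_le_e
  have ht : T.D.t = 2 :=
    t_eq_two_arith hpet he2 T.two_le_t hab hrel hSm hSp hm hpl
  rw [ht] at hpet
  set e := T.D.e with he
  have hp2e : p - 1 = 2 * e := by omega
  have hg0 : T.g₀ = e := by
    obtain ⟨k, hk⟩ : e ∣ T.g₀ := hd ▸ T.d_dvd
    have h1 := T.hg
    have h2 := T.g₀_pos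
    rcases (show k = 0 ∨ k = 1 ∨ 2 ≤ k by omega) with rfl | rfl | h
    · omega
    · omega
    · have : e * 2 ≤ e * k := Nat.mul_le_mul_left e h
      omega
  -- the bounds for the numbers of characters
  rw [hp2e] at hSm
  have ha2 : 2 * a < e := by
    by_contra h
    push Not at h
    have h1 : e * (e + 1) ≤ a * (p + 1) := by
      calc e * (e + 1) ≤ (2 * a) * (e + 1) := Nat.mul_le_mul_right _ h
        _ = a * (p + 1) := by rw [hpet]; ring
    have h2 : e ^ 2 ≤ e * (e + 1) := by rw [pow_two]; exact Nat.mul_le_mul_left _ (by omega)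
    omega
  have hb2 : 2 * b ≤ e := by
    by_contra h
    push Not at h
    have h1 : (e + 1) * e ≤ b * (2 * e) := by
      calc (e + 1) * e ≤ (2 * b) * e := Nat.mul_le_mul_right _ h
        _ = b * (2 * e) := by ring
    have h2 : e ^ 2 + 2 ≤ (e + 1) * e := by rw [pow_two, add_mul, one_mul]; omega
    omega
  -- all negative characters have degree `p - 1`
  have hdm : ∀ χ ∈ T.D.Xs (-1), charDegree (χ : G → ℂ) = 2 * e := by
    intro χ hχ
    by_contra hne
    obtain ⟨h1, h2, -⟩ := T.D.mem_Xs.1 hχ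
    have h3 := (T.D.degX χ h1).symm.dvd
    rw [h2, sub_neg_eq_add] at h3
    obtain ⟨w, hw⟩ := h3
    have hge := T.deg_ge_minus hχ
    have hw2 : 2 ≤ w := by
      by_contra hw1
      push Not at hw1
      rcases (show w ≤ 0 ∨ w = 1 by omega) with h | h
      · have : (p : ℤ) * w ≤ 0 := mul_nonpos_of_nonneg_of_nonpos (by positivity) h
        omega
      · rw [h, mul_one] at hw; omega
    have hbig : 4 * e + 1 ≤ charDegree (χ : G → ℂ) := by
      have : (p : ℤ) * 2 ≤ (p : ℤ) * w := mul_le_mul_of_nonneg_left hw2 (by positivity)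
      omega
    have hsum : (b - 1) * (2 * e) + (4 * e + 1) ≤ Sm := by
      rw [hSmdef, ← Finset.sum_erase_add _ _ hχ]
      refine Nat.add_le_add ?_ hbig
      rw [hb, ← Finset.card_erase_of_mem hχ, ← smul_eq_mul, ← Finset.sum_const]
      exact Finset.sum_le_sum fun ψ hψ =>
        hp2e ▸ T.deg_ge_minus (Finset.mem_of_mem_erase hψ)
    have hb1 : 1 ≤ b := Finset.card_pos.2 ⟨χ, hχ⟩
    obtain ⟨b', hb'⟩ : ∃ b', b = b' + 1 := ⟨b - 1, by omega⟩
    rw [hb', Nat.add_sub_cancel] at hsum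
    have h5 : e * e ≤ (2 * b' + 3) * e := Nat.mul_le_mul_right _ (by omega)
    have h6 : b' * (2 * e) + (4 * e + 1) = (2 * b' + 3) * e + e + 1 := by ring
    rw [pow_two] at hm
    omega
  have hb1 : 1 ≤ b := by omega
  obtain ⟨χ₀, hχ₀⟩ := Finset.card_pos.1 (show 0 < (T.D.Xs (-1)).card from hb1)
  have hq2 : T.q = 2 := by
    have h1 := T.dvd_deg_X (T.D.mem_Xs.1 hχ₀).1 (T.D.mem_Xs.1 hχ₀).2.2
    rw [hdm χ₀ hχ₀] at h1
    rcases T.hq.dvd_mul.1 h1 with h | h
    · exact (Nat.prime_dvd_prime_iff_eq T.hq Nat.prime_two).1 h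
    · exact absurd (hg0 ▸ h) T.hqg
  have heodd : ¬ 2 ∣ e := fun h => T.hqg (hq2 ▸ hg0 ▸ h)
  have hab2 : a = b ∧ e = 2 * b + 1 := by omega
  have hSmeq : Sm = b * (2 * e) := by
    rw [hSmdef, Finset.sum_congr rfl hdm, Finset.sum_const, smul_eq_mul]
  have hSpeq : Sp = a * (p + 1) := by
    have h1 : e + b * (2 * e) = 1 + b * (2 * e + 1 + 1) := by
      rw [hab2.2]; ring
    rw [hSmeq] at hrel
    rw [hab2.1, hpet, mul_comm e 2]
    omega
  have hdp : ∀ χ ∈ T.D.Xs 1, charDegree (χ : G → ℂ) = p + 1 := by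
    have h1 : ∑ _χ ∈ T.D.Xs 1, (p + 1) = ∑ χ ∈ T.D.Xs 1, charDegree (χ : G → ℂ) := by
      rw [Finset.sum_const, smul_eq_mul, ← ha, ← hSpdef, hSpeq]
    exact fun χ hχ => ((Finset.sum_eq_sum_iff_of_le fun ψ hψ => T.deg_ge_plus hψ).1 h1 χ hχ).symm
  have ha1 : 1 ≤ a := by omega
  obtain ⟨χ₁, hχ₁⟩ := Finset.card_pos.1 (show 0 < (T.D.Xs 1).card from ha1)
  have heg := T.e_mul_g
  rw [hg0, hq2] at heg
  have hgB : T.D.g = 2 ^ T.B := Nat.eq_of_mul_eq_mul_left (show 0 < e by omega) (by rw [heg, mul_comm])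
  have hdvd : p + 1 ∣ 2 ^ T.B := by
    have h1 := T.D.deg_dvd_X (T.D.mem_Xs.1 hχ₁).1
    rw [hdp χ₁ hχ₁, hgB] at h1
    refine Nat.Coprime.dvd_of_dvd_mul_left ?_ h1
    rw [show p + 1 = 2 * (e + 1) by omega]
    exact Nat.Coprime.mul_left (Nat.prime_two.coprime_iff_not_dvd.2 heodd)
      (by rw [add_comm]; exact Nat.coprime_add_self_left.2 (Nat.coprime_one_left e))
  obtain ⟨M, hMB, hM⟩ := (Nat.dvd_prime_pow Nat.prime_two).1 hdvd
  have he3 : 3 ≤ e := by omega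
  have hM3 : 3 ≤ M := by
    by_contra h
    have : 2 ^ M ≤ 2 ^ 2 := Nat.pow_le_pow_right two_pos (by omega)
    omega
  obtain ⟨M₂, hM₂⟩ := exists_isPModular T.hq
  have hcong := T.qcong' hM₂
  have hfilter : (T.D.Xs 1 ∪ T.D.Xs (-1)).filter (fun χ => χ ∈ principalBlock M₂ G) =
      (T.D.Xs (-1)).filter (fun χ => χ ∈ principalBlock M₂ G) := by
    ext χ
    simp only [Finset.mem_filter, Finset.mem_union]
    refine ⟨fun ⟨h, h'⟩ => ⟨h.resolve_left fun h1 => ?_, h'⟩, fun ⟨h, h'⟩ => ⟨Or.inr h, h'⟩⟩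
    exact T.not_mem_pow hM₂ (i := M) (by omega) (by rw [hdp χ h1, hM, hq2]) h'
  rw [hfilter, Finset.sum_congr rfl (g := fun _ => -((2 * e : ℕ) : ℤ)) (fun χ hχ => by
      have h1 := (Finset.mem_filter.1 hχ).1
      rw [(T.D.mem_Xs.1 h1).2.1, hdm χ h1, neg_one_mul]),
    Finset.sum_const, nsmul_eq_mul, hε, ht, hd, hq2] at hcong
  set x := ((T.D.Xs (-1)).filter (fun χ => χ ∈ principalBlock M₂ G)).card with hxdef
  set j := (T.D.Y.filter fun χ => χ ∈ principalBlock M₂ G).card with hjdef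
  have hx : x ≤ b := Finset.card_filter_le _ _
  have hj : j ≤ 2 := (Finset.card_filter_le _ _).trans (le_of_eq (T.D.cardY.trans ht))
  have hpow : 2 ^ M = 4 * 2 ^ (M - 2) := by
    rw [show (4 : ℕ) = 2 ^ 2 from rfl, ← pow_add, Nat.add_sub_cancel' (by omega)]
  have hpow1 : 2 ^ (M - 1) = 2 * 2 ^ (M - 2) := by
    rw [← pow_succ', show M - 2 + 1 = M - 1 by omega]
  have hbM : b + 1 = 2 ^ (M - 2) := by omega
  have h4B : (4 : ℤ) ∣ ((2 ^ T.B : ℕ) : ℤ) :=
    Int.natCast_dvd_natCast.2 (pow_dvd_pow 2 (show 2 ≤ T.B by omega))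
  have hj2 : j = 2 := by
    have h1 := h4B.trans hcong
    obtain ⟨k, hk⟩ := h1
    have hodd : e % 2 = 1 := by omega
    obtain ⟨f, hf⟩ : ∃ f : ℕ, e = 2 * f + 1 := ⟨e / 2, by omega⟩
    rw [hf] at hk
    push_cast at hk
    rcases (show j = 0 ∨ j = 1 ∨ j = 2 by omega) with h | h | h
    · rw [h] at hk; push_cast at hk; ring_nf at hk; omega
    · rw [h] at hk; push_cast at hk; ring_nf at hk; omega
    · exact h
  have heM : (e : ℤ) = (2 : ℤ) ^ (M - 1) - 1 := by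
    have : ((e + 1 : ℕ) : ℤ) = ((2 ^ (M - 1) : ℕ) : ℤ) := congrArg _ (by omega)
    push_cast at this
    linarith
  have hB : T.B ≤ M + 1 := by
    refine PQArith.bound_mersenne (x := x) hM3 (by omega) ?_
    refine hcong.trans (dvd_of_eq ?_)
    rw [hj2]
    push_cast
    rw [heM, show (2 : ℤ) ^ (M - 1) = 2 * (2 : ℤ) ^ (M - 2) by exact_mod_cast hpow1]
    ring
  have hgn : T.D.g % p = 1 := by
    have h := card_sylow_modEq_one p G
    rwa [Nat.ModEq, Nat.one_mod_eq_one.2 hp.out.ne_one] at h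
  have hBM : T.B = M := by
    rcases (show T.B = M ∨ T.B = M + 1 by omega) with h | h
    · exact h
    · exfalso
      rw [hgB, h, pow_succ, ← hM, show (p + 1) * 2 = 2 + p * 2 by ring,
        Nat.add_mul_mod_self_left, Nat.mod_eq_of_lt (by omega)] at hgn
      omega
  refine ⟨M, Or.inr (by omega), ?_⟩
  rw [hgB, hBM, ← hM]
  nlinarith

end Cfsg.Agent.H86.PQ
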