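import Cfsg.Agent.H86.FixedTable
import Cfsg.Agent.H86.IrrOps
import Cfsg.Agent.BlockBasic.Local
import Cfsg.Prelude.Def_Blocks

/-!
# Coprime action: invariant real characters and invariant real classes are equinumerous
-/

open scoped ComplexConjugate
open Cfsg.Agent.CharBasic

namespace Cfsg.Agent.H86

variable {K : Type*} [Group K]

theorem isConj_out (g : K) : IsConj (ConjClasses.mk g).out g :=
  ConjClasses.mk_eq_mk_iff_isConj.1 (Quotient.out_eq _)

theorem irr_out (θ : Cfsg.IrrCharacter K) (g : K) :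
    (θ : K → ℂ) (ConjClasses.mk g).out = (θ : K → ℂ) g := by
  obtain ⟨x, hx⟩ := isConj_iff.1 (isConj_out g)
  conv_rhs => rw [← hx]
  exact (IsIrr.isClassFunction θ.2 _ x).symm

theorem isConj_inv {g h : K} (e : IsConj g h) : IsConj g⁻¹ h⁻¹ := by
  obtain ⟨x, rfl⟩ := isConj_iff.1 e
  exact isConj_iff.2 ⟨x, by group⟩

/-- Inversion on conjugacy classes. -/
noncomputable def invClass (c : ConjClasses K) : ConjClasses K := ConjClasses.mk c.out⁻¹

theorem invClass_mk (g : K) : invClass (ConjClasses.mk g) = ConjClasses.mk g⁻¹ :=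
  ConjClasses.mk_eq_mk_iff_isConj.2 (isConj_inv (isConj_out g))

theorem invClass_invClass : Function.Involutive (invClass (K := K)) := by
  intro c
  obtain ⟨g, rfl⟩ := ConjClasses.exists_rep c
  rw [invClass_mk, invClass_mk, inv_inv]

variable [Finite K]

theorem card_carrier_mul (g : K) :
    Nat.card {k : K // ConjClasses.mk k = ConjClasses.mk g} *
      Nat.card (Subgroup.centralizer ({g} : Set K)) = Nat.card K := by
  haveI := Fintype.ofFinite K
  have h := MulAction.index_stabilizer (ConjAct K) g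
  have e : Nat.card {k : K // ConjClasses.mk k = ConjClasses.mk g} =
      (MulAction.orbit (ConjAct K) g).ncard := by
    rw [← Nat.card_coe_set_eq]
    refine Nat.card_congr (Equiv.subtypeEquivRight fun k => ?_)
    rw [ConjAct.mem_orbit_conjAct, ConjClasses.mk_eq_mk_iff_isConj]
  have e2 : (MulAction.stabilizer (ConjAct K) g).index =
      (Subgroup.centralizer ({g} : Set K)).index := by
    rw [Subgroup.index, Subgroup.index]
    refine Nat.card_congr (Quotient.congr ConjAct.ofConjAct.toEquiv fun a b => ?_)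
    rw [QuotientGroup.leftRel_apply, QuotientGroup.leftRel_apply,
      Subgroup.mem_centralizer_singleton_iff, MulAction.mem_stabilizer_iff, ConjAct.smul_def,
      mul_inv_eq_iff_eq_mul]
    simp
  rw [e, ← h, e2, mul_comm, Subgroup.card_mul_index]

variable {p : ℕ} [Fact p.Prime]

/-- **Main count.** -/
theorem card_real_fixed_eq (hK : ¬ p ∣ Nat.card K) {A : Type*} [Group A] (hA : IsPGroup p A)
    (α : A →* MulAut K) :
    Nat.card {θ : Cfsg.IrrCharacter K // (∀ k, ((θ : K → ℂ) k).im = 0) ∧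
        ∀ (a : A) (k : K), (θ : K → ℂ) (α a k) = (θ : K → ℂ) k} =
      Nat.card {c : ConjClasses K // (∀ k, ConjClasses.mk k = c → IsConj k k⁻¹) ∧
        ∀ k, ConjClasses.mk k = c → ∀ a : A, ConjClasses.mk (α a k) = c} := by
  classical
  haveI := Fintype.ofFinite K
  haveI : Finite (ConjClasses K) := Finite.of_surjective _ ConjClasses.mk_surjective
  haveI := Fintype.ofFinite (ConjClasses K)
  obtain ⟨M, hM⟩ := BlockBasic.exists_isPModular (p := p) Fact.out
  haveI := hM.2.1
  letI : Field (Cfsg.AlgInt ⧸ M) := Ideal.Quotient.field M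
  let red : Cfsg.AlgInt →+* Cfsg.AlgInt ⧸ M := Ideal.Quotient.mk M
  haveI : CharP (Cfsg.AlgInt ⧸ M) p := ⟨fun n => by
    rw [← BlockBasic.natCast_mem_iff hM n, ← Ideal.Quotient.eq_zero_iff_mem, map_natCast]⟩
  have hKne : ((Nat.card K : ℕ) : Cfsg.AlgInt ⧸ M) ≠ 0 := by
    rw [ne_eq, CharP.cast_eq_zero_iff _ p]; exact hK
  -- actions
  letI : MulAction A (ConjClasses K) :=
    { smul := fun a c => ConjClasses.map (α a).toMonoidHom c
      one_smul := fun c => by
        obtain ⟨g, rfl⟩ := ConjClasses.exists_rep c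
        show ConjClasses.mk (α 1 g) = _
        rw [map_one]; rfl
      mul_smul := fun a b c => by
        obtain ⟨g, rfl⟩ := ConjClasses.exists_rep c
        show ConjClasses.mk (α (a * b) g) = ConjClasses.mk (α a (α b g))
        rw [map_mul]; rfl }
  letI : MulAction A (Cfsg.IrrCharacter K) :=
    { smul := fun a θ => ⟨fun k => (θ : K → ℂ) ((α a).symm k), isIrr_comp_equiv θ.2 (α a).symm⟩
      one_smul := fun θ => by
        apply Subtype.ext; funext k
        show (θ : K → ℂ) ((α 1).symm k) = _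
        rw [map_one]; rfl
      mul_smul := fun a b θ => by
        apply Subtype.ext; funext k
        show (θ : K → ℂ) ((α (a * b)).symm k) = (θ : K → ℂ) ((α b).symm ((α a).symm k))
        rw [map_mul]; rfl }
  let σ : Cfsg.IrrCharacter K → Cfsg.IrrCharacter K :=
    fun θ => ⟨fun k => conj ((θ : K → ℂ) k), isIrr_conj θ.2⟩
  have hsmulC : ∀ (a : A) g, a • ConjClasses.mk g = ConjClasses.mk (α a g) := fun _ _ => rfl
  have hsmulI : ∀ (a : A) (θ : Cfsg.IrrCharacter K) k,
      ((a • θ : Cfsg.IrrCharacter K) : K → ℂ) k = (θ : K → ℂ) ((α a).symm k) := fun _ _ _ => rfl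
  -- tables
  let val : Cfsg.IrrCharacter K → K → Cfsg.AlgInt :=
    fun θ g => ⟨(θ : K → ℂ) g, IsChar.isIntegral (IsIrr.isCharacter θ.2) g⟩
  let X : Matrix (Cfsg.IrrCharacter K) (ConjClasses K) (Cfsg.AlgInt ⧸ M) :=
    fun θ c => red (val θ c.out)
  let sz : ConjClasses K → ℕ := fun c => Nat.card {k : K // ConjClasses.mk k = c}
  let Y : Matrix (ConjClasses K) (Cfsg.IrrCharacter K) (Cfsg.AlgInt ⧸ M) :=
    fun c θ => red (val (σ θ) c.out) * (sz c : Cfsg.AlgInt ⧸ M) *
      ((Nat.card K : ℕ) : Cfsg.AlgInt ⧸ M)⁻¹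
  have hvalout : ∀ θ g, val θ (ConjClasses.mk g).out = val θ g := fun θ g =>
    Subtype.ext (irr_out θ g)
  have hXY : X * Y = 1 := by
    ext θ θ'
    rw [Matrix.mul_apply]
    have h1 : ∑ c, val θ c.out * val (σ θ') c.out * (sz c : Cfsg.AlgInt) =
        if θ = θ' then (Nat.card K : Cfsg.AlgInt) else 0 := by
      apply Subtype.ext
      have h2 := classInner_irrCharacter θ θ'
      rw [classInner_def] at h2
      have h3 : ∑ k : K, (θ : K → ℂ) k * conj ((θ' : K → ℂ) k) =
          if θ = θ' then (Nat.card K : ℂ) else 0 := by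
        have hne : (Nat.card K : ℂ) ≠ 0 := by simp [Nat.card_pos.ne']
        field_simp at h2
        rw [h2]; split_ifs <;> simp
      rw [← Finset.sum_fiberwise_of_maps_to (t := Finset.univ) (g := ConjClasses.mk)
        (fun k _ => Finset.mem_univ _)] at h3
      calc _ = ∑ c, (θ : K → ℂ) c.out * conj ((θ' : K → ℂ) c.out) * (sz c : ℂ) := by
            push_cast
            rfl
        _ = _ := by
            refine Eq.trans ?_ (h3.trans ?_)
            · refine Finset.sum_congr rfl fun c _ => ?_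
              rw [Finset.sum_congr rfl (g := fun _ => (θ : K → ℂ) c.out * conj ((θ' : K → ℂ) c.out))
                (fun k hk => ?_), Finset.sum_const, nsmul_eq_mul, mul_comm]
              · simp [sz, Nat.card_eq_fintype_card, Fintype.card_subtype]
              · rw [← (Finset.mem_filter.1 hk).2, irr_out, irr_out]
            · split_ifs <;> simp
    calc ∑ c, X θ c * Y c θ' = red (∑ c, val θ c.out * val (σ θ') c.out * (sz c : Cfsg.AlgInt)) *
          ((Nat.card K : ℕ) : Cfsg.AlgInt ⧸ M)⁻¹ := by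
            simp only [map_sum, map_mul, map_natCast, Finset.sum_mul, X, Y, mul_assoc]
      _ = _ := by
            rw [h1, Matrix.one_apply]
            split_ifs with h
            · rw [map_natCast, mul_inv_cancel₀ hKne]
            · rw [map_zero, zero_mul]
  have hcard : Fintype.card (Cfsg.IrrCharacter K) = Fintype.card (ConjClasses K) := by
    rw [← Nat.card_eq_fintype_card, ← Nat.card_eq_fintype_card, card_irrCharacter]
  have hYX : Y * X = 1 :=
    (Matrix.mul_eq_one_comm_of_equiv (Fintype.equivOfCardEq hcard)).1 hXY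
  have hXeq : ∀ (a : A) θ c, X (a • θ) (a • c) = X θ c := by
    intro a θ c
    obtain ⟨g, rfl⟩ := ConjClasses.exists_rep c
    simp only [X, hsmulC, hvalout]
    congr 1
    apply Subtype.ext
    show ((a • θ : Cfsg.IrrCharacter K) : K → ℂ) (α a g) = _
    rw [hsmulI, MulEquiv.symm_apply_apply]
  have hszA : ∀ (a : A) c, sz (a • c) = sz c := by
    intro a c
    obtain ⟨g, rfl⟩ := ConjClasses.exists_rep c
    refine (Nat.card_congr (Equiv.subtypeEquiv (α a).toEquiv fun k => ?_)).symm
    rw [hsmulC, ConjClasses.mk_eq_mk_iff_isConj, ConjClasses.mk_eq_mk_iff_isConj]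
    refine ⟨fun h => (α a).toMonoidHom.map_isConj h, fun h => ?_⟩
    simpa using (α a).symm.toMonoidHom.map_isConj h
  have hσA : ∀ (a : A) θ, σ (a • θ) = a • σ θ := fun a θ => rfl
  have hYeq : ∀ (a : A) c θ, Y (a • c) (a • θ) = Y c θ := by
    intro a c θ
    have := hXeq a (σ θ) c
    simp only [X] at this
    simp only [Y, hσA, hszA, this]
  have hτA : ∀ (a : A) (c : ConjClasses K), invClass (a • c) = a • invClass c := by
    intro a c
    obtain ⟨g, rfl⟩ := ConjClasses.exists_rep c
    rw [hsmulC, invClass_mk, invClass_mk, hsmulC, map_inv]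
  have hσσ : Function.Involutive σ := fun θ => Subtype.ext (funext fun k => Complex.conj_conj _)
  have hXs : ∀ θ c, X (σ θ) (invClass c) = X θ c := by
    intro θ c
    obtain ⟨g, rfl⟩ := ConjClasses.exists_rep c
    simp only [X, invClass_mk, hvalout]
    congr 1
    apply Subtype.ext
    show conj ((θ : K → ℂ) g⁻¹) = (θ : K → ℂ) g
    rw [IsChar.inv_apply (IsIrr.isCharacter θ.2), Complex.conj_conj]
  have hszS : ∀ c, sz (invClass c) = sz c := by
    intro c
    obtain ⟨g, rfl⟩ := ConjClasses.exists_rep c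
    refine Nat.card_congr (Equiv.subtypeEquiv (Equiv.inv K) fun k => ?_)
    rw [invClass_mk, ConjClasses.mk_eq_mk_iff_isConj, ConjClasses.mk_eq_mk_iff_isConj]
    exact ⟨fun h => by simpa using isConj_inv h, fun h => by simpa using isConj_inv h⟩
  have hYs : ∀ θ c, Y (invClass c) (σ θ) = Y c θ := by
    intro θ c
    have := hXs (σ θ) c
    simp only [X] at this
    simp only [Y, hszS, this]
  have main := card_fixed_eq hA X Y hXY hYX hXeq hYeq σ invClass hσσ invClass_invClass hσA hτA
    hXs hYs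
  refine Eq.trans (Nat.card_congr (Equiv.subtypeEquivRight fun θ => ?_))
    (main.trans (Nat.card_congr (Equiv.subtypeEquivRight fun c => ?_)))
  · refine and_congr ?_ ⟨fun h a => ?_, fun h a k => ?_⟩
    · rw [Subtype.ext_iff, funext_iff]
      exact forall_congr' fun k => Complex.conj_eq_iff_im.symm
    · apply Subtype.ext; funext k
      rw [hsmulI]
      have := h a ((α a).symm k)
      rwa [MulEquiv.apply_symm_apply, eq_comm] at this
    · conv_lhs => rw [← h a]
      rw [hsmulI, MulEquiv.symm_apply_apply]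
  · obtain ⟨g, rfl⟩ := ConjClasses.exists_rep c
    refine and_congr ⟨fun h k hk => ?_, fun h => ?_⟩ ⟨fun h k hk a => ?_, fun h a => h g rfl a⟩
    · have e : ConjClasses.mk k⁻¹ = ConjClasses.mk g := by rw [← invClass_mk, hk, h]
      exact ConjClasses.mk_eq_mk_iff_isConj.1 (hk.trans e.symm)
    · rw [invClass_mk]
      exact (ConjClasses.mk_eq_mk_iff_isConj.2 (h g rfl)).symm
    · rw [← hsmulC, hk, h a]

/-- If a p-group fixes all real characters, each real class has a fixed element. -/
theorem exists_fixed_of_fixes_real (hK : ¬ p ∣ Nat.card K) {A : Type*} [Group A] (hA : IsPGroup p A)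
    (α : A →* MulAut K)
    (h : ∀ θ : Cfsg.IrrCharacter K, (∀ k, ((θ : K → ℂ) k).im = 0) →
      ∀ (a : A) (k : K), (θ : K → ℂ) (α a k) = (θ : K → ℂ) k)
    (k : K) (hk : IsConj k k⁻¹) : ∃ k', IsConj k k' ∧ ∀ a : A, α a k' = k' := by
  classical
  have h1 := card_real_fixed_eq hK hA α
  have h0 := card_real_fixed_eq (K := K) hK (A := Unit) (p := p) (IsPGroup.of_card (n := 0) (by simp)) 1
  have e : Nat.card {θ : Cfsg.IrrCharacter K // (∀ k, ((θ : K → ℂ) k).im = 0) ∧
        ∀ (a : A) (k : K), (θ : K → ℂ) (α a k) = (θ : K → ℂ) k} =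
      Nat.card {θ : Cfsg.IrrCharacter K // (∀ k, ((θ : K → ℂ) k).im = 0) ∧
        ∀ (a : Unit) (k : K), (θ : K → ℂ) ((1 : Unit →* MulAut K) a k) = (θ : K → ℂ) k} :=
    Nat.card_congr (Equiv.subtypeEquivRight fun θ =>
      ⟨fun h => ⟨h.1, fun _ _ => rfl⟩, fun h' => ⟨h'.1, h θ h'.1⟩⟩)
  rw [h1, h0] at e
  haveI : Finite (ConjClasses K) := Finite.of_surjective _ ConjClasses.mk_surjective
  let ι : {c : ConjClasses K // (∀ k, ConjClasses.mk k = c → IsConj k k⁻¹) ∧
        ∀ k, ConjClasses.mk k = c → ∀ a : A, ConjClasses.mk (α a k) = c} →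
      {c : ConjClasses K // (∀ k, ConjClasses.mk k = c → IsConj k k⁻¹) ∧
        ∀ k, ConjClasses.mk k = c → ∀ a : Unit,
          ConjClasses.mk ((1 : Unit →* MulAut K) a k) = c} :=
    fun c => ⟨c.1, c.2.1, fun k hk _ => hk⟩
  have hι : Function.Bijective ι :=
    (Function.Injective.bijective_of_nat_card_le (f := ι)
      (fun a b hab => Subtype.ext (congrArg Subtype.val hab :)) e.ge)
  obtain ⟨⟨c, hc1, hc2⟩, hc⟩ := hι.2 ⟨ConjClasses.mk k, fun k' hk' => by
      obtain ⟨x, rfl⟩ := isConj_iff.1 (ConjClasses.mk_eq_mk_iff_isConj.1 hk')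
      have := (isConj_iff.2 ⟨x⁻¹, by group⟩ : IsConj (x * k' * x⁻¹) k')
      exact (this.symm.trans hk).trans (isConj_inv this), fun k' hk' _ => hk'⟩
  have hc' : c = ConjClasses.mk k := congrArg Subtype.val hc
  subst hc'
  letI : MulAction A {k' : K // ConjClasses.mk k' = ConjClasses.mk k} :=
    { smul := fun a x => ⟨α a x.1, hc2 x.1 x.2 a⟩
      one_smul := fun x => Subtype.ext (show α 1 x.1 = x.1 by rw [map_one]; rfl)
      mul_smul := fun a b x => Subtype.ext
        (show α (a * b) x.1 = α a (α b x.1) by rw [map_mul]; rfl) }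
  obtain ⟨x, hx⟩ := hA.nonempty_fixed_point_of_prime_not_dvd_card
    {k' : K // ConjClasses.mk k' = ConjClasses.mk k}
    (fun hd => hK (hd.trans ⟨_, (card_carrier_mul k).symm⟩))
  exact ⟨x.1, (ConjClasses.mk_eq_mk_iff_isConj.1 x.2).symm, fun a => congrArg Subtype.val (hx a)⟩

end Cfsg.Agent.H86
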