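import Cfsg.Agent.H86.PrimeOrderBlock
import Cfsg.Agent.CharInduce.Ops
import Mathlib.RingTheory.IntegralDomain

/-!
# A self-centralizing subgroup of prime order: multiplicities on the normalizer

`P` has order `p`, equals its centralizer and `N = P E`.  For a character `χ` the function
`fixFun χ` on `E` is the character of `E` on the fixed points of `P`; `mlt χ l` are its
multiplicities, `fixDim χ` their sum.
-/

set_option linter.unusedSectionVars false
set_option linter.style.haveILetI false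

open scoped ComplexConjugate

namespace Cfsg.Agent.H86.FewSylow

open CharBasic Subgroup

universe u

/-- A self-centralizing Sylow subgroup of order `p` with a complement in its normalizer. -/
structure SC (G : Type u) [Group G] (p : ℕ) where
  P : Sylow p G
  card_P : Nat.card (P : Subgroup G) = p
  hC : centralizer ((P : Subgroup G) : Set G) = P
  E : Subgroup G
  E_le : E ≤ normalizer ((P : Subgroup G) : Set G)
  inf_eq : (P : Subgroup G) ⊓ E = ⊥
  dec : ∀ n ∈ normalizer ((P : Subgroup G) : Set G), ∃ u ∈ (P : Subgroup G), ∃ y ∈ E, n = u * y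

variable {G : Type u} [Group G] [Fintype G] {p : ℕ} [hp : Fact p.Prime]

theorem exists_sc (P : Sylow p G) (hP : Nat.card P = p)
    (hC : centralizer ((P : Subgroup G) : Set G) = P) : ∃ S : SC G p, S.P = P := by
  obtain ⟨L, hLP, hLN⟩ := TraceQ.exists_frame P hP
  refine ⟨⟨P, hP, hC, L.H, hLN ▸ L.H_le, ?_, fun n hn => ?_⟩, rfl⟩
  · refine Subgroup.inf_eq_bot_of_coprime ?_
    rw [show Nat.card (P : Subgroup G) = p from hP]
    exact hp.out.coprime_iff_not_dvd.2 L.card_H
  · obtain ⟨u, hu, h, hh, e⟩ := L.dec n (hLN ▸ hn)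
    exact ⟨u, hLP ▸ hu, h, hh, e⟩

/-- A subgroup of a finite group is a finite type. -/
noncomputable scoped instance fintypeSubgroup (H : Subgroup G) : Fintype H := Fintype.ofFinite _

variable (S : SC G p)

/-- The normalizer. -/
abbrev SC.N : Subgroup G := normalizer ((S.P : Subgroup G) : Set G)

theorem P_le : (S.P : Subgroup G) ≤ S.N := le_normalizer

theorem conj_mem {n u : G} (hn : n ∈ S.N) (hu : u ∈ (S.P : Subgroup G)) :
    n * u * n⁻¹ ∈ (S.P : Subgroup G) :=
  (mem_normalizer_iff.1 hn u).1 hu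

theorem eq_one_of_mem {x : G} (h1 : x ∈ (S.P : Subgroup G)) (h2 : x ∈ S.E) : x = 1 := by
  have : x ∈ (S.P : Subgroup G) ⊓ S.E := ⟨h1, h2⟩
  rwa [S.inf_eq, mem_bot] at this

theorem dec_unique {u u' y y' : G} (hu : u ∈ (S.P : Subgroup G)) (hu' : u' ∈ (S.P : Subgroup G))
    (hy : y ∈ S.E) (hy' : y' ∈ S.E) (h : u * y = u' * y') : u = u' ∧ y = y' := by
  have h1 : u'⁻¹ * u = y' * y⁻¹ := by
    rw [eq_mul_inv_iff_mul_eq, mul_assoc, h, inv_mul_cancel_left]
  have h2 := eq_one_of_mem S (mul_mem (inv_mem hu') hu) (h1 ▸ mul_mem hy' (inv_mem hy))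
  have h3 : u = u' := (inv_mul_eq_one.1 h2).symm
  exact ⟨h3, mul_left_cancel (h3 ▸ h : u' * y = u' * y')⟩

/-- The decomposition of the normalizer. -/
noncomputable def decEquiv : ↥(S.P : Subgroup G) × ↥S.E ≃ S.N :=
  Equiv.ofBijective (fun a => ⟨(a.1 : G) * a.2, mul_mem (P_le S a.1.2) (S.E_le a.2.2)⟩)
    ⟨fun a b h => by
      obtain ⟨h1, h2⟩ := dec_unique S a.1.2 b.1.2 a.2.2 b.2.2 (congrArg Subtype.val h)
      exact Prod.ext (Subtype.ext h1) (Subtype.ext h2),
    fun n => by
      obtain ⟨u, hu, y, hy, e⟩ := S.dec n n.2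
      exact ⟨(⟨u, hu⟩, ⟨y, hy⟩), Subtype.ext e.symm⟩⟩

theorem decEquiv_apply (a : ↥(S.P : Subgroup G) × ↥S.E) :
    ((decEquiv S a : S.N) : G) = (a.1 : G) * a.2 := rfl

theorem card_N : Nat.card S.N = p * Nat.card S.E := by
  rw [← Nat.card_congr (decEquiv S), Nat.card_prod, S.card_P]

theorem card_G : Nat.card G = p * Nat.card S.E * Nat.card (Sylow p G) := by
  rw [← card_N, Sylow.card_eq_index_normalizer S.P]
  exact (Subgroup.card_mul_index S.N).symm

theorem not_dvd_card_E : ¬ p ∣ Nat.card S.E := by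
  intro h
  obtain ⟨y, hy⟩ := exists_prime_orderOf_dvd_card' p h
  have hyG : orderOf (y : G) = p := (Subgroup.orderOf_coe y).trans hy
  have hpg : IsPGroup p (zpowers (y : G)) :=
    IsPGroup.of_card (n := 1) (by rw [Nat.card_zpowers, hyG, pow_one])
  have hyP : (y : G) ∈ (S.P : Subgroup G) :=
    (le_of_eq (hpg.inf_normalizer_sylow S.P) ⟨mem_zpowers _, S.E_le y.2⟩).2
  rw [eq_one_of_mem S hyP y.2, orderOf_one] at hyG
  exact hp.out.ne_one hyG.symm

theorem not_dvd_orderOf {y : G} (hy : y ∈ S.E) : ¬ p ∣ orderOf y := fun h =>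
  not_dvd_card_E S (h.trans ((dvd_of_eq (Subgroup.orderOf_coe (⟨y, hy⟩ : S.E))).trans
    (orderOf_dvd_natCard _)))

theorem eq_one_of_commute {y u : G} (hy : y ∈ S.E) (hy1 : y ≠ 1) (hu : u ∈ (S.P : Subgroup G))
    (h : y * u = u * y) : u = 1 := by
  by_contra hu1
  have hle : zpowers u = (S.P : Subgroup G) := by
    refine eq_of_le_of_card_ge (zpowers_le.2 hu) ?_
    have hd := S.card_P ▸ orderOf_dvd_natCard (G := (S.P : Subgroup G)) ⟨u, hu⟩
    rw [Subgroup.orderOf_mk] at hd
    rw [Nat.card_zpowers, S.card_P]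
    rcases (Nat.dvd_prime hp.out).1 hd with e | e
    · exact absurd (orderOf_eq_one_iff.1 e) hu1
    · exact e.ge
  have hyC : y ∈ centralizer ((S.P : Subgroup G) : Set G) := by
    refine mem_centralizer_iff.2 fun v hv => ?_
    rw [SetLike.mem_coe, ← hle] at hv
    obtain ⟨i, rfl⟩ := hv
    exact ((Commute.symm h).zpow_left i).eq
  rw [S.hC] at hyC
  exact hy1 (eq_one_of_mem S hyC hy)

theorem exists_conj {u y : G} (hu : u ∈ (S.P : Subgroup G)) (hy : y ∈ S.E) (hy1 : y ≠ 1) :
    ∃ v ∈ (S.P : Subgroup G), v * y * v⁻¹ = u * y := by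
  have hmem : ∀ v : (S.P : Subgroup G), (v : G) * (y * (v : G)⁻¹ * y⁻¹) ∈ (S.P : Subgroup G) :=
    fun v => mul_mem v.2 (conj_mem S (S.E_le hy) (inv_mem v.2))
  let f : ↥(S.P : Subgroup G) → ↥(S.P : Subgroup G) := fun v => ⟨_, hmem v⟩
  have hinj : Function.Injective f := by
    intro a b hab
    have h : (a : G) * (y * (a : G)⁻¹ * y⁻¹) = (b : G) * (y * (b : G)⁻¹ * y⁻¹) :=
      congrArg Subtype.val hab
    have h' : (b : G)⁻¹ * (a : G) * y = y * ((b : G)⁻¹ * a) := by
      calc (b : G)⁻¹ * (a : G) * y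
          = (b : G)⁻¹ * ((a : G) * (y * (a : G)⁻¹ * y⁻¹)) * (y * a) := by group
        _ = (b : G)⁻¹ * ((b : G) * (y * (b : G)⁻¹ * y⁻¹)) * (y * a) := by rw [h]
        _ = y * ((b : G)⁻¹ * a) := by group
    exact Subtype.ext (inv_mul_eq_one.1
      (eq_one_of_commute S hy hy1 (mul_mem (inv_mem b.2) a.2) h'.symm)).symm
  obtain ⟨v, hv⟩ := Finite.surjective_of_injective hinj ⟨u, hu⟩
  refine ⟨v, v.2, ?_⟩
  have h : (v : G) * (y * (v : G)⁻¹ * y⁻¹) = u := congrArg Subtype.val hv
  rw [← h]; group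

theorem apply_mul {χ : G → ℂ} (hχ : IsClassFunction G χ) {u y : G}
    (hu : u ∈ (S.P : Subgroup G)) (hy : y ∈ S.E) (hy1 : y ≠ 1) : χ (u * y) = χ y := by
  obtain ⟨v, -, hv⟩ := exists_conj S hu hy hy1
  rw [← hv, hχ]

theorem eq_of_isConj_mem {u y : G} (hu : u ∈ (S.P : Subgroup G)) (hy : y ∈ S.E) (h : IsConj u y) :
    u = 1 ∧ y = 1 := by
  obtain ⟨c, hc⟩ := isConj_iff.1 h
  have ho : orderOf u = orderOf y := by
    rw [← hc, ← MulAut.conj_apply, MulEquiv.orderOf_eq]
  have hd := S.card_P ▸ orderOf_dvd_natCard (G := (S.P : Subgroup G)) ⟨u, hu⟩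
  rw [Subgroup.orderOf_mk] at hd
  rcases (Nat.dvd_prime hp.out).1 hd with e | e
  · exact ⟨orderOf_eq_one_iff.1 e, orderOf_eq_one_iff.1 (ho ▸ e)⟩
  · exact absurd (ho ▸ e ▸ dvd_rfl) (not_dvd_orderOf S hy)

/-- The projection of the normalizer to the complement. -/
noncomputable def proj : S.N →* S.E where
  toFun n := ((decEquiv S).symm n).2
  map_one' := by
    have h : decEquiv S (1, 1) = 1 := Subtype.ext (by simp [decEquiv_apply])
    rw [← h, Equiv.symm_apply_apply]
  map_mul' n m := by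
    obtain ⟨⟨u, y⟩, rfl⟩ := (decEquiv S).surjective n
    obtain ⟨⟨v, z⟩, rfl⟩ := (decEquiv S).surjective m
    have h : decEquiv S (u * ⟨(y : G) * v * (y : G)⁻¹, conj_mem S (S.E_le y.2) v.2⟩, y * z) =
        decEquiv S (u, y) * decEquiv S (v, z) := Subtype.ext (by
      simp only [decEquiv_apply, Subgroup.coe_mul]; group)
    rw [← h, Equiv.symm_apply_apply, Equiv.symm_apply_apply, Equiv.symm_apply_apply]

theorem proj_decEquiv (a : ↥(S.P : Subgroup G) × ↥S.E) : proj S (decEquiv S a) = a.2 :=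
  congrArg Prod.snd ((decEquiv S).symm_apply_apply a)

theorem isCyclic_E : IsCyclic S.E := by
  obtain ⟨ν, hν⟩ := TraceQ.exists_hom S.P S.card_P (ZMod p)
  let f : S.E →* (ZMod p)ˣ := ν.toHomUnits.comp (Subgroup.inclusion S.E_le)
  refine isCyclic_of_injective f ((injective_iff_map_eq_one f).2 fun y hy => ?_)
  have h : Subgroup.inclusion S.E_le y ∈ ν.toHomUnits.ker := MonoidHom.mem_ker.2 hy
  rw [hν, mem_subgroupOf, S.hC] at h
  exact Subtype.ext (eq_one_of_mem S h y.2)

theorem comm_E : IsMulCommutative S.E :=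
  @IsCyclic.isMulCommutative _ _ (isCyclic_E S)

theorem card_E_dvd : Nat.card S.E ∣ p - 1 := by
  obtain ⟨ν, hν⟩ := TraceQ.exists_hom S.P S.card_P (ZMod p)
  let f : S.E →* (ZMod p)ˣ := ν.toHomUnits.comp (Subgroup.inclusion S.E_le)
  have hinj : Function.Injective f := (injective_iff_map_eq_one f).2 fun y hy => by
    have h : Subgroup.inclusion S.E_le y ∈ ν.toHomUnits.ker := MonoidHom.mem_ker.2 hy
    rw [hν, mem_subgroupOf, S.hC] at h
    exact Subtype.ext (eq_one_of_mem S h y.2)
  have h := Subgroup.card_dvd_of_injective f hinj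
  rwa [Nat.card_eq_fintype_card (α := (ZMod p)ˣ), ZMod.card_units] at h

theorem relIndex_eq : (centralizer ((S.P : Subgroup G) : Set G)).relIndex S.N = Nat.card S.E := by
  have h := Subgroup.card_mul_index ((S.P : Subgroup G).subgroupOf S.N)
  rw [Nat.card_congr (subgroupOfEquivOfLe (P_le S)).toEquiv, S.card_P, card_N] at h
  rw [S.hC]
  exact Nat.eq_of_mul_eq_mul_left hp.out.pos h

/-! ### Multiplicities -/

/-- The character of `E` on the fixed points of `P`. -/
noncomputable def fixFun (χ : G → ℂ) (y : S.E) : ℂ :=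
  (p : ℂ)⁻¹ * ∑ u : (S.P : Subgroup G), χ ((u : G) * (y : G))

theorem fixFun_ne {χ : G → ℂ} (hχ : IsClassFunction G χ) {y : S.E} (hy : y ≠ 1) :
    fixFun S χ y = χ (y : G) := by
  rw [fixFun, Finset.sum_congr rfl (g := fun _ => χ (y : G)) fun u _ =>
    apply_mul S hχ u.2 y.2 fun e => hy (Subtype.ext e), Finset.sum_const, Finset.card_univ,
    ← Nat.card_eq_fintype_card, S.card_P, nsmul_eq_mul, ← mul_assoc,
    inv_mul_cancel₀ (Nat.cast_ne_zero.2 hp.out.ne_zero), one_mul]

theorem fixFun_one (χ : G → ℂ) :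
    fixFun S χ 1 = (p : ℂ)⁻¹ * ∑ u : (S.P : Subgroup G), χ (u : G) := by
  simp [fixFun]

theorem exists_mlt {χ : G → ℂ} (hχ : IsCharacter G χ) (l : IrrCharacter S.E) :
    ∃ m : ℕ, classInner (fixFun S χ) (l : S.E → ℂ) = (m : ℂ) := by
  haveI := comm_E S
  obtain ⟨f, hf⟩ := CharInduce.IsChar.exists_hom_of_degree_one (IsIrr.isCharacter l.2)
    (H85.apply_one_eq_one_of_comm l)
  have hlc : IsCharacter S.N fun n => (l : S.E → ℂ) (proj S n) := by
    have h := IsIrr.isCharacter (H82.isIrrCharacter_hom ((Units.coeHom ℂ).comp (f.comp (proj S))))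
    simpa [← hf] using h
  obtain ⟨m, hm⟩ := classInner_isChar_nat (isCharacter_comp hχ S.N.subtype) hlc
  refine ⟨m, ?_⟩
  rw [← hm, classInner_def, classInner_def, card_N, ← Equiv.sum_comp (decEquiv S),
    Fintype.sum_prod_type, Finset.sum_comm]
  simp only [fixFun, proj_decEquiv, Subgroup.coe_subtype, decEquiv_apply]
  rw [Nat.cast_mul, mul_inv, mul_comm (p : ℂ)⁻¹, mul_assoc, Finset.mul_sum]
  rw [← Finset.mul_sum]
  congr 1
  rw [Finset.mul_sum]
  refine Finset.sum_congr rfl fun y _ => ?_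
  rw [mul_assoc, Finset.sum_mul]

/-- The multiplicities. -/
noncomputable def mlt (χ : IrrCharacter G) (l : IrrCharacter S.E) : ℕ :=
  (exists_mlt S (IsIrr.isCharacter χ.2) l).choose

theorem mlt_spec (χ : IrrCharacter G) (l : IrrCharacter S.E) :
    (mlt S χ l : ℂ) = classInner (fixFun S (χ : G → ℂ)) (l : S.E → ℂ) :=
  (exists_mlt S (IsIrr.isCharacter χ.2) l).choose_spec.symm

theorem fixFun_expand (χ : IrrCharacter G) (y : S.E) :
    fixFun S (χ : G → ℂ) y = ∑ l : IrrCharacter S.E, (mlt S χ l : ℂ) * (l : S.E → ℂ) y := by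
  haveI := comm_E S
  have hcl : IsClassFunction S.E (fixFun S (χ : G → ℂ)) := fun a b => by
    rw [mul_comm' b a, mul_inv_cancel_right]
  have h := congrFun (classFunction_expansion hcl) y
  simp only [Finset.sum_apply, Pi.smul_apply, smul_eq_mul, ← mlt_spec] at h
  exact h

/-- The dimension of the fixed points. -/
noncomputable def fixDim (χ : IrrCharacter G) : ℕ := ∑ l : IrrCharacter S.E, mlt S χ l

theorem fixDim_spec (χ : IrrCharacter G) : (fixDim S χ : ℂ) = fixFun S (χ : G → ℂ) 1 := by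
  haveI := comm_E S
  rw [fixFun_expand, fixDim, Nat.cast_sum]
  exact Finset.sum_congr rfl fun l _ => by rw [H85.apply_one_eq_one_of_comm l, mul_one]

theorem mlt_le_fixDim (χ : IrrCharacter G) (l : IrrCharacter S.E) : mlt S χ l ≤ fixDim S χ :=
  Finset.single_le_sum (fun l _ => Nat.zero_le _) (Finset.mem_univ l)

theorem mul_fixDim (χ : IrrCharacter G) :
    (p : ℂ) * (fixDim S χ : ℂ) = ∑ u : (S.P : Subgroup G), (χ : G → ℂ) (u : G) := by
  rw [fixDim_spec, fixFun_one, ← mul_assoc, mul_inv_cancel₀ (Nat.cast_ne_zero.2 hp.out.ne_zero),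
    one_mul]

open scoped Classical in
theorem sum_lin_mul_conj (y y' : S.E) :
    ∑ l : IrrCharacter S.E, (l : S.E → ℂ) y * conj ((l : S.E → ℂ) y') =
      if y = y' then (Nat.card S.E : ℂ) else 0 := by
  haveI := comm_E S
  split_ifs with h
  · subst h
    rw [second_orthogonality_self]
    congr 1
    rw [show centralizer ({y} : Set S.E) = ⊤ from eq_top_iff.2 fun z _ =>
      mem_centralizer_singleton_iff.2 (mul_comm' z y), Subgroup.card_top]
  · refine second_orthogonality_not_isConj fun hc => h ?_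
    obtain ⟨c, hc⟩ := isConj_iff.1 hc
    rw [← hc, mul_comm' c y, mul_inv_cancel_right]

theorem parseval (χ : IrrCharacter G) :
    ∑ l : IrrCharacter S.E, ((mlt S χ l : ℂ)) ^ 2 = (Nat.card S.E : ℂ)⁻¹ *
      ∑ y : S.E, fixFun S (χ : G → ℂ) y * conj (fixFun S (χ : G → ℂ) y) := by
  classical
  have h : ∑ y : S.E, fixFun S (χ : G → ℂ) y * conj (fixFun S (χ : G → ℂ) y) =
      ∑ l : IrrCharacter S.E, (mlt S χ l : ℂ) *
        ((Nat.card S.E : ℂ) * conj (classInner (fixFun S (χ : G → ℂ)) (l : S.E → ℂ))) := by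
    conv_lhs => arg 2; intro y; arg 1; rw [fixFun_expand]
    simp only [Finset.sum_mul]
    rw [Finset.sum_comm]
    refine Finset.sum_congr rfl fun l _ => ?_
    simp only [mul_assoc, ← Finset.mul_sum]
    rw [classInner_def, map_mul, map_inv₀, Complex.conj_natCast,
      ← mul_assoc (Nat.card S.E : ℂ), mul_inv_cancel₀
      (Nat.cast_ne_zero.2 (Nat.card_pos (α := S.E)).ne' : (Nat.card S.E : ℂ) ≠ 0), one_mul, map_sum]
    refine congrArg _ (Finset.sum_congr rfl fun y _ => ?_)
    rw [map_mul, Complex.conj_conj, mul_comm]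
  rw [h, Finset.mul_sum]
  refine Finset.sum_congr rfl fun l _ => ?_
  rw [← mlt_spec, Complex.conj_natCast, mul_left_comm, ← mul_assoc (Nat.card S.E : ℂ)⁻¹,
    inv_mul_cancel₀ (Nat.cast_ne_zero.2 Nat.card_pos.ne'), one_mul, sq]

/-! ### Sums over all irreducible characters -/

theorem sum_apply_mul_not_isConj {a b : G} (h : ¬ IsConj a b) :
    ∑ χ : IrrCharacter G, (χ : G → ℂ) a * conj ((χ : G → ℂ) b) = 0 :=
  second_orthogonality_not_isConj h

theorem sum_fixDim_apply {y : S.E} (hy : y ≠ 1) :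
    ∑ χ : IrrCharacter G, (fixDim S χ : ℂ) * conj ((χ : G → ℂ) (y : G)) = 0 := by
  simp only [fixDim_spec, fixFun_one, mul_assoc, Finset.sum_mul, ← Finset.mul_sum]
  rw [Finset.sum_comm, Finset.sum_eq_zero, mul_zero]
  intro u _
  exact second_orthogonality_not_isConj fun hc =>
    hy (Subtype.ext (eq_of_isConj_mem S u.2 y.2 hc).2)

theorem sum_degree_mul_mlt (l : IrrCharacter S.E) :
    ∑ χ : IrrCharacter G, charDegree (χ : G → ℂ) * mlt S χ l = Nat.card (Sylow p G) := by
  classical
  haveI := comm_E S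
  apply Nat.cast_injective (R := ℂ)
  have hy : ∀ y : S.E, ∑ χ : IrrCharacter G, (χ : G → ℂ) 1 * fixFun S (χ : G → ℂ) y =
      if y = 1 then (Nat.card S.E : ℂ) * Nat.card (Sylow p G) else 0 := by
    intro y
    simp only [fixFun, Finset.mul_sum, mul_left_comm _ (p : ℂ)⁻¹]
    rw [Finset.sum_comm]
    simp only [← Finset.mul_sum]
    have hval : ∀ a : G, ∑ χ : IrrCharacter G, (χ : G → ℂ) 1 * (χ : G → ℂ) a =
        if a = 1 then (Nat.card G : ℂ) else 0 := by
      intro a
      convert sum_degree_mul_apply (G := G) a using 1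
    simp only [hval]
    by_cases h : y = 1
    · subst h
      rw [if_pos rfl, Finset.sum_eq_single (1 : (S.P : Subgroup G))
        (fun u _ hu => if_neg (by simpa using hu)) (fun h => absurd (Finset.mem_univ _) h),
        if_pos (by simp), card_G S]
      push_cast
      field_simp [hp.out.ne_zero]
    · rw [if_neg h, Finset.sum_eq_zero, mul_zero]
      intro u _
      refine if_neg fun e => h (Subtype.ext ?_)
      exact eq_one_of_mem S (eq_inv_of_mul_eq_one_right e ▸ inv_mem u.2) y.2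
  push_cast
  simp only [mlt_spec, classInner_def, ← BlockBasic.apply_one_eq_charDegree, Finset.mul_sum,
    mul_left_comm _ (Nat.card S.E : ℂ)⁻¹]
  rw [Finset.sum_comm]
  simp only [← Finset.mul_sum, ← mul_assoc ((_ : IrrCharacter G).1 1), ← Finset.sum_mul, hy,
    ite_mul, zero_mul]
  rw [Finset.sum_ite_eq' Finset.univ (1 : S.E), if_pos (Finset.mem_univ _),
    H85.apply_one_eq_one_of_comm l, map_one, mul_one, ← mul_assoc,
    inv_mul_cancel₀ (Nat.cast_ne_zero.2 Nat.card_pos.ne'), one_mul]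

theorem card_sylow_mod : Nat.card (Sylow p G) % p = 1 := by
  have h := card_sylow_modEq_one p G
  rw [Nat.ModEq, Nat.one_mod_eq_one.2 hp.out.ne_one] at h
  exact h

/-- The number `n` with `1 + n p` Sylow subgroups. -/
noncomputable def nn (_S : SC G p) : ℕ := Nat.card (Sylow p G) / p

theorem card_sylow_eq : Nat.card (Sylow p G) = 1 + nn S * p := by
  have h := Nat.div_add_mod' (Nat.card (Sylow p G)) p
  rw [card_sylow_mod] at h
  show _ = 1 + Nat.card (Sylow p G) / p * p
  omega

theorem sum_fixDim_sq :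
    ∑ χ : IrrCharacter G, (fixDim S χ : ℂ) ^ 2 = (Nat.card S.E : ℂ) * (nn S + 1) := by
  classical
  have hpt : ∀ u : (S.P : Subgroup G), ∑ v : (S.P : Subgroup G),
      (Nat.card {x : G // x * (v : G) * x⁻¹ = (u : G)} : ℂ) =
      if u = 1 then (Nat.card G : ℂ) else (Nat.card S.N : ℂ) := by
    intro u
    rw [← Nat.cast_sum, ← Nat.card_sigma]
    by_cases hu : u = 1
    · subst hu
      rw [if_pos rfl]
      congr 1
      refine Nat.card_congr
        { toFun := fun a => a.2.1
          invFun := fun x => ⟨1, x, by simp⟩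
          left_inv := fun ⟨v, x, hx⟩ => ?_
          right_inv := fun x => rfl }
      obtain rfl : v = 1 := Subtype.ext (by simpa using hx)
      rfl
    · rw [if_neg hu]
      congr 1
      refine Nat.card_congr
        { toFun := fun a => ⟨a.2.1, ?_⟩
          invFun := fun x => ⟨⟨(x : G)⁻¹ * (u : G) * x, by
            simpa using conj_mem S (inv_mem x.2) u.2⟩, x, by group⟩
          left_inv := fun ⟨v, x, hx⟩ => ?_
          right_inv := fun x => rfl }
      · have hu1 : (u : G) ≠ 1 := fun e => hu (Subtype.ext e)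
        obtain ⟨v, x, hx⟩ := a
        have hv1 : (v : G) ≠ 1 := fun e => hu1 (by rw [← hx, e]; group)
        have hgen : ∀ w : (S.P : Subgroup G), (w : G) ≠ 1 → zpowers (w : G) = (S.P : Subgroup G) := by
          intro w hw
          refine eq_of_le_of_card_ge (zpowers_le.2 w.2) ?_
          have hd := S.card_P ▸ orderOf_dvd_natCard w
          rw [Nat.card_zpowers, S.card_P, Subgroup.orderOf_coe]
          rcases (Nat.dvd_prime hp.out).1 hd with e | e
          · exact absurd (congrArg Subtype.val (orderOf_eq_one_iff.1 e)) hw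
          · exact e.ge
        have hmap : (S.P : Subgroup G).map (MulAut.conj x).toMonoidHom = (S.P : Subgroup G) := by
          conv_lhs => rw [← hgen v hv1]
          rw [MonoidHom.map_zpowers]
          simpa [hx] using hgen u hu1
        show x ∈ normalizer ((S.P : Subgroup G) : Set G)
        refine mem_normalizer_iff.2 fun w => ?_
        conv_rhs => rw [← hmap]
        constructor
        · intro hw; exact ⟨w, hw, by simp⟩
        · rintro ⟨w', hw', he⟩
          rwa [← (MulAut.conj x).injective he]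
      · refine Sigma.subtype_ext (Subtype.ext ?_) rfl
        show x⁻¹ * (u : G) * x = v
        rw [← hx]; group
  have h : ∑ χ : IrrCharacter G, (fixDim S χ : ℂ) ^ 2 = (p : ℂ)⁻¹ * (p : ℂ)⁻¹ *
      ∑ u : (S.P : Subgroup G), ∑ v : (S.P : Subgroup G),
        ∑ χ : IrrCharacter G, (χ : G → ℂ) (u : G) * conj ((χ : G → ℂ) (v : G)) := by
    have : ∀ χ : IrrCharacter G, (fixDim S χ : ℂ) ^ 2 = (p : ℂ)⁻¹ * (p : ℂ)⁻¹ *
        ((∑ u : (S.P : Subgroup G), (χ : G → ℂ) (u : G)) *
          conj (∑ v : (S.P : Subgroup G), (χ : G → ℂ) (v : G))) := by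
      intro χ
      rw [← mul_fixDim, map_mul, Complex.conj_natCast, Complex.conj_natCast]
      field_simp [hp.out.ne_zero]
    simp only [this, ← Finset.mul_sum]
    congr 1
    simp only [map_sum, Finset.sum_mul_sum]
    rw [Finset.sum_comm]
    exact Finset.sum_congr rfl fun u _ => Finset.sum_comm
  rw [h]
  simp only [second_orthogonality_count, hpt]
  rw [← Finset.add_sum_erase _ _ (Finset.mem_univ (1 : (S.P : Subgroup G))), if_pos rfl,
    Finset.sum_congr rfl fun u hu => if_neg (Finset.ne_of_mem_erase hu), Finset.sum_const,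
    Finset.card_erase_of_mem (Finset.mem_univ _), Finset.card_univ, ← Nat.card_eq_fintype_card,
    S.card_P, card_N, card_G S, card_sylow_eq S, nsmul_eq_mul]
  push_cast [Nat.cast_sub hp.out.one_le]
  field_simp [hp.out.ne_zero]
  ring

theorem sum_fixDim_mlt (l : IrrCharacter S.E) :
    ∑ χ : IrrCharacter G, fixDim S χ * mlt S χ l = nn S + 1 := by
  classical
  haveI := comm_E S
  apply Nat.cast_injective (R := ℂ)
  push_cast
  simp only [mlt_spec, classInner_def, Finset.mul_sum, mul_left_comm _ (Nat.card S.E : ℂ)⁻¹]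
  rw [Finset.sum_comm]
  simp only [← Finset.mul_sum]
  rw [← Finset.add_sum_erase _ _ (Finset.mem_univ (1 : S.E))]
  have h1 : ∀ y ∈ Finset.univ.erase (1 : S.E),
      ∑ χ : IrrCharacter G, (fixDim S χ : ℂ) * (fixFun S (χ : G → ℂ) y * conj ((l : S.E → ℂ) y)) = 0 := by
    intro y hy
    have h := congrArg conj (sum_fixDim_apply S (Finset.ne_of_mem_erase hy))
    simp only [map_sum, map_mul, Complex.conj_natCast, Complex.conj_conj, map_zero] at h
    simp only [fixFun_ne S (IsIrr.isClassFunction (_ : IrrCharacter G).2) (Finset.ne_of_mem_erase hy),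
      ← mul_assoc, ← Finset.sum_mul, h, zero_mul]
  rw [Finset.sum_eq_zero h1, add_zero]
  simp only [← fixDim_spec, H85.apply_one_eq_one_of_comm l, map_one, mul_one, ← sq]
  rw [sum_fixDim_sq, ← mul_assoc, inv_mul_cancel₀ (Nat.cast_ne_zero.2 Nat.card_pos.ne'), one_mul]

open scoped Classical in
/-- The centralizer orders from the multiplicities. -/
theorem sum_mlt_sq :
    (Nat.card S.E : ℂ) * ∑ χ : IrrCharacter G, ∑ l : IrrCharacter S.E, (mlt S χ l : ℂ) ^ 2 =
      (Nat.card S.E : ℂ) * (nn S + 1) +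
        ∑ y ∈ (Finset.univ : Finset S.E).erase 1,
          (Nat.card (centralizer ({(y : G)} : Set G)) : ℂ) := by
  classical
  simp only [parseval, Finset.mul_sum, ← mul_assoc,
    mul_inv_cancel₀ (Nat.cast_ne_zero.2 (Nat.card_pos (α := S.E)).ne' : (Nat.card S.E : ℂ) ≠ 0),
    one_mul]
  rw [Finset.sum_comm, ← Finset.add_sum_erase _ _ (Finset.mem_univ (1 : S.E))]
  refine congrArg₂ _ ?_ (Finset.sum_congr rfl fun y hy => ?_)
  · rw [← sum_fixDim_sq]
    refine Finset.sum_congr rfl fun χ _ => ?_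
    rw [← fixDim_spec, Complex.conj_natCast, sq]
  · simp only [fixFun_ne S (IsIrr.isClassFunction (_ : IrrCharacter G).2) (Finset.ne_of_mem_erase hy)]
    exact second_orthogonality_self _

end Cfsg.Agent.H86.FewSylow
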