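import Mathlib

/-!
# Coprime self-dual modules: symplectic plus orthogonal decomposition
-/

set_option autoImplicit false

namespace Cfsg.Agent.H86.SelfDual

variable {F : Type*} [Field F] {G : Type*} [Group G] {V : Type*} [AddCommGroup V] [Module F V]
  (ρ : Representation F G V)

/-- Invariant subspace. -/
def Inv (U : Submodule F V) : Prop := ∀ g : G, ∀ u ∈ U, ρ g u ∈ U

/-- Invariance of a form. -/
def FInv (B : LinearMap.BilinForm F V) : Prop := ∀ g : G, ∀ x y : V, B (ρ g x) (ρ g y) = B x y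

/-- Simple invariant subspace. -/
def Simple (S : Submodule F V) : Prop :=
  S ≠ ⊥ ∧ Inv ρ S ∧ ∀ T : Submodule F V, T ≤ S → Inv ρ T → T = ⊥ ∨ T = S

/-- Right nondegeneracy on a subspace. -/
def RND (B : LinearMap.BilinForm F V) (X : Submodule F V) : Prop :=
  ∀ x ∈ X, (∀ y ∈ X, B y x = 0) → x = 0

/-- The subspace carries a good alternating form. -/
def GoodAlt (U : Submodule F V) : Prop :=
  ∃ A : LinearMap.BilinForm F V, (∀ x, A x x = 0) ∧
    (∀ g : G, ∀ x ∈ U, ∀ y ∈ U, A (ρ g x) (ρ g y) = A x y) ∧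
    (∀ x ∈ U, (∀ y ∈ U, A x y = 0) → x = 0)

/-- The subspace carries a good symmetric form. -/
def GoodSym (W : Submodule F V) : Prop :=
  ∃ S : LinearMap.BilinForm F V, (∀ x y, S x y = S y x) ∧
    (∀ g : G, ∀ x ∈ W, ∀ y ∈ W, S (ρ g x) (ρ g y) = S x y) ∧
    (∀ x ∈ W, (∀ y ∈ W, S x y = 0) → x = 0)

variable {ρ}

theorem inv_cancel_left (g : G) (x : V) : ρ g⁻¹ (ρ g x) = x := by
  rw [← Module.End.mul_apply, ← map_mul, inv_mul_cancel, map_one, Module.End.one_apply]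

theorem inv_cancel_right (g : G) (x : V) : ρ g (ρ g⁻¹ x) = x := by
  rw [← Module.End.mul_apply, ← map_mul, mul_inv_cancel, map_one, Module.End.one_apply]

theorem inv_bot : Inv ρ (⊥ : Submodule F V) := fun g u hu => by
  rw [Submodule.mem_bot] at hu ⊢; rw [hu, map_zero]

theorem inv_sup {U W : Submodule F V} (hU : Inv ρ U) (hW : Inv ρ W) : Inv ρ (U ⊔ W) := by
  intro g u hu
  obtain ⟨a, ha, b, hb, rfl⟩ := Submodule.mem_sup.1 hu
  rw [map_add]
  exact Submodule.add_mem_sup (hU g a ha) (hW g b hb)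

theorem inv_inf {U W : Submodule F V} (hU : Inv ρ U) (hW : Inv ρ W) : Inv ρ (U ⊓ W) :=
  fun g _ hu => ⟨hU g _ hu.1, hW g _ hu.2⟩

theorem goodAlt_bot : GoodAlt ρ (⊥ : Submodule F V) :=
  ⟨0, fun _ => rfl, fun _ _ _ _ _ => rfl, fun _ hx _ => (Submodule.mem_bot F).1 hx⟩

theorem goodSym_bot : GoodSym ρ (⊥ : Submodule F V) :=
  ⟨0, fun _ _ => rfl, fun _ _ _ _ _ => rfl, fun _ hx _ => (Submodule.mem_bot F).1 hx⟩

theorem exists_proj {U W : Submodule F V} (h : Disjoint U W) :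
    ∃ π : V →ₗ[F] V, (∀ x ∈ U, π x = x) ∧ ∀ x ∈ W, π x = 0 := by
  obtain ⟨C, hC⟩ := Submodule.exists_isCompl (U ⊔ W)
  have h2 : IsCompl U (W ⊔ C) := by
    refine ⟨h.disjoint_sup_right_of_disjoint_sup_left hC.disjoint, ?_⟩
    rw [codisjoint_iff, ← sup_assoc]
    exact hC.codisjoint.eq_top
  exact ⟨Submodule.projection _ _ h2, fun x hx => Submodule.projection_apply_left h2 ⟨x, hx⟩,
    fun x hx => (Submodule.projection_apply_eq_zero_iff h2).2 (Submodule.mem_sup_left hx)⟩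

/-- Gluing of two forms on independent subspaces. -/
theorem glue {U₁ U₂ : Submodule F V} (h : Disjoint U₁ U₂) (h1 : Inv ρ U₁) (h2 : Inv ρ U₂)
    (A₁ A₂ : LinearMap.BilinForm F V)
    (i1 : ∀ g : G, ∀ x ∈ U₁, ∀ y ∈ U₁, A₁ (ρ g x) (ρ g y) = A₁ x y)
    (i2 : ∀ g : G, ∀ x ∈ U₂, ∀ y ∈ U₂, A₂ (ρ g x) (ρ g y) = A₂ x y)
    (n1 : ∀ x ∈ U₁, (∀ y ∈ U₁, A₁ x y = 0) → x = 0)
    (n2 : ∀ x ∈ U₂, (∀ y ∈ U₂, A₂ x y = 0) → x = 0) :
    ∃ π₁ π₂ : V →ₗ[F] V,
      (∀ g : G, ∀ x ∈ U₁ ⊔ U₂, ∀ y ∈ U₁ ⊔ U₂,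
        A₁ (π₁ (ρ g x)) (π₁ (ρ g y)) + A₂ (π₂ (ρ g x)) (π₂ (ρ g y)) =
          A₁ (π₁ x) (π₁ y) + A₂ (π₂ x) (π₂ y)) ∧
      (∀ x ∈ U₁ ⊔ U₂, (∀ y ∈ U₁ ⊔ U₂, A₁ (π₁ x) (π₁ y) + A₂ (π₂ x) (π₂ y) = 0) → x = 0) := by
  obtain ⟨π₁, p11, p12⟩ := exists_proj h
  obtain ⟨π₂, p22, p21⟩ := exists_proj h.symm
  refine ⟨π₁, π₂, ?_, ?_⟩
  · intro g x hx y hy
    obtain ⟨a, ha, b, hb, rfl⟩ := Submodule.mem_sup.1 hx
    obtain ⟨a', ha', b', hb', rfl⟩ := Submodule.mem_sup.1 hy
    simp only [map_add, p11 _ ha, p12 _ hb, p22 _ hb, p21 _ ha, p11 _ ha', p12 _ hb', p22 _ hb',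
      p21 _ ha', p11 _ (h1 g _ ha), p12 _ (h2 g _ hb), p22 _ (h2 g _ hb), p21 _ (h1 g _ ha),
      p11 _ (h1 g _ ha'), p12 _ (h2 g _ hb'), p22 _ (h2 g _ hb'), p21 _ (h1 g _ ha'),
      add_zero, zero_add, i1 g a ha a' ha', i2 g b hb b' hb']
  · intro x hx hz
    obtain ⟨a, ha, b, hb, rfl⟩ := Submodule.mem_sup.1 hx
    have e1 : a = 0 := n1 a ha fun y hy => by
      simpa [p11 _ ha, p12 _ hb, p22 _ hb, p21 _ ha, p11 _ hy, p21 _ hy] using
        hz y (Submodule.mem_sup_left hy)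
    have e2 : b = 0 := n2 b hb fun y hy => by
      simpa [p11 _ ha, p12 _ hb, p22 _ hb, p21 _ ha, p12 _ hy, p22 _ hy] using
        hz y (Submodule.mem_sup_right hy)
    rw [e1, e2, add_zero]

theorem goodAlt_sup {U₁ U₂ : Submodule F V} (h : Disjoint U₁ U₂) (h1 : Inv ρ U₁) (h2 : Inv ρ U₂)
    (g1 : GoodAlt ρ U₁) (g2 : GoodAlt ρ U₂) : GoodAlt ρ (U₁ ⊔ U₂) := by
  obtain ⟨A₁, a1, i1, n1⟩ := g1
  obtain ⟨A₂, a2, i2, n2⟩ := g2
  obtain ⟨π₁, π₂, hi, hn⟩ := glue h h1 h2 A₁ A₂ i1 i2 n1 n2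
  exact ⟨A₁.compl₁₂ π₁ π₁ + A₂.compl₁₂ π₂ π₂, fun x => by simp [a1, a2],
    fun g x hx y hy => by simpa using hi g x hx y hy,
    fun x hx hz => hn x hx fun y hy => by simpa using hz y hy⟩

theorem goodSym_sup {U₁ U₂ : Submodule F V} (h : Disjoint U₁ U₂) (h1 : Inv ρ U₁) (h2 : Inv ρ U₂)
    (g1 : GoodSym ρ U₁) (g2 : GoodSym ρ U₂) : GoodSym ρ (U₁ ⊔ U₂) := by
  obtain ⟨A₁, a1, i1, n1⟩ := g1
  obtain ⟨A₂, a2, i2, n2⟩ := g2
  obtain ⟨π₁, π₂, hi, hn⟩ := glue h h1 h2 A₁ A₂ i1 i2 n1 n2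
  exact ⟨A₁.compl₁₂ π₁ π₁ + A₂.compl₁₂ π₂ π₂,
    fun x y => by simp [a1 (π₁ x), a2 (π₂ x)],
    fun g x hx y hy => by simpa using hi g x hx y hy,
    fun x hx hz => hn x hx fun y hy => by simpa using hz y hy⟩

section forms

variable {B : LinearMap.BilinForm F V}

/-- Right orthogonal of a subspace. -/
def rOrth (B : LinearMap.BilinForm F V) (Z : Submodule F V) : Submodule F V :=
  { carrier := {x | ∀ z ∈ Z, B z x = 0}
    add_mem' := fun ha hb z hz => by rw [map_add, ha z hz, hb z hz, add_zero]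
    zero_mem' := fun z _ => map_zero _
    smul_mem' := fun c x hx z hz => by rw [map_smul, hx z hz, smul_zero] }

/-- Left orthogonal of a subspace. -/
def lOrth (B : LinearMap.BilinForm F V) (Z : Submodule F V) : Submodule F V :=
  rOrth B.flip Z

theorem mem_rOrth {Z : Submodule F V} {x : V} : x ∈ rOrth B Z ↔ ∀ z ∈ Z, B z x = 0 := Iff.rfl

theorem mem_lOrth {Z : Submodule F V} {x : V} : x ∈ lOrth B Z ↔ ∀ z ∈ Z, B x z = 0 := Iff.rfl

theorem finv_flip (hB : FInv ρ B) : FInv ρ B.flip := fun g x y => hB g y x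

theorem inv_rOrth (hB : FInv ρ B) {Z : Submodule F V} (hZ : Inv ρ Z) : Inv ρ (rOrth B Z) := by
  intro g x hx z hz
  rw [← inv_cancel_right (ρ := ρ) g z, hB]
  exact hx _ (hZ g⁻¹ z hz)

theorem inv_lOrth (hB : FInv ρ B) {Z : Submodule F V} (hZ : Inv ρ Z) : Inv ρ (lOrth B Z) :=
  inv_rOrth (finv_flip hB) hZ

variable [FiniteDimensional F V]

/-- The restriction map to the dual is onto. -/
theorem rnd_repr {Z : Submodule F V} (h : RND B Z) (φ : V →ₗ[F] F) :
    ∃ z ∈ Z, ∀ y ∈ Z, B y z = φ y := by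
  let f : Z →ₗ[F] Module.Dual F Z :=
    { toFun := fun z => (B.flip (z : V)).comp Z.subtype
      map_add' := fun a b => by ext y; simp
      map_smul' := fun c a => by ext y; simp }
  have hinj : Function.Injective f := by
    intro a b hab
    apply Subtype.ext
    rw [← sub_eq_zero]
    refine h _ (sub_mem a.2 b.2) fun y hy => ?_
    have := LinearMap.congr_fun hab ⟨y, hy⟩
    simpa [f, sub_eq_zero] using this
  obtain ⟨z, hz⟩ :=
    (LinearMap.injective_iff_surjective_of_finrank_eq_finrank Subspace.dual_finrank_eq.symm).1 hinj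
      (φ.comp Z.subtype)
  exact ⟨z, z.2, fun y hy => LinearMap.congr_fun hz ⟨y, hy⟩⟩

theorem lnd_of_rnd {X : Submodule F V} (h : RND B X) : RND B.flip X := by
  intro x hx hz
  by_contra hne
  obtain ⟨φ, hφ⟩ := exists_dual_ne_zero hne
  obtain ⟨z, hzX, hz'⟩ := rnd_repr h φ
  exact hφ ((hz' x hx).symm.trans (by simpa using hz z hzX))
where
  exists_dual_ne_zero {x : V} (hx : x ≠ 0) : ∃ φ : V →ₗ[F] F, φ x ≠ 0 := by
    by_contra hcon
    exact hx ((Module.forall_dual_apply_eq_zero_iff F x).1 fun φ => by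
      by_contra h; exact hcon ⟨φ, h⟩)

/-- Orthogonal splitting. -/
theorem split (hB : FInv ρ B) {X Z : Submodule F V} (hX : Inv ρ X) (hXn : RND B X)
    (hZX : Z ≤ X) (hZ : Inv ρ Z) (hZn : RND B Z) :
    Z ⊔ (X ⊓ rOrth B Z) = X ∧ Disjoint Z (X ⊓ rOrth B Z) ∧ Inv ρ (X ⊓ rOrth B Z) ∧
      RND B (X ⊓ rOrth B Z) := by
  have hsup : Z ⊔ (X ⊓ rOrth B Z) = X := by
    refine le_antisymm (sup_le hZX inf_le_left) fun x hx => ?_
    obtain ⟨z, hz, hz'⟩ := rnd_repr hZn (B.flip x)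
    rw [show x = z + (x - z) by abel]
    refine Submodule.add_mem_sup hz ⟨sub_mem hx (hZX hz), fun y hy => ?_⟩
    rw [map_sub, hz' y hy, LinearMap.BilinForm.flip_apply, sub_self]
  refine ⟨hsup, ?_, inv_inf hX (inv_rOrth hB hZ), ?_⟩
  · rw [Submodule.disjoint_def]
    exact fun x hx hx' => hZn x hx hx'.2
  · intro y hy hz
    refine hXn y hy.1 fun x hx => ?_
    rw [← hsup] at hx
    obtain ⟨a, ha, b, hb, rfl⟩ := Submodule.mem_sup.1 hx
    rw [map_add, LinearMap.add_apply, hy.2 a ha, hz b hb, add_zero]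

theorem exists_simple {X : Submodule F V} (hX : Inv ρ X) (hne : X ≠ ⊥) :
    ∃ S ≤ X, Simple ρ S := by
  induction h : Module.finrank F X using Nat.strong_induction_on generalizing X with
  | _ n ih =>
    by_cases hs : ∀ T : Submodule F V, T ≤ X → Inv ρ T → T = ⊥ ∨ T = X
    · exact ⟨X, le_rfl, hne, hX, hs⟩
    · obtain ⟨T, hTX, hT, hT'⟩ : ∃ T, T ≤ X ∧ Inv ρ T ∧ ¬ (T = ⊥ ∨ T = X) := by
        by_contra hcon
        exact hs fun T a b => by by_contra c; exact hcon ⟨T, a, b, c⟩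
      obtain ⟨h1, h2⟩ := not_or.1 hT'
      obtain ⟨S, hS, hS'⟩ := ih _ (h ▸ Submodule.finrank_lt_finrank_of_lt (lt_of_le_of_ne hTX h2))
        hT h1 rfl
      exact ⟨S, hS.trans hTX, hS'⟩

/-- A simple subspace avoiding a proper invariant subspace (Maschke). -/
theorem exists_simple_not_le [Finite G] (hG : (Nat.card G : F) ≠ 0) {X R : Submodule F V}
    (hX : Inv ρ X) (hR : Inv ρ R) (hne : ¬ X ≤ R) : ∃ T ≤ X, Simple ρ T ∧ ¬ T ≤ R := by
  haveI := Fintype.ofFinite G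
  obtain ⟨C, hC⟩ := Submodule.exists_isCompl (X ⊓ R)
  let e : V →ₗ[F] V := (Nat.card G : F)⁻¹ • ∑ g : G, (ρ g) ∘ₗ (Submodule.projection _ _ hC) ∘ₗ (ρ g⁻¹)
  have hmem : ∀ v, e v ∈ X ⊓ R := by
    intro v
    simp only [e, LinearMap.smul_apply, LinearMap.sum_apply, LinearMap.comp_apply]
    exact Submodule.smul_mem _ _ (Submodule.sum_mem _ fun g _ =>
      inv_inf hX hR g _ (Submodule.projection_apply_mem hC _))
  have hfix : ∀ v ∈ X ⊓ R, e v = v := by
    intro v hv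
    simp only [e, LinearMap.smul_apply, LinearMap.sum_apply, LinearMap.comp_apply]
    have : ∀ g : G, ρ g ((Submodule.projection _ _ hC) (ρ g⁻¹ v)) = v := fun g => by
      rw [Submodule.projection_apply_left hC ⟨_, inv_inf hX hR g⁻¹ v hv⟩]
      exact inv_cancel_right g v
    rw [Finset.sum_congr rfl (fun g _ => this g), Finset.sum_const, Finset.card_univ,
      ← Nat.card_eq_fintype_card, ← Nat.cast_smul_eq_nsmul F, smul_smul, inv_mul_cancel₀ hG,
      one_smul]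
  have hcomm : ∀ h v, e (ρ h v) = ρ h (e v) := by
    intro h v
    simp only [e, LinearMap.smul_apply, LinearMap.sum_apply, LinearMap.comp_apply, map_smul, map_sum]
    congr 1
    refine Fintype.sum_equiv (Equiv.mulLeft h⁻¹) _ _ fun g => ?_
    simp only [Equiv.coe_mulLeft, ← Module.End.mul_apply, ← map_mul]
    simp [mul_assoc]
  obtain ⟨x, hxX, hxR⟩ := SetLike.not_le_iff_exists.1 hne
  have hT : Inv ρ (X ⊓ LinearMap.ker e) := fun g u hu => ⟨hX g u hu.1, by
    rw [SetLike.mem_coe, LinearMap.mem_ker, hcomm, LinearMap.mem_ker.1 hu.2, map_zero]⟩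
  have hT0 : X ⊓ LinearMap.ker e ≠ ⊥ := by
    refine (Submodule.ne_bot_iff _).2 ⟨x - e x, ⟨sub_mem hxX (hmem x).1, ?_⟩, ?_⟩
    · rw [SetLike.mem_coe, LinearMap.mem_ker, map_sub, hfix _ (hmem x), sub_self]
    · intro h
      exact hxR (sub_eq_zero.1 h ▸ (hmem x).2)
  obtain ⟨T, hT1, hT2⟩ := exists_simple hT hT0
  refine ⟨T, hT1.trans inf_le_left, hT2, fun hTR => hT2.1 ?_⟩
  rw [Submodule.eq_bot_iff]
  intro t ht
  rw [← hfix t ⟨(hT1 ht).1, hTR ht⟩]
  exact (hT1 ht).2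

theorem simple_inf {S R : Submodule F V} (hS : Simple ρ S) (hR : Inv ρ R) (h : ¬ S ≤ R) :
    S ⊓ R = ⊥ :=
  (hS.2.2 _ inf_le_left (inv_inf hS.2.1 hR)).resolve_right fun e => h (e ▸ inf_le_right)

theorem rnd_simple (hB : FInv ρ B) {S : Submodule F V} (hS : Simple ρ S)
    (h : ∃ x ∈ S, ∃ y ∈ S, B x y ≠ 0) : RND B S := by
  intro x hx hz
  have hni : ¬ S ≤ rOrth B S := by
    obtain ⟨a, ha, b, hb, hab⟩ := h
    exact fun hle => hab (hle hb a ha)
  have := simple_inf hS (inv_rOrth hB hS.2.1) hni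
  have hx' : x ∈ S ⊓ rOrth B S := ⟨hx, hz⟩
  rwa [this, Submodule.mem_bot] at hx'

/-- Classification of the form on a simple subspace. -/
theorem simple_kind (p : ℕ) [Fact p.Prime] [CharP F p] (hB : FInv ρ B) {S : Submodule F V}
    (hS : Simple ρ S) (hn : RND B S) :
    GoodAlt ρ S ∨ (GoodSym ρ S ∧ (p = 2 → ∀ g : G, ∀ w ∈ S, ρ g w = w)) := by
  by_cases hp : p = 2
  · subst hp
    have h2 : ∀ a : F, a + a = 0 := fun a => CharTwo.add_self_eq_zero a
    by_cases hc : ∃ x ∈ S, ∃ y ∈ S, (B + B.flip) x y ≠ 0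
    · refine Or.inl ⟨B + B.flip, fun x => by simp [h2], fun g x _ y _ => by simp [hB g],
        fun x hx hz => ?_⟩
      refine rnd_simple (B := B + B.flip) (fun g a b => by simp [hB g]) hS hc x hx fun y hy => ?_
      have := hz y hy
      simp only [LinearMap.add_apply, LinearMap.BilinForm.flip_apply] at this ⊢
      rw [add_comm]; exact this
    · have hsym : ∀ x ∈ S, ∀ y ∈ S, B x y = B y x := by
        intro x hx y hy
        have : B x y + B y x = 0 := by
          by_contra hne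
          exact hc ⟨x, hx, y, hy, by simpa using hne⟩
        exact CharTwo.add_eq_zero.1 this
      let N : Submodule F V :=
        { carrier := {x | x ∈ S ∧ B x x = 0}
          add_mem' := fun {a b} ha hb => ⟨add_mem ha.1 hb.1, by
            simp only [map_add, LinearMap.add_apply, ha.2, hb.2, zero_add, add_zero,
              hsym b hb.1 a ha.1, h2]⟩
          zero_mem' := ⟨zero_mem _, by simp⟩
          smul_mem' := fun c x hx => ⟨Submodule.smul_mem _ c hx.1, by simp [hx.2]⟩ }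
      rcases hS.2.2 N (fun x hx => hx.1) (fun g x hx => ⟨hS.2.1 g x hx.1, by rw [hB]; exact hx.2⟩)
        with hN | hN
      · right
        have hfixed : ∀ g : G, ∀ w ∈ S, ρ g w = w := by
          intro g w hw
          have : ρ g w + w ∈ N := ⟨add_mem (hS.2.1 g w hw) hw, by
            simp only [map_add, LinearMap.add_apply]
            rw [hB, hsym w hw _ (hS.2.1 g w hw)]
            have := h2 (B w w)
            have := h2 (B (ρ g w) w)
            linear_combination (h2 (B w w)) + (h2 (B (ρ g w) w))⟩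
          rw [hN, Submodule.mem_bot] at this
          rw [eq_neg_of_add_eq_zero_left this, ← neg_one_smul F w, CharTwo.neg_eq, one_smul]
        refine ⟨?_, fun _ => hfixed⟩
        obtain ⟨v, hv, hv0⟩ := (Submodule.ne_bot_iff _).1 hS.1
        have hline : F ∙ v = S := by
          refine (hS.2.2 _ ((Submodule.span_singleton_le_iff_mem _ _).2 hv) fun g u hu => ?_).resolve_left
            (fun h => hv0 (by simpa using h))
          rwa [hfixed g u ((Submodule.span_singleton_le_iff_mem _ _).2 hv hu)]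
        obtain ⟨φ, hφ⟩ := lnd_of_rnd.exists_dual_ne_zero (F := F) hv0
        refine ⟨(LinearMap.mul F F).compl₁₂ φ φ, fun x y => by simp [mul_comm],
          fun g x hx y hy => by rw [hfixed g x hx, hfixed g y hy], fun x hx hz => ?_⟩
        rw [← hline] at hx
        obtain ⟨a, rfl⟩ := Submodule.mem_span_singleton.1 hx
        have := hz v hv
        simp [hφ] at this
        simp [this]
      · left
        obtain ⟨π, hπ, -⟩ := exists_proj (disjoint_bot_right (a := S))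
        obtain ⟨C, hC⟩ := Submodule.exists_isCompl S
        refine ⟨B.compl₁₂ (Submodule.projection _ _ hC) (Submodule.projection _ _ hC), fun x => ?_, fun g x hx y hy => ?_,
          fun x hx hz => lnd_of_rnd hn x hx fun y hy => ?_⟩
        · have := hN.ge (Submodule.projection_apply_mem hC x)
          exact this.2
        · simp [Submodule.projection_apply_left hC ⟨_, hS.2.1 g x hx⟩,
            Submodule.projection_apply_left hC ⟨_, hS.2.1 g y hy⟩,
            Submodule.projection_apply_left hC ⟨_, hx⟩,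
            Submodule.projection_apply_left hC ⟨_, hy⟩, hB g]
        · have := hz y hy
          simpa [Submodule.projection_apply_left hC ⟨_, hx⟩,
            Submodule.projection_apply_left hC ⟨_, hy⟩] using this
  · have h2 : (2 : F) ≠ 0 := by
      intro h
      have : p ∣ 2 := (CharP.cast_eq_zero_iff F p 2).1 (by exact_mod_cast h)
      exact hp ((Nat.prime_dvd_prime_iff_eq Fact.out Nat.prime_two).1 this)
    by_cases hc : ∃ x ∈ S, ∃ y ∈ S, (B + B.flip) x y ≠ 0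
    · refine Or.inr ⟨⟨B + B.flip, fun x y => by simp [add_comm], fun g x _ y _ => by simp [hB g],
        fun x hx hz => ?_⟩, fun h => absurd h hp⟩
      refine rnd_simple (B := B + B.flip) (fun g a b => by simp [hB g]) hS hc x hx fun y hy => ?_
      have := hz y hy
      simp only [LinearMap.add_apply, LinearMap.BilinForm.flip_apply] at this ⊢
      rw [add_comm]; exact this
    · have halt : ∀ x ∈ S, ∀ y ∈ S, B x y = -B y x := by
        intro x hx y hy
        have : B x y + B y x = 0 := by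
          by_contra hne
          exact hc ⟨x, hx, y, hy, by simpa using hne⟩
        exact eq_neg_of_add_eq_zero_left this
      refine Or.inl ⟨B - B.flip, fun x => by simp, fun g x _ y _ => by simp [hB g],
        fun x hx hz => lnd_of_rnd hn x hx fun y hy => ?_⟩
      have := hz y hy
      simp only [LinearMap.sub_apply, LinearMap.BilinForm.flip_apply] at this ⊢
      rw [halt y hy x hx, sub_neg_eq_add, ← two_mul] at this
      exact (mul_eq_zero.1 this).resolve_left h2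

theorem hyperbolic (hB : FInv ρ B) {S T : Submodule F V} (hS : Simple ρ S) (hT : Simple ρ T)
    (hd : Disjoint S T) (hTR : ¬ T ≤ rOrth B S) : GoodAlt ρ (S ⊔ T) := by
  obtain ⟨π, p11, p12⟩ := exists_proj hd
  obtain ⟨τ, q22, q21⟩ := exists_proj hd.symm
  refine ⟨B.compl₁₂ π τ - (B.compl₁₂ π τ).flip, fun x => by simp, ?_, ?_⟩
  · intro g x hx y hy
    obtain ⟨a, ha, b, hb, rfl⟩ := Submodule.mem_sup.1 hx
    obtain ⟨a', ha', b', hb', rfl⟩ := Submodule.mem_sup.1 hy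
    simp [p11 _ ha, p12 _ hb, q22 _ hb, q21 _ ha, p11 _ ha', p12 _ hb', q22 _ hb', q21 _ ha',
      p11 _ (hS.2.1 g _ ha), p12 _ (hT.2.1 g _ hb), q22 _ (hT.2.1 g _ hb), q21 _ (hS.2.1 g _ ha),
      p11 _ (hS.2.1 g _ ha'), p12 _ (hT.2.1 g _ hb'), q22 _ (hT.2.1 g _ hb'),
      q21 _ (hS.2.1 g _ ha'), hB g]
  · intro x hx hz
    obtain ⟨a, ha, b, hb, rfl⟩ := Submodule.mem_sup.1 hx
    have hb0 : b = 0 := by
      have hbm : b ∈ T ⊓ rOrth B S := ⟨hb, fun y hy => by
        simpa [p11 _ ha, p12 _ hb, q22 _ hb, q21 _ ha, p11 _ hy, q21 _ hy] using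
          hz y (Submodule.mem_sup_left hy)⟩
      rwa [simple_inf hT (inv_rOrth hB hS.2.1) hTR, Submodule.mem_bot] at hbm
    have hSL : ¬ S ≤ lOrth B T := fun hle => hTR fun t ht s hs => hle hs t ht
    have ham : a ∈ S ⊓ lOrth B T := ⟨ha, fun y hy => by
      simpa [p11 _ ha, p12 _ hb, q22 _ hb, q21 _ ha, p12 _ hy, q22 _ hy] using
        hz y (Submodule.mem_sup_right hy)⟩
    rw [simple_inf hS (inv_lOrth hB hT.2.1) hSL, Submodule.mem_bot] at ham
    rw [ham, hb0, add_zero]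

/-- A simple subspace pairing with `S` on both sides. -/
theorem exists_pair [Finite G] (hG : (Nat.card G : F) ≠ 0) (hB : FInv ρ B) {X S : Submodule F V}
    (hX : Inv ρ X) (hXn : RND B X) (hSX : S ≤ X) (hS : Simple ρ S) :
    ∃ T ≤ X, Simple ρ T ∧ ¬ T ≤ rOrth B S ∧ ¬ T ≤ lOrth B S := by
  have hR : ¬ X ≤ rOrth B S := by
    obtain ⟨v, hv, hv0⟩ := (Submodule.ne_bot_iff _).1 hS.1
    exact fun hle => hv0 (lnd_of_rnd hXn v (hSX hv) fun y hy => hle hy v hv)
  have hL : ¬ X ≤ lOrth B S := by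
    obtain ⟨v, hv, hv0⟩ := (Submodule.ne_bot_iff _).1 hS.1
    exact fun hle => hv0 (hXn v (hSX hv) fun y hy => hle hy v hv)
  obtain ⟨T₁, hT₁X, hT₁, hT₁R⟩ := exists_simple_not_le hG hX (inv_rOrth hB hS.2.1) hR
  obtain ⟨T₂, hT₂X, hT₂, hT₂L⟩ := exists_simple_not_le hG hX (inv_lOrth hB hS.2.1) hL
  by_cases h1 : T₁ ≤ lOrth B S
  swap; · exact ⟨T₁, hT₁X, hT₁, hT₁R, h1⟩
  by_cases h2 : T₂ ≤ rOrth B S
  swap; · exact ⟨T₂, hT₂X, hT₂, h2, hT₂L⟩
  let α : T₁ →ₗ[F] Module.Dual F S :=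
    { toFun := fun t => (B.flip (t : V)).comp S.subtype
      map_add' := fun a b => by ext; simp
      map_smul' := fun c a => by ext; simp }
  let β : T₂ →ₗ[F] Module.Dual F S :=
    { toFun := fun t => (B (t : V)).comp S.subtype
      map_add' := fun a b => by ext; simp
      map_smul' := fun c a => by ext; simp }
  have hβi : Function.Injective β := by
    rw [← LinearMap.ker_eq_bot, Submodule.eq_bot_iff]
    intro t ht
    have : (t : V) ∈ T₂ ⊓ lOrth B S := ⟨t.2, fun s hs => LinearMap.congr_fun ht ⟨s, hs⟩⟩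
    rw [simple_inf hT₂ (inv_lOrth hB hS.2.1) hT₂L, Submodule.mem_bot] at this
    exact Subtype.ext this
  have hβd : Module.finrank F T₂ = Module.finrank F (Module.Dual F S) := by
    refine le_antisymm (LinearMap.finrank_le_finrank_of_injective hβi) ?_
    rw [Subspace.dual_finrank_eq]
    let γ : S →ₗ[F] Module.Dual F T₂ :=
      { toFun := fun s => (B.flip (s : V)).comp T₂.subtype
        map_add' := fun a b => by ext; simp
        map_smul' := fun c a => by ext; simp }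
    have hγ : Function.Injective γ := by
      rw [← LinearMap.ker_eq_bot, Submodule.eq_bot_iff]
      intro s hs
      have hni : ¬ S ≤ rOrth B T₂ := fun hle => hT₂L fun t ht z hz => hle hz t ht
      have : (s : V) ∈ S ⊓ rOrth B T₂ := ⟨s.2, fun t ht => LinearMap.congr_fun hs ⟨t, ht⟩⟩
      rw [simple_inf hS (inv_rOrth hB hT₂.2.1) hni, Submodule.mem_bot] at this
      exact Subtype.ext this
    exact (LinearMap.finrank_le_finrank_of_injective hγ).trans_eq Subspace.dual_finrank_eq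
  let e : T₂ ≃ₗ[F] Module.Dual F S := LinearMap.linearEquivOfInjective β hβi hβd
  let f : T₁ →ₗ[F] T₂ := e.symm.toLinearMap.comp α
  have hf : ∀ (t : T₁) (s : V), s ∈ S → B (f t : V) s = B s t := by
    intro t s hs
    have : β (f t) = α t := e.apply_symm_apply (α t)
    exact LinearMap.congr_fun this ⟨s, hs⟩
  have hf2 : ∀ (t : T₁) (g : G), (f ⟨ρ g t, hT₁.2.1 g t t.2⟩ : V) = ρ g (f t) := by
    intro t g
    refine congrArg Subtype.val (hβi (a₁ := f ⟨ρ g t, hT₁.2.1 g t t.2⟩)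
      (a₂ := ⟨ρ g (f t), hT₂.2.1 g _ (f t).2⟩) (LinearMap.ext fun s => ?_))
    show B (f ⟨ρ g t, _⟩ : V) s = B (ρ g (f t)) s
    rw [hf _ _ s.2, ← inv_cancel_right (ρ := ρ) g (s : V), hB, hB, hf _ _ (hS.2.1 g⁻¹ _ s.2)]
  let d : T₁ →ₗ[F] V := T₁.subtype + T₂.subtype.comp f
  refine ⟨LinearMap.range d, ?_, ⟨?_, ?_, ?_⟩, ?_, ?_⟩
  · rintro _ ⟨t, rfl⟩
    exact add_mem (hT₁X t.2) (hT₂X (f t).2)
  · intro h
    obtain ⟨t, ht, hns⟩ := SetLike.not_le_iff_exists.1 hT₁R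
    apply hns
    intro s hs
    have hd0 : t + (f ⟨t, ht⟩ : V) = 0 :=
      (Submodule.mem_bot F).1 (h ▸ LinearMap.mem_range_self d (⟨t, ht⟩ : T₁) :)
    have := congrArg (B s) hd0
    rwa [map_add, map_zero, h2 (f ⟨t, ht⟩).2 s hs, add_zero] at this
  · rintro g _ ⟨t, rfl⟩
    refine ⟨⟨ρ g t, hT₁.2.1 g t t.2⟩, ?_⟩
    show ρ g t + _ = ρ g (t + (f t : V))
    rw [map_add, ← hf2]; rfl
  · intro W hW hWi
    let W' : Submodule F V := (W.comap d).map T₁.subtype
    have hW'i : Inv ρ W' := by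
      rintro g _ ⟨t, ht, rfl⟩
      refine ⟨⟨ρ g t, hT₁.2.1 g t t.2⟩, ?_, rfl⟩
      show ρ g t + _ ∈ W
      simp only [LinearMap.comp_apply, Submodule.coe_subtype, hf2]
      rw [← map_add]
      exact hWi g _ ht
    rcases hT₁.2.2 W' (Submodule.map_subtype_le _ _) hW'i with h | h
    · left
      rw [Submodule.eq_bot_iff]
      intro w hw
      obtain ⟨t, rfl⟩ := hW hw
      have : (t : V) ∈ W' := ⟨t, hw, rfl⟩
      rw [h, Submodule.mem_bot] at this
      rw [show t = 0 from Subtype.ext this, map_zero]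
    · right
      refine le_antisymm hW ?_
      rintro _ ⟨t, rfl⟩
      have : (t : V) ∈ W' := h.ge t.2
      obtain ⟨t', ht', e'⟩ := this
      rwa [Subtype.ext e'] at ht'
  · intro hle
    apply hT₁R
    intro t ht s hs
    have := hle (LinearMap.mem_range_self d ⟨t, ht⟩) s hs
    simpa [d, h2 (f ⟨t, ht⟩).2 s hs] using this
  · intro hle
    apply hT₁R
    intro t ht s hs
    have := hle (LinearMap.mem_range_self d ⟨t, ht⟩) s hs
    have e1 : B t s = 0 := h1 ht s hs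
    simpa [d, e1, hf ⟨t, ht⟩ s hs] using this

/-- One step: a right-nondegenerate piece of known type. -/
theorem piece [Finite G] (p : ℕ) [Fact p.Prime] [CharP F p] (hG : (Nat.card G : F) ≠ 0)
    (hB : FInv ρ B) {X : Submodule F V} (hX : Inv ρ X) (hXn : RND B X) (hne : X ≠ ⊥) :
    ∃ Z ≤ X, Z ≠ ⊥ ∧ Inv ρ Z ∧ RND B Z ∧
      (GoodAlt ρ Z ∨ (GoodSym ρ Z ∧ (p = 2 → ∀ g : G, ∀ w ∈ Z, ρ g w = w))) := by
  by_cases h : ∃ S ≤ X, Simple ρ S ∧ ∃ x ∈ S, ∃ y ∈ S, B x y ≠ 0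
  · obtain ⟨S, hSX, hS, hxy⟩ := h
    exact ⟨S, hSX, hS.1, hS.2.1, rnd_simple hB hS hxy,
      simple_kind p hB hS (rnd_simple hB hS hxy)⟩
  obtain ⟨S, hSX, hS⟩ := exists_simple hX hne
  have hzero : ∀ S' ≤ X, Simple ρ S' → ∀ x ∈ S', ∀ y ∈ S', B x y = 0 := by
    intro S' h1 h2 x hx y hy
    by_contra hxy
    exact h ⟨S', h1, h2, x, hx, y, hy, hxy⟩
  obtain ⟨T, hTX, hT, hTR, hTL⟩ := exists_pair hG hB hX hXn hSX hS
  have hd : Disjoint S T := by
    rw [disjoint_iff]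
    exact simple_inf hS hT.2.1 fun hle => hTR fun t ht => by
      rw [← (hT.2.2 S hle hS.2.1).resolve_left hS.1] at ht
      exact fun s hs => hzero S hSX hS s hs t ht
  refine ⟨S ⊔ T, sup_le hSX hTX, fun e => hS.1 (le_bot_iff.1 (e ▸ le_sup_left)),
    inv_sup hS.2.1 hT.2.1, ?_, Or.inl (hyperbolic hB hS hT hd hTR)⟩
  intro x hx hz
  obtain ⟨a, ha, b, hb, rfl⟩ := Submodule.mem_sup.1 hx
  have hb0 : b ∈ T ⊓ rOrth B S := ⟨hb, fun s hs => by
    have := hz s (Submodule.mem_sup_left hs)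
    rwa [map_add, hzero S hSX hS s hs a ha, zero_add] at this⟩
  rw [simple_inf hT (inv_rOrth hB hS.2.1) hTR, Submodule.mem_bot] at hb0
  subst hb0
  have ha0 : a ∈ S ⊓ rOrth B T := ⟨ha, fun t ht => by
    have := hz t (Submodule.mem_sup_right ht)
    rwa [map_add, map_zero, add_zero] at this⟩
  rw [simple_inf hS (inv_rOrth hB hT.2.1) (fun hle => hTL fun t ht s hs => hle hs t ht),
    Submodule.mem_bot] at ha0
  rw [ha0, add_zero]

/-- **Decomposition.** -/
theorem decompose [Finite G] (p : ℕ) [Fact p.Prime] [CharP F p] (hG : (Nat.card G : F) ≠ 0)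
    (hB : FInv ρ B) {X : Submodule F V} (hX : Inv ρ X) (hXn : RND B X) :
    ∃ U W : Submodule F V, U ⊔ W = X ∧ Disjoint U W ∧ Inv ρ U ∧ Inv ρ W ∧ GoodAlt ρ U ∧
      GoodSym ρ W ∧ (p = 2 → ∀ g : G, ∀ w ∈ W, ρ g w = w) := by
  induction h : Module.finrank F X using Nat.strong_induction_on generalizing X with
  | _ n ih =>
    by_cases hne : X = ⊥
    · subst hne
      exact ⟨⊥, ⊥, bot_sup_eq _, disjoint_bot_left, inv_bot, inv_bot, goodAlt_bot, goodSym_bot,
        fun _ g w hw => by rw [(Submodule.mem_bot F).1 hw, map_zero]⟩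
    obtain ⟨Z, hZX, hZ0, hZ, hZn, hk⟩ := piece p hG hB hX hXn hne
    obtain ⟨hsup, hdis, hY, hYn⟩ := split hB hX hXn hZX hZ hZn
    set Y := X ⊓ rOrth B Z with hYdef
    have hlt : Module.finrank F Y < n := by
      rw [← h]
      refine Submodule.finrank_lt_finrank_of_lt (lt_of_le_of_ne inf_le_left fun e => hZ0 ?_)
      rw [← disjoint_self]
      exact hdis.mono_right (e.symm ▸ hZX)
    obtain ⟨U, W, hUW, hdUW, hU, hW, gU, gW, h2⟩ := ih _ hlt hY hYn rfl
    rw [← hUW] at hdis hsup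
    rcases hk with gZ | ⟨gZ, hZ2⟩
    · refine ⟨Z ⊔ U, W, by rw [sup_assoc, hsup], ?_, inv_sup hZ hU, hW,
        goodAlt_sup (hdis.mono_right le_sup_left) hZ hU gZ gU, gW, h2⟩
      exact hdUW.disjoint_sup_left_of_disjoint_sup_right hdis
    · refine ⟨U, Z ⊔ W, by rw [← sup_assoc, sup_comm U Z, sup_assoc, hsup], ?_, hU, inv_sup hZ hW,
        gU, goodSym_sup (hdis.mono_right le_sup_right) hZ hW gZ gW, fun hp g w hw => ?_⟩
      · rw [sup_comm Z W]
        refine hdUW.disjoint_sup_right_of_disjoint_sup_left ?_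
        exact (hdis.symm)
      · obtain ⟨a, ha, b, hb, rfl⟩ := Submodule.mem_sup.1 hw
        rw [map_add, hZ2 hp g a ha, h2 hp g b hb]

end forms

end Cfsg.Agent.H86.SelfDual
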