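import Mathlib

/-!
# Self-dual faithful irreducible modules of abelian groups over finite fields
-/

open Polynomial

namespace Cfsg.Agent.H86

theorem selfDual_iff {F : Type*} [Field F] [Fintype F] (p : ℕ) [Fact p.Prime] [CharP F p]
    {H : Type*} [CommGroup H] [Finite H]
    {V : Type*} [AddCommGroup V] [Module F V] [FiniteDimensional F V]
    (ρ : Representation F H V) (hfaith : Function.Injective ρ)
    (hirr : ∀ U : Submodule F V, (∀ h : H, ∀ u ∈ U, ρ h u ∈ U) → U = ⊥ ∨ U = ⊤) :
    (Module.finrank F V = 1 → (∃ B : LinearMap.BilinForm F V, B.Nondegenerate ∧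
      ∀ h : H, ∀ x y : V, B (ρ h x) (ρ h y) = B x y) → Nat.card H ≤ 2) ∧
    (2 ≤ Module.finrank F V → ((∃ B : LinearMap.BilinForm F V, B.Nondegenerate ∧
      ∀ h : H, ∀ x y : V, B (ρ h x) (ρ h y) = B x y) ↔ (Even (Module.finrank F V) ∧
        Nat.card H ∣ Fintype.card F ^ (Module.finrank F V / 2) + 1))) := by
  classical
  rcases subsingleton_or_nontrivial V with hV | hV
  · have h0 : Module.finrank F V = 0 := Module.finrank_zero_of_subsingleton
    constructor <;> intro h <;> omega
  have hcomm : ∀ a ∈ Set.range ρ, ∀ b ∈ Set.range ρ, a * b = b * a := by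
    rintro _ ⟨a, rfl⟩ _ ⟨b, rfl⟩
    rw [← map_mul, ← map_mul, mul_comm]
  let K := Algebra.adjoin F (Set.range ρ)
  let _ : CommRing K := Algebra.adjoinCommRingOfComm F hcomm
  let θ : H →* K :=
    { toFun := fun h => ⟨ρ h, Algebra.subset_adjoin ⟨h, rfl⟩⟩
      map_one' := Subtype.ext (map_one ρ)
      map_mul' := fun a b => Subtype.ext (map_mul ρ a b) }
  have hθ : Function.Injective θ := fun a b e => hfaith (congrArg Subtype.val e :)
  have hinj : ∀ k : K, k ≠ 0 → ∀ v : V, (k : Module.End F V) v = 0 → v = 0 := by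
    intro k hk v hv
    have hker : ∀ h : H, ∀ u ∈ LinearMap.ker (k : Module.End F V),
        ρ h u ∈ LinearMap.ker (k : Module.End F V) := by
      intro h u hu
      rw [LinearMap.mem_ker] at hu ⊢
      have e : (k : Module.End F V) * ρ h = ρ h * (k : Module.End F V) :=
        congrArg Subtype.val (mul_comm k (θ h))
      rw [← Module.End.mul_apply, e, Module.End.mul_apply, hu, map_zero]
    rcases hirr _ hker with h | h
    · exact (Submodule.mem_bot F).1 (h ▸ LinearMap.mem_ker.2 hv)
    · exact absurd (Subtype.ext (LinearMap.ker_eq_top.1 h)) hk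
  have _ : Nontrivial K := by
    obtain ⟨v, hv⟩ := exists_ne (0 : V)
    refine ⟨0, 1, fun e => hv ?_⟩
    exact (LinearMap.congr_fun (congrArg Subtype.val e) v).symm
  have _ : NoZeroDivisors K := ⟨fun {a b} hab => by
    by_contra hcon
    rw [not_or] at hcon
    refine hcon.2 (Subtype.ext (LinearMap.ext fun v => ?_))
    exact hinj a hcon.1 _ (LinearMap.congr_fun (congrArg Subtype.val hab) v)⟩
  have _ : IsDomain K := NoZeroDivisors.to_isDomain _
  have _ : Finite V := Module.finite_of_finite F
  have _ : Finite (Module.End F V) := Module.finite_of_finite F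
  have _ : Finite K := Subtype.finite
  let _ : Field K := (Finite.isDomain_to_isField K).toField
  -- `V` is a line over `K`
  obtain ⟨v₀, hv₀⟩ := exists_ne (0 : V)
  let ev : K →ₗ[F] V := (LinearMap.applyₗ v₀).comp K.val.toLinearMap
  have hev : Function.Bijective ev := by
    refine ⟨(injective_iff_map_eq_zero ev).2 fun k hk => by_contra fun hk0 =>
      hv₀ (hinj k hk0 v₀ hk), ?_⟩
    have hinv : ∀ h : H, ∀ u ∈ LinearMap.range ev, ρ h u ∈ LinearMap.range ev := by
      rintro h _ ⟨k, rfl⟩
      exact ⟨θ h * k, rfl⟩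
    rcases hirr _ hinv with h | h
    · exact absurd ((Submodule.mem_bot F).1 (h ▸ (⟨1, rfl⟩ : v₀ ∈ LinearMap.range ev))) hv₀
    · exact LinearMap.range_eq_top.1 h
  let e : K ≃ₗ[F] V := LinearEquiv.ofBijective ev hev
  have hρe : ∀ h k, ρ h (e k) = e (θ h * k) := fun h k => rfl
  have _ : FiniteDimensional F K := Module.Finite.equiv e.symm
  have _ : Fintype K := Fintype.ofFinite K
  have hn : Module.finrank F K = Module.finrank F V := e.finrank_eq
  -- a generator
  have _ : IsCyclic H := isCyclic_of_injective_ringHom θ hθ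
  obtain ⟨h₀, hh₀⟩ := IsCyclic.exists_generator (α := H)
  have hm : orderOf (θ h₀) = Nat.card H := by
    rw [orderOf_injective θ hθ, orderOf_eq_card_of_forall_mem_zpowers hh₀]
  set z := θ h₀
  have hz0 : z ≠ 0 := fun h => by
    have h1 : z * θ h₀⁻¹ = 1 := by rw [← map_mul, mul_inv_cancel, map_one]
    rw [h, zero_mul] at h1
    exact zero_ne_one h1
  have hgen : ∀ h : H, ∃ j : ℕ, θ h = z ^ j := by
    intro h
    obtain ⟨j, hj⟩ := (mem_powers_iff_mem_zpowers (x := h₀)).2 (hh₀ h)
    exact ⟨j, by rw [← map_pow]; exact congrArg θ hj.symm⟩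
  -- algebra homomorphisms agreeing at `z` agree
  have hext : ∀ f g : K →ₐ[F] K, f z = g z → f = g := by
    intro f g hfg
    refine AlgHom.adjoin_ext fun x hx => ?_
    obtain ⟨h, rfl⟩ := hx
    obtain ⟨j, hj⟩ := hgen h
    show f (θ h) = g (θ h)
    rw [hj, map_pow, map_pow, hfg]
  let φ := FiniteField.frobeniusAlgHom F K
  have hφ : ∀ (j : ℕ) (x : K), (φ ^ j) x = x ^ Fintype.card F ^ j := fun j x => by
    rw [AlgHom.coe_pow, FiniteField.coe_frobeniusAlgHom, pow_iterate]
  have hord : orderOf φ = Module.finrank F V := (FiniteField.orderOf_frobeniusAlgHom F K).trans hn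
  have hdvd : ∀ j : ℕ, z ^ Fintype.card F ^ j = z → Module.finrank F V ∣ j := fun j hj => by
    rw [← hord]
    exact orderOf_dvd_of_pow_eq_one (hext _ _ (by rw [hφ, hj]; rfl))
  -- from a form to an automorphism inverting `z`
  have hforward : (∃ B : LinearMap.BilinForm F V, B.Nondegenerate ∧
      ∀ h : H, ∀ x y : V, B (ρ h x) (ρ h y) = B x y) →
      ∃ i < Module.finrank F V, z ^ Fintype.card F ^ i = z⁻¹ := by
    rintro ⟨B, hB, hinvB⟩
    have hone : ∀ x y : K, B (e (z * x)) (e y) = B (e x) (e (z⁻¹ * y)) := by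
      intro x y
      rw [← hρe, ← hinvB h₀ (e x) (e (z⁻¹ * y)), hρe h₀ (z⁻¹ * y), mul_inv_cancel_left₀ hz0]
    have hpow : ∀ (j : ℕ) (x y : K), B (e (z ^ j * x)) (e y) = B (e x) (e ((z⁻¹) ^ j * y)) := by
      intro j
      induction j with
      | zero => simp
      | succ j ih =>
        intro x y
        rw [pow_succ', mul_assoc, hone, ih, pow_succ, mul_assoc]
    have hpoly : ∀ (P : F[X]) (x y : K),
        B (e (aeval z P * x)) (e y) = B (e x) (e (aeval z⁻¹ P * y)) := by
      intro P
      induction P using Polynomial.induction_on' with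
      | add a b ha hb =>
        intro x y
        simp only [map_add, add_mul, LinearMap.add_apply, ha, hb]
      | monomial j c =>
        intro x y
        simp only [aeval_monomial, ← Algebra.smul_def, smul_mul_assoc, map_smul,
          LinearMap.smul_apply, hpow]
    have hroot : aeval z⁻¹ (minpoly F z) = 0 := by
      have h1 : e (aeval z⁻¹ (minpoly F z) * 1) = 0 := by
        refine hB.2 _ fun v => ?_
        obtain ⟨x, rfl⟩ := e.surjective v
        rw [← hpoly, minpoly.aeval, zero_mul, map_zero, map_zero, LinearMap.zero_apply]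
      rwa [mul_one, LinearEquiv.map_eq_zero_iff] at h1
    obtain ⟨σ, hσ⟩ := Normal.minpoly_eq_iff_mem_orbit (F := F) (E := K) |>.1
      (minpoly.eq_of_irreducible_of_monic (minpoly.irreducible (Algebra.IsIntegral.isIntegral z))
        hroot (minpoly.monic (Algebra.IsIntegral.isIntegral z))).symm
    obtain ⟨⟨i, hi⟩, hi'⟩ := (FiniteField.bijective_frobeniusAlgHom_pow F K).2 σ.toAlgHom
    refine ⟨i, hn ▸ hi, ?_⟩
    have := DFunLike.congr_fun hi' z
    rw [hφ] at this
    rw [this]
    exact hσ
  have hcase : ∀ i < Module.finrank F V, z ^ Fintype.card F ^ i = z⁻¹ →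
      2 * i = Module.finrank F V ∨ (i = 0 ∧ Nat.card H ∣ 2 ∧ Module.finrank F V ≤ 2 * i + 1) := by
    intro i hi he
    have h2 : z ^ Fintype.card F ^ (2 * i) = z := by
      rw [two_mul, pow_add, pow_mul, he, inv_pow, he, inv_inv]
    obtain ⟨c, hc⟩ := hdvd _ h2
    rcases Nat.eq_zero_or_pos i with rfl | hpos
    · right
      rw [pow_zero, pow_one] at he
      have hzz : z * z = 1 := by
        conv_lhs => arg 2; rw [he]
        exact mul_inv_cancel₀ hz0
      refine ⟨rfl, hm ▸ orderOf_dvd_of_pow_eq_one (by rw [sq, hzz]), ?_⟩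
      have hfix : (AlgHom.id F K) z = φ z := by
        have h1 := hφ 1 z
        rw [pow_one, pow_one] at h1
        rw [h1, AlgHom.id_apply]
        rcases mul_self_eq_one_iff.1 hzz with hh | hh <;> rw [hh]
        · rw [one_pow]
        · have h2 := (hφ 1 (-1)).symm
          rw [pow_one, pow_one, map_neg, map_one] at h2
          exact h2.symm
      have := hdvd 1 (by rw [← hφ, pow_one, ← hfix]; rfl)
      rw [Nat.dvd_one] at this
      omega
    · left
      rcases c with _ | _ | c
      · omega
      · omega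
      · nlinarith
  constructor
  · intro h1 hB
    obtain ⟨i, hi, he⟩ := hforward hB
    rcases hcase i hi he with h | ⟨-, h, -⟩
    · omega
    · exact Nat.le_of_dvd (by norm_num) h
  intro h2
  constructor
  · intro hB
    obtain ⟨i, hi, he⟩ := hforward hB
    rcases hcase i hi he with h | ⟨h0, -, h⟩
    · refine ⟨⟨i, by omega⟩, ?_⟩
      rw [← hm, show Module.finrank F V / 2 = i by omega]
      exact orderOf_dvd_of_pow_eq_one (by rw [pow_succ, he, inv_mul_cancel₀ hz0])
    · omega
  · rintro ⟨⟨k, hk⟩, hdiv⟩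
    rw [show Module.finrank F V / 2 = k by omega, ← hm, orderOf_dvd_iff_pow_eq_one, pow_succ,
      mul_eq_one_iff_eq_inv₀ hz0] at hdiv
    let σ : K →ₐ[F] K := φ ^ k
    have hσinv : ∀ h : H, θ h * σ (θ h) = 1 := by
      intro h
      obtain ⟨j, hj⟩ := hgen h
      rw [hj, hφ, ← pow_mul, mul_comm j, pow_mul, hdiv, inv_pow, mul_inv_cancel₀ (pow_ne_zero _ hz0)]
    have hσbij : Function.Bijective σ := Finite.injective_iff_bijective.1 σ.toRingHom.injective
    let B : LinearMap.BilinForm F V := LinearMap.compl₁₂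
      (Algebra.traceForm F K) e.symm.toLinearMap (σ.toLinearMap.comp e.symm.toLinearMap)
    have hBval : ∀ x y : K, B (e x) (e y) = Algebra.trace F K (x * σ y) := by
      intro x y
      simp [B, Algebra.traceForm_apply]
    refine ⟨B, ⟨fun a ha => ?_, fun b hb => ?_⟩, fun h a b => ?_⟩
    · obtain ⟨x, rfl⟩ := e.surjective a
      rw [LinearEquiv.map_eq_zero_iff]
      refine (traceForm_nondegenerate F K).1 x fun y => ?_
      obtain ⟨y', rfl⟩ := hσbij.2 y
      rw [Algebra.traceForm_apply, ← hBval]
      exact ha _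
    · obtain ⟨y, rfl⟩ := e.surjective b
      rw [LinearEquiv.map_eq_zero_iff, ← map_eq_zero σ]
      refine (traceForm_nondegenerate F K).2 (σ y) fun x => ?_
      rw [Algebra.traceForm_apply, ← hBval]
      exact hb _
    · obtain ⟨x, rfl⟩ := e.surjective a
      obtain ⟨y, rfl⟩ := e.surjective b
      rw [hρe, hρe, hBval, hBval, map_mul σ, mul_mul_mul_comm, hσinv, one_mul]

end Cfsg.Agent.H86
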