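import Cfsg.Agent.H86.SmallExceptional
import Cfsg.Agent.CharBasic.Kernel

/-!
# The principal block for a second prime

If `q ≠ p` then the principal `q`-block gives a congruence between the degrees in the principal
`p`-block, and in a simple group it contains no character whose degree is a power of `q`.
-/

set_option linter.unusedSectionVars false
set_option linter.style.haveILetI false

open scoped ComplexConjugate Classical

namespace Cfsg.Agent.H86.SmallExc

open CharBasic Subgroup BlockBasic

universe u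

variable {G : Type u} [Group G] [Fintype G]

theorem ker_eq_bot [IsSimpleGroup G] {n : ℕ} (ρ : Representation ℂ G (Fin n → ℂ))
    (hρ : ρ.IsIrreducible) (hn : 1 < n) : ρ.ker = ⊥ := by
  haveI := MonoidHom.normal_ker ρ
  refine (Subgroup.Normal.eq_bot_or_eq_top inferInstance).resolve_right fun htop => ?_
  have hid : ∀ g : G, ρ g = 1 := fun g => MonoidHom.mem_ker.1 (htop ▸ mem_top g)
  have h1 := classInner_irr_self (G := G) (χ := ρ.character) ⟨n, ρ, hρ, rfl⟩
  rw [classInner_def] at h1
  simp only [Representation.character, hid, LinearMap.trace_one, Complex.conj_natCast,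
    Finset.sum_const, Finset.card_univ, nsmul_eq_mul, ← Nat.card_eq_fintype_card,
    Module.finrank_fintype_fun_eq_card, Fintype.card_fin] at h1
  rw [← mul_assoc, inv_mul_cancel₀ (Nat.cast_ne_zero.2 (Nat.card_pos (α := G)).ne'), one_mul] at h1
  simp only [Nat.card_fin] at h1
  have h2 : n * n = 1 := by exact_mod_cast h1
  nlinarith

theorem eq_one_of_apply_eq_one_deg [IsSimpleGroup G] {χ : IrrCharacter G}
    (hd : 1 < charDegree (χ : G → ℂ)) {v : G} (hv : (χ : G → ℂ) v = (χ : G → ℂ) 1) : v = 1 := by
  obtain ⟨n, ρ, hρ, he⟩ := χ.2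
  have hn : charDegree (χ : G → ℂ) = n := by
    have h := apply_one_eq_charDegree χ
    rw [← he, Representation.char_one] at h
    simp only [Module.finrank_fintype_fun_eq_card, Fintype.card_fin] at h
    rw [← he]
    exact_mod_cast h.symm
  have hk := ker_eq_bot ρ hρ (hn ▸ hd)
  rw [← he, Representation.char_one] at hv
  have : v ∈ ρ.ker := MonoidHom.mem_ker.2 (by
    rw [Module.End.one_eq_id]; exact (character_eq_finrank_iff ρ v).1 hv)
  rwa [hk, mem_bot] at this

/-- A character of prime power degree is outside the principal block of that prime. -/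
theorem not_mem_principal_of_pow [IsSimpleGroup G] (hna : ∃ a b : G, a * b ≠ b * a) {q : ℕ}
    [hq : Fact q.Prime] {M : Ideal AlgInt} (hM : IsPModular q M) {χ : IrrCharacter G} {i : ℕ}
    (hi : 1 ≤ i) (hd : charDegree (χ : G → ℂ) = q ^ i) : χ ∉ principalBlock M G := by
  intro hmem
  have hdG : q ∣ Nat.card G :=
    (dvd_pow_self q (by omega)).trans (hd ▸ charDegree_dvd χ)
  obtain ⟨Q⟩ := (inferInstance : Nonempty (Sylow q G))
  haveI : Nontrivial (Q : Subgroup G) := by
    rw [Subgroup.nontrivial_iff_ne_bot]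
    intro hbot
    have h := Q.card_eq_multiplicity
    rw [hbot, Subgroup.card_bot] at h
    have := (hq.out.pow_dvd_iff_le_factorization Nat.card_pos.ne').1
      (show q ^ 1 ∣ Nat.card G by rwa [pow_one])
    have h2 : q ^ 0 = q ^ (Nat.card G).factorization q := by rw [pow_zero]; exact h
    have := Nat.pow_right_injective hq.out.two_le h2
    omega
  haveI := Q.isPGroup'.center_nontrivial
  obtain ⟨⟨⟨z, hzQ⟩, hzc⟩, hz1⟩ := exists_ne (1 : Subgroup.center (Q : Subgroup G))
  have hz : z ≠ 1 := fun e => hz1 (Subtype.ext (Subtype.ext e))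
  set K := (centralizer ({z} : Set G)).index with hK
  have hKq : ¬ q ∣ K := by
    intro h
    refine Q.not_dvd_index (h.trans (Subgroup.index_dvd_of_le fun w hw => ?_))
    rw [mem_centralizer_singleton_iff]
    exact congrArg Subtype.val (Subgroup.mem_center_iff.1 hzc ⟨w, hw⟩)
  obtain ⟨n, ρ, hρ, he⟩ := χ.2
  haveI := hρ
  have hn : n = q ^ i := by
    have h := apply_one_eq_charDegree χ
    rw [← he, Representation.char_one] at h
    simp only [Module.finrank_fintype_fun_eq_card, Fintype.card_fin] at h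
    rw [← hd, ← he]
    exact_mod_cast h
  have hn1 : 1 < n := hn ▸ Nat.one_lt_pow (by omega) hq.out.one_lt
  have hfr : Module.finrank ℂ (Fin n → ℂ) = n := by simp
  have hval : (χ : G → ℂ) z = 0 := by
    rw [← he]
    refine (burnside_zero_or_scalar ρ z (by
      rw [hfr, hn]
      exact (hq.out.coprime_iff_not_dvd.2 hKq).pow_left i)).resolve_right fun hnorm => ?_
    obtain ⟨ω, hω⟩ := (CharBasic.IsChar.norm_eq_iff_scalar ρ z).1 (by
      rw [hnorm, Representation.char_one, Complex.norm_natCast])
    have hcent : ∀ a : G, a * z = z * a := by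
      intro a
      have : (a * z) * (z * a)⁻¹ ∈ ρ.ker := by
        refine MonoidHom.mem_ker.2 ?_
        have hc : ρ (a * z) = ρ (z * a) := by
          rw [map_mul, map_mul, hω]
          ext w
          simp
        rw [map_mul, hc, ← map_mul, mul_inv_cancel, map_one]
      rw [ker_eq_bot ρ hρ hn1, mem_bot, mul_inv_eq_one] at this
      exact this
    have hzmem : z ∈ Subgroup.center G := Subgroup.mem_center_iff.2 hcent
    rcases (Subgroup.Normal.eq_bot_or_eq_top (inferInstance : (Subgroup.center G).Normal)) with h | h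
    · rw [h, mem_bot] at hzmem; exact hz hzmem
    · obtain ⟨a, b, hab⟩ := hna
      exact hab (Subgroup.mem_center_iff.1 (h ▸ mem_top b) a)
  have hs : MemLocalIdeal M (centralChar (fun _ : G => (1 : ℂ)) z - centralChar (χ : G → ℂ) z) :=
    hmem z
  simp only [centralChar, hval, mul_zero, zero_div, sub_zero, mul_one, div_one] at hs
  exact hKq ((memLocalIdeal_natCast_iff hM K).1 hs)

namespace PBlk

variable {p : ℕ} [hp : Fact p.Prime] (D : PBlk G p)

include D

theorem vanish (hC : centralizer ((D.P : Subgroup G) : Set G) = D.P) {χ : IrrCharacter G}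
    (h1 : χ ∉ D.X) (h2 : χ ∉ D.Y) {x : G} (hx : x ∈ (D.P : Subgroup G)) (hx1 : x ≠ 1) :
    (χ : G → ℂ) x = 0 := by
  haveI := Abelian.isMulCommutative_sylow D.P D.card_P
  have hP : Nat.card (D.P : Subgroup G) = p := D.card_P
  have hCx : centralizer ({x} : Set G) = (D.P : Subgroup G) := by
    rw [FewSylowReduce.centralizer_singleton_of_mem D.P D.card_P hx hx1, hC]
  have hord : orderOf x = p := by
    have h := hP ▸ orderOf_dvd_natCard (G := (D.P : Subgroup G)) ⟨x, hx⟩
    rw [Subgroup.orderOf_mk] at h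
    exact ((Nat.dvd_prime hp.out).1 h).resolve_left fun e => hx1 (orderOf_eq_one_iff.1 e)
  have hk := sum_sq_principal D.hM ⟨1, by rw [pow_one]; exact hord⟩
    (Abelian.pNilAt_of_mem D.P (Abelian.freeFusion D.P D.card_P) hx hx1)
  rw [blockKernel, hCx, hP, hp.out.factorization_self, pow_one,
    finsum_mem_eq_finite_toFinset_sum _ (Set.toFinite _)] at hk
  have htot := second_orthogonality_self (G := G) x
  rw [hCx, hP] at htot
  have hz : ∑ ψ ∈ Finset.univ \ (Set.toFinite (principalBlock D.M G)).toFinset,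
      Complex.normSq ((ψ : G → ℂ) x) = 0 := by
    have h' : ∑ ψ ∈ Finset.univ \ (Set.toFinite (principalBlock D.M G)).toFinset,
        (ψ : G → ℂ) x * conj ((ψ : G → ℂ) x) = 0 := by
      rw [Finset.sum_sdiff_eq_sub (Finset.subset_univ _), htot, hk, sub_self]
    simp only [Complex.mul_conj] at h'
    exact_mod_cast h'
  exact Complex.normSq_eq_zero.1
    ((Finset.sum_eq_zero_iff_of_nonneg fun ψ _ => Complex.normSq_nonneg _).1 hz χ
      (Finset.mem_sdiff.2 ⟨Finset.mem_univ _, fun h => by
        rw [Set.Finite.mem_toFinset] at h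
        rcases (D.mem_iff χ).1 h with h | h <;> contradiction⟩))

/-- The congruence of the degrees modulo the `q`-part of the group order. -/
theorem qcong (hC : centralizer ((D.P : Subgroup G) : Set G) = D.P) {q : ℕ} [hq : Fact q.Prime]
    (hqp : q ≠ p) {M : Ideal AlgInt} (hM : IsPModular q M) {θ : IrrCharacter G} (hθ : θ ∈ D.Y) :
    ((q ^ (Nat.card G).factorization q : ℕ) : ℤ) ∣
      (D.t : ℤ) * (1 + ∑ χ ∈ (D.Xs 1 ∪ D.Xs (-1)).filter (fun χ => χ ∈ principalBlock M G),
          D.εX χ * (charDegree (χ : G → ℂ) : ℤ)) -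
        D.ε * (((D.Y.filter fun χ => χ ∈ principalBlock M G).card : ℕ) : ℤ) *
          (charDegree (θ : G → ℂ) : ℤ) := by
  set W : IrrCharacter G → ℂ := fun χ =>
    ∑ u ∈ (Finset.univ : Finset (D.P : Subgroup G)).erase 1, (χ : G → ℂ) (u : G) with hWdef
  set w : IrrCharacter G → ℤ := fun χ =>
    if χ ∈ principalBlock M G then
      if χ ∈ D.X then (D.t : ℤ) * D.εX χ else if χ ∈ D.Y then -D.ε else 0
    else 0 with hwdef
  have hW : ∀ χ : IrrCharacter G, χ ∈ principalBlock M G → W χ = (D.e : ℂ) * (w χ : ℂ) := by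
    intro χ hmem
    have hP : Nat.card (D.P : Subgroup G) = p := D.card_P
    simp only [hwdef, if_pos hmem]
    split_ifs with h1 h2
    · show (∑ u ∈ (Finset.univ : Finset (D.P : Subgroup G)).erase 1, (χ : G → ℂ) (u : G)) = _
      rw [Finset.sum_congr rfl fun (u : (D.P : Subgroup G)) hu => D.val_P h1 u.2 fun e =>
        Finset.ne_of_mem_erase hu (Subtype.ext e), Finset.sum_const,
        Finset.card_erase_of_mem (Finset.mem_univ _), Finset.card_univ, ← Nat.card_eq_fintype_card,
        hP, nsmul_eq_mul, ← D.e_mul_t]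
      push_cast; ring
    · have h3 := D.sumY χ h2
      rw [← Finset.add_sum_erase _ _ (Finset.mem_univ (1 : (D.P : Subgroup G))),
        Subgroup.coe_one] at h3
      show (∑ u ∈ (Finset.univ : Finset (D.P : Subgroup G)).erase 1, (χ : G → ℂ) (u : G)) = _
      push_cast
      linear_combination h3
    · rw [Int.cast_zero, mul_zero]
      exact Finset.sum_eq_zero fun (u : (D.P : Subgroup G)) hu =>
        D.vanish hC h1 h2 u.2 fun e => Finset.ne_of_mem_erase hu (Subtype.ext e)
  have he0 : (D.e : ℂ) ≠ 0 := Nat.cast_ne_zero.2 D.e_pos.ne'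
  obtain ⟨r, ⟨r', rfl⟩, hr⟩ := exists_mul_of_vanish (G := G) (p := q) (fun χ => (w χ : ℂ))
    (Set.range fun k : ℤ => (k : ℂ)) ⟨0, Int.cast_zero⟩
    (by rintro _ ⟨a, rfl⟩ _ ⟨b, rfl⟩; exact ⟨a + b, Int.cast_add a b⟩)
    (by rintro n _ ⟨a, rfl⟩; exact ⟨a * n, by push_cast; rfl⟩)
    (fun χ => ⟨w χ, rfl⟩)
    (fun y hy1 hy => by
      obtain ⟨k, hk⟩ := hy
      have hqy : q ∣ orderOf y := by
        rcases Nat.eq_zero_or_pos k with rfl | hk0
        · rw [pow_zero, orderOf_eq_one_iff] at hk; exact absurd hk hy1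
        · exact hk ▸ dvd_pow_self q (by omega)
      refine mul_left_cancel₀ he0 ?_
      rw [mul_zero, Finset.mul_sum, ← Finset.sum_filter_add_sum_filter_not Finset.univ
        (fun χ => χ ∈ principalBlock M G), Finset.sum_eq_zero (s := Finset.univ.filter
          fun χ => χ ∉ principalBlock M G) (fun χ hχ => by
            simp [hwdef, (Finset.mem_filter.1 hχ).2]), add_zero,
        Finset.sum_congr rfl fun χ hχ => by
          rw [← mul_assoc, ← hW χ (Finset.mem_filter.1 hχ).2]]
      simp only [hWdef, Finset.sum_mul]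
      rw [Finset.sum_comm]
      refine Finset.sum_eq_zero fun u hu => ?_
      have hu' : ¬ q ∣ orderOf (u : G) := by
        rw [Subgroup.orderOf_coe]
        intro h
        have hd := h.trans (orderOf_dvd_natCard u)
        rw [show Nat.card (D.P : Subgroup G) = p from D.card_P,
          Nat.prime_dvd_prime_iff_eq hq.out hp.out] at hd
        exact hqp hd
      have h0 := blockKernel_eq_zero_of_regular_of_singular hM (isPBlock_principalBlock (G := G) M)
        hu' (show q ∣ orderOf y⁻¹ by rwa [orderOf_inv])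
      rw [blockKernel, finsum_mem_eq_finite_toFinset_sum _ (Set.toFinite _)] at h0
      rw [← h0]
      refine Finset.sum_congr (by ext; simp) fun χ _ => ?_
      rw [conj_apply_eq_inv, inv_inv])
  have hr' : ∑ χ : IrrCharacter G, w χ * (charDegree (χ : G → ℂ) : ℤ) =
      ((q ^ (Nat.card G).factorization q : ℕ) : ℤ) * r' := by
    apply Int.cast_injective (α := ℂ)
    push_cast
    simp only [apply_one_eq_charDegree] at hr
    push_cast at hr
    exact hr
  refine ⟨r', ?_⟩
  rw [← hr']
  have htB : trivialIrr ∈ principalBlock M G := sameBlock_refl hM _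
  rw [← Finset.sum_subset (Finset.subset_univ (D.X ∪ D.Y)) (fun χ _ hχ => by
      simp only [Finset.mem_union, not_or] at hχ
      simp [hwdef, hχ.1, hχ.2]),
    Finset.sum_union D.disj, D.sum_X, ← Finset.sum_union (Finset.disjoint_left.2 fun χ h h' => by
      have h1 := (D.mem_Xs.1 h).2.1
      have h2 := (D.mem_Xs.1 h').2.1
      omega)]
  have hX : ∑ χ ∈ D.Xs 1 ∪ D.Xs (-1), w χ * (charDegree (χ : G → ℂ) : ℤ) = (D.t : ℤ) *
      ∑ χ ∈ (D.Xs 1 ∪ D.Xs (-1)).filter (fun χ => χ ∈ principalBlock M G),
        D.εX χ * (charDegree (χ : G → ℂ) : ℤ) := by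
    rw [Finset.mul_sum, Finset.sum_filter]
    refine Finset.sum_congr rfl fun χ hχ => ?_
    have hmem : χ ∈ D.X := by
      rcases Finset.mem_union.1 hχ with h | h <;> exact (D.mem_Xs.1 h).1
    simp only [hwdef, hmem, if_true]
    split_ifs <;> ring
  have hY : ∑ χ ∈ D.Y, w χ * (charDegree (χ : G → ℂ) : ℤ) =
      -(D.ε * (((D.Y.filter fun χ => χ ∈ principalBlock M G).card : ℕ) : ℤ) *
        (charDegree (θ : G → ℂ) : ℤ)) := by
    rw [Finset.sum_congr rfl (g := fun χ => if χ ∈ principalBlock M G then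
        -(D.ε * (charDegree (θ : G → ℂ) : ℤ)) else 0) (fun χ hχ => by
      have hnX : χ ∉ D.X := fun h => Finset.disjoint_left.1 D.disj h hχ
      simp only [hwdef, hnX, hχ, if_true, if_false, D.degree_Y hχ hθ]
      split_ifs <;> ring), ← Finset.sum_filter, Finset.sum_const, nsmul_eq_mul]
    ring
  rw [hX, hY, show w trivialIrr = (D.t : ℤ) * D.εX trivialIrr by simp [hwdef, htB, D.trivX],
    D.εX_triv, D.charDegree_triv]
  push_cast; ring

end PBlk

end Cfsg.Agent.H86.SmallExc
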