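import Cfsg.Agent.H86.FewSylowReduce

/-!
# Exceptional characters of small degree of a group with a Sylow subgroup of prime order

For two exceptional characters `θ₁ ≠ θ₂` the products `θ₁ θ̄₂` and `θ₁ θ̄₁` differ in the
multiplicity of a non-exceptional character `χ` by exactly the sign of `χ`.
-/

set_option linter.unusedSectionVars false
set_option linter.style.haveILetI false

open scoped ComplexConjugate Classical

namespace Cfsg.Agent.H86.SmallExc

open CharBasic Subgroup BlockBasic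

universe u

variable {G : Type u} [Group G] [Fintype G] {p : ℕ} [hp : Fact p.Prime]

/-- The principal block of a group with a Sylow subgroup of order `p`. -/
structure PBlk (G : Type u) [Group G] [Fintype G] (p : ℕ) [Fact p.Prime] where
  P : Sylow p G
  card_P : Nat.card P = p
  M : Ideal AlgInt
  hM : IsPModular p M
  X : Finset (IrrCharacter G)
  Y : Finset (IrrCharacter G)
  εX : IrrCharacter G → ℤ
  ε : ℤ
  mem_iff : ∀ χ, χ ∈ principalBlock M G ↔ χ ∈ X ∨ χ ∈ Y
  disj : Disjoint X Y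
  cardX : X.card = (centralizer ((P : Subgroup G) : Set G)).relIndex (normalizer (P : Set G))
  cardY : Y.card =
    (p - 1) / (centralizer ((P : Subgroup G) : Set G)).relIndex (normalizer (P : Set G))
  sign : ∀ χ ∈ X, εX χ = 1 ∨ εX χ = -1
  degX : ∀ χ ∈ X, (charDegree (χ : G → ℂ) : ℤ) ≡ εX χ [ZMOD p]
  valX : ∀ χ ∈ X, ∀ x : G, x ∈ (P : Subgroup G) → x ≠ 1 → ∀ y : G,
    y ∈ centralizer ((P : Subgroup G) : Set G) → ¬ p ∣ orderOf y →
      (χ : G → ℂ) (x * y) = (εX χ : ℂ)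
  hε : ε = 1 ∨ ε = -1
  degY : ∀ θ ∈ Y, (charDegree (θ : G → ℂ) : ℤ) ≡
    ε * ((centralizer ((P : Subgroup G) : Set G)).relIndex (normalizer (P : Set G)) : ℤ) [ZMOD p]
  agree : ∀ θ ∈ Y, ∀ θ' ∈ Y, ∀ g : G, ¬ p ∣ orderOf g → (θ : G → ℂ) g = (θ' : G → ℂ) g
  rel : ∀ θ ∈ Y, ∀ g : G, ¬ p ∣ orderOf g →
    (ε : ℂ) * (θ : G → ℂ) g = ∑ χ ∈ X, (εX χ : ℂ) * (χ : G → ℂ) g
  trivX : trivialIrr ∈ X
  sumY : ∀ θ ∈ Y, ∑ y : ↥(P : Subgroup G), (θ : G → ℂ) y =
    (θ : G → ℂ) 1 - (ε : ℂ) *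
      ((centralizer ((P : Subgroup G) : Set G)).relIndex (normalizer (P : Set G)) : ℂ)

theorem exists_pblk (P : Sylow p G) (hP : Nat.card P = p) : ∃ D : PBlk G p, D.P = P := by
  obtain ⟨M, hM⟩ := exists_isPModular hp.out
  obtain ⟨X, Y, εX, ε, hB, hd, hX, hY, hXp, hε, hYd, hag, hrel, ht, hsum⟩ :=
    Abelian.exists_structure_full P hP hM
  exact ⟨⟨P, hP, M, hM, X, Y, εX, ε, hB, hd, hX, hY, fun χ h => (hXp χ h).1,
    fun χ h => (hXp χ h).2.1, fun χ h => (hXp χ h).2.2, hε, hYd, hag, hrel, ht,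
    fun θ h => hsum θ h⟩, rfl⟩

/-- The projection on the fixed points of `P` composed with a centralizing element. -/
theorem exists_norm_one (P : Subgroup G) {χ : IrrCharacter G} {k : ℕ} (hk : k ≤ 1)
    (hsum : ∑ u : P, (χ : G → ℂ) u = (Nat.card P : ℂ) * (k : ℂ)) {v : G}
    (hv : v ∈ centralizer (P : Set G)) :
    ∃ z : ℂ, ‖z‖ = 1 ∧ ∑ u : P, (χ : G → ℂ) ((u : G) * v) = (Nat.card P : ℂ) * ((k : ℂ) * z) := by
  obtain ⟨n, ρ, hρ, he⟩ := χ.2
  let A : (Fin n → ℂ) →ₗ[ℂ] (Fin n → ℂ) := ∑ u : P, ρ (u : G)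
  have hAu : ∀ u : P, ρ (u : G) * A = A := fun u => by
    simp only [A, Finset.mul_sum, ← map_mul]
    exact Fintype.sum_equiv (Equiv.mulLeft u) _ _ fun w => rfl
  have hAA : A * A = (Nat.card P : ℂ) • A := by
    conv_lhs => arg 1; simp only [A]
    rw [Finset.sum_mul, Finset.sum_congr rfl fun u _ => hAu u, Finset.sum_const, Finset.card_univ,
      ← Nat.card_eq_fintype_card, Nat.cast_smul_eq_nsmul]
  have hc0 : (Nat.card P : ℂ) ≠ 0 := Nat.cast_ne_zero.2 Nat.card_pos.ne'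
  let π : (Fin n → ℂ) →ₗ[ℂ] (Fin n → ℂ) := (Nat.card P : ℂ)⁻¹ • A
  have hπ : π * π = π := by
    simp only [π, smul_mul_assoc, mul_smul_comm, hAA, smul_smul]
    congr 1
    field_simp
  have htrA : LinearMap.trace ℂ _ A = (Nat.card P : ℂ) * (k : ℂ) := by
    rw [← hsum, map_sum]
    exact Finset.sum_congr rfl fun u _ => by rw [← he]; rfl
  have hproj : LinearMap.IsProj (LinearMap.range π) π :=
    ⟨fun w => LinearMap.mem_range_self π w, by
      rintro _ ⟨w, rfl⟩
      exact LinearMap.congr_fun hπ w⟩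
  have hrank : Module.finrank ℂ (LinearMap.range π) = k := by
    have h := hproj.trace
    rw [map_smul, htrA, smul_eq_mul, ← mul_assoc, inv_mul_cancel₀ hc0, one_mul] at h
    exact_mod_cast h.symm
  have hval : ∑ u : P, (χ : G → ℂ) ((u : G) * v) =
      (Nat.card P : ℂ) * LinearMap.trace ℂ _ (π * ρ v) := by
    simp only [π, smul_mul_assoc, map_smul, smul_eq_mul, ← mul_assoc, mul_inv_cancel₀ hc0, one_mul]
    simp only [A, Finset.sum_mul, ← map_mul, map_sum]
    exact Finset.sum_congr rfl fun u _ => by rw [← he]; rfl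
  rcases (show k = 0 ∨ k = 1 by omega) with rfl | rfl
  · refine ⟨1, norm_one, ?_⟩
    have h0 : π = 0 := by
      rw [← LinearMap.range_eq_bot, ← Submodule.finrank_eq_zero]; exact hrank
    rw [hval, h0, zero_mul, map_zero, Nat.cast_zero, zero_mul]
  · have hcomm : ρ v * π = π * ρ v := by
      simp only [π, A, smul_mul_assoc, mul_smul_comm, Finset.mul_sum, Finset.sum_mul, ← map_mul]
      congr 1
      exact Finset.sum_congr rfl fun u _ => by rw [mem_centralizer_iff.1 hv u u.2]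
    obtain ⟨⟨w, hw⟩, hw0, hwgen⟩ := finrank_eq_one_iff'.1 hrank
    have hπw : π w = w := hproj.map_id w hw
    obtain ⟨z, hz⟩ := hwgen ⟨π (ρ v w), LinearMap.mem_range_self π _⟩
    have hz' : ρ v w = z • w := by
      have h1 : z • w = π (ρ v w) := congrArg Subtype.val hz
      have h2 : π (ρ v w) = ρ v (π w) := (LinearMap.congr_fun hcomm w).symm
      rw [h1, h2, hπw]
    have hne : w ≠ 0 := fun h => hw0 (Subtype.ext h)
    have hpow : ∀ m : ℕ, ρ (v ^ m) w = z ^ m • w := by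
      intro m
      induction m with
      | zero => simp
      | succ m ih =>
        rw [pow_succ', map_mul, Module.End.mul_apply, ih, map_smul, hz', smul_smul, pow_succ]
    have hzo : z ^ orderOf v = 1 := by
      have h := hpow (orderOf v)
      rw [pow_orderOf_eq_one, map_one, Module.End.one_apply] at h
      have h' : (z ^ orderOf v - 1) • w = 0 := by rw [sub_smul, one_smul, ← h, sub_self]
      exact sub_eq_zero.1 ((smul_eq_zero.1 h').resolve_right hne)
    refine ⟨z, Complex.norm_eq_one_of_pow_eq_one hzo (orderOf_pos v).ne', ?_⟩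
    have hπv : π * ρ v = z • π := by
      rw [← hcomm]
      refine LinearMap.ext fun a => ?_
      obtain ⟨c, hc⟩ := hwgen ⟨π a, LinearMap.mem_range_self π a⟩
      have hc' : c • w = π a := congrArg Subtype.val hc
      show ρ v (π a) = z • π a
      rw [← hc', map_smul, hz', smul_comm]
    rw [hval, hπv, map_smul, hproj.trace, hrank, Nat.cast_one, smul_eq_mul, one_mul, mul_one]

namespace PBlk

variable (D : PBlk G p)

include D

/-- The index `e`. -/
noncomputable abbrev e : ℕ :=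
  (centralizer ((D.P : Subgroup G) : Set G)).relIndex (normalizer (D.P : Set G))

/-- The number of exceptional characters. -/
noncomputable def t : ℕ := (p - 1) / D.e

/-- The number of Sylow subgroups. -/
noncomputable abbrev g (_D : PBlk G p) : ℕ := Nat.card (Sylow p G)

theorem e_dvd : D.e ∣ p - 1 := Abelian.relIndex_dvd D.P D.card_P

theorem e_mul_t : D.e * D.t = p - 1 := Nat.mul_div_cancel' D.e_dvd

theorem e_pos : 0 < D.e :=
  Nat.pos_of_dvd_of_pos D.e_dvd (by have := hp.out.two_le; omega)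

theorem e_le : D.e ≤ p - 1 := Nat.le_of_dvd (by have := hp.out.two_le; omega) D.e_dvd

theorem t_pos : 1 ≤ D.t := Nat.div_pos D.e_le D.e_pos

theorem Y_nonempty : D.Y.Nonempty := Finset.card_pos.1 (D.cardY.symm ▸ D.t_pos)

theorem exists_ne_one : ∃ x : G, x ∈ (D.P : Subgroup G) ∧ x ≠ 1 := by
  haveI : Nontrivial (D.P : Subgroup G) := Finite.one_lt_card_iff_nontrivial.1 (by
    rw [show Nat.card (D.P : Subgroup G) = p from D.card_P]; exact hp.out.one_lt)
  obtain ⟨⟨x, hx⟩, h⟩ := exists_ne (1 : (D.P : Subgroup G))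
  exact ⟨x, hx, fun e => h (Subtype.ext e)⟩

theorem val_P {χ : IrrCharacter G} (hχ : χ ∈ D.X) {x : G} (hx : x ∈ (D.P : Subgroup G))
    (hx1 : x ≠ 1) : (χ : G → ℂ) x = (D.εX χ : ℂ) := by
  have := D.valX χ hχ x hx hx1 1 (one_mem _) (by rw [orderOf_one, Nat.dvd_one]; exact hp.out.ne_one)
  rwa [mul_one] at this

theorem εX_triv : D.εX trivialIrr = 1 := by
  obtain ⟨x, hx, hx1⟩ := D.exists_ne_one
  have h := D.val_P D.trivX hx hx1
  have h' : ((D.εX trivialIrr : ℤ) : ℂ) = ((1 : ℤ) : ℂ) := by rw [← h, Int.cast_one]; rfl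
  exact Int.cast_injective h'

theorem deg_dvd_X {χ : IrrCharacter G} (hχ : χ ∈ D.X) :
    charDegree (χ : G → ℂ) ∣ D.e * D.g := by
  obtain ⟨x, hx, hx1⟩ := D.exists_ne_one
  have h := isIntegral_centralChar χ.2 x
  rw [centralChar, FewSylowReduce.centralizer_singleton_of_mem D.P D.card_P hx hx1,
    FewSylowReduce.index_centralizer D.P, D.val_P hχ hx hx1, apply_one_eq_charDegree] at h
  exact FewSylowReduce.dvd_of_isIntegral (charDegree_pos χ) (D.sign χ hχ) h

theorem deg_dvd_Y {θ : IrrCharacter G} (hθ : θ ∈ D.Y) :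
    charDegree (θ : G → ℂ) ∣ D.e * D.e * D.g := by
  have h : IsIntegral ℤ (∑ u ∈ (Finset.univ : Finset (D.P : Subgroup G)).erase 1,
      centralChar (θ : G → ℂ) (u : G)) :=
    IsIntegral.sum _ fun u _ => isIntegral_centralChar θ.2 _
  have h2 : ∑ u ∈ (Finset.univ : Finset (D.P : Subgroup G)).erase 1,
      centralChar (θ : G → ℂ) (u : G) =
        ((D.e * D.e * D.g : ℕ) : ℂ) * ((-D.ε : ℤ) : ℂ) / (charDegree (θ : G → ℂ) : ℂ) := by
    rw [Finset.sum_congr rfl (g := fun u : (D.P : Subgroup G) =>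
      ((D.e * D.g : ℕ) : ℂ) * (θ : G → ℂ) (u : G) / (charDegree (θ : G → ℂ) : ℂ))
      (fun (u : (D.P : Subgroup G)) hu => by
        rw [centralChar, FewSylowReduce.centralizer_singleton_of_mem D.P D.card_P u.2
          fun e => Finset.ne_of_mem_erase hu (Subtype.ext e), FewSylowReduce.index_centralizer D.P,
          apply_one_eq_charDegree]),
      ← Finset.sum_div, ← Finset.mul_sum]
    have h3 := D.sumY θ hθ
    rw [← Finset.add_sum_erase _ _ (Finset.mem_univ (1 : (D.P : Subgroup G))),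
      Subgroup.coe_one] at h3
    rw [show ∑ u ∈ (Finset.univ : Finset (D.P : Subgroup G)).erase 1, (θ : G → ℂ) (u : G) =
      -((D.ε : ℂ) * (D.e : ℂ)) by linear_combination h3]
    push_cast; ring
  rw [h2] at h
  exact FewSylowReduce.dvd_of_isIntegral (charDegree_pos θ)
    (by rcases D.hε with e | e <;> simp [e]) h

theorem degree_Y {θ θ' : IrrCharacter G} (hθ : θ ∈ D.Y) (hθ' : θ' ∈ D.Y) :
    charDegree (θ : G → ℂ) = charDegree (θ' : G → ℂ) := by
  have h := D.agree θ hθ θ' hθ' 1 (by rw [orderOf_one, Nat.dvd_one]; exact hp.out.ne_one)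
  rw [apply_one_eq_charDegree, apply_one_eq_charDegree] at h
  exact_mod_cast h

theorem rel_one {θ : IrrCharacter G} (hθ : θ ∈ D.Y) :
    D.ε * (charDegree (θ : G → ℂ) : ℤ) = ∑ χ ∈ D.X, D.εX χ * (charDegree (χ : G → ℂ) : ℤ) := by
  have h := D.rel θ hθ 1 (by rw [orderOf_one, Nat.dvd_one]; exact hp.out.ne_one)
  simp only [apply_one_eq_charDegree] at h
  exact_mod_cast h

/-- The nontrivial characters of sign `s`. -/
noncomputable def Xs (s : ℤ) : Finset (IrrCharacter G) :=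
  D.X.filter fun χ => D.εX χ = s ∧ χ ≠ trivialIrr

theorem mem_Xs {s : ℤ} {χ : IrrCharacter G} :
    χ ∈ D.Xs s ↔ χ ∈ D.X ∧ D.εX χ = s ∧ χ ≠ trivialIrr := by simp [Xs]

theorem sum_X {β : Type*} [AddCommMonoid β] (f : IrrCharacter G → β) :
    ∑ χ ∈ D.X, f χ = f trivialIrr + (∑ χ ∈ D.Xs 1, f χ + ∑ χ ∈ D.Xs (-1), f χ) := by
  rw [← Finset.add_sum_erase _ _ D.trivX, ← Finset.sum_union]
  · congr 1
    refine Finset.sum_congr ?_ fun _ _ => rfl
    ext χ
    simp only [Finset.mem_erase, Finset.mem_union, D.mem_Xs]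
    constructor
    · rintro ⟨h1, h2⟩
      rcases D.sign χ h2 with e | e <;> tauto
    · rintro (⟨h1, -, h2⟩ | ⟨h1, -, h2⟩) <;> exact ⟨h2, h1⟩
  · refine Finset.disjoint_left.2 fun χ h h' => ?_
    have h1 := (D.mem_Xs.1 h).2.1
    have h2 := (D.mem_Xs.1 h').2.1
    omega

theorem card_X : D.e = 1 + ((D.Xs 1).card + (D.Xs (-1)).card) := by
  rw [e, ← D.cardX]
  simpa using D.sum_X (fun _ => (1 : ℕ))

theorem charDegree_triv : charDegree ((trivialIrr : IrrCharacter G) : G → ℂ) = 1 := by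
  have h' := apply_one_eq_charDegree (trivialIrr : IrrCharacter G)
  exact_mod_cast (h'.symm.trans rfl :
    (charDegree ((trivialIrr : IrrCharacter G) : G → ℂ) : ℂ) = 1)

theorem rel_split {θ : IrrCharacter G} (hθ : θ ∈ D.Y) :
    D.ε * (charDegree (θ : G → ℂ) : ℤ) = 1 +
      ((∑ χ ∈ D.Xs 1, charDegree (χ : G → ℂ) : ℕ) : ℤ) -
      ((∑ χ ∈ D.Xs (-1), charDegree (χ : G → ℂ) : ℕ) : ℤ) := by
  rw [D.rel_one hθ, D.sum_X, D.εX_triv, D.charDegree_triv]
  push_cast
  rw [Finset.sum_congr rfl (g := fun χ : IrrCharacter G => (charDegree (χ : G → ℂ) : ℤ))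
      (fun χ hχ => by rw [(D.mem_Xs.1 hχ).2.1, one_mul]),
    Finset.sum_congr (s₁ := D.Xs (-1)) rfl
      (g := fun χ : IrrCharacter G => -(charDegree (χ : G → ℂ) : ℤ))
      (fun χ hχ => by rw [(D.mem_Xs.1 hχ).2.1, neg_one_mul]),
    Finset.sum_neg_distrib]
  ring

theorem singular_conj (hC : centralizer ((D.P : Subgroup G) : Set G) = D.P) {y : G}
    (hy : p ∣ orderOf y) : ∃ x ∈ (D.P : Subgroup G), x ≠ 1 ∧ IsConj y x := by
  set u := y ^ (orderOf y / p) with hu
  have huo : orderOf u = p := orderOf_pow_orderOf_div (orderOf_pos y).ne' hy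
  obtain ⟨Q, hQ⟩ := (IsPGroup.of_card (n := 1)
    (by rw [Nat.card_zpowers, huo, pow_one] : Nat.card (zpowers u) = p ^ 1)).exists_le_sylow
  obtain ⟨c, hc⟩ := MulAction.exists_smul_eq G Q D.P
  have hmem : c * u * c⁻¹ ∈ (D.P : Subgroup G) := by
    rw [← hc]
    exact Subgroup.smul_mem_pointwise_smul u (MulAut.conj c) _ (hQ (mem_zpowers u))
  have hne : c * u * c⁻¹ ≠ 1 := fun e => by
    rw [conj_eq_one_iff] at e
    rw [e, orderOf_one] at huo
    exact hp.out.ne_one huo.symm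
  refine ⟨c * y * c⁻¹, ?_, fun e => ?_, isConj_iff.2 ⟨c, rfl⟩⟩
  · rw [← hC, ← FewSylowReduce.centralizer_singleton_of_mem D.P D.card_P hmem hne,
      mem_centralizer_singleton_iff, hu]
    calc c * y * c⁻¹ * (c * y ^ (orderOf y / p) * c⁻¹)
        = c * (y * y ^ (orderOf y / p)) * c⁻¹ := by group
      _ = c * (y ^ (orderOf y / p) * y) * c⁻¹ := by rw [Commute.self_pow y]
      _ = _ := by group
  · rw [conj_eq_one_iff] at e
    rw [e, orderOf_one, Nat.dvd_one] at hy
    exact hp.out.ne_one hy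

theorem apply_singular (hC : centralizer ((D.P : Subgroup G) : Set G) = D.P) {χ : IrrCharacter G}
    (hχ : χ ∈ D.X) {y : G} (hy : p ∣ orderOf y) : (χ : G → ℂ) y = (D.εX χ : ℂ) := by
  obtain ⟨x, hx, hx1, hc⟩ := D.singular_conj hC hy
  obtain ⟨c, hc'⟩ := isConj_iff.1 hc
  rw [← IsIrr.isClassFunction χ.2 y c, hc', D.val_P hχ hx hx1]

/-- The multiplicity of `χ` in `θ₁ θ̄₂` is that in `θ₁ θ̄₁` minus the sign of `χ`. -/
theorem tensor_diff (hC : centralizer ((D.P : Subgroup G) : Set G) = D.P)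
    {θ₁ θ₂ χ : IrrCharacter G} (h1 : θ₁ ∈ D.Y) (h2 : θ₂ ∈ D.Y) (hne : θ₁ ≠ θ₂) (hχ : χ ∈ D.X) :
    classInner (fun g => (θ₁ : G → ℂ) g * conj ((θ₂ : G → ℂ) g)) (χ : G → ℂ) =
      classInner (fun g => (θ₁ : G → ℂ) g * conj ((θ₁ : G → ℂ) g)) (χ : G → ℂ) - (D.εX χ : ℂ) := by
  have key : ∀ g : G,
      ((θ₁ : G → ℂ) g * conj ((θ₂ : G → ℂ) g) - (θ₁ : G → ℂ) g * conj ((θ₁ : G → ℂ) g)) *
        conj ((χ : G → ℂ) g) =
      ((θ₁ : G → ℂ) g * conj ((θ₂ : G → ℂ) g) - (θ₁ : G → ℂ) g * conj ((θ₁ : G → ℂ) g)) *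
        (D.εX χ : ℂ) := by
    intro g
    by_cases hg : p ∣ orderOf g
    · rw [D.apply_singular hC hχ hg, map_intCast]
    · rw [D.agree θ₁ h1 θ₂ h2 g hg, sub_self, zero_mul, zero_mul]
  have h12 := classInner_irr_of_ne θ₁.2 θ₂.2 fun h => hne (Subtype.ext h)
  have h11 := classInner_irr_self θ₁.2
  rw [classInner_def] at h12 h11
  rw [classInner_def, classInner_def]
  have hs := Finset.sum_congr (rfl : (Finset.univ : Finset G) = Finset.univ) fun g _ => key g
  simp only [sub_mul, Finset.sum_sub_distrib, ← Finset.sum_mul] at hs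
  linear_combination (Nat.card G : ℂ)⁻¹ * hs + (D.εX χ : ℂ) * (h12 - h11)

theorem sum_deg_le {ψ : G → ℂ} (hψ : IsCharacter G ψ) (hψc : IsClassFunction G ψ)
    (S : Finset (IrrCharacter G))
    (h : ∀ χ ∈ S, classInner ψ (χ : G → ℂ) ≠ 0) {N : ℕ} (hN : ψ 1 = (N : ℂ)) :
    ∑ χ ∈ S, charDegree (χ : G → ℂ) ≤ N := by
  have hm : ∀ χ : IrrCharacter G, ∃ n : ℕ, classInner ψ (χ : G → ℂ) = n := fun χ =>
    classInner_isChar_nat hψ (IsIrr.isCharacter χ.2)
  choose m hm using hm
  have hN' : N = ∑ χ : IrrCharacter G, m χ * charDegree (χ : G → ℂ) := by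
    apply Nat.cast_injective (R := ℂ)
    have h' := congrFun (classFunction_expansion hψc) 1
    simp only [Finset.sum_apply, Pi.smul_apply, smul_eq_mul, hm, apply_one_eq_charDegree] at h'
    push_cast
    rw [← hN, h']
  rw [hN']
  refine (Finset.sum_le_sum fun χ hχ => ?_).trans (Finset.sum_le_sum_of_subset (Finset.subset_univ S))
  refine Nat.le_mul_of_pos_left _ (Nat.pos_of_ne_zero fun h0 => h χ hχ ?_)
  rw [hm, h0, Nat.cast_zero]

/-- The basic inequalities: the characters of sign `-1` occur in `θ₁ θ̄₂`, the others in `θ₁ θ̄₁`. -/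
theorem tensor_bounds (hC : centralizer ((D.P : Subgroup G) : Set G) = D.P)
    {θ₁ θ₂ : IrrCharacter G} (h1 : θ₁ ∈ D.Y) (h2 : θ₂ ∈ D.Y) (hne : θ₁ ≠ θ₂) :
    ∑ χ ∈ D.Xs (-1), charDegree (χ : G → ℂ) ≤ charDegree (θ₁ : G → ℂ) ^ 2 ∧
      1 + ∑ χ ∈ D.Xs 1, charDegree (χ : G → ℂ) ≤ charDegree (θ₁ : G → ℂ) ^ 2 := by
  have hchar : ∀ a b : IrrCharacter G,
      IsCharacter G (fun g => (a : G → ℂ) g * conj ((b : G → ℂ) g)) := fun a b =>
    CharInduce.IsChar.mul (IsIrr.isCharacter a.2) (CharInduce.IsChar.conj (IsIrr.isCharacter b.2))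
  have hcl : ∀ a b : IrrCharacter G,
      IsClassFunction G (fun g => (a : G → ℂ) g * conj ((b : G → ℂ) g)) := fun a b => fun x y => by
    simp only [IsIrr.isClassFunction a.2 x y, IsIrr.isClassFunction b.2 x y]
  constructor
  · refine D.sum_deg_le (hchar θ₁ θ₂) (hcl θ₁ θ₂) _ (fun χ hχ h0 => ?_) ?_
    · have h := D.tensor_diff hC h1 h2 hne (D.mem_Xs.1 hχ).1
      obtain ⟨n, hn⟩ := classInner_isChar_nat (hchar θ₁ θ₁) (IsIrr.isCharacter χ.2)
      rw [h0, hn, (D.mem_Xs.1 hχ).2.1] at h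
      have h' : ((n + 1 : ℕ) : ℂ) = ((0 : ℕ) : ℂ) := by push_cast at h ⊢; linear_combination -h
      exact Nat.succ_ne_zero n (Nat.cast_injective h')
    · simp only [apply_one_eq_charDegree, Complex.conj_natCast, ← D.degree_Y h1 h2]
      push_cast; ring
  · rw [show 1 + ∑ χ ∈ D.Xs 1, charDegree (χ : G → ℂ) =
        ∑ χ ∈ insert (trivialIrr : IrrCharacter G) (D.Xs 1), charDegree (χ : G → ℂ) by
      rw [Finset.sum_insert (show trivialIrr ∉ D.Xs 1 by simp [D.mem_Xs]), D.charDegree_triv]]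
    refine D.sum_deg_le (hchar θ₁ θ₁) (hcl θ₁ θ₁) _ (fun χ hχ h0 => ?_) ?_
    · rcases Finset.mem_insert.1 hχ with rfl | hχ
      · have h11 := classInner_irr_self θ₁.2
        rw [classInner_def] at h0 h11
        simp only [trivialIrr, map_one, mul_one] at h0
        rw [h0] at h11
        exact zero_ne_one h11
      · have h := D.tensor_diff hC h1 h2 hne (D.mem_Xs.1 hχ).1
        obtain ⟨n, hn⟩ := classInner_isChar_nat (hchar θ₁ θ₂) (IsIrr.isCharacter χ.2)
        rw [h0, hn, (D.mem_Xs.1 hχ).2.1] at h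
        have h' : ((n + 1 : ℕ) : ℂ) = ((0 : ℕ) : ℂ) := by push_cast at h ⊢; linear_combination h
        exact Nat.succ_ne_zero n (Nat.cast_injective h')
    · simp only [apply_one_eq_charDegree, Complex.conj_natCast]
      push_cast; ring

/-- A small exceptional degree makes `P` self-centralizing. -/
theorem centralizer_eq_of_small {θ : IrrCharacter G} (hθ : θ ∈ D.Y)
    (hker : ∀ v : G, (θ : G → ℂ) v = (θ : G → ℂ) 1 → v = 1)
    (hd : (D.ε = 1 ∧ charDegree (θ : G → ℂ) = D.e) ∨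
      (D.ε = -1 ∧ charDegree (θ : G → ℂ) + D.e = p)) :
    centralizer ((D.P : Subgroup G) : Set G) = D.P := by
  haveI := Abelian.isMulCommutative_sylow D.P D.card_P
  have hP : Nat.card (D.P : Subgroup G) = p := D.card_P
  set k : ℕ := if D.ε = 1 then 0 else 1 with hk
  have hk1 : k ≤ 1 := by rw [hk]; split_ifs <;> omega
  have hdk : (charDegree (θ : G → ℂ) : ℂ) = (p : ℂ) * k + (D.ε : ℂ) * (D.e : ℂ) := by
    rcases hd with ⟨h, hd⟩ | ⟨h, hd⟩
    · rw [hk, if_pos h, h, hd]; push_cast; ring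
    · rw [hk, if_neg (by omega), h]
      have : (charDegree (θ : G → ℂ) : ℂ) + (D.e : ℂ) = (p : ℂ) := by exact_mod_cast hd
      push_cast; linear_combination this
  have hsum : ∑ u : (D.P : Subgroup G), (θ : G → ℂ) u =
      (Nat.card (D.P : Subgroup G) : ℂ) * (k : ℂ) := by
    rw [D.sumY θ hθ, apply_one_eq_charDegree, hdk, hP]; ring
  have hreg : ∀ v : G, v ∈ centralizer ((D.P : Subgroup G) : Set G) → ¬ p ∣ orderOf v → v = 1 := by
    intro v hv hv'
    obtain ⟨z, hz, hzsum⟩ := exists_norm_one (D.P : Subgroup G) hk1 hsum hv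
    have hrest : ∀ u ∈ (Finset.univ : Finset (D.P : Subgroup G)).erase 1,
        (θ : G → ℂ) ((u : G) * v) = (θ : G → ℂ) (u : G) := fun u hu =>
      Abelian.apply_mul_eq D.P D.card_P D.hM ((D.mem_iff θ).2 (Or.inr hθ)) u.2
        (fun e => Finset.ne_of_mem_erase hu (Subtype.ext e)) hv hv'
    have h0 := D.sumY θ hθ
    rw [← Finset.add_sum_erase _ _ (Finset.mem_univ (1 : (D.P : Subgroup G))), Subgroup.coe_one]
      at h0 hzsum
    rw [one_mul, Finset.sum_congr rfl hrest, hP] at hzsum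
    have hval : (θ : G → ℂ) v = (p : ℂ) * ((k : ℂ) * z) + (D.ε : ℂ) * (D.e : ℂ) := by
      linear_combination hzsum - h0
    refine hker v ?_
    rw [hval, apply_one_eq_charDegree, hdk]
    rcases hd with ⟨h, -⟩ | ⟨h, hd⟩
    · rw [hk, if_pos h]; simp
    · rw [hk, if_neg (by omega), Nat.cast_one, one_mul, mul_one]
      suffices hz1 : z = 1 by rw [hz1, mul_one]
      have hle : ‖(θ : G → ℂ) v‖ ≤ ‖(θ : G → ℂ) 1‖ := by
        obtain ⟨n, ρ, hρ, he⟩ := θ.2
        rw [← he]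
        rw [Representation.char_one, Complex.norm_natCast]
        exact norm_character_le ρ v
      rw [hval, hk, if_neg (by omega), h, apply_one_eq_charDegree, Complex.norm_natCast] at hle
      have hsq : ‖(p : ℂ) * z - (D.e : ℂ)‖ ^ 2 ≤ ((p : ℝ) - (D.e : ℝ)) ^ 2 := by
        have hp' : (charDegree (θ : G → ℂ) : ℝ) = (p : ℝ) - (D.e : ℝ) := by
          have : (charDegree (θ : G → ℂ) : ℝ) + (D.e : ℝ) = (p : ℝ) := by exact_mod_cast hd
          linarith
        rw [← hp']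
        refine pow_le_pow_left₀ (norm_nonneg _) (le_trans (le_of_eq ?_) hle) 2
        congr 1
        push_cast; ring
      have hzsq : z.re ^ 2 + z.im ^ 2 = 1 := by
        have := Complex.sq_norm z
        rw [hz, Complex.normSq_apply] at this
        linarith
      rw [Complex.sq_norm, Complex.normSq_apply] at hsq
      simp only [Complex.sub_re, Complex.mul_re, Complex.natCast_re, Complex.natCast_im, zero_mul,
        sub_zero, Complex.sub_im, Complex.mul_im, add_zero] at hsq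
      have hpe : (0 : ℝ) < (p : ℝ) * (D.e : ℝ) :=
        mul_pos (Nat.cast_pos.2 hp.out.pos) (Nat.cast_pos.2 D.e_pos)
      have e1 : (p : ℝ) ^ 2 * (z.re ^ 2 + z.im ^ 2) = (p : ℝ) ^ 2 := by rw [hzsq, mul_one]
      have e2 : (p : ℝ) * (D.e : ℝ) * (1 - z.re) ≤ 0 := by linarith [hsq, e1]
      have h1 : (1 : ℝ) ≤ z.re := by
        by_contra hlt
        push Not at hlt
        have := mul_pos hpe (sub_pos.2 hlt)
        linarith
      have h2 : z.im ^ 2 = 0 := by nlinarith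
      have h3 : z.re = 1 := by nlinarith
      exact Complex.ext h3 (by simpa using h2)
  refine le_antisymm (fun w hw => ?_) ?_
  · by_cases hpw : p ∣ orderOf w
    · have hwp : ¬ p ∣ orderOf (w ^ p) := by
        intro h
        rw [orderOf_pow_of_dvd hp.out.ne_zero hpw] at h
        obtain ⟨c, hc⟩ := hpw
        rw [hc, Nat.mul_div_cancel_left _ hp.out.pos] at h
        have h2 : p ^ 2 ∣ Nat.card G :=
          (show p ^ 2 ∣ orderOf w by rw [hc, pow_two]; exact mul_dvd_mul_left _ h).trans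
            (orderOf_dvd_natCard w)
        have h3 : 2 ≤ (Nat.card G).factorization p :=
          (Nat.Prime.pow_dvd_iff_le_factorization hp.out Nat.card_pos.ne').1 h2
        have h4 := D.P.card_eq_multiplicity
        rw [hP] at h4
        have h5 : p ^ 1 = p ^ (Nat.card G).factorization p := (pow_one p).trans h4
        have := Nat.pow_right_injective hp.out.two_le h5
        omega
      have hone := hreg _ (pow_mem hw p) hwp
      have hpg : IsPGroup p (zpowers w) := IsPGroup.of_card (n := 1) (by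
        rw [Nat.card_zpowers, pow_one]
        exact Nat.dvd_antisymm (orderOf_dvd_of_pow_eq_one hone) hpw)
      exact (le_of_eq (hpg.inf_normalizer_sylow D.P)
        ⟨mem_zpowers w, centralizer_le_normalizer _ hw⟩).2
    · rw [hreg w hw hpw]; exact one_mem _
  · intro a ha
    exact mem_centralizer_iff.2 fun b hb =>
      congrArg Subtype.val (mul_comm' (⟨b, hb⟩ : (D.P : Subgroup G)) ⟨a, ha⟩)

end PBlk

end Cfsg.Agent.H86.SmallExc
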