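import Cfsg.Prelude.Def_Blocks
import Cfsg.Agent.CharInduce.Monomial
import Cfsg.Agent.CharInduce.Correspondence
import Cfsg.Agent.CharBasic.Kernel
import Cfsg.Agent.Cores.Fitting
import Cfsg.Agent.Cores.PCore
import Cfsg.Agent.Signalizer.TwoPrimesCores
import Cfsg.Agent.Coprime.Centralize
import Mathlib.GroupTheory.FiniteAbelian.Duality
import Mathlib.GroupTheory.SpecificGroups.ZGroup
import Mathlib.Analysis.Complex.Polynomial.Basic

/-!
# Solvable groups whose character degrees are squarefree
-/

set_option autoImplicit false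
set_option linter.unusedSectionVars false
set_option linter.style.haveILetI false

namespace Cfsg.Agent.H86.SquarefreeDeg

open Subgroup
open Cfsg.Agent.CharBasic Cfsg.Agent.CharInduce
open scoped commutatorElement ComplexConjugate

universe u

section General

variable {G : Type u} [Group G] [Finite G]

theorem dvd_of_squarefree {p m n : ℕ} (hp : p.Prime) (hn : Squarefree n) (hmn : m ∣ n) {k : ℕ}
    (hm : m ∣ p ^ k) : m ∣ p := by
  obtain ⟨j, -, rfl⟩ := (Nat.dvd_prime_pow hp).mp hm
  rcases j with _ | _ | j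
  · simp
  · simp
  · exfalso
    have h2 : p * p ∣ n := (Dvd.intro (p ^ j) (by ring)).trans hmn
    exact hp.ne_one (Nat.isUnit_iff.mp (hn p h2))

/-- The part of the index contributed by a normal subgroup. -/
theorem relIndex_mul_index_sup (H N : Subgroup G) [N.Normal] :
    H.relIndex N * (H ⊔ N).index = H.index := by
  have h1 : (H ⊓ N).relIndex H * H.index = (H ⊓ N).index := relIndex_mul_index inf_le_left
  have h2 : (H ⊓ N).relIndex N * N.index = (H ⊓ N).index := relIndex_mul_index inf_le_right
  have h3 : N.relIndex (H ⊔ N) * (H ⊔ N).index = N.index := relIndex_mul_index le_sup_right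
  rw [inf_relIndex_left] at h1
  rw [inf_relIndex_right, ← h3, relIndex_sup_right, ← h1] at h2
  have h0 : N.relIndex H ≠ 0 := Subgroup.index_ne_zero_of_finite
  refine mul_left_cancel₀ h0 ?_
  rw [← h2]; ring

theorem relIndex_dvd_index (H N : Subgroup G) [N.Normal] : H.relIndex N ∣ H.index :=
  Dvd.intro _ (relIndex_mul_index_sup H N)

theorem normal_of_prime_index [Group.IsNilpotent G] {H : Subgroup G} (h : H.index.Prime) :
    H.Normal := by
  have hne : H ≠ ⊤ := fun e => by rw [e, index_top] at h; exact Nat.not_prime_one h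
  refine Subgroup.NormalizerCondition.normal_of_coatom H
    Group.normalizerCondition_of_isNilpotent ⟨hne, fun K hK => ?_⟩
  have hd : K.index ∣ H.index := index_dvd_of_le hK.le
  rcases (Nat.dvd_prime h).mp hd with h1 | h1
  · exact index_eq_one.mp h1
  · exfalso
    have h2 := relIndex_mul_index hK.le
    rw [h1] at h2
    have h3 : H.relIndex K = 1 := (mul_eq_right₀ h.ne_zero).mp h2
    exact not_le_of_gt hK (relIndex_eq_one.mp h3)

/-- In a nilpotent group, subgroups of squarefree index contain the derived subgroup. -/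
theorem commutator_le_of_squarefree_index [Group.IsNilpotent G] {H : Subgroup G}
    (h : Squarefree H.index) : commutator G ≤ H := by
  have hnorm : H.Normal := by
    refine normalizer_eq_top_iff.mp (Cores.eq_top_of_sylow_le fun p hp P => ?_)
    haveI : (P : Subgroup G).Normal :=
      P.normal_of_normalizerCondition Group.normalizerCondition_of_isNilpotent
    obtain ⟨k, hk⟩ := IsPGroup.iff_card.mp P.isPGroup'
    have hd : H.relIndex (P : Subgroup G) ∣ p ^ k := hk ▸ relIndex_dvd_card H (P : Subgroup G)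
    have hp' := dvd_of_squarefree hp.out h (relIndex_dvd_index H (P : Subgroup G)) hd
    have hr : H.relIndex (H ⊔ (P : Subgroup G)) = H.relIndex (P : Subgroup G) := by
      have h1 := relIndex_mul_index (le_sup_left : H ≤ H ⊔ (P : Subgroup G))
      rw [← relIndex_mul_index_sup H (P : Subgroup G)] at h1
      exact mul_right_cancel₀ Subgroup.index_ne_zero_of_finite h1
    rcases (Nat.dvd_prime hp.out).mp hp' with h1 | h1
    · exact (relIndex_eq_one.mp h1).trans le_normalizer
    · haveI : (H.subgroupOf (H ⊔ (P : Subgroup G))).Normal := by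
        refine normal_of_prime_index ?_
        change (H.relIndex (H ⊔ (P : Subgroup G))).Prime
        rw [hr, h1]; exact hp.out
      exact le_sup_right.trans ((normal_subgroupOf_iff_le_normalizer le_sup_left).mp inferInstance)
  haveI := hnorm
  have hq : Squarefree (Nat.card (G ⧸ H)) := by rwa [← index_eq_card]
  haveI := IsZGroup.of_squarefree hq
  haveI : IsCyclic (G ⧸ H) := inferInstance
  rw [_root_.commutator_def, Subgroup.commutator_le]
  intro a _ b _
  rw [← QuotientGroup.eq_one_iff]
  show QuotientGroup.mk' H ⁅a, b⁆ = 1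
  rw [map_commutatorElement, commutatorElement_eq_one_iff_mul_comm]
  exact IsCyclic.commGroup.mul_comm _ _

theorem mulAut_comm_of_isCyclic {A : Type u} [Group A] [IsCyclic A] (σ τ : MulAut A) :
    σ * τ = τ * σ := by
  obtain ⟨m, hm⟩ := σ.toMonoidHom.map_cyclic
  refine MulEquiv.ext fun a => ?_
  show σ (τ a) = τ (σ a)
  have h1 : ∀ x, σ x = x ^ m := hm
  rw [h1, h1, map_zpow]

/-- If the cores of a solvable group are cyclic, then the group is metabelian. -/
theorem derivedSeries_two_eq_bot [Group.IsSolvable G]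
    (hc : ∀ q : ℕ, q.Prime → IsCyclic (Cfsg.pCore q G)) : derivedSeries G 2 = ⊥ := by
  have hC : commutator G ≤ centralizer (Cfsg.fittingSubgroup G : Set G) := by
    rw [le_centralizer_iff, Cores.iSup_pCore_eq_fittingSubgroup]
    refine iSup_le fun q => ?_
    haveI : (Cfsg.pCore (q : ℕ) G).Normal := Cfsg.pCore_normal _ G
    haveI := hc q q.2
    rw [le_centralizer_iff, _root_.commutator_def, Subgroup.commutator_le]
    intro a _ b _
    have h1 : (MulAut.conjNormal ⁅a, b⁆ : MulAut (Cfsg.pCore (q : ℕ) G)) = 1 := by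
      rw [map_commutatorElement, commutatorElement_eq_one_iff_mul_comm]
      exact mulAut_comm_of_isCyclic _ _
    rw [mem_centralizer_iff]
    intro x hx
    have h2 := congrArg Subtype.val (DFunLike.congr_fun h1 ⟨x, hx⟩)
    rw [MulAut.conjNormal_apply, MulAut.one_apply] at h2
    exact (mul_inv_eq_iff_eq_mul.mp h2).symm
  have hF : Cfsg.fittingSubgroup G ≤ centralizer (Cfsg.fittingSubgroup G : Set G) := by
    nth_rw 1 [Cores.iSup_pCore_eq_fittingSubgroup]
    refine iSup_le fun q => ?_
    rw [le_centralizer_iff, Cores.iSup_pCore_eq_fittingSubgroup]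
    refine iSup_le fun r => ?_
    intro y hy
    rw [mem_centralizer_iff]
    intro x hx
    by_cases he : q = r
    · subst he
      haveI := hc q q.2
      exact congrArg Subtype.val
        (IsCyclic.commGroup.mul_comm (⟨x, hx⟩ : Cfsg.pCore (q : ℕ) G) ⟨y, hy⟩)
    · haveI := Fact.mk q.2
      haveI := Fact.mk r.2
      exact commute_of_normal_of_disjoint _ _ (Cfsg.pCore_normal _ G) (Cfsg.pCore_normal _ G)
        (IsPGroup.disjoint_of_ne (q : ℕ) r (fun e => he (Subtype.ext e)) _ _
          Cores.pCore_isPGroup Cores.pCore_isPGroup) x y hx hy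
  have h1 : derivedSeries G 1 = commutator G := derivedSeries_one G
  have h2 : commutator G ≤ Cfsg.fittingSubgroup G :=
    hC.trans Cores.centralizer_fittingSubgroup_le
  rw [derivedSeries_succ, h1, commutator_eq_bot_iff_le_centralizer]
  exact h2.trans (hF.trans (centralizer_le h2))

/-- A group acting on an abelian group without elements of order `p`, all point stabilisers being
normal of index dividing `p`, has a kernel of index dividing `p`. -/
theorem ker_index_dvd {K : Type u} [Group K] [Finite K] {X : Type*} [CommGroup X] {p : ℕ}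
    (hp : p.Prime) (φ : K →* MulAut X) (hX : ∀ d : X, d ^ p = 1 → d = 1)
    (hst : ∀ x : X, ∃ M : Subgroup K, M.Normal ∧ M.index ∣ p ∧ ∀ k, k ∈ M ↔ φ k x = x) :
    φ.ker.index ∣ p := by
  have hker : ∀ (M : Subgroup K), (∀ y, ∀ k ∈ M, φ k y = y) → φ.ker.index ∣ M.index :=
    fun M hM => index_dvd_of_le fun k hk => MonoidHom.mem_ker.mpr (MulEquiv.ext fun y => by
      rw [MulAut.one_apply]; exact hM y k hk)
  by_cases hall : ∀ (x : X) (k : K), φ k x = x
  · exact (hker ⊤ fun y k _ => hall y k).trans (by simp)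
  push Not at hall
  obtain ⟨x, k₀, hk₀⟩ := hall
  obtain ⟨M, hMn, hMi, hM⟩ := hst x
  refine (hker M fun y a ha => ?_).trans hMi
  by_contra hay
  obtain ⟨N, hNn, hNi, hN⟩ := hst y
  obtain ⟨L, hLn, hLi, hL⟩ := hst (x * y)
  have hmax : ∀ (N : Subgroup K), N.index ∣ p → ∀ {k : K}, k ∉ N → ∀ {S : Subgroup K},
      N ≤ S → k ∈ S → S = ⊤ := by
    intro N hN k hk S hNS hkS
    rcases (Nat.dvd_prime hp).mp ((index_dvd_of_le hNS).trans hN) with h1 | h1
    · exact index_eq_one.mp h1
    · exfalso
      have h2 := relIndex_mul_index hNS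
      have h3 : N.index = p := by
        rcases (Nat.dvd_prime hp).mp hN with h4 | h4
        · exact absurd (by rw [index_eq_one.mp h4]; trivial) hk
        · exact h4
      rw [h1, h3] at h2
      exact hk (relIndex_eq_one.mp ((mul_eq_right₀ hp.ne_zero).mp h2) hkS)
  have haN : a ∉ N := fun h => hay ((hN a).mp h)
  have hax : φ a x = x := (hM a).mp ha
  have haL : a ∉ L := by
    intro h
    have h1 := (hL a).mp h
    rw [map_mul, hax] at h1
    exact hay (mul_left_cancel h1)
  obtain ⟨b, hbN, hbM⟩ : ∃ b ∈ N, b ∉ M := by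
    by_contra hb
    push Not at hb
    have hkM : k₀ ∉ M := fun h => hk₀ ((hM k₀).mp h)
    have hNtop : N ≠ ⊤ := fun h => haN (h ▸ mem_top a)
    have : M = ⊤ := hmax N hNi haN hb ha
    exact hkM (this ▸ mem_top k₀)
  have hb_in : b ∈ L ⊔ zpowers a := by
    rw [hmax L hLi haL le_sup_left (mem_sup_right (mem_zpowers a))]; trivial
  obtain ⟨l, hl, w, hw, hlw⟩ := mem_sup_of_normal_left.mp hb_in
  obtain ⟨i, rfl⟩ := mem_zpowers_iff.mp hw
  set a' := a ^ i with ha'
  have ha'M : a' ∈ M := zpow_mem ha i
  have hly : φ l (x * y) = x * y := (hL l).mp hl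
  -- `z = a'⁻¹ y` is again fixed exactly by `N`
  set z := φ a'⁻¹ y with hz
  have hxz : φ b (x * z) = x * y := by
    rw [← hlw, map_mul φ, MulAut.mul_apply]
    have h1 : φ a' (x * z) = x * y := by
      rw [map_mul, (hM a').mp ha'M, hz, ← MulAut.mul_apply, ← map_mul φ, mul_inv_cancel,
        map_one, MulAut.one_apply]
    rw [h1, hly]
  have hfixN : ∀ c ∈ N, φ c z = z := by
    intro c hc
    have h1 : a' * c * a'⁻¹ ∈ N := hNn.conj_mem c hc a'
    have h2 := (hN _).mp h1
    calc φ c z = φ (a'⁻¹ * (a' * c * a'⁻¹)) y := by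
          rw [hz, ← MulAut.mul_apply, ← map_mul φ]; congr 2; group
      _ = z := by rw [map_mul φ, MulAut.mul_apply, h2]
  have hfixM : ∀ c ∈ M, φ c (φ b x) = φ b x := by
    intro c hc
    have h1 : b⁻¹ * c * b ∈ M := by simpa using hMn.conj_mem c hc b⁻¹
    have h2 := (hM _).mp h1
    calc φ c (φ b x) = φ (b * (b⁻¹ * c * b)) x := by
          rw [← MulAut.mul_apply, ← map_mul φ]; congr 2; group
      _ = φ b x := by rw [map_mul φ, MulAut.mul_apply, h2]
  -- the displacement of `x` under `b` is fixed by everything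
  set d := x⁻¹ * φ b x with hd
  have hd2 : d = y * z⁻¹ := by
    rw [map_mul, hfixN b hbN] at hxz
    rw [hd, eq_mul_inv_iff_mul_eq, mul_assoc, hxz, inv_mul_cancel_left]
  have hdfix : ∀ k, φ k d = d := by
    intro k
    have hk : k ∈ M ⊔ N := by
      rw [hmax M hMi hbM le_sup_left (mem_sup_right hbN)]; trivial
    obtain ⟨m, hm, n, hn, rfl⟩ := mem_sup_of_normal_left.mp hk
    rw [map_mul φ, MulAut.mul_apply]
    have h1 : φ n d = d := by
      rw [hd2, map_mul, map_inv, (hN n).mp hn, hfixN n hn]
    rw [h1, hd, map_mul, map_inv, (hM m).mp hm, hfixM m hm]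
  have hpow : ∀ n : ℕ, φ (b ^ n) x = x * d ^ n := by
    intro n
    induction n with
    | zero => rw [pow_zero, map_one, MulAut.one_apply, pow_zero, mul_one]
    | succ n ih =>
      rw [pow_succ, map_mul φ, MulAut.mul_apply,
        show φ b x = x * d from (mul_inv_cancel_left x _).symm, map_mul, ih, hdfix, pow_succ,
        mul_assoc]
  have hbp : b ^ p ∈ M := by
    have hi : M.index = p := by
      rcases (Nat.dvd_prime hp).mp hMi with h4 | h4
      · exact absurd (by rw [index_eq_one.mp h4]; trivial) hbM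
      · exact h4
    have h1 : ((b : K) : K ⧸ M) ^ p = 1 := by
      rw [← hi, index_eq_card]; exact pow_card_eq_one'
    rwa [← QuotientGroup.mk_pow, QuotientGroup.eq_one_iff] at h1
  have h2 := hpow p
  rw [(hM _).mp hbp, left_eq_mul] at h2
  have h3 := hX d h2
  rw [hd, inv_mul_eq_one] at h3
  exact hbM ((hM b).mpr h3.symm)

end General

section Chars

variable {G : Type u} [Group G] [Finite G]
variable (h : ∀ χ : Cfsg.IrrCharacter G, Squarefree (Cfsg.charDegree (χ : G → ℂ)))

include h in
theorem above (N : Subgroup G) [N.Normal] {θ : N → ℂ} (hθ : Cfsg.IsIrrCharacter N θ) {d : ℕ}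
    (hd : θ 1 = d) : ∃ n, Squarefree n ∧ (inertia N θ).index * d ∣ n := by
  classical
  haveI := Fintype.ofFinite G
  haveI := Fintype.ofFinite N
  have hI : Cfsg.indFun N θ ≠ 0 := by
    intro e
    have h1 := congrFun e 1
    rw [indFun_one, Pi.zero_apply, mul_eq_zero] at h1
    rcases h1 with h1 | h1
    · exact Subgroup.index_ne_zero_of_finite (Nat.cast_eq_zero.1 h1)
    · exact CharBasic.IsIrr.one_ne_zero hθ h1
  obtain ⟨χ, hχ⟩ := exists_constituent (IsChar.ind N (CharBasic.IsIrr.isCharacter hθ)) hI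
  have hne : Cfsg.classInner (fun n : N => (χ : G → ℂ) n) θ ≠ 0 := by
    rw [classInner_indFun_left N θ _ (CharBasic.IsIrr.isClassFunction χ.2)] at hχ
    intro e
    apply hχ
    rw [← conj_classInner, e, map_zero]
  obtain ⟨e, he⟩ := classInner_isChar_nat (IsChar.res (CharBasic.IsIrr.isCharacter χ.2) N)
    (CharBasic.IsIrr.isCharacter hθ)
  obtain ⟨m, -, hm⟩ := CharBasic.IsIrr.exists_degree χ.2
  have hdeg := clifford_degree N χ.2 hθ hne
  rw [he, hd, hm, ← Nat.cast_mul, ← Nat.cast_mul, Nat.cast_inj] at hdeg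
  refine ⟨m, ?_, ⟨e, by rw [hdeg]; ring⟩⟩
  have := h χ
  rwa [Cfsg.charDegree, hm, Complex.natCast_re, Nat.floor_natCast] at this

include h in
/-- The second derived subgroup of a normal nilpotent subgroup is trivial. -/
theorem derived_nilpotent (F : Subgroup G) [F.Normal] (hF : Group.IsNilpotent F) :
    derivedSeries F 2 = ⊥ := by
  classical
  haveI := Fintype.ofFinite F
  haveI := hF
  rw [eq_bot_iff]
  intro g hg
  rw [mem_bot]
  refine eq_one_of_forall_irr fun χ => ?_
  obtain ⟨H, lam, hlam⟩ := isMonomial_of_nilpotent F χ.2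
  obtain ⟨n, hn, hdvd⟩ := above h F χ.2 (d := H.index)
    (by rw [hlam, indFun_one, map_one, Units.val_one, mul_one])
  have hDH : commutator F ≤ H :=
    commutator_le_of_squarefree_index (hn.squarefree_of_dvd ((dvd_mul_left _ _).trans hdvd))
  have hDlam : derivedSeries F 2 ≤ lam.ker.map H.subtype := by
    rw [derivedSeries_succ, derivedSeries_one, commutator_le]
    intro a ha b hb
    refine ⟨⁅(⟨a, hDH ha⟩ : H), ⟨b, hDH hb⟩⁆, ?_, rfl⟩
    show lam ⁅(⟨a, hDH ha⟩ : H), ⟨b, hDH hb⟩⁆ = 1
    rw [map_commutatorElement, commutatorElement_eq_one_iff_mul_comm, mul_comm]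
  have hval : ∀ y : F, ∀ x ∈ derivedSeries F 2,
      Cfsg.extendByZero H (fun t : H => (lam t : ℂ)) (y⁻¹ * x * y) = 1 := by
    intro y x hx
    have h1 : y⁻¹ * x * y ∈ derivedSeries F 2 := by
      simpa using (derivedSeries_normal F 2).conj_mem x hx y⁻¹
    obtain ⟨t, ht, he⟩ := hDlam h1
    rw [← he]
    simp only [coe_subtype, extendByZero_coe]
    rw [MonoidHom.mem_ker.mp ht, Units.val_one]
  rw [hlam, indFun_apply, indFun_apply]
  congr 1
  exact Finset.sum_congr rfl fun y _ => by rw [hval y g hg, hval y 1 (one_mem _)]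

/-- Conjugation on the linear characters of a normal subgroup. -/
def dualConj (K L : Subgroup G) [L.Normal] : K →* MulAut (↥L →* ℂˣ) where
  toFun k :=
    { toFun := fun l => l.comp (MulAut.conjNormal (k : G)⁻¹ : MulAut L).toMonoidHom
      invFun := fun l => l.comp (MulAut.conjNormal (k : G) : MulAut L).toMonoidHom
      left_inv := fun l => MonoidHom.ext fun n => congrArg l (Subtype.ext (by simp [mul_assoc]))
      right_inv := fun l => MonoidHom.ext fun n => congrArg l (Subtype.ext (by simp [mul_assoc]))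
      map_mul' := fun _ _ => rfl }
  map_one' := MulEquiv.ext fun l => MonoidHom.ext fun n => congrArg l (Subtype.ext (by simp))
  map_mul' := fun a b => MulEquiv.ext fun l => MonoidHom.ext fun n =>
    congrArg l (Subtype.ext (by simp [mul_assoc]))

theorem dualConj_apply (K L : Subgroup G) [L.Normal] (k : K) (l : ↥L →* ℂˣ) (n : L) :
    dualConj K L k l n = l (MulAut.conjNormal (k : G)⁻¹ n) := rfl

theorem isPGroup_map_mk {p : ℕ} [Fact p.Prime] (N A : Subgroup G) [N.Normal] {k : ℕ}
    (hk : N.relIndex A ∣ p ^ k) : IsPGroup p (A.map (QuotientGroup.mk' N)) := by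
  have h1 : Nat.card (A.map (QuotientGroup.mk' N)) = N.relIndex A := by
    rw [← relIndex_bot_left (A.map (QuotientGroup.mk' N)),
      ← relIndex_comap (⊥ : Subgroup (G ⧸ N)) (QuotientGroup.mk' N) A, MonoidHom.comap_bot,
      QuotientGroup.ker_mk']
  obtain ⟨j, -, hj⟩ := (Nat.dvd_prime_pow Fact.out).mp hk
  exact IsPGroup.of_card (h1.trans hj)

include h in
theorem card_pCore_dvd [Group.IsSolvable G] (p : ℕ) [hp : Fact p.Prime] :
    Nat.card (Cfsg.pCore p (G ⧸ Cfsg.fittingSubgroup G)) ∣ p := by
  classical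
  set F := Cfsg.fittingSubgroup G with hFdef
  haveI hFn : F.Normal := Cores.fittingSubgroup_normal
  haveI hpn : (Cfsg.pCore p G).Normal := Cfsg.pCore_normal p G
  set L := Cfsg.pPrimeCore p G ⊓ F with hLdef
  haveI hLn : L.Normal := Subgroup.normal_inf_normal _ _
  set P := Cfsg.pCore p G with hPdef
  have hLF : L ≤ F := inf_le_right
  have hPF : P ≤ F := Cores.pCore_le_fittingSubgroup hp.out
  haveI : Group.IsNilpotent F := Cores.fittingSubgroup_isNilpotent
  haveI hLnil : Group.IsNilpotent L :=
    (Group.isNilpotent_congr (subgroupOfEquivOfLe hLF)).mp inferInstance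
  have hLcop : (Nat.card L).Coprime p :=
    Cores.coprime_card_pPrimeCore.coprime_dvd_left (card_dvd_of_le inf_le_left)
  obtain ⟨c, hc⟩ := IsPGroup.iff_card.mp (Cores.pCore_isPGroup : IsPGroup p P)
  have hFle : F ≤ P ⊔ L := by
    rw [hFdef, Cores.iSup_pCore_eq_fittingSubgroup]
    refine iSup_le fun q => ?_
    by_cases he : (q : ℕ) = p
    · rw [he]; exact le_sup_left
    · refine le_trans (le_inf (Cores.le_pPrimeCore (hN := Cfsg.pCore_normal _ G) ?_)
        (Cores.pCore_le_fittingSubgroup q.2)) le_sup_right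
      haveI := Fact.mk q.2
      obtain ⟨j, hj⟩ := IsPGroup.iff_card.mp
        (Cores.pCore_isPGroup : IsPGroup (q : ℕ) (Cfsg.pCore (q : ℕ) G))
      rw [hj]
      exact ((Nat.coprime_primes q.2 hp.out).mpr he).pow_left j
  have hPL : ∀ x ∈ P, ∀ l ∈ L, x * l = l * x := by
    intro x hx l hl
    refine commute_of_normal_of_disjoint P L hpn hLn ?_ x l hx hl
    rw [disjoint_iff]
    exact inf_eq_bot_of_coprime (hc ▸ (hLcop.symm.pow_left c))
  set K := (Cfsg.pCore p (G ⧸ F)).comap (QuotientGroup.mk' F) with hK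
  haveI : (Cfsg.pCore p (G ⧸ F)).Normal := Cfsg.pCore_normal _ _
  haveI hKn : K.Normal := by rw [hK]; exact Subgroup.Normal.comap inferInstance _
  have hFK : F ≤ K := fun x hx => by
    rw [hK, mem_comap, QuotientGroup.mk'_apply, (QuotientGroup.eq_one_iff x).mpr hx]
    exact one_mem _
  have hFr : F.relIndex K = Nat.card (Cfsg.pCore p (G ⧸ F)) := by
    rw [← relIndex_bot_left (Cfsg.pCore p (G ⧸ F)), ← map_comap_eq_self_of_surjective
      (QuotientGroup.mk'_surjective F) (Cfsg.pCore p (G ⧸ F)), ← hK, ← relIndex_comap,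
      MonoidHom.comap_bot, QuotientGroup.ker_mk']
  obtain ⟨b, hb⟩ := IsPGroup.iff_card.mp (Cores.pCore_isPGroup : IsPGroup p (Cfsg.pCore p (G ⧸ F)))
  have hKb : F.relIndex K = p ^ b := hFr.trans hb
  -- the quotient of `K` by `F` is nilpotent
  haveI : Group.IsNilpotent (K ⧸ F.subgroupOf K) :=
    (IsPGroup.of_card (n := b) ((index_eq_card _).symm.trans hKb)).isNilpotent
  set φ := dualConj K L with hφ
  have hXp : ∀ d : ↥L →* ℂˣ, d ^ p = 1 → d = 1 := by
    intro d hd
    refine MonoidHom.ext fun n => ?_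
    have h1 : d n ^ p = 1 := by rw [← MonoidHom.pow_apply, hd, MonoidHom.one_apply]
    have h2 : d n ^ Nat.card L = 1 := by rw [← map_pow, pow_card_eq_one', map_one]
    have h3 : orderOf (d n) ∣ 1 := hLcop.gcd_eq_one ▸
      Nat.dvd_gcd (orderOf_dvd_of_pow_eq_one h2) (orderOf_dvd_of_pow_eq_one h1)
    rw [MonoidHom.one_apply]
    exact orderOf_eq_one_iff.mp (Nat.dvd_one.mp h3)
  have hst : ∀ x : ↥L →* ℂˣ, ∃ M : Subgroup K, M.Normal ∧ M.index ∣ p ∧
      ∀ k, k ∈ M ↔ φ k x = x := by
    intro x
    haveI := Fintype.ofFinite L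
    haveI := Fintype.ofFinite G
    set θ : L → ℂ := fun n => (x n : ℂ) with hθ
    set I := inertia L θ with hI
    obtain ⟨n, hn, hdvd⟩ := above h L (isIrrCharacter_hom x) (d := 1) (by simp)
    rw [mul_one] at hdvd
    have hFI : F ≤ I := by
      refine hFle.trans (sup_le (fun g hg => ?_) (le_inertia L fun a b => ?_))
      · rw [hI, mem_inertia]
        funext m
        show θ _ = θ m
        congr 1
        refine Subtype.ext ?_
        show g * (m : G) * g⁻¹ = m
        rw [hPL g hg m m.2, mul_inv_cancel_right]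
      · simp [hθ, mul_comm, mul_left_comm]
    have hiff : ∀ k : K, k ∈ I.subgroupOf K ↔ φ k x = x := by
      intro k
      rw [mem_subgroupOf, ← inv_mem_iff, hI, mem_inertia, funext_iff, MonoidHom.ext_iff]
      refine forall_congr' fun m => ?_
      rw [hφ, dualConj_apply]
      simp only [conjFun, hθ, ← Units.ext_iff]
      exact Iff.of_eq (congrArg (fun z => x z = x m) (Subtype.ext (by simp)))
    refine ⟨I.subgroupOf K, ?_, ?_, hiff⟩
    swap
    · refine dvd_of_squarefree hp.out hn ((relIndex_dvd_index I K).trans hdvd) (k := b) ?_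
      rw [← hKb]
      exact index_dvd_of_le (fun k hk => hFI hk)
    · have hle : F.subgroupOf K ≤ I.subgroupOf K := fun k hk => hFI hk
      have hidx : (I.subgroupOf K).index ∣ p :=
        dvd_of_squarefree hp.out hn ((relIndex_dvd_index I K).trans hdvd) (k := b)
          (hKb ▸ index_dvd_of_le hle)
      rcases (Nat.dvd_prime hp.out).mp hidx with h1 | h1
      · rw [index_eq_one.mp h1]; infer_instance
      · have hm : ((I.subgroupOf K).map (QuotientGroup.mk' (F.subgroupOf K))).index = p := by
          rw [index_map_eq _ (QuotientGroup.mk'_surjective _)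
            (by rw [QuotientGroup.ker_mk']; exact hle), h1]
        have hn2 := normal_of_prime_index (hm ▸ hp.out)
        have he := hn2.comap (QuotientGroup.mk' (F.subgroupOf K))
        rwa [comap_map_eq_self (by rw [QuotientGroup.ker_mk']; exact hle)] at he
  have hker := ker_index_dvd (K := ↥K) (X := ↥L →* ℂˣ) hp.out φ hXp hst
  suffices hsub : φ.ker ≤ F.subgroupOf K by
    exact hFr ▸ (index_dvd_of_le hsub).trans hker
  -- `D` is a normal nilpotent subgroup
  set D := K ⊓ centralizer (L : Set G) with hD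
  haveI : D.Normal := Subgroup.normal_inf_normal _ _
  have hDnil : Group.IsNilpotent D := by
    have hK1 : L.relIndex K ∣ p ^ (c + b) := by
      rw [← relIndex_mul_relIndex L F K hLF hFK, hKb, pow_add]
      refine Nat.mul_dvd_mul_right ?_ _
      rw [show F = P ⊔ L from le_antisymm hFle (sup_le hPF hLF), relIndex_sup_right, ← hc]
      exact relIndex_dvd_card L P
    have hpK := isPGroup_map_mk L K hK1
    haveI : Group.IsNilpotent (K.map (QuotientGroup.mk' L)) := hpK.isNilpotent
    let f : D →* K.map (QuotientGroup.mk' L) :=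
      ((QuotientGroup.mk' L).comp D.subtype).codRestrict _ fun d =>
        mem_map_of_mem _ (inf_le_left (a := K) d.2)
    refine Subgroup.isNilpotent_of_ker_le_center f fun d hd => ?_
    have hdL : (d : G) ∈ L :=
      (QuotientGroup.eq_one_iff _).mp (congrArg Subtype.val (MonoidHom.mem_ker.mp hd))
    exact mem_center_iff.mpr fun e =>
      Subtype.ext (mem_centralizer_iff.mp (inf_le_right (a := K) e.2) _ hdL).symm
  have hDF : D ≤ F := Cores.le_fittingSubgroup hDnil
  rw [← map_le_map_iff_of_injective K.subtype_injective, subgroupOf_map_subtype,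
    inf_eq_left.mpr hFK]
  refine Coprime.le_of_forall_sylow_le fun q hq A hA hAq => ?_
  have hAK : A ≤ K := hA.trans (map_subtype_le _)
  haveI := Fact.mk hq
  by_cases he : q = p
  · subst he
    refine le_trans (le_inf hAK ?_) hDF
    refine Coprime.le_centralizer_of_frattini (by rw [normalizer_eq_top]; exact le_top) ?_ ?_
    · obtain ⟨j, hj⟩ := IsPGroup.iff_card.mp hAq
      rw [hj]
      exact (hLcop.coprime_dvd_left (card_subgroup_dvd_card _)).symm.pow_left j
    · intro a ha l hl
      have hmem : a * l * a⁻¹ * l⁻¹ ∈ L := mul_mem (hLn.conj_mem l hl a) (inv_mem hl)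
      refine ⟨⟨_, hmem⟩, Signalizer.TwoPrimes.commutator_le_frattini_of_isNilpotent ?_, rfl⟩
      rw [← Abelianization.ker_of, MonoidHom.mem_ker]
      by_contra hne
      haveI : Fintype (Abelianization L) := Fintype.ofFinite _
      obtain ⟨ψ, hψ⟩ := CommGroup.exists_apply_ne_one_of_hasEnoughRootsOfUnity
        (Abelianization L) (M := ℂ) hne
      apply hψ
      obtain ⟨k, hk, hka⟩ := hA ha
      have hx := MonoidHom.mem_ker.mp hk
      rw [hφ] at hx
      have h1 := DFunLike.congr_fun (DFunLike.congr_fun hx (ψ.comp Abelianization.of))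
        ⟨a * l * a⁻¹, hLn.conj_mem l hl a⟩
      rw [dualConj_apply, MulAut.one_apply] at h1
      have h2 : (MulAut.conjNormal (k : G)⁻¹ : MulAut L) ⟨a * l * a⁻¹, hLn.conj_mem l hl a⟩
          = ⟨l, hl⟩ := Subtype.ext (by
        have hka' : (k : G) = a := hka
        simp [MulAut.conjNormal_inv_apply, hka', mul_assoc])
      rw [h2] at h1
      have h3 : (⟨a * l * a⁻¹ * l⁻¹, hmem⟩ : L) =
          (⟨a * l * a⁻¹, hLn.conj_mem l hl a⟩ : L) * (⟨l, hl⟩ : L)⁻¹ := rfl
      have h4 : (ψ.comp Abelianization.of) (⟨a * l * a⁻¹ * l⁻¹, hmem⟩ : L) = 1 := by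
        rw [h3, map_mul, map_inv, ← h1, mul_inv_cancel]
      exact h4
  · intro x hx
    rw [← QuotientGroup.eq_one_iff, ← orderOf_eq_one_iff]
    obtain ⟨i, hi⟩ := IsPGroup.iff_orderOf.mp hAq ⟨x, hx⟩
    rw [orderOf_mk] at hi
    have hxK : (x : G ⧸ F) ∈ Cfsg.pCore p (G ⧸ F) := hAK hx
    obtain ⟨j, hj⟩ := IsPGroup.iff_orderOf.mp
      (Cores.pCore_isPGroup : IsPGroup p (Cfsg.pCore p (G ⧸ F))) ⟨_, hxK⟩
    rw [orderOf_mk] at hj
    have h1 : orderOf (x : G ⧸ F) ∣ q ^ i := hi ▸ orderOf_map_dvd (QuotientGroup.mk' F) x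
    rw [hj] at h1 ⊢
    exact Nat.Coprime.eq_one_of_dvd
      ((Nat.coprime_primes hp.out hq).mpr (fun e => he e.symm) |>.pow j i) h1

include h in
/-- Solvable groups with squarefree degrees have derived length at most `4`. -/
theorem derivedSeries_four_eq_bot [Group.IsSolvable G] : derivedSeries G 4 = ⊥ := by
  set F := Cfsg.fittingSubgroup G with hFdef
  haveI : F.Normal := Cores.fittingSubgroup_normal
  have hQ : derivedSeries (G ⧸ F) 2 = ⊥ := by
    refine derivedSeries_two_eq_bot fun q hq => ?_
    haveI := Fact.mk hq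
    rcases (Nat.dvd_prime hq).mp (card_pCore_dvd h q) with h1 | h1
    · haveI : Subsingleton (Cfsg.pCore q (G ⧸ F)) :=
        (Nat.card_eq_one_iff_unique.mp h1).1
      exact isCyclic_of_subsingleton
    · exact isCyclic_of_prime_card h1
  have h2 : derivedSeries G 2 ≤ F := by
    rw [← QuotientGroup.ker_mk' F, ← Subgroup.map_eq_bot_iff,
      map_derivedSeries_eq (QuotientGroup.mk'_surjective F), hQ]
  have hF2 := derived_nilpotent h F Cores.fittingSubgroup_isNilpotent
  have h3 : derivedSeries G 3 ≤ (derivedSeries F 1).map F.subtype := by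
    rw [derivedSeries_one, map_subtype_commutator, derivedSeries_succ]
    exact commutator_mono h2 h2
  have h4 : derivedSeries G 4 ≤ (derivedSeries F 2).map F.subtype := by
    rw [derivedSeries_succ G 3, derivedSeries_succ F 1, map_commutator]
    exact commutator_mono h3 h3
  rwa [hF2, Subgroup.map_bot, le_bot_iff] at h4

end Chars

end Cfsg.Agent.H86.SquarefreeDeg
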