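import Cfsg.Agent.H86.TraceQuotient
import Mathlib.RingTheory.Polynomial.Cyclotomic.Basic
import Mathlib.Algebra.CharP.Lemmas

/-!
# Uniqueness of the trace quotient of a simple module
-/

set_option linter.unusedSectionVars false

namespace Cfsg.Agent.H86.TraceQ

open MonoidAlgebra Finset

variable {G : Type*} [Group G] [Fintype G] {p : ℕ} [hp : Fact p.Prime]
variable {k : Type*} [Field k] [CharP k p]
variable (L : Frame G p) [Fintype L.P] [Fintype L.H]
variable {S : Type*} [AddCommGroup S] [Module k S] [Module (MonoidAlgebra k G) S]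
  [IsScalarTower k (MonoidAlgebra k G) S]
variable {U : Type*} [AddCommGroup U] [Module k U]
variable {U' : Type*} [AddCommGroup U'] [Module k U']

/-- `x - 1` on a module. -/
noncomputable def opT (k : Type*) [Field k] (S : Type*) [AddCommGroup S] [Module k S]
    [Module (MonoidAlgebra k G) S] [IsScalarTower k (MonoidAlgebra k G) S] (x : G) :
    Module.End k S := act k S x - 1

theorem exists_gen : ∃ x : G, x ∈ L.P ∧ x ≠ 1 ∧ orderOf x = p ∧ ∀ u ∈ L.P, ∃ i : ℕ, u = x ^ i := by
  have h2 : 1 < Nat.card L.P := by rw [L.card_P]; exact hp.out.one_lt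
  haveI := Finite.one_lt_card_iff_nontrivial.1 h2
  obtain ⟨⟨x, hx⟩, hx1⟩ := exists_ne (1 : L.P)
  have hx1' : x ≠ 1 := fun h => hx1 (Subtype.ext h)
  have hord : orderOf x = p := by
    have h := L.card_P ▸ orderOf_dvd_natCard (G := L.P) ⟨x, hx⟩
    rw [Subgroup.orderOf_mk] at h
    rcases (Nat.dvd_prime hp.out).1 h with e | e
    · exact absurd (orderOf_eq_one_iff.1 e) hx1'
    · exact e
  refine ⟨x, hx, hx1', hord, fun u hu => ?_⟩
  have hle : Subgroup.zpowers x = L.P := Subgroup.eq_of_le_of_card_ge (Subgroup.zpowers_le.2 hx)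
    (by rw [L.card_P, Nat.card_zpowers, hord])
  rw [← hle, ← mem_powers_iff_mem_zpowers] at hu
  obtain ⟨i, rfl⟩ := hu
  exact ⟨i, rfl⟩

theorem opT_pow_prime {x : G} (hx : orderOf x = p) : opT k S x ^ p = 0 := by
  have h : ((Polynomial.X : Polynomial k) - 1) ^ p = Polynomial.X ^ p - 1 := by
    rw [sub_pow_char, one_pow]
  have := congrArg (Polynomial.aeval (act k S x)) h
  simp only [map_pow, map_sub, Polynomial.aeval_X, map_one] at this
  rw [opT, this, ← map_pow, ← hx, pow_orderOf_eq_one, map_one, sub_self]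

theorem tau_eq {x : G} (hx : orderOf x = p) (hxP : x ∈ L.P) :
    tau k L S = opT k S x ^ (p - 1) := by
  have h : ∑ i ∈ range p, (Polynomial.X : Polynomial k) ^ i = (Polynomial.X - 1) ^ (p - 1) := by
    refine mul_right_cancel₀ (Polynomial.X_sub_C_ne_zero (1 : k)) ?_
    rw [map_one, geom_sum_mul, ← pow_succ, Nat.sub_add_cancel hp.out.one_le, sub_pow_char, one_pow]
  have h' := congrArg (Polynomial.aeval (act k S x)) h
  simp only [map_sum, map_pow, map_sub, Polynomial.aeval_X, map_one] at h'
  rw [opT, ← h', tau, ← Fin.sum_univ_eq_sum_range]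
  refine (Fintype.sum_bijective (fun i : Fin p => (⟨x ^ (i : ℕ), pow_mem hxP _⟩ : L.P))
    ((Fintype.bijective_iff_injective_and_card _).2 ⟨fun a b hab => Fin.ext ?_, ?_⟩) _ _
    fun i => ?_).symm
  · exact pow_injOn_Iio_orderOf (x := x) (by simp [hx]) (by simp [hx]) (congrArg Subtype.val hab)
  · rw [Fintype.card_fin, ← Nat.card_eq_fintype_card, L.card_P]
  · rw [map_pow]

theorem commute_opT {x : G} (a : ℕ) : Commute (opT k S x) (act k S (x ^ a)) := by
  rw [map_pow]
  exact Commute.pow_right ((Commute.refl _).sub_left (Commute.one_left _)) a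

/-- The powers of `x - 1` have invariant images. -/
theorem act_mem_range_opT {x : G} (hxP : x ∈ L.P) (hgen : ∀ u ∈ L.P, ∃ i : ℕ, u = x ^ i) {n : G}
    (hn : n ∈ L.N) (m : ℕ) {v : S} (hv : v ∈ LinearMap.range (opT k S x ^ m)) :
    act k S n v ∈ LinearMap.range (opT k S x ^ m) := by
  obtain ⟨a, ha⟩ := hgen _ (L.conj_mem n hn x hxP)
  set geo : Module.End k S := ∑ i ∈ range a, act k S x ^ i
  have hcomm : Commute (opT k S x) geo := Commute.sum_right _ _ _ fun i _ => by
    rw [← map_pow]; exact commute_opT i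
  have hstep : ∀ z, act k S n (opT k S x z) = opT k S x (geo (act k S n z)) := by
    intro z
    have e1 : opT k S x * geo = act k S (x ^ a) - 1 := by
      rw [hcomm.eq, opT, geom_sum_mul, map_pow]
    rw [← Module.End.mul_apply (opT k S x) geo, e1, ← ha, opT, LinearMap.sub_apply,
      LinearMap.sub_apply, map_sub, ← act_mul_apply, ← act_mul_apply, inv_mul_cancel_right]
    rfl
  induction m generalizing v with
  | zero => exact ⟨act k S n v, rfl⟩
  | succ m ih =>
    obtain ⟨z, rfl⟩ := hv
    obtain ⟨y, hy⟩ := ih ⟨z, rfl⟩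
    refine ⟨geo y, ?_⟩
    rw [pow_succ', Module.End.mul_apply, Module.End.mul_apply, hstep, ← hy,
      ← Module.End.mul_apply (opT k S x ^ m), ((Commute.pow_left hcomm m)).eq]
    rfl

/-- The sum over a `P`-invariant set with free action of a `P`-equivariant function is a trace. -/
theorem sum_mem_range_tau {α : Type*} [MulAction L.P α] (f : α → S)
    (hf : ∀ (u : L.P) a, f (u • a) = act k S (u : G) (f a)) (s : Finset α)
    (hs : ∀ (u : L.P), ∀ a ∈ s, u • a ∈ s) (hfree : ∀ a ∈ s, ∀ u : L.P, u • a = a → u = 1) :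
    ∑ a ∈ s, f a ∈ LinearMap.range (tau k L S) := by
  classical
  induction s using Finset.strongInduction with
  | H s ih =>
    obtain rfl | ⟨a, ha⟩ := s.eq_empty_or_nonempty
    · simp
    set O := Finset.univ.image fun u : L.P => u • a with hO
    have hOs : O ⊆ s := fun b hb => by
      obtain ⟨u, -, rfl⟩ := Finset.mem_image.1 hb
      exact hs u a ha
    rw [← Finset.sum_sdiff hOs]
    refine add_mem (ih _ (Finset.sdiff_ssubset hOs ⟨a, Finset.mem_image.2 ⟨1, by simp⟩⟩) ?_ ?_) ?_
    · intro u b hb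
      rw [Finset.mem_sdiff] at hb ⊢
      refine ⟨hs u b hb.1, fun hbO => hb.2 ?_⟩
      obtain ⟨w, -, hw⟩ := Finset.mem_image.1 hbO
      exact Finset.mem_image.2 ⟨u⁻¹ * w, Finset.mem_univ _, by rw [mul_smul, hw, inv_smul_smul]⟩
    · exact fun b hb => hfree b (Finset.mem_sdiff.1 hb).1
    · refine ⟨f a, ?_⟩
      rw [hO, Finset.sum_image, tau_apply]
      · simp only [hf]
      · intro u _ w _ h
        have h' : u • a = w • a := h
        have := hfree a ha (u⁻¹ * w) (by rw [mul_smul, ← h', inv_smul_smul])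
        exact inv_mul_eq_one.1 this

/-- A central element acting on a simple module as a scalar one on a trace quotient. -/
theorem smul_eq_self_of_hasQ [IsSimpleModule (MonoidAlgebra k G) S] {σ : L.N →* Module.End k U}
    (hσ : ∀ n : L.N, (n : G) ∈ L.P → σ n = 1) (hQ : HasQ L S σ) {c : MonoidAlgebra k G}
    (hcc : c * c = c) (hc : ∀ x, c * x = x * c)
    (C : Finset L.N) (hC : ∀ g : G, (∀ u ∈ L.P, u * g * u⁻¹ = g) ↔ ∃ n ∈ C, (n : G) = g)
    (hsum : ∑ n ∈ C, c.coeff (n : G) • σ n = 1) (v : S) : c • v = v := by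
  classical
  obtain ⟨η, hη, x, hx⟩ := hQ
  letI : MulAction L.P G := MulAction.compHom G
    ((ConjAct.toConjAct : G ≃* ConjAct G).toMonoidHom.comp L.P.subtype)
  have hsm : ∀ (u : L.P) (g : G), u • g = (u : G) * g * (u : G)⁻¹ := fun u g =>
    ConjAct.toConjAct_smul (u : G) g
  have hexp : c • η x = ∑ g : G, c.coeff g • act k S g (η x) := by
    have hdec : c = ∑ g : G, c.coeff g • single g (1 : k) := by
      conv_lhs => rw [← (MonoidAlgebra.basis G k).sum_repr c]
      rfl
    conv_lhs => rw [hdec, Finset.sum_smul]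
    exact sum_congr rfl fun g _ => smul_assoc (c.coeff g) (single g (1 : k)) (η x)
  set T := C.map (Function.Embedding.subtype _) with hT
  have hTmem : ∀ g, g ∈ T ↔ ∀ u ∈ L.P, u * g * u⁻¹ = g := fun g => by
    rw [hC]; simp [T, eq_comm]
  have hin : ∑ g ∈ T, c.coeff g • act k S g (η x) = η x := by
    rw [hT, sum_map]
    have h := congrArg η (LinearMap.congr_fun hsum x)
    rw [LinearMap.sum_apply, map_sum, Module.End.one_apply] at h
    refine Eq.trans (sum_congr rfl fun n _ => ?_) h
    rw [LinearMap.smul_apply, map_smul, ← hη]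
    rfl
  have hfree : ∀ g ∈ Tᶜ, ∀ u : L.P, u • g = g → u = 1 := by
    intro g hg u hu
    by_contra hne
    refine (Finset.mem_compl.1 hg) ((hTmem g).2 fun w hw => ?_)
    have hle : Subgroup.zpowers (u : G) = L.P := by
      refine Subgroup.eq_of_le_of_card_ge (Subgroup.zpowers_le.2 u.2) ?_
      rw [L.card_P, Nat.card_zpowers, Subgroup.orderOf_coe]
      have h := L.card_P ▸ orderOf_dvd_natCard u
      rcases (Nat.dvd_prime hp.out).1 h with e | e
      · exact absurd (orderOf_eq_one_iff.1 e) hne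
      · exact e.ge
    have hle' : L.P ≤ Subgroup.centralizer ({g} : Set G) := hle ▸ Subgroup.zpowers_le.2
      (Subgroup.mem_centralizer_singleton_iff.2 (mul_inv_eq_iff_eq_mul.1 (hsm u g ▸ hu)))
    exact mul_inv_eq_iff_eq_mul.2 (Subgroup.mem_centralizer_singleton_iff.1 (hle' hw))
  have hout : ∑ g ∈ Tᶜ, c.coeff g • act k S g (η x) ∈ LinearMap.range (tau k L S) := by
    refine sum_mem_range_tau L _ (fun u g => ?_) _ (fun u g hg => ?_) hfree
    · have hcoef : c.coeff ((u : G) * g * (u : G)⁻¹) = c.coeff g := by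
        have := congrArg (fun z => z.coeff ((u : G) * g)) (hc (single (u : G) 1))
        simpa using this
      rw [hsm, hcoef, map_smul, act_mul_apply, act_mul_apply,
        HasQ.fixed L hσ hη (inv_mem u.2)]
    · rw [Finset.mem_compl] at hg ⊢
      intro hug
      refine hg ((hTmem g).2 fun w hw => ?_)
      have h1 := (hTmem _).1 hug (u : G) u.2
      have h2 : (u : G) * g * (u : G)⁻¹ = g := by
        rw [hsm] at h1
        exact (MulAut.conj (u : G)).injective (by simpa only [MulAut.conj_apply] using h1)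
      rw [hsm, h2] at hug
      exact (hTmem g).1 hug w hw
  have hne : c • η x ≠ 0 := by
    intro h0
    rw [hexp, ← Finset.sum_add_sum_compl T, hin] at h0
    exact hx ((Submodule.add_mem_iff_left _ hout).1 (h0 ▸ zero_mem _))
  let f : S →ₗ[MonoidAlgebra k G] S :=
    { toFun := fun w => c • w
      map_add' := fun a b => smul_add _ _ _
      map_smul' := fun a w => by simp [← mul_smul, hc a] }
  have hbij := LinearMap.bijective_of_ne_zero (f := f)
    (fun h => hne (LinearMap.congr_fun h (η x)))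
  exact hbij.1 (show c • (c • v) = c • v by rw [← mul_smul, hcc])

theorem avg_comp_right {A B C : Type*} [AddCommGroup A] [Module k A] [AddCommGroup B] [Module k B]
    [AddCommGroup C] [Module k C] (a : L.N →* Module.End k A) (b : L.N →* Module.End k B)
    (c : L.N →* Module.End k C) (f : B →ₗ[k] C) {g : A →ₗ[k] B} (hg : Equi L a b g) :
    (avg L b c f).comp g = avg L a c (f.comp g) := by
  ext x
  simp [avg_apply, hg (inH L _)⁻¹]

/-- A simple module has the property for at most one simple representation. -/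
theorem hom_ne_zero_of_hasQ [IsSimpleModule (MonoidAlgebra k G) S] [Module.Finite k S]
    {σ : L.N →* Module.End k U} (hσ : ∀ n : L.N, (n : G) ∈ L.P → σ n = 1)
    (hU : ∀ W : Submodule k U, (∀ n, ∀ w ∈ W, σ n w ∈ W) → W = ⊥ ∨ W = ⊤)
    {σ' : L.N →* Module.End k U'} (hσ' : ∀ n : L.N, (n : G) ∈ L.P → σ' n = 1)
    (hQ : HasQ L S σ) (hQ' : HasQ L S σ') : ∃ φ : U' →ₗ[k] U, φ ≠ 0 ∧ Equi L σ' σ φ := by
  classical
  by_contra hno
  push Not at hno
  obtain ⟨x, hxP, hx1, hord, hgen⟩ := exists_gen L
  set T := opT k S x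
  have hτ : tau k L S = T ^ (p - 1) := tau_eq L hord hxP
  let good : ℕ → Prop := fun j => ∃ η : U →ₗ[k] S, Equi L σ (actN k L S) η ∧
    (∃ y, η y ∉ LinearMap.range (tau k L S)) ∧ ∀ y, η y ∈ LinearMap.range (T ^ j)
  have h0 : good 0 := by
    obtain ⟨η, h1, h2⟩ := hQ
    exact ⟨η, h1, h2, fun y => ⟨η y, rfl⟩⟩
  set j := Nat.findGreatest good p
  obtain ⟨η, hη, ⟨y₀, hy₀⟩, hηT⟩ : good j := Nat.findGreatest_spec (Nat.zero_le p) h0
  have hj : j < p - 1 := by
    by_contra hge
    obtain ⟨z, hz⟩ := hηT y₀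
    refine hy₀ ⟨(T ^ (j - (p - 1))) z, ?_⟩
    rw [hτ, ← Module.End.mul_apply, ← pow_add, Nat.add_sub_cancel' (not_lt.1 hge), hz]
  -- the functional
  let R := LinearMap.range (T ^ (j + 1))
  obtain ⟨g, hg⟩ : ∃ g : (S ⧸ R) →ₗ[k] U, g.comp (R.mkQ.comp η) = LinearMap.id := by
    refine (R.mkQ.comp η).exists_leftInverse_of_injective ?_
    have hinv : ∀ n, ∀ w ∈ LinearMap.ker (R.mkQ.comp η), σ n w ∈ LinearMap.ker (R.mkQ.comp η) := by
      intro n w hw
      simp only [LinearMap.mem_ker, LinearMap.comp_apply, Submodule.mkQ_apply,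
        Submodule.Quotient.mk_eq_zero] at hw ⊢
      rw [← hη]
      exact act_mem_range_opT L hxP hgen n.2 _ hw
    rcases hU _ hinv with h | h
    · exact h
    · exfalso
      have hgood : good (j + 1) := ⟨η, hη, ⟨y₀, hy₀⟩, fun y => by
        have : y ∈ LinearMap.ker (R.mkQ.comp η) := h ▸ Submodule.mem_top
        simpa [R] using this⟩
      have : j + 1 ≤ j := Nat.le_findGreatest (by omega) hgood
      omega
  set ψ := g.comp R.mkQ
  have hψη : ∀ y, ψ (η y) = y := fun y => LinearMap.congr_fun hg y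
  have hψR : ∀ z, ψ ((T ^ (j + 1)) z) = 0 := fun z => by
    show g (R.mkQ ((T ^ (j + 1)) z)) = 0
    rw [show R.mkQ ((T ^ (j + 1)) z) = 0 from
      (Submodule.Quotient.mk_eq_zero R).2 (LinearMap.mem_range_self _ z), map_zero]
  obtain ⟨w₀, hw₀⟩ := exists_factor (T ^ j) η hηT
  -- the endomorphism commuting with `P`
  let f : ℕ → Module.End k S := fun i => T ^ i * (w₀.comp ψ) * T ^ (j + 1 - i)
  let π : Module.End k S := ∑ i ∈ range (j + 1), T ^ i * (w₀.comp ψ) * T ^ (j - i)
  have hTη : ∀ y, T (η y) = 0 := fun y => by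
    simp [T, opT, HasQ.fixed L hσ hη hxP]
  have hπT : Commute T π := by
    have e1 : T * π = ∑ i ∈ range (j + 1), f (i + 1) := by
      rw [Finset.mul_sum]
      refine sum_congr rfl fun i _ => ?_
      simp only [f, pow_succ', mul_assoc, show j + 1 - (i + 1) = j - i by omega]
    have e2 : π * T = ∑ i ∈ range (j + 1), f i := by
      rw [Finset.sum_mul]
      refine sum_congr rfl fun i hi => ?_
      rw [Finset.mem_range] at hi
      simp only [f, mul_assoc, ← pow_succ, show j + 1 - i = j - i + 1 by omega]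
    have f0 : f 0 = 0 := by
      ext z
      simp only [f, pow_zero, one_mul, Module.End.mul_apply, LinearMap.comp_apply, Nat.sub_zero,
        hψR, map_zero, LinearMap.zero_apply]
    have f1 : f (j + 1) = 0 := by
      ext z
      simp only [f, Nat.sub_self, pow_zero, mul_one, pow_succ', Module.End.mul_apply,
        LinearMap.comp_apply, hw₀, hTη, LinearMap.zero_apply]
    have h := Finset.sum_range_succ' f (j + 1)
    rw [Finset.sum_range_succ f, f0, f1, add_zero, add_zero] at h
    show T * π = π * T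
    rw [e1, e2, h]
  have hπP : ∀ u ∈ L.P, Commute (act k S u) π := by
    intro u hu
    obtain ⟨i, rfl⟩ := hgen u hu
    rw [map_pow]
    refine Commute.pow_left ?_ i
    have : act k S x = T + 1 := (sub_add_cancel _ _).symm
    rw [this]
    exact hπT.add_left (Commute.one_left _)
  have hπfix : ∀ z : S, T z = 0 → π z = η (ψ z) := by
    intro z hz
    simp only [π, LinearMap.sum_apply, Module.End.mul_apply, LinearMap.comp_apply]
    rw [Finset.sum_range_succ, Finset.sum_eq_zero, zero_add, Nat.sub_self, pow_zero,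
      Module.End.one_apply, hw₀]
    intro i hi
    rw [Finset.mem_range] at hi
    rw [show j - i = j - i - 1 + 1 by omega, pow_succ, Module.End.mul_apply, hz, map_zero,
      map_zero, map_zero, map_zero]
  set Φ := avg L (actN k L S) (actN k L S) π
  have hΦ : Equi L (actN k L S) (actN k L S) Φ :=
    equi_avg L fun n hn z => LinearMap.congr_fun (hπP _ hn).eq z
  have hΦval : ∀ z : S, (∀ u ∈ L.P, act k S u z = z) →
      Φ z = η (avg L (actN k L S) σ ψ z) := by
    intro z hz
    rw [avg_apply, avg_apply, map_smul, map_sum]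
    refine congrArg _ (sum_congr rfl fun h _ => ?_)
    rw [← hη, hπfix]
    set m := (inH L h)⁻¹
    show act k S x (act k S (m : G) z) - act k S (m : G) z = 0
    have e : (m : G)⁻¹ * x * (m : G) ∈ L.P := by
      have := L.conj_mem _ (inv_mem m.2) x hxP
      rwa [inv_inv] at this
    rw [← act_mul_apply, show x * (m : G) = (m : G) * ((m : G)⁻¹ * x * (m : G)) by group,
      act_mul_apply, hz _ e, sub_self]
  have hΦη : ∀ y, Φ (η y) = η y := by
    intro y
    rw [hΦval _ fun u hu => HasQ.fixed L hσ hη hu y]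
    congr 1
    rw [avg_apply]
    have hsum : ∀ h : L.H, σ (inH L h) (ψ (actN k L S (inH L h)⁻¹ (η y))) = y := fun h => by
      rw [hη, hψη, ← Module.End.mul_apply, ← map_mul, mul_inv_cancel, map_one, Module.End.one_apply]
    rw [sum_congr rfl fun h _ => hsum h, sum_const, card_univ, ← Nat.card_eq_fintype_card,
      ← Nat.cast_smul_eq_nsmul k, smul_smul, inv_mul_cancel₀ (natCast_H_ne_zero L), one_smul]
  obtain ⟨η', hη', y', hy'⟩ := hQ'
  have hΦη' : Φ (η' y') = 0 := by
    rw [hΦval _ fun u hu => HasQ.fixed L hσ' hη' hu y']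
    have hψ'P : Equi L σ' σ ((avg L (actN k L S) σ ψ).comp η') := by
      rw [avg_comp_right L σ' (actN k L S) σ ψ hη']
      exact equi_avg L fun n hn z => by rw [hσ n hn, hσ' n hn]; rfl
    by_contra hne
    refine hno _ (fun h0 => hne ?_) hψ'P
    rw [show avg L (actN k L S) σ ψ (η' y') = 0 from LinearMap.congr_fun h0 y', map_zero]
  -- the relative trace to the group
  let c : G → Module.End k S := fun a => act k S a * Φ * act k S a⁻¹
  have hc : ∀ a, ∀ n ∈ L.N, c (a * n) = c a := by
    intro a n hn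
    ext z
    simp only [c, mul_inv_rev, map_mul, Module.End.mul_apply]
    have := hΦ ⟨n, hn⟩ (act k S n⁻¹ (act k S a⁻¹ z))
    simp only [actN_apply] at this
    rw [this, ← act_mul_apply n, mul_inv_cancel, map_one, Module.End.one_apply]
  let cq : G ⧸ L.N → Module.End k S := fun q => c q.out
  have hcq : ∀ a : G, cq (a : G ⧸ L.N) = c a := by
    intro a
    obtain ⟨n, hn⟩ := QuotientGroup.mk_out_eq_mul L.N a
    simp only [cq, hn, hc _ _ n.2]
  letI : Fintype (G ⧸ L.N) := Fintype.ofFinite _
  let F : Module.End k S := ∑ q, cq q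
  have hsmul : ∀ (a : G) (q : G ⧸ L.N) (z : S), cq (a • q) (act k S a z) = act k S a (cq q z) := by
    intro a q z
    induction q using QuotientGroup.induction_on with
    | H b =>
      rw [MulAction.Quotient.smul_mk, hcq, hcq]
      simp only [c, smul_eq_mul, mul_inv_rev, map_mul, Module.End.mul_apply]
      rw [← act_mul_apply a⁻¹, inv_mul_cancel, map_one, Module.End.one_apply]
  have hF : ∀ (a : G) (z : S), F (act k S a z) = act k S a (F z) := by
    intro a z
    simp only [F, LinearMap.sum_apply, map_sum]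
    exact (Fintype.sum_equiv (MulAction.toPerm a) _ _ fun q => (hsmul a q z).symm).symm
  let F' : S →ₗ[MonoidAlgebra k G] S :=
    MonoidAlgebra.equivariantOfLinearOfComm F fun a z => hF a z
  have hFapply : ∀ z, F' z = F z := fun z => rfl
  have hFfix : ∀ z : S, (∀ u ∈ L.P, act k S u z = z) →
      F z - Φ z ∈ LinearMap.range (tau k L S) := by
    intro z hz
    set q₀ : G ⧸ L.N := ((1 : G) : G ⧸ L.N)
    have h1 : cq q₀ = Φ := by rw [hcq]; simp [c]
    simp only [F, LinearMap.sum_apply]
    rw [← Finset.add_sum_erase _ _ (Finset.mem_univ q₀), h1, add_sub_cancel_left]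
    refine sum_mem_range_tau L (fun q => cq q z) (fun u q => ?_) _ (fun u q hq => ?_) ?_
    · conv_lhs => rw [← hz u u.2]
      exact hsmul (u : G) q z
    · simp only [Finset.mem_erase, Finset.mem_univ, and_true] at hq ⊢
      intro h
      refine hq ?_
      rw [← inv_smul_smul u q, h]
      show (((u⁻¹ : L.P) : G) • ((1 : G) : G ⧸ L.N)) = _
      rw [MulAction.Quotient.smul_mk, smul_eq_mul, mul_one]
      exact QuotientGroup.eq.2 (by simpa using L.P_le u.2)
    · intro q hq u hu
      simp only [Finset.mem_erase, Finset.mem_univ, and_true] at hq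
      induction q using QuotientGroup.induction_on with
      | H b =>
        by_contra hne
        have hb : b ∉ L.N := fun hb => hq (QuotientGroup.eq.2 (by simpa using inv_mem hb))
        refine L.free b hb ((u : G)⁻¹) (inv_mem u.2) (fun h => hne (Subtype.ext (inv_eq_one.1 h))) ?_
        have hu' : (((u : G) * b : G) : G ⧸ L.N) = (b : G ⧸ L.N) := hu
        have := QuotientGroup.eq.1 hu'
        simpa [mul_assoc] using this
  have hF0 : F' ≠ 0 := by
    intro h
    have h1 := hFfix (η y₀) fun u hu => HasQ.fixed L hσ hη hu y₀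
    rw [← hFapply, h, LinearMap.zero_apply, hΦη, zero_sub, neg_mem_iff] at h1
    exact hy₀ h1
  have hbij := LinearMap.bijective_of_ne_zero hF0
  have h2 := hFfix (η' y') fun u hu => HasQ.fixed L hσ' hη' hu y'
  rw [hΦη', sub_zero] at h2
  obtain ⟨w, hw⟩ := h2
  obtain ⟨w', rfl⟩ := hbij.2 w
  rw [← tau_map] at hw
  exact hy' ⟨w', hbij.1 hw⟩

end Cfsg.Agent.H86.TraceQ
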